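/-
Dictionary for the base change `X_K` of a scheme over a field: the pieces over an affine open, over
`Spec O_{X,x}` and over `Spec κ(x)` are spectra of tensor products.
-/
import Groth.Prelude.Def_Curv2
import Mathlib.AlgebraicGeometry.Morphisms.Preimmersion
import Mathlib.AlgebraicGeometry.Morphisms.FlatMono
import Mathlib.RingTheory.Flat.FaithfullyFlat.Algebra

open CategoryTheory CategoryTheory.Limits AlgebraicGeometry TensorProduct

universe u

namespace Groth.VarietyBC

variable {k : Type u} [Field k] {X : Scheme.{u}} [X.Over (Spec (CommRingCat.of k))]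
  (K : Type u) [Field K] [Algebra k K]

local notation "str" => (X ↘ (Spec (CommRingCat.of k)))

/-- The stalk at a point of a `k`-scheme, as an algebra-compatible morphism. -/
theorem fromSpecStalk_str (x : X) :
    X.fromSpecStalk x ≫ str = Spec.map (CommRingCat.ofHom (Curv2.stalkMap k X x)) := by
  have h : str = X.toSpecΓ ≫ Spec.map ((Scheme.ΓSpecIso (CommRingCat.of k)).inv ≫ (str).appTop) := by
    rw [Spec.map_comp, ← Category.assoc, ← Scheme.toSpecΓ_naturality, Category.assoc,
      toSpecΓ_SpecMap_ΓSpecIso_inv, Category.comp_id]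
  conv_lhs => rw [h, ← Category.assoc, Scheme.fromSpecStalk_toSpecΓ, ← Spec.map_comp]
  rfl

theorem fromSpecResidueField_str (x : X) :
    X.fromSpecResidueField x ≫ str = Spec.map (CommRingCat.ofHom (Curv2.resMap k X x)) := by
  rw [Scheme.fromSpecResidueField, Category.assoc, fromSpecStalk_str, ← Spec.map_comp]
  rfl

/-- The ring map from `k` to the sections on an affine open. -/
noncomputable def openMap {U : X.Opens} (hU : IsAffineOpen U) : k →+* Γ(X, U) :=
  (Spec.preimage (hU.fromSpec ≫ str)).hom

theorem fromSpec_str {U : X.Opens} (hU : IsAffineOpen U) :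
    hU.fromSpec ≫ str = Spec.map (CommRingCat.ofHom (openMap hU)) :=
  (Spec.map_preimage _).symm

/-- A morphism `m : Spec A ⟶ X` over `k`. -/
structure OverSpec (A : Type u) [CommRing A] [Algebra k A] (m : Spec (CommRingCat.of A) ⟶ X) : Prop where
  w : m ≫ str = Spec.map (CommRingCat.ofHom (algebraMap k A))

section Chart

variable {A : Type u} [CommRing A] [Algebra k A] {m : Spec (CommRingCat.of A) ⟶ X}

/-- The base change `Spec (A ⊗ K) ⟶ X_K` of `m : Spec A ⟶ X`. -/
noncomputable def tensorTo (hm : OverSpec (k := k) A m) :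
    Spec (CommRingCat.of (A ⊗[k] K)) ⟶ Curv2.bc k X K :=
  (pullbackSpecIso k A K).inv ≫
    pullback.map _ _ _ _ m (𝟙 _) (𝟙 _) (by rw [Category.comp_id, hm.w]) (by simp)

variable (hm : OverSpec (k := k) A m)

theorem tensorTo_fst : tensorTo K hm ≫ Curv2.bcFst k X K =
    Spec.map (CommRingCat.ofHom Algebra.TensorProduct.includeLeftRingHom) ≫ m := by
  rw [tensorTo, Category.assoc, pullback.lift_fst, ← Category.assoc, pullbackSpecIso_inv_fst]

theorem tensorTo_snd : tensorTo K hm ≫ Curv2.bcSnd k X K =
    Spec.map (CommRingCat.ofHom (Algebra.TensorProduct.includeRight (R := k) (A := A) (B := K)).toRingHom) := by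
  rw [tensorTo, Category.assoc, pullback.lift_snd, ← Category.assoc, Category.comp_id,
    pullbackSpecIso_inv_snd]
  rfl

theorem tensorTo_fst_apply (P : Spec (CommRingCat.of (A ⊗[k] K))) :
    Curv2.bcFst k X K (tensorTo K hm P) =
      m (Spec.map (CommRingCat.ofHom Algebra.TensorProduct.includeLeftRingHom) P) := by
  rw [← Scheme.Hom.comp_apply, tensorTo_fst, Scheme.Hom.comp_apply]

theorem range_tensorTo :
    Set.range (tensorTo K hm) = (Curv2.bcFst k X K) ⁻¹' Set.range m := by
  rw [tensorTo, Scheme.Hom.comp_base, TopCat.coe_comp,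
    Function.Surjective.range_comp ((pullbackSpecIso k A K).inv.surjective) _]
  rw [Scheme.Pullback.range_map]
  simp

theorem property_tensorTo (P : MorphismProperty Scheme.{u}) [P.IsStableUnderBaseChange]
    [P.IsMultiplicative] (h : P m) :
    P (tensorTo K hm) := by
  have : P.RespectsIso := MorphismProperty.IsStableUnderBaseChange.respectsIso
  rw [tensorTo, MorphismProperty.cancel_left_of_respectsIso P]
  exact P.pullbackMap h (P.id_mem _) hm.w.symm (Category.id_comp _).symm

theorem isPreimmersion_tensorTo [IsPreimmersion m] : IsPreimmersion (tensorTo K hm) :=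
  property_tensorTo K hm (@IsPreimmersion : MorphismProperty Scheme.{u}) inferInstance

theorem flat_tensorTo [Flat m] : Flat (tensorTo K hm) := property_tensorTo K hm (@Flat : MorphismProperty Scheme.{u}) inferInstance

theorem isOpenImmersion_tensorTo [IsOpenImmersion m] : IsOpenImmersion (tensorTo K hm) :=
  property_tensorTo K hm (@IsOpenImmersion : MorphismProperty Scheme.{u}) inferInstance

theorem isClosedImmersion_tensorTo [IsClosedImmersion m] : IsClosedImmersion (tensorTo K hm) :=
  property_tensorTo K hm (@IsClosedImmersion : MorphismProperty Scheme.{u}) inferInstance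

end Chart

/-- The stalk maps of a flat preimmersion are isomorphisms. -/
theorem isIso_stalkMap_of_flat_preimmersion {Y Z : Scheme.{u}} (g : Y ⟶ Z) [Flat g] [IsPreimmersion g]
    (y : Y) : IsIso (g.stalkMap y) := by
  rw [ConcreteCategory.isIso_iff_bijective]
  refine ⟨?_, g.stalkMap_surjective y⟩
  algebraize [(g.stalkMap y).hom]
  have : Module.Flat (Z.presheaf.stalk (g y)) (Y.presheaf.stalk y) := Flat.stalkMap g y
  have : IsLocalHom (algebraMap (Z.presheaf.stalk (g y)) (Y.presheaf.stalk y)) :=
    inferInstanceAs (IsLocalHom (g.stalkMap y).hom)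
  have := Module.FaithfullyFlat.of_flat_of_isLocalHom (A := Z.presheaf.stalk (g y)) (B := Y.presheaf.stalk y)
  exact FaithfulSMul.algebraMap_injective (Z.presheaf.stalk (g y)) (Y.presheaf.stalk y)

theorem flat_fromSpecStalk (Y : Scheme.{u}) (y : Y) : Flat (Y.fromSpecStalk y) := by
  obtain ⟨_, ⟨U, hU, rfl⟩, hyU, -⟩ :=
    Y.isBasis_affineOpens.exists_subset_of_mem_open (Set.mem_univ y) isOpen_univ
  rw [← hU.fromSpecStalk_eq_fromSpecStalk hyU]
  dsimp only [IsAffineOpen.fromSpecStalk]
  have : Flat (Spec.map (Y.presheaf.germ U y hyU)) := by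
    rw [Flat.SpecMap_iff]
    let : Algebra Γ(Y, U) (Y.presheaf.stalk y) := (Y.presheaf.germ U y hyU).hom.toAlgebra
    have := hU.isLocalization_stalk ⟨y, hyU⟩
    have hflat : Module.Flat Γ(Y, U) (Y.presheaf.stalk y) :=
      IsLocalization.flat (Y.presheaf.stalk y) (hU.primeIdealOf ⟨y, hyU⟩).asIdeal.primeCompl
    exact hflat
  exact MorphismProperty.comp_mem (@Flat : MorphismProperty Scheme.{u}) _ _ this
    (have := hU.isOpenImmersion_fromSpec; inferInstance)

end Groth.VarietyBC
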