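/-
Dimension theory of schemes locally of finite type over a field in the `X ↘ Spec k` language:
local dimension, transcendence degrees of residue fields.
-/
import Groth.Prelude.Def_Curv2
import Groth.Prelude.Def_Flat
import Groth.Agent.VarietyBC.BC
import Groth.Agent.Variety2.DimScheme
import Groth.Agent.SpectralTopology.Dim

open CategoryTheory CategoryTheory.Limits AlgebraicGeometry TopologicalSpace

universe u

namespace Groth.VarietyBC

variable {k : Type u} [Field k] {X : Scheme.{u}} [X.Over (Spec (CommRingCat.of k))]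

local notation "str" => (X ↘ (Spec (CommRingCat.of k)))

theorem resHom_eq_resMap (x : X) : Variety2.Dim.resHom str x = Curv2.resMap k X x := by
  have h := (Variety2.Dim.resHom_spec str x).trans (fromSpecResidueField_str x)
  exact congrArg CommRingCat.Hom.hom (Spec.map_injective h)

theorem trdegAt_eq (x : X) : Variety2.Dim.trdegAt str x =
    @Algebra.trdeg k (X.residueField x) _ _ (Curv2.resAlgebra k X x) := by
  rw [Variety2.Dim.trdegAt, resHom_eq_resMap]

variable [LocallyOfFiniteType (X ↘ (Spec (CommRingCat.of k)))]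

/-- The transcendence degree of `κ(x)` is the height of `x`. -/
theorem height_eq_of_trdeg_eq (x : X) (n : ℕ)
    (h : @Algebra.trdeg k (X.residueField x) _ _ (Curv2.resAlgebra k X x) = n) :
    Order.height x = n := by
  obtain ⟨m, h1, h2⟩ := Variety2.Dim.exists_trdegAt_eq_height str x
  rw [trdegAt_eq, h, Nat.cast_inj] at h1
  rw [h2, h1]

theorem trdeg_eq_of_height_eq (x : X) (n : ℕ) (h : Order.height x = n) :
    @Algebra.trdeg k (X.residueField x) _ _ (Curv2.resAlgebra k X x) = n := by
  obtain ⟨m, h1, h2⟩ := Variety2.Dim.exists_trdegAt_eq_height str x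
  rw [trdegAt_eq] at h1
  rw [h, Nat.cast_inj] at h2
  rw [h1, h2]

variable (k) in
include k in
theorem height_le_add_coheight {b η : X} (hb : b ≤ η) :
    Order.height η ≤ Order.height b + Order.coheight b := by
  obtain ⟨N, hN⟩ := Variety2.Dim.exists_height_eq str η
  suffices h : ∀ (j : ℕ) (c : X), c ≤ η → Order.height η ≤ Order.height c + j →
      Order.height η ≤ Order.coheight c + Order.height c by
    rw [add_comm]
    exact h N b hb (hN ▸ le_add_self)
  intro j
  induction j with
  | zero =>
    intro c _ hc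
    rw [Nat.cast_zero, add_zero] at hc
    exact hc.trans le_add_self
  | succ j ih =>
    intro c hcη hc
    by_cases hηc : η ≤ c
    · exact (Order.height_mono hηc).trans le_add_self
    obtain ⟨d, hcd, hdmin⟩ := WellFounded.has_min
      (InvImage.wf (fun z : X => Order.height z) (wellFounded_lt (α := ℕ∞)))
      {z : X | c < z ∧ z ≤ η} ⟨η, lt_of_le_not_ge hcη hηc, le_rfl⟩
    have hcov : c ⋖ d := ⟨hcd.1, fun e h1 h2 =>
      hdmin e ⟨h1, h2.le.trans hcd.2⟩ (Variety2.Dim.height_toNat_lt str h2)⟩
    have hh := Variety2.Dim.height_eq_of_covBy str hcov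
    have h3 : Order.height η ≤ Order.height d + j := by
      rw [hh, add_assoc, add_comm (1 : ℕ∞)]
      exact_mod_cast hc
    refine (ih d hcd.2 h3).trans ?_
    rw [hh, ← add_assoc, add_right_comm]
    exact add_le_add (Order.coheight_add_one_le hcd.1) le_rfl

variable (k) in
include k in
/-- An affine open neighbourhood minus the components avoiding `x`: every point lies below a point
above `x`. -/
theorem exists_nhd_le_generalization (x : X) : ∃ U : X.Opens, x ∈ U ∧
    ∀ z ∈ U, ∃ η : X, z ≤ η ∧ x ≤ η := by
  have := LocallyOfFiniteType.isLocallyNoetherian str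
  obtain ⟨V, hV, hxV, -⟩ := exists_isAffineOpen_mem_and_subset (U := (⊤ : X.Opens)) (x := x) trivial
  have : IsNoetherianRing Γ(X, V) := IsLocallyNoetherian.component_noetherian ⟨V, hV⟩
  have hfin : (irreducibleComponents (Spec Γ(X, V))).Finite :=
    NoetherianSpace.finite_irreducibleComponents (α := PrimeSpectrum Γ(X, V))
  let q := hV.primeIdealOf ⟨x, hxV⟩
  have hq : hV.fromSpec q = x := hV.fromSpec_primeIdealOf ⟨x, hxV⟩
  let W : Set (Spec Γ(X, V)) :=
    (⋃₀ {Z ∈ irreducibleComponents (Spec Γ(X, V)) | q ∉ Z})ᶜ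
  have hW : IsOpen W := by
    refine (IsClosed.isOpen_compl (self := ?_))
    rw [Set.sUnion_eq_biUnion]
    exact (hfin.subset fun _ h => h.1).isClosed_biUnion fun Z hZ =>
      isClosed_of_mem_irreducibleComponents Z hZ.1
  refine ⟨hV.fromSpec ''ᵁ ⟨W, hW⟩, ⟨q, ?_, hq⟩, ?_⟩
  · rintro ⟨Z, hZ, hqZ⟩
    exact hZ.2 hqZ
  · rintro z ⟨p, hp, rfl⟩
    obtain ⟨Z, hZ, hpZ⟩ : ∃ Z ∈ irreducibleComponents (Spec Γ(X, V)), p ∈ Z :=
      ⟨irreducibleComponent p, irreducibleComponent_mem_irreducibleComponents p,
        mem_irreducibleComponent⟩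
    have hqZ : q ∈ Z := not_not.1 fun h => hp ⟨Z, ⟨hZ, h⟩, hpZ⟩
    obtain ⟨g, hg⟩ := QuasiSober.sober hZ.1 (isClosed_of_mem_irreducibleComponents Z hZ)
    refine ⟨hV.fromSpec g, ?_, ?_⟩
    · exact Scheme.le_iff_specializes.2 ((hg.specializes hpZ).map hV.fromSpec.continuous)
    · rw [← hq]
      exact Scheme.le_iff_specializes.2 ((hg.specializes hqZ).map hV.fromSpec.continuous)

variable (k) in
include k in
theorem height_opens_ι (U : X.Opens) (u : U.toScheme) :
    Order.height (U.ι u) = Order.height u :=
  Variety2.Dim.height_eq_of_isPreimmersion (U.ι ≫ str) str U.ι rfl u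

variable (k) in
include k in
/-- Krull dimension of an open: supremum of the heights of its points in `X`. -/
theorem dim_opens_eq_iSup (U : X.Opens) :
    topologicalKrullDim (U : Set X) = ⨆ z : U.toScheme, ((Order.height (U.ι z) : ℕ∞) : WithBot ℕ∞) := by
  refine (Variety2.Dim.dim_eq_iSup_height U.toScheme).trans (iSup_congr fun z => ?_)
  rw [height_opens_ι k]

omit [X.Over (Spec (CommRingCat.of k))] in
theorem coheight_opens_ι (U : X.Opens) (u : U.toScheme) :
    Order.coheight (U.ι u) = Order.coheight u := by
  have h := ringKrullDim_stalk_eq_coheight (U.ι u)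
  rw [ringKrullDim_eq_of_ringEquiv (asIso (U.ι.stalkMap u)).commRingCatIsoToRingEquiv,
    ringKrullDim_stalk_eq_coheight u, WithBot.coe_inj] at h
  exact h.symm

variable (k) in
include k in
/-- `dim_x X = height x + dim O_{X,x}`. -/
theorem localDim_eq_height_add (x : X) :
    FlatMor.localDim X x = (Order.height x : ℕ∞) + ringKrullDim (X.presheaf.stalk x) := by
  rw [ringKrullDim_stalk_eq_coheight, ← WithBot.coe_add]
  refine le_antisymm ?_ ?_
  · obtain ⟨U, hxU, hU⟩ := exists_nhd_le_generalization k x
    refine (Groth.SpectralTopology.localDim_le_of_mem hxU).trans ?_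
    rw [dim_opens_eq_iSup k]
    refine iSup_le fun z => WithBot.coe_le_coe.2 ?_
    obtain ⟨η, h1, h2⟩ := hU (U.ι z) z.2
    exact (Order.height_mono h1).trans (height_le_add_coheight k h2)
  · refine le_iInf fun p => ?_
    obtain ⟨U', hxU⟩ := p
    let U : X.Opens := U'
    let u : (U : X.Opens).toScheme := ⟨x, hxU⟩
    have hu : U.ι u = x := rfl
    change _ ≤ topologicalKrullDim (U : Set X)
    rw [show Order.height x = Order.height (U.ι u) from rfl,
      show Order.coheight x = Order.coheight (U.ι u) from rfl, coheight_opens_ι U u, height_opens_ι k U u]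
    have : Nonempty U.toScheme := ⟨u⟩
    letI := specializationOrder (X := U.toScheme)
    have h : ((Order.height u + Order.coheight u : ℕ∞) : WithBot ℕ∞) ≤ topologicalKrullDim U.toScheme := by
      rw [topologicalKrullDim, Order.krullDim_eq_of_orderIso irreducibleSetEquivPoints,
        Order.krullDim_eq_iSup_height_add_coheight_of_nonempty]
      exact WithBot.coe_le_coe.2 (le_iSup (fun v : U.toScheme => Order.height v + Order.coheight v) u)
    exact h

end Groth.VarietyBC
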