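/-
Integral algebras over a field with no nontrivial idempotents; coefficients of idempotents in
`A ⊗ L` for a finite separable `L`.
-/
import Mathlib.RingTheory.IntegralClosure.IsIntegralClosure.Basic
import Mathlib.RingTheory.Trace.Basic
import Mathlib.RingTheory.Discriminant
import Mathlib.RingTheory.TensorProduct.Free
import Mathlib.RingTheory.Flat.Basic
import Mathlib.FieldTheory.IsAlgClosed.AlgebraicClosure
import Mathlib.RingTheory.Nilpotent.Lemmas

open TensorProduct

namespace Groth.VarietyBC

universe u v w

/-- The only idempotents are `0` and `1`. -/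
def IdemTrivial (R : Type*) [CommRing R] : Prop := ∀ e : R, IsIdempotentElem e → e = 0 ∨ e = 1

variable {k : Type u} [Field k] {A : Type v} [CommRing A] [Algebra k A]

theorem IdemTrivial.of_injective {R S : Type*} [CommRing R] [CommRing S] (f : R →+* S)
    (hf : Function.Injective f) (h : IdemTrivial S) : IdemTrivial R := fun e he => by
  rcases h (f e) (he.map f) with h | h
  · exact .inl (hf (h.trans (map_zero f).symm))
  · exact .inr (hf (h.trans (map_one f).symm))

theorem IdemTrivial.of_nilradical_isPrime {R : Type*} [CommRing R] (h : (nilradical R).IsPrime) :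
    IdemTrivial R := fun e he => by
  have h0 : e * (1 - e) ∈ nilradical R := by
    rw [mul_sub, mul_one, he.eq, sub_self]; exact zero_mem _
  rcases h.mem_or_mem h0 with h | h
  · exact .inl (he.eq_zero_of_isNilpotent (mem_nilradical.mp h))
  · exact .inr (by linear_combination -(he.one_sub.eq_zero_of_isNilpotent (mem_nilradical.mp h)))

/-- In an algebra without nontrivial idempotents, an element integral over the base field is a unit
or nilpotent. -/
theorem isUnit_or_isNilpotent (hA : IdemTrivial A) {x : A} (hx : IsIntegral k x) :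
    IsUnit x ∨ IsNilpotent x := by
  obtain ⟨p, hp, hpx⟩ := hx
  obtain ⟨q, hq, hq0⟩ := Polynomial.exists_eq_pow_rootMultiplicity_mul_and_not_dvd p hp.ne_zero (0 : k)
  set n := p.rootMultiplicity 0
  rw [map_zero, sub_zero] at hq hq0
  have hc : q.coeff 0 ≠ 0 := fun h => hq0 (Polynomial.X_dvd_iff.mpr h)
  obtain ⟨y, hy⟩ : ∃ y, x ^ n = x ^ (n + 1) * y := by
    refine ⟨-(algebraMap k A (q.coeff 0)⁻¹ * Polynomial.aeval x q.divX), ?_⟩
    have h1 : x ^ n * Polynomial.aeval x q = 0 := by
      rw [← hpx, hq]; simp [Polynomial.aeval_def, Polynomial.eval₂_mul]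
    have h2 : Polynomial.aeval x q = x * Polynomial.aeval x q.divX + algebraMap k A (q.coeff 0) := by
      conv_lhs => rw [← Polynomial.X_mul_divX_add q, map_add, map_mul, Polynomial.aeval_X, Polynomial.aeval_C]
    have h3 : algebraMap k A (q.coeff 0)⁻¹ * algebraMap k A (q.coeff 0) = 1 := by
      rw [← map_mul, inv_mul_cancel₀ hc, map_one]
    rw [h2] at h1
    linear_combination algebraMap k A (q.coeff 0)⁻¹ * h1 - x ^ n * h3
  have hm : ∀ m, x ^ n = x ^ (n + m) * y ^ m := by
    intro m
    induction m with
    | zero => simp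
    | succ m ih => calc x ^ n = x ^ (n + m) * y ^ m := ih
        _ = (x ^ m * y ^ m) * x ^ n := by ring
        _ = (x ^ m * y ^ m) * (x ^ (n + 1) * y) := by rw [← hy]
        _ = _ := by ring
  have he : IsIdempotentElem (x ^ n * y ^ n) := by
    unfold IsIdempotentElem
    calc x ^ n * y ^ n * (x ^ n * y ^ n) = (x ^ (n + n) * y ^ n) * y ^ n := by ring
      _ = x ^ n * y ^ n := by rw [← hm]
  rcases hA _ he with h | h
  · refine .inr ⟨n, ?_⟩
    rw [hm n]
    calc x ^ (n + n) * y ^ n = x ^ n * (x ^ n * y ^ n) := by ring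
      _ = 0 := by rw [h, mul_zero]
  · rcases Nat.eq_zero_or_pos n with hn | hn
    · refine .inl (IsUnit.of_mul_eq_one y ?_)
      rw [hn] at hy; simpa using hy.symm
    · exact .inl (isUnit_of_dvd_one (h ▸ (dvd_pow_self x hn.ne').mul_right _))

/-- An integral algebra without nontrivial idempotents has a prime nilradical. -/
theorem nilradical_isPrime_of_isIntegral [Algebra.IsIntegral k A] [Nontrivial A]
    (hA : IdemTrivial A) : (nilradical A).IsPrime := by
  refine ⟨fun h => one_ne_zero (α := A) (IsIdempotentElem.one.eq_zero_of_isNilpotent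
    (mem_nilradical.mp (h ▸ Submodule.mem_top : (1 : A) ∈ nilradical A))), fun {a b} hab => ?_⟩
  rcases isUnit_or_isNilpotent (k := k) hA (Algebra.IsIntegral.isIntegral a) with h | h
  · exact .inr ((Ideal.unit_mul_mem_iff_mem _ h).mp hab)
  · exact .inl (mem_nilradical.mpr h)

/-- A reduced integral algebra without nontrivial idempotents is a field. -/
theorem isField_of_isIntegral [Algebra.IsIntegral k A] [Nontrivial A] [IsReduced A]
    (hA : IdemTrivial A) : IsField A :=
  ⟨⟨0, 1, zero_ne_one⟩, mul_comm, fun {a} ha =>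
    ((isUnit_or_isNilpotent (k := k) hA (Algebra.IsIntegral.isIntegral a)).resolve_right
      fun h => ha h.eq_zero).exists_right_inv⟩

theorem IdemTrivial.integralClosure (hA : IdemTrivial A) : IdemTrivial (integralClosure k A) :=
  hA.of_injective (Subalgebra.val _).toRingHom Subtype.val_injective

variable {L : Type w} [Field L] [Algebra k L] [FiniteDimensional k L] [Algebra.IsSeparable k L]

/-- An element of `A ⊗ L` which is integral over `k` comes from `(integralClosure k A) ⊗ L`. -/
theorem mem_range_integralClosure_tensor {e : A ⊗[k] L} (he : IsIntegral k e) :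
    e ∈ (Algebra.TensorProduct.map (integralClosure k A).val (AlgHom.id k L)).range := by
  classical
  let b := Module.finBasis k L
  let Ω := AlgebraicClosure k
  let em : Fin (Module.finrank k L) ≃ (L →ₐ[k] Ω) :=
    (Fintype.equivFinOfCardEq (AlgHom.card k L Ω)).symm
  let M := Algebra.embeddingsMatrixReindex k Ω b em
  have hM : IsUnit M.det := isUnit_iff_ne_zero.mpr fun h => by
    have := Algebra.discr_eq_det_embeddingsMatrixReindex_pow_two k Ω b em
    rw [h, zero_pow two_ne_zero, map_eq_zero] at this
    exact Algebra.discr_not_zero_of_basis k b this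
  obtain ⟨a, rfl⟩ : ∃ a : Fin (Module.finrank k L) → A, e = ∑ i, a i ⊗ₜ b i := by
    refine ⟨fun i => (b.baseChange A).repr e i, ?_⟩
    conv_lhs => rw [← (b.baseChange A).sum_repr e]
    simp [TensorProduct.smul_tmul']
  have hint : ∀ j, IsIntegral k (∑ i, a i ⊗ₜ[k] M i j) := fun j => by
    have := he.map (Algebra.TensorProduct.map (AlgHom.id k A) (em j))
    simpa [M, Algebra.embeddingsMatrixReindex, Algebra.embeddingsMatrix] using this
  have ha : ∀ i, IsIntegral k (a i) := fun i => by
    refine (isIntegral_algHom_iff (Algebra.TensorProduct.includeLeft : A →ₐ[k] A ⊗[k] Ω)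
      (Algebra.TensorProduct.includeLeft_injective (algebraMap k Ω).injective)).mp ?_
    have : a i ⊗ₜ[k] (1 : Ω) =
        ∑ j, (∑ l, a l ⊗ₜ[k] M l j) * ((1 : A) ⊗ₜ[k] (M⁻¹ j i)) := by
      simp_rw [Finset.sum_mul, Algebra.TensorProduct.tmul_mul_tmul, mul_one]
      rw [Finset.sum_comm]
      simp_rw [← TensorProduct.tmul_sum, ← Matrix.mul_apply, Matrix.mul_nonsing_inv M hM]
      simp [Matrix.one_apply, TensorProduct.tmul_ite]
    rw [Algebra.TensorProduct.includeLeft_apply, this]
    refine IsIntegral.sum _ fun j _ => (hint j).mul ?_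
    exact (Algebra.IsIntegral.isIntegral (R := k) (M⁻¹ j i)).map Algebra.TensorProduct.includeRight
  refine ⟨∑ i, (⟨a i, ha i⟩ : integralClosure k A) ⊗ₜ b i, ?_⟩
  simp

end Groth.VarietyBC
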