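/-
Tensor products of algebras over an algebraically closed field: reduced ⊗ reduced is reduced and
domain ⊗ domain is a domain.
-/
import Mathlib.RingTheory.TensorProduct.Finite
import Mathlib.RingTheory.Jacobson.Ring
import Mathlib.RingTheory.Flat.Basic
import Mathlib.RingTheory.TensorProduct.Free
import Mathlib.FieldTheory.IsAlgClosed.Basic

open TensorProduct

namespace Groth.VarietyBC

universe u v w

variable {k : Type u} [Field k]

/-- On a finite type algebra over an algebraically closed field, a non-nilpotent element is nonzero at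
some rational point. -/
theorem exists_algHom_ne_zero [IsAlgClosed k] {A : Type v} [CommRing A] [Algebra k A]
    [Algebra.FiniteType k A] {a : A} (ha : ¬ IsNilpotent a) : ∃ φ : A →ₐ[k] k, φ a ≠ 0 := by
  have : IsJacobsonRing A := isJacobsonRing_of_finiteType (A := k)
  have hrad : (⊥ : Ideal A).jacobson ≤ nilradical A :=
    (Ideal.jacobson_mono bot_le).trans (IsJacobsonRing.out ‹_› (Ideal.radical_isRadical ⊥)).le
  have ha' : a ∉ (⊥ : Ideal A).jacobson := fun h => ha (mem_nilradical.mp (hrad h))
  rw [Ideal.jacobson, Submodule.mem_sInf] at ha'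
  push Not at ha'
  obtain ⟨m, ⟨-, hm⟩, ham⟩ := ha'
  have := hm
  let := Ideal.Quotient.field m
  have : Algebra.FiniteType k (A ⧸ m) :=
    Algebra.FiniteType.of_surjective (Ideal.Quotient.mkₐ k m) (Ideal.Quotient.mkₐ_surjective k m)
  have : Module.Finite k (A ⧸ m) := finite_of_finite_type_of_isJacobsonRing k (A ⧸ m)
  let e := AlgEquiv.ofBijective (Algebra.ofId k (A ⧸ m)) IsAlgClosed.algebraMap_bijective_of_isIntegral
  refine ⟨e.symm.toAlgHom.comp (Ideal.Quotient.mkₐ k m), ?_⟩
  change e.symm (Ideal.Quotient.mk m a) ≠ 0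
  rw [map_ne_zero_iff _ e.symm.injective, Ne, Ideal.Quotient.eq_zero_iff_mem]
  exact ham

section

variable {A : Type v} {B : Type w} [CommRing A] [CommRing B] [Algebra k A] [Algebra k B]

/-- Evaluation of `A ⊗ B` at a rational point of `A`. -/
noncomputable def evalAt (φ : A →ₐ[k] k) : A ⊗[k] B →ₐ[k] B :=
  (Algebra.TensorProduct.lid k B).toAlgHom.comp (Algebra.TensorProduct.map φ (AlgHom.id k B))

theorem repr_evalAt {ι : Type*} (b : Module.Basis ι k B) (φ : A →ₐ[k] k) (x : A ⊗[k] B) (i : ι) :
    b.repr (evalAt φ x) i = φ ((b.baseChange A).repr x i) := by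
  induction x using TensorProduct.induction_on with
  | zero => simp
  | tmul a y => simp [evalAt, mul_comm]
  | add x y hx hy => simp [hx, hy]

/-- Every element of `B ⊗ A` comes from a finitely generated subalgebra of `A`. -/
theorem exists_fg_range (x : B ⊗[k] A) : ∃ (D : Subalgebra k A), D.FG ∧
    x ∈ (Algebra.TensorProduct.map (AlgHom.id k B) D.val).range := by
  induction x using TensorProduct.induction_on with
  | zero => exact ⟨⊥, Subalgebra.fg_bot, zero_mem _⟩
  | tmul b a => exact ⟨Algebra.adjoin k {a}, ⟨{a}, by simp⟩, b ⊗ₜ ⟨a, Algebra.self_mem_adjoin_singleton k a⟩, rfl⟩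
  | add x y hx hy =>
    obtain ⟨D, hD, z, rfl⟩ := hx
    obtain ⟨E, hE, w, rfl⟩ := hy
    refine ⟨D ⊔ E, hD.sup hE, Algebra.TensorProduct.map (AlgHom.id k B) (Subalgebra.inclusion le_sup_left) z +
      Algebra.TensorProduct.map (AlgHom.id k B) (Subalgebra.inclusion le_sup_right) w, ?_⟩
    change Algebra.TensorProduct.map _ _ (_ + _) = _
    rw [map_add, ← AlgHom.comp_apply, ← AlgHom.comp_apply, ← Algebra.TensorProduct.map_comp,
      ← Algebra.TensorProduct.map_comp]
    rfl

variable [IsAlgClosed k]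

theorem isReduced_tensor_fg [IsReduced A] [IsReduced B] [Algebra.FiniteType k A] :
    IsReduced (A ⊗[k] B) := by
  refine ⟨fun x hx => ?_⟩
  obtain ⟨⟨ι, b⟩⟩ := Module.Free.exists_basis (R := k) (M := B)
  refine (b.baseChange A).ext_elem fun i => ?_
  rw [map_zero, Finsupp.zero_apply]
  by_contra hne
  obtain ⟨φ, hφ⟩ := exists_algHom_ne_zero (k := k) (fun h => hne h.eq_zero)
  apply hφ
  rw [← repr_evalAt, (hx.map (evalAt φ)).eq_zero, map_zero, Finsupp.zero_apply]

theorem noZeroDivisors_tensor_fg [IsDomain A] [IsDomain B] [Algebra.FiniteType k A] :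
    NoZeroDivisors (A ⊗[k] B) := by
  refine ⟨fun {x y} hxy => ?_⟩
  obtain ⟨⟨ι, b⟩⟩ := Module.Free.exists_basis (R := k) (M := B)
  by_contra! h
  obtain ⟨i, hi⟩ : ∃ i, (b.baseChange A).repr x i ≠ 0 := by
    by_contra! h'; exact h.1 ((b.baseChange A).ext_elem fun i => by simp [h' i])
  obtain ⟨j, hj⟩ : ∃ j, (b.baseChange A).repr y j ≠ 0 := by
    by_contra! h'; exact h.2 ((b.baseChange A).ext_elem fun i => by simp [h' i])
  obtain ⟨φ, hφ⟩ := exists_algHom_ne_zero (k := k) (fun hn => mul_ne_zero hi hj hn.eq_zero)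
  rw [map_mul, ← repr_evalAt, ← repr_evalAt] at hφ
  have h0 : evalAt φ x * evalAt φ y = 0 := by rw [← map_mul, hxy, map_zero]
  rcases mul_eq_zero.mp h0 with h0 | h0 <;> simp [h0] at hφ

theorem isReduced_tensor [IsReduced A] [IsReduced B] : IsReduced (A ⊗[k] B) := by
  have : IsReduced (B ⊗[k] A) := IsReduced.tensorProduct_of_flat_of_forall_fg fun D hD => by
    have : Algebra.FiniteType k D := (Subalgebra.fg_iff_finiteType D).mp hD
    have : IsReduced D := isReduced_of_injective D.val Subtype.val_injective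
    have := isReduced_tensor_fg (k := k) (A := D) (B := B)
    exact isReduced_of_injective (Algebra.TensorProduct.comm k B D) (AlgEquiv.injective _)
  exact isReduced_of_injective (Algebra.TensorProduct.comm k A B) (AlgEquiv.injective _)

theorem isDomain_tensor [IsDomain A] [IsDomain B] : IsDomain (A ⊗[k] B) := by
  suffices NoZeroDivisors (B ⊗[k] A) by
    have : NoZeroDivisors (A ⊗[k] B) :=
      (Algebra.TensorProduct.comm k A B).injective.noZeroDivisors _ (map_zero _) (map_mul _)
    have : Nontrivial (A ⊗[k] B) :=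
      (Algebra.TensorProduct.includeLeft_injective (R := k) (S := k) (A := A) (B := B)
        (algebraMap k B).injective).nontrivial
    exact NoZeroDivisors.to_isDomain _
  refine ⟨fun {x y} hxy => ?_⟩
  obtain ⟨D, hD, x₁, hx₁⟩ := exists_fg_range x
  obtain ⟨E, hE, y₁, hy₁⟩ := exists_fg_range y
  let G := D ⊔ E
  have : Algebra.FiniteType k G := (Subalgebra.fg_iff_finiteType G).mp (hD.sup hE)
  have := noZeroDivisors_tensor_fg (k := k) (A := G) (B := B)
  let c := Algebra.TensorProduct.comm k B G
  have : NoZeroDivisors (B ⊗[k] G) := c.injective.noZeroDivisors _ (map_zero _) (map_mul _)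
  let g := Algebra.TensorProduct.map (AlgHom.id k B) G.val
  have hg : Function.Injective g :=
    Module.Flat.lTensor_preserves_injective_linearMap _ Subtype.val_injective
  have hcomp : ∀ (D' : Subalgebra k A) (h : D' ≤ G) (z : B ⊗[k] D'),
      g (Algebra.TensorProduct.map (AlgHom.id k B) (Subalgebra.inclusion h) z) =
        Algebra.TensorProduct.map (AlgHom.id k B) D'.val z := fun D' h z => by
    rw [← AlgHom.comp_apply, ← Algebra.TensorProduct.map_comp]
    rfl
  obtain ⟨x₂, rfl⟩ : ∃ z, g z = x := ⟨_, (hcomp D le_sup_left x₁).trans hx₁⟩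
  obtain ⟨y₂, rfl⟩ : ∃ z, g z = y := ⟨_, (hcomp E le_sup_right y₁).trans hy₁⟩
  rw [← map_mul, map_eq_zero_iff g hg, mul_eq_zero] at hxy
  exact hxy.imp (fun h => by rw [h, map_zero]) (fun h => by rw [h, map_zero])

end

end Groth.VarietyBC
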