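/-
Prime nilradicals ("irreducible spectrum") and reducedness of tensor products over a field.
-/
import Groth.Agent.VarietyBC.TensorAlgClosed
import Groth.Agent.VarietyBC.IntegralIdem
import Mathlib.FieldTheory.PurelyInseparable.Basic
import Mathlib.RingTheory.Nilpotent.GeometricallyReduced
import Mathlib.RingTheory.Unramified.Field
import Mathlib.RingTheory.Spectrum.Prime.Homeomorph

open TensorProduct

namespace Groth.VarietyBC

universe u v w

theorem nilradical_isPrime_of_ker_le {R S : Type*} [CommRing R] [CommRing S] (f : R →+* S)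
    (hker : RingHom.ker f ≤ nilradical R) (hS : (nilradical S).IsPrime) :
    (nilradical R).IsPrime := by
  have : nilradical R = (nilradical S).comap f := by
    ext x
    refine ⟨fun h => Ideal.mem_comap.mpr (mem_nilradical.mpr ((mem_nilradical.mp h).map f)), fun h => ?_⟩
    obtain ⟨n, hn⟩ := mem_nilradical.mp (Ideal.mem_comap.mp h)
    rw [← map_pow] at hn
    obtain ⟨m, hm⟩ := mem_nilradical.mp (hker hn)
    exact mem_nilradical.mpr ⟨n * m, by rw [pow_mul]; exact hm⟩
  exact this ▸ hS.comap f

theorem nilradical_isPrime_of_injective {R S : Type*} [CommRing R] [CommRing S] (f : R →+* S)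
    (hf : Function.Injective f) (hS : (nilradical S).IsPrime) : (nilradical R).IsPrime :=
  nilradical_isPrime_of_ker_le f (by rw [(RingHom.injective_iff_ker_eq_bot f).mp hf]; exact bot_le) hS

theorem nilradical_isPrime_of_isDomain (R : Type*) [CommRing R] [IsDomain R] :
    (nilradical R).IsPrime := by rw [nilradical_eq_zero]; exact Ideal.isPrime_bot

section

variable {k : Type u} [Field k]

/-- Killing nilradicals of the factors only changes a tensor product by nilpotents. -/
theorem ker_quotient_map_le {A : Type v} {B : Type w} [CommRing A] [CommRing B] [Algebra k A]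
    [Algebra k B] (I : Ideal A) (J : Ideal B) (hI : I ≤ nilradical A) (hJ : J ≤ nilradical B) :
    RingHom.ker (Algebra.TensorProduct.map (Ideal.Quotient.mkₐ k I) (Ideal.Quotient.mkₐ k J)).toRingHom
      ≤ nilradical (A ⊗[k] B) := by
  let Q := (A ⊗[k] B) ⧸ nilradical (A ⊗[k] B)
  let q : A ⊗[k] B →ₐ[k] Q := Ideal.Quotient.mkₐ k _
  let fA : A ⧸ I →ₐ[k] Q := Ideal.Quotient.liftₐ I (q.comp Algebra.TensorProduct.includeLeft)
    fun a ha => Ideal.Quotient.eq_zero_iff_mem.mpr
      (mem_nilradical.mpr ((mem_nilradical.mp (hI ha)).map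
        (Algebra.TensorProduct.includeLeft : A →ₐ[k] A ⊗[k] B)))
  let fB : B ⧸ J →ₐ[k] Q := Ideal.Quotient.liftₐ J (q.comp Algebra.TensorProduct.includeRight)
    fun a ha => Ideal.Quotient.eq_zero_iff_mem.mpr
      (mem_nilradical.mpr ((mem_nilradical.mp (hJ ha)).map
        (Algebra.TensorProduct.includeRight : B →ₐ[k] A ⊗[k] B)))
  have hq : q = (Algebra.TensorProduct.lift fA fB fun _ _ => Commute.all _ _).comp
      (Algebra.TensorProduct.map (Ideal.Quotient.mkₐ k I) (Ideal.Quotient.mkₐ k J)) := by
    ext x <;> simp [fA, fB, q]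
    all_goals erw [Ideal.Quotient.lift_mk]
    all_goals rfl
  intro x hx
  rw [RingHom.mem_ker] at hx
  refine Ideal.Quotient.eq_zero_iff_mem.mp (?_ : q x = 0)
  rw [hq, AlgHom.comp_apply]
  change Algebra.TensorProduct.lift fA fB _ ((AlgHom.toRingHom _) x) = 0
  rw [hx, map_zero]

theorem nilradical_isPrime_tensor_of_domain {A : Type v} {B : Type w} [CommRing A] [CommRing B]
    [Algebra k A] [Algebra k B]
    (h : (nilradical ((A ⧸ nilradical A) ⊗[k] (B ⧸ nilradical B))).IsPrime) :
    (nilradical (A ⊗[k] B)).IsPrime := by
  refine nilradical_isPrime_of_ker_le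
    (Algebra.TensorProduct.map (Ideal.Quotient.mkₐ k (nilradical A))
      (Ideal.Quotient.mkₐ k (nilradical B))).toRingHom ?_ h
  exact ker_quotient_map_le _ _ le_rfl le_rfl

end

section

variable {k : Type u} [Field k]

/-- Over a separably closed field two field extensions have a tensor product with prime nilradical. -/
theorem nilradical_isPrime_tensor_fields [IsSepClosed k] (L : Type v) (M : Type w) [Field L] [Field M]
    [Algebra k L] [Algebra k M] : (nilradical (L ⊗[k] M)).IsPrime := by
  let k' := AlgebraicClosure k
  let L' := AlgebraicClosure L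
  let M' := AlgebraicClosure M
  let iL : k' →ₐ[k] L' := IsAlgClosed.lift
  let iM : k' →ₐ[k] M' := IsAlgClosed.lift
  let := iL.toRingHom.toAlgebra
  let := iM.toRingHom.toAlgebra
  have : IsScalarTower k k' L' := .of_algebraMap_eq fun x => (iL.commutes x).symm
  have : IsScalarTower k k' M' := .of_algebraMap_eq fun x => (iM.commutes x).symm
  suffices (nilradical (L' ⊗[k] M')).IsPrime from
    nilradical_isPrime_of_injective
      (Algebra.TensorProduct.map (IsScalarTower.toAlgHom k L L') (IsScalarTower.toAlgHom k M M')).toRingHom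
      (TensorProduct.map_injective_of_flat_flat (IsScalarTower.toAlgHom k L L').toLinearMap
        (IsScalarTower.toAlgHom k M M').toLinearMap (algebraMap L L').injective
        (algebraMap M M').injective) this
  have : IsDomain (L' ⊗[k'] M') := isDomain_tensor
  have : IsPurelyInseparable k k' := inferInstance
  let Φ : L' ⊗[k] M' →ₐ[k] L' ⊗[k'] M' :=
    Algebra.TensorProduct.lift
      ((Algebra.TensorProduct.includeLeft (R := k') (S := k') (A := L') (B := M')).restrictScalars k)
      ((Algebra.TensorProduct.includeRight (R := k') (A := L') (B := M')).restrictScalars k)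
      fun _ _ => Commute.all _ _
  refine nilradical_isPrime_of_ker_le Φ.toRingHom ?_ (nilradical_isPrime_of_isDomain _)
  -- modulo nilpotents the two `k'`-structures agree
  let Q := (L' ⊗[k] M') ⧸ nilradical (L' ⊗[k] M')
  let qL : L' →+* Q := (Ideal.Quotient.mk _).comp Algebra.TensorProduct.includeLeftRingHom
  let qM : M' →+* Q := (Ideal.Quotient.mk _).comp
    (Algebra.TensorProduct.includeRight (R := k) (A := L') (B := M')).toRingHom
  have hagree : qL.comp (algebraMap k' L') = qM.comp (algebraMap k' M') := by
    ext c
    refine Ideal.Quotient.eq.mpr (mem_nilradical.mpr ?_)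
    let q := ringExpChar k
    have : Nontrivial (L' ⊗[k] M') := Function.Injective.nontrivial
      (Algebra.TensorProduct.includeLeft_injective (R := k) (S := k) (A := L') (B := M')
        (algebraMap k M').injective)
    have : ExpChar (L' ⊗[k] M') q :=
      expChar_of_injective_ringHom (algebraMap k (L' ⊗[k] M')).injective q
    obtain ⟨n, r, hr⟩ := IsPurelyInseparable.pow_mem k q c
    refine ⟨q ^ n, ?_⟩
    rw [sub_pow_expChar_pow]
    simp only [Algebra.TensorProduct.includeLeftRingHom_apply, AlgHom.toRingHom_eq_coe, RingHom.coe_coe,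
      Algebra.TensorProduct.includeRight_apply, Algebra.TensorProduct.tmul_pow, one_pow, ← map_pow, ← hr,
      ← IsScalarTower.algebraMap_apply]
    rw [Algebra.algebraMap_eq_smul_one, Algebra.algebraMap_eq_smul_one, TensorProduct.smul_tmul,
      sub_self]
  let fL : L' →ₐ[k'] Q := { qL with commutes' := fun _ => rfl }
  let fM : M' →ₐ[k'] Q := { qM with commutes' := fun c => (congr($hagree c)).symm }
  let Ψ := Algebra.TensorProduct.lift fL fM fun _ _ => Commute.all _ _
  have hΨ : (Ideal.Quotient.mk _ : L' ⊗[k] M' →+* Q) = Ψ.toRingHom.comp Φ.toRingHom := by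
    refine RingHom.ext fun x => ?_
    induction x using TensorProduct.induction_on with
    | zero => simp
    | add x y hx hy => simp [hx, hy]
    | tmul a b => ?_
    simp [Ψ, Φ, fL, fM, qL, qM, ← map_mul, Algebra.TensorProduct.tmul_mul_tmul]
  intro x hx
  refine Ideal.Quotient.eq_zero_iff_mem.mp ?_
  rw [hΨ, RingHom.comp_apply, RingHom.mem_ker.mp hx, map_zero]

/-- **Over a separably closed field, tensor products of algebras with irreducible spectra have
irreducible spectra.** -/
theorem nilradical_isPrime_tensor [IsSepClosed k] {A : Type v} {B : Type w} [CommRing A]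
    [CommRing B] [Algebra k A] [Algebra k B] (hA : (nilradical A).IsPrime)
    (hB : (nilradical B).IsPrime) : (nilradical (A ⊗[k] B)).IsPrime := by
  apply nilradical_isPrime_tensor_of_domain
  let FA := FractionRing (A ⧸ nilradical A)
  let FB := FractionRing (B ⧸ nilradical B)
  refine nilradical_isPrime_of_injective
    (Algebra.TensorProduct.map (IsScalarTower.toAlgHom k (A ⧸ nilradical A) FA)
      (IsScalarTower.toAlgHom k (B ⧸ nilradical B) FB)).toRingHom ?_
    (nilradical_isPrime_tensor_fields FA FB)
  exact TensorProduct.map_injective_of_flat_flat (IsScalarTower.toAlgHom k (A ⧸ nilradical A) FA).toLinearMap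
    (IsScalarTower.toAlgHom k (B ⧸ nilradical B) FB).toLinearMap
    (IsFractionRing.injective _ _) (IsFractionRing.injective _ _)

end

end Groth.VarietyBC
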