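/-
Algebraic criteria: geometrically reduced, geometrically irreducible and geometrically connected
algebras over a field.
-/
import Groth.Agent.VarietyBC.TensorNil
import Mathlib.FieldTheory.SeparableClosure
import Mathlib.FieldTheory.IsSepClosed
import Mathlib.FieldTheory.Perfect
import Mathlib.RingTheory.Etale.Field

open TensorProduct

namespace Groth.VarietyBC

universe u v w

variable {k : Type u} [Field k]

/-- A tensor product is reduced as soon as it is after replacing the right factor by the fields
`Frac (B/P)`. -/
theorem isReduced_tensor_of_fields {A : Type v} {B : Type w} [CommRing A] [CommRing B] [Algebra k A]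
    [Algebra k B] [IsReduced B]
    (h : ∀ (F : Type w) [Field F] [Algebra k F], IsReduced (A ⊗[k] F)) : IsReduced (A ⊗[k] B) := by
  refine ⟨fun x hx => ?_⟩
  obtain ⟨⟨ι, b⟩⟩ := Module.Free.exists_basis (R := k) (M := A)
  refine (Algebra.TensorProduct.comm k A B).injective ?_
  rw [map_zero]
  refine (b.baseChange B).ext_elem fun i => ?_
  rw [map_zero, Finsupp.zero_apply]
  have hn : (b.baseChange B).repr (Algebra.TensorProduct.comm k A B x) i ∈ nilradical B := by
    rw [nilradical_eq_sInf]
    refine Submodule.mem_sInf.mpr fun P hP => ?_
    replace hP : Ideal.IsPrime P := hP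
    have := hP
    let F := FractionRing (B ⧸ P)
    let f : B →ₐ[k] F := (IsScalarTower.toAlgHom k (B ⧸ P) F).comp (Ideal.Quotient.mkₐ k P)
    have := h F
    have h0 : Algebra.TensorProduct.map (AlgHom.id k A) f x = 0 := (hx.map _).eq_zero
    have key : ∀ y : A ⊗[k] B, f ((b.baseChange B).repr (Algebra.TensorProduct.comm k A B y) i) =
        (b.baseChange F).repr (Algebra.TensorProduct.comm k A F
          (Algebra.TensorProduct.map (AlgHom.id k A) f y)) i := fun y => by
      induction y using TensorProduct.induction_on with
      | zero => simp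
      | tmul a c => simp
      | add y z hy hz => simp [hy, hz]
    have := key x
    rw [h0, map_zero, map_zero, Finsupp.zero_apply] at this
    exact Ideal.Quotient.eq_zero_iff_mem.mp (IsFractionRing.injective (B ⧸ P) F
      (by rw [map_zero]; exact this))
  exact (mem_nilradical.mp hn).eq_zero

theorem isReduced_tensor_comm {A : Type v} {B : Type w} [CommRing A] [CommRing B] [Algebra k A]
    [Algebra k B] (h : IsReduced (A ⊗[k] B)) : IsReduced (B ⊗[k] A) :=
  isReduced_of_injective (Algebra.TensorProduct.comm k B A) (AlgEquiv.injective _)

/-- **A geometrically reduced algebra stays reduced after tensoring with any reduced algebra.** -/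
theorem isReduced_tensor_of_isGeometricallyReduced {A : Type v} {B : Type w} [CommRing A] [CommRing B]
    [Algebra k A] [Algebra k B] [Algebra.IsGeometricallyReduced k A] [IsReduced B] :
    IsReduced (A ⊗[k] B) := by
  refine isReduced_tensor_of_fields fun F _ _ => isReduced_tensor_comm ?_
  let K := AlgebraicClosure k
  let F' := AlgebraicClosure F
  let i : K →ₐ[k] F' := IsAlgClosed.lift
  let := i.toRingHom.toAlgebra
  have : IsScalarTower k K F' := .of_algebraMap_eq fun x => (i.commutes x).symm
  have := (Algebra.isGeometricallyReduced_field_iff k A).mp ‹_›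
  have : IsReduced (F' ⊗[K] (K ⊗[k] A)) := isReduced_tensor
  have : IsReduced (F' ⊗[k] A) :=
    isReduced_of_injective (Algebra.TensorProduct.cancelBaseChange k K K F' A).symm (AlgEquiv.injective _)
  exact isReduced_of_injective (Algebra.TensorProduct.map (IsScalarTower.toAlgHom k F F') (AlgHom.id k A))
    (Module.Flat.rTensor_preserves_injective_linearMap _ (algebraMap F F').injective)

/-- Reduced algebras over a perfect field are geometrically reduced. -/
theorem isGeometricallyReduced_of_perfectField [PerfectField k] (A : Type v) [CommRing A] [Algebra k A]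
    [IsReduced A] : Algebra.IsGeometricallyReduced k A := by
  rw [Algebra.isGeometricallyReduced_field_iff]
  refine isReduced_tensor_comm (isReduced_tensor_comm (isReduced_tensor_of_fields fun M _ _ => ?_))
  refine isReduced_tensor_comm (IsReduced.tensorProduct_of_flat_of_forall_fg fun D hD => ?_)
  have : Algebra.FiniteType k D := (Subalgebra.fg_iff_finiteType D).mp hD
  have : Algebra.IsIntegral k D :=
    ⟨fun x => (isIntegral_algHom_iff D.val Subtype.val_injective).mp (Algebra.IsIntegral.isIntegral x.1)⟩
  let := (Subalgebra.isField_of_algebraic D).toField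
  have : Module.Finite k D := Algebra.IsIntegral.finite
  have : Algebra.IsAlgebraic k D := Algebra.IsIntegral.isAlgebraic
  have : Algebra.IsSeparable k D := Algebra.IsAlgebraic.isSeparable_of_perfectField
  have : Algebra.FormallyUnramified k D := Algebra.FormallyUnramified.of_isSeparable k D
  have : Algebra.EssFiniteType k D := inferInstance
  exact Algebra.FormallyUnramified.isReduced_of_field M (M ⊗[k] D)


/-- Reducedness after a base change to a perfect extension gives geometric reducedness. -/
theorem isGeometricallyReduced_of_perfect_extension (K : Type w) [Field K] [Algebra k K] [PerfectField K]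
    (A : Type v) [CommRing A] [Algebra k A] [IsReduced (K ⊗[k] A)] :
    Algebra.IsGeometricallyReduced k A := by
  have := isGeometricallyReduced_of_perfectField (k := K) (K ⊗[k] A)
  have := (Algebra.isGeometricallyReduced_field_iff K (K ⊗[k] A)).mp this
  have : IsReduced (AlgebraicClosure K ⊗[k] A) :=
    isReduced_of_injective (Algebra.TensorProduct.cancelBaseChange k K K (AlgebraicClosure K) A).symm
      (AlgEquiv.injective _)
  rw [Algebra.isGeometricallyReduced_field_iff]
  let i : AlgebraicClosure k →ₐ[k] AlgebraicClosure K := IsAlgClosed.lift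
  exact isReduced_of_injective (Algebra.TensorProduct.map i (AlgHom.id k A))
    (Module.Flat.rTensor_preserves_injective_linearMap _ i.toRingHom.injective)

theorem nilradical_isPrime_purelyInseparable (F : Type v) [Field F] [Algebra k F]
    [IsPurelyInseparable k F] (E : Type w) [Field E] [Algebra k E] :
    (nilradical (F ⊗[k] E)).IsPrime := by
  have h := PrimeSpectrum.isHomeomorph_comap_of_isPurelyInseparable k F E
  have : Subsingleton (PrimeSpectrum (E ⊗[k] F)) := h.injective.subsingleton
  have : Nonempty (PrimeSpectrum (E ⊗[k] F)) := (Equiv.ofBijective _ h.bijective).nonempty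
  have : IrreducibleSpace (PrimeSpectrum (E ⊗[k] F)) := ⟨inferInstance⟩
  exact nilradical_isPrime_of_injective (Algebra.TensorProduct.comm k F E).toRingHom
    (AlgEquiv.injective _) (PrimeSpectrum.irreducibleSpace_iff_isPrime_nilradical.mp this)

theorem nilradical_isPrime_tensor_of_ker {A₀ : Type*} {F : Type*} [CommRing A₀] [CommRing F]
    [Algebra k A₀] [Algebra k F] [IsReduced F] (ψ : A₀ →ₐ[k] F)
    (hker : RingHom.ker ψ.toRingHom ≤ nilradical A₀) (E : Type w) [Field E] [Algebra k E]
    (hF : (nilradical (F ⊗[k] E)).IsPrime) : (nilradical (A₀ ⊗[k] E)).IsPrime := by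
  let χ : (A₀ ⧸ nilradical A₀) →ₐ[k] F :=
    Ideal.Quotient.liftₐ _ ψ fun a ha => ((mem_nilradical.mp ha).map ψ).eq_zero
  have hχ : Function.Injective χ := by
    rw [injective_iff_map_eq_zero]
    intro a ha
    obtain ⟨a, rfl⟩ := Ideal.Quotient.mk_surjective a
    exact Ideal.Quotient.eq_zero_iff_mem.mpr (hker (RingHom.mem_ker.mpr ha))
  refine nilradical_isPrime_of_ker_le
    (Algebra.TensorProduct.map (Ideal.Quotient.mkₐ k (nilradical A₀))
      (Ideal.Quotient.mkₐ k (⊥ : Ideal E))).toRingHom
    (ker_quotient_map_le _ _ le_rfl bot_le) ?_
  exact nilradical_isPrime_of_injective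
    (Algebra.TensorProduct.map χ (AlgEquiv.quotientBot k E).toAlgHom).toRingHom
    (TensorProduct.map_injective_of_flat_flat χ.toLinearMap
      (AlgEquiv.quotientBot k E).toAlgHom.toLinearMap hχ (AlgEquiv.quotientBot k E).injective) hF

section Irreducible

variable {L : Type v} [Field L] [Algebra k L]

theorem isPurelyInseparable_integralClosure
    (hL : ∀ x : L, IsSeparable k x → x ∈ Set.range (algebraMap k L)) (F : IntermediateField k L)
    [Algebra.IsAlgebraic k F] : IsPurelyInseparable k F := by
  refine isPurelyInseparable_iff.mpr fun x => ⟨Algebra.IsIntegral.isIntegral x, fun hx => ?_⟩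
  obtain ⟨c, hc⟩ := hL x.1 (by
    unfold IsSeparable at hx ⊢
    rwa [← minpoly.algebraMap_eq (algebraMap F L).injective x] at hx)
  exact ⟨c, Subtype.ext hc⟩

/-- If `A` has no nontrivial idempotents and maps to a field in which `k` is separably closed, then
`A ⊗ E` has no nontrivial idempotents for finite separable `E`. -/
theorem idemTrivial_tensor_of_finite_separable {A : Type w} [CommRing A] [Algebra k A]
    (hA : IdemTrivial A) (φ : A →ₐ[k] L)
    (hL : ∀ x : L, IsSeparable k x → x ∈ Set.range (algebraMap k L))
    (E : Type u) [Field E] [Algebra k E] [FiniteDimensional k E] [Algebra.IsSeparable k E] :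
    IdemTrivial (A ⊗[k] E) := by
  let A₀ := integralClosure k A
  suffices h : (nilradical (A₀ ⊗[k] E)).IsPrime by
    intro e he
    obtain ⟨e₀, rfl⟩ := mem_range_integralClosure_tensor (e := e)
      ⟨Polynomial.X ^ 2 - Polynomial.X, Polynomial.monic_X_pow_sub (by simp), by
        simp [sq, he.eq]⟩
    have hinj : Function.Injective (Algebra.TensorProduct.map A₀.val (AlgHom.id k E)) :=
      Module.Flat.rTensor_preserves_injective_linearMap _ Subtype.val_injective
    have he₀ : IsIdempotentElem e₀ := hinj (by
      change _ = (Algebra.TensorProduct.map A₀.val (AlgHom.id k E)).toRingHom e₀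
      rw [map_mul]; exact he)
    rcases IdemTrivial.of_nilradical_isPrime h e₀ he₀ with rfl | rfl
    · exact .inl (map_zero _)
    · exact .inr (map_one _)
  have : Nontrivial A := φ.toRingHom.domain_nontrivial
  have hN : (nilradical A₀).IsPrime := nilradical_isPrime_of_isIntegral (k := k) hA.integralClosure
  -- the residue field of `A₀` is purely inseparable over `k`
  let F' : IntermediateField k L := algebraicClosure k L
  let φ₀ : A₀ →ₐ[k] F' := (φ.comp A₀.val).codRestrict F'.toSubalgebra fun x =>
    mem_algebraicClosure_iff'.mpr (x.2.map φ)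
  have hker : RingHom.ker φ₀.toRingHom ≤ nilradical A₀ := fun x hx => by
    rcases isUnit_or_isNilpotent (k := k) hA.integralClosure (Algebra.IsIntegral.isIntegral x) with h | h
    · exact absurd (hx ▸ h.map φ₀.toRingHom : IsUnit (0 : F')) not_isUnit_zero
    · exact mem_nilradical.mpr h
  have := isPurelyInseparable_integralClosure hL F'
  exact nilradical_isPrime_tensor_of_ker φ₀ hker E (nilradical_isPrime_purelyInseparable F' E)

/-- If `k` is separably closed in the field `L`, then `L ⊗ kˢᵉᵖ` is a field. -/
theorem isField_tensor_sepClosure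
    (hL : ∀ x : L, IsSeparable k x → x ∈ Set.range (algebraMap k L))
    (S : Type u) [Field S] [Algebra k S] [Algebra.IsSeparable k S] : IsField (L ⊗[k] S) := by
  have : Nontrivial (L ⊗[k] S) :=
    (Algebra.TensorProduct.includeLeft_injective (R := k) (S := k) (A := L) (B := S)
      (algebraMap k S).injective).nontrivial
  refine ⟨⟨0, 1, zero_ne_one⟩, mul_comm, fun {x} hx => ?_⟩
  obtain ⟨D, hD, z, rfl⟩ := exists_fg_range (k := k) (A := S) (B := L) x
  have : Algebra.FiniteType k D := (Subalgebra.fg_iff_finiteType D).mp hD
  have : Algebra.IsIntegral k D :=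
    ⟨fun x => (isIntegral_algHom_iff D.val Subtype.val_injective).mp (Algebra.IsIntegral.isIntegral x.1)⟩
  let := (Subalgebra.isField_of_algebraic D).toField
  have : Module.Finite k D := Algebra.IsIntegral.finite
  have : Algebra.IsSeparable k D :=
    Algebra.IsSeparable.of_algHom k S D.val
  have : Algebra.FormallyUnramified k D := Algebra.FormallyUnramified.of_isSeparable k D
  have : IsReduced (L ⊗[k] D) := Algebra.FormallyUnramified.isReduced_of_field L (L ⊗[k] D)
  have : Nontrivial (L ⊗[k] D) :=
    (Algebra.TensorProduct.includeLeft_injective (R := k) (S := k) (A := L) (B := D)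
      (algebraMap k D).injective).nontrivial
  have hI : IdemTrivial (L ⊗[k] D) := idemTrivial_tensor_of_finite_separable
    (IdemTrivial.of_nilradical_isPrime (nilradical_isPrime_of_isDomain L)) (AlgHom.id k L) hL D
  have hz : z ≠ 0 := fun h => hx (by rw [h, map_zero])
  obtain ⟨w, hw⟩ := ((isField_of_isIntegral (k := L) hI)).mul_inv_cancel hz
  exact ⟨_, by rw [← map_mul, hw, map_one]⟩

theorem nilradical_isPrime_aux (S : Type u) (K' : Type w) [Field S] [IsSepClosed S] [Field K']
    [Algebra k S] [Algebra k K'] [Algebra S K'] [IsScalarTower k S K'] [IsDomain (L ⊗[k] S)] :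
    (nilradical (K' ⊗[k] L)).IsPrime := by
  have hp : (nilradical (K' ⊗[S] (S ⊗[k] L))).IsPrime :=
    nilradical_isPrime_tensor (nilradical_isPrime_of_isDomain K')
      (nilradical_isPrime_of_injective (Algebra.TensorProduct.comm k S L).toRingHom
        (AlgEquiv.injective _) (nilradical_isPrime_of_isDomain _))
  exact nilradical_isPrime_of_injective
    (Algebra.TensorProduct.cancelBaseChange k S S K' L).symm.toRingHom (AlgEquiv.injective _) hp

/-- **If `k` is separably closed in `L`, then `L` is geometrically irreducible over `k`.** -/
theorem nilradical_isPrime_tensor_of_sepClosedIn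
    (hL : ∀ x : L, IsSeparable k x → x ∈ Set.range (algebraMap k L)) (K : Type w) [Field K]
    [Algebra k K] : (nilradical (L ⊗[k] K)).IsPrime := by
  let S := SeparableClosure k
  let K' := AlgebraicClosure K
  let i : S →ₐ[k] K' := IsAlgClosed.lift
  let := i.toRingHom.toAlgebra
  have : IsScalarTower k S K' := .of_algebraMap_eq fun x => (i.commutes x).symm
  have : IsDomain (L ⊗[k] S) := (isField_tensor_sepClosure hL S).isDomain
  have hp' : (nilradical (K' ⊗[k] L)).IsPrime := nilradical_isPrime_aux S K'
  refine nilradical_isPrime_of_injective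
    ((Algebra.TensorProduct.comm k L K').toAlgHom.comp
      (Algebra.TensorProduct.map (AlgHom.id k L) (IsScalarTower.toAlgHom k K K'))).toRingHom ?_ hp'
  exact (Algebra.TensorProduct.comm k L K').injective.comp
    (Module.Flat.lTensor_preserves_injective_linearMap (IsScalarTower.toAlgHom k K K').toLinearMap
      (algebraMap K K').injective)

theorem finrank_eq_one_of_nilradical_isPrime (E : Type w) [Field E] [Algebra k E]
    [FiniteDimensional k E] [Algebra.IsSeparable k E] (hp : (nilradical (E ⊗[k] E)).IsPrime) :
    Module.finrank k E = 1 := by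
  have : Algebra.FormallyUnramified k E := Algebra.FormallyUnramified.of_isSeparable k E
  have : IsReduced (E ⊗[k] E) := Algebra.FormallyUnramified.isReduced_of_field E (E ⊗[k] E)
  rw [nilradical_eq_zero] at hp
  have : IsDomain (E ⊗[k] E) := have := hp; IsDomain.of_bot_isPrime _
  have hfield := isField_of_isIntegral (k := E) (A := E ⊗[k] E)
    (IdemTrivial.of_nilradical_isPrime (nilradical_isPrime_of_isDomain _))
  let μ : E ⊗[k] E →ₐ[k] E := Algebra.TensorProduct.lmul' k (S := E)
  have hm : Function.Injective μ.toLinearMap := (injective_iff_map_eq_zero μ).mpr fun y hy => by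
    by_contra hy0
    obtain ⟨w, hw⟩ := hfield.mul_inv_cancel hy0
    have := congrArg μ hw
    rw [map_mul, hy, zero_mul, map_one] at this
    exact zero_ne_one this
  have h1 := LinearMap.finrank_le_finrank_of_injective hm
  rw [Module.finrank_tensorProduct] at h1
  have hpos : 0 < Module.finrank k E := Module.finrank_pos
  nlinarith

/-- If `L ⊗ L₁` has prime nilradical for the subextension generated by a separable element, that
element lies in the base field. -/
theorem mem_range_of_nilradical_isPrime_tensor (x : L) (hx : IsSeparable k x)
    (h : (nilradical (L ⊗[k] IntermediateField.adjoin k {x})).IsPrime) :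
    x ∈ Set.range (algebraMap k L) := by
  have : FiniteDimensional k (IntermediateField.adjoin k {x}) :=
    IntermediateField.adjoin.finiteDimensional hx.isIntegral
  have : Algebra.IsSeparable k (IntermediateField.adjoin k {x}) :=
    (IntermediateField.isSeparable_adjoin_simple_iff_isSeparable (F := k) (E := L)).mpr hx
  have := finrank_eq_one_of_nilradical_isPrime (IntermediateField.adjoin k {x})
    (nilradical_isPrime_of_injective
      (Algebra.TensorProduct.map (IntermediateField.adjoin k {x}).val
        (AlgHom.id k (IntermediateField.adjoin k {x}))).toRingHom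
      (Module.Flat.rTensor_preserves_injective_linearMap _ Subtype.val_injective) h)
  exact IntermediateField.mem_bot.mp
    (IntermediateField.finrank_eq_one_iff.mp this ▸ IntermediateField.mem_adjoin_simple_self k x)

theorem sepClosedIn_of_nilradical_isPrime (S : Type u) [Field S] [Algebra k S]
    (hS : ∀ (E : Type v) [Field E] [Algebra k E] [FiniteDimensional k E] [Algebra.IsSeparable k E],
      Nonempty (E →ₐ[k] S))
    (h : (nilradical (L ⊗[k] S)).IsPrime) :
    ∀ x : L, IsSeparable k x → x ∈ Set.range (algebraMap k L) := by
  intro a ha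
  let E := IntermediateField.adjoin k {a}
  have : FiniteDimensional k E := IntermediateField.adjoin.finiteDimensional ha.isIntegral
  have : Algebra.IsSeparable k E :=
    (IntermediateField.isSeparable_adjoin_simple_iff_isSeparable (F := k) (E := L)).mpr ha
  obtain ⟨i⟩ := hS E
  exact mem_range_of_nilradical_isPrime_tensor a ha (nilradical_isPrime_of_injective
    (Algebra.TensorProduct.map (AlgHom.id k L) i).toRingHom
    (Module.Flat.lTensor_preserves_injective_linearMap i.toLinearMap i.toRingHom.injective) h)

theorem sepClosedIn_self_of_nilradical_isPrime (h : (nilradical (L ⊗[k] L)).IsPrime) :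
    ∀ x : L, IsSeparable k x → x ∈ Set.range (algebraMap k L) := fun a ha =>
  mem_range_of_nilradical_isPrime_tensor a ha (nilradical_isPrime_of_injective
    (Algebra.TensorProduct.map (AlgHom.id k L) (IntermediateField.adjoin k {a}).val).toRingHom
    (Module.Flat.lTensor_preserves_injective_linearMap _ Subtype.val_injective) h)

end Irreducible

end Groth.VarietyBC
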