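/-
Fibres and stalks of `X_K → X`; geometric irreducibility over a field.
-/
import Groth.Agent.VarietyBC.BC
import Groth.Agent.VarietyBC.TensorGeom
import Mathlib.AlgebraicGeometry.Geometrically.Irreducible
import Mathlib.AlgebraicGeometry.Geometrically.Reduced

open CategoryTheory CategoryTheory.Limits AlgebraicGeometry TensorProduct

universe u

set_option backward.isDefEq.respectTransparency false

namespace Groth.VarietyBC

variable {k : Type u} [Field k] {X : Scheme.{u}} [X.Over (Spec (CommRingCat.of k))]

attribute [local instance] Curv2.stalkAlgebra Curv2.resAlgebra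

/-- `k` is separably closed in the residue field at `x`. -/
def SepClosedAt (k : Type u) [Field k] (X : Scheme.{u}) [X.Over (Spec (CommRingCat.of k))] (x : X) : Prop :=
  letI := Curv2.resAlgebra k X x
  ∀ a : X.residueField x, IsSeparable k a → a ∈ Set.range (algebraMap k (X.residueField x))

theorem overSpec_residueField (x : X) :
    OverSpec (k := k) (X.residueField x) (X.fromSpecResidueField x) :=
  ⟨fromSpecResidueField_str x⟩

theorem overSpec_stalk (x : X) : OverSpec (k := k) (X.presheaf.stalk x) (X.fromSpecStalk x) :=
  ⟨fromSpecStalk_str x⟩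

variable (K : Type u) [Field K] [Algebra k K]

/-- The fibre of `X_K → X` over `x`, as a map from `Spec (κ(x) ⊗ K)`. -/
noncomputable def fibreMap (x : X) :
    Spec (CommRingCat.of (X.residueField x ⊗[k] K)) ⟶ Curv2.bc k X K :=
  tensorTo K (overSpec_residueField x)

theorem range_fibreMap (x : X) :
    Set.range (fibreMap K x) = (Curv2.bcFst k X K) ⁻¹' ({x} : Set X) := by
  rw [fibreMap, range_tensorTo]
  exact congrArg _ (X.range_fromSpecResidueField x)

theorem isEmbedding_fibreMap (x : X) : Topology.IsEmbedding (fibreMap (k := k) K x) :=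
  have : IsPreimmersion (fibreMap (k := k) K x) :=
    isPreimmersion_tensorTo K (overSpec_residueField (k := k) x)
  (fibreMap K x).isEmbedding

theorem isOpenMap_bcFst : IsOpenMap (Curv2.bcFst k X K) := (Curv2.bcFst k X K).isOpenMap

theorem surjective_bcFst : Function.Surjective (Curv2.bcFst k X K) :=
  (Curv2.bcFst k X K).surjective

theorem isIrreducible_preimage_iff (x : X) :
    IsIrreducible ((Curv2.bcFst k X K) ⁻¹' ({x} : Set X)) ↔
      (nilradical (X.residueField x ⊗[k] K)).IsPrime := by
  rw [← range_fibreMap, isIrreducible_iff_irreducibleSpace,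
    ← PrimeSpectrum.irreducibleSpace_iff_isPrime_nilradical]
  exact (isEmbedding_fibreMap K x).toHomeomorph.irreducibleSpace_iff.symm

theorem isIrreducible_preimage_of_sepClosedAt {x : X} (h : SepClosedAt k X x) :
    IsIrreducible ((Curv2.bcFst k X K) ⁻¹' ({x} : Set X)) :=
  (isIrreducible_preimage_iff K x).mpr (nilradical_isPrime_tensor_of_sepClosedIn h K)

theorem irreducibleSpace_bc_of_fibre [IrreducibleSpace X]
    (h : IsIrreducible ((Curv2.bcFst k X K) ⁻¹' ({genericPoint X} : Set X))) :
    IrreducibleSpace (Curv2.bc k X K) := by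
  have := h.closure
  rw [← (isOpenMap_bcFst K).preimage_closure_eq_closure_preimage (Curv2.bcFst k X K).continuous,
    genericPoint_closure, Set.preimage_univ] at this
  exact (irreducibleSpace_def _).mpr this

theorem irreducibleSpace_of_bc [IrreducibleSpace (Curv2.bc k X K)] : IrreducibleSpace X := by
  rw [irreducibleSpace_def, Set.top_eq_univ, ← (surjective_bcFst (k := k) (X := X) K).range_eq, ← Set.image_univ]
  exact ((irreducibleSpace_def _).mp inferInstance).image _ (Curv2.bcFst k X K).continuous.continuousOn

theorem bcFst_genericPoint [IrreducibleSpace (Curv2.bc k X K)] [IrreducibleSpace X] :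
    Curv2.bcFst k X K (genericPoint (Curv2.bc k X K)) = genericPoint X := by
  refine IsGenericPoint.eq ?_ (genericPoint_spec X)
  have := (genericPoint_spec (Curv2.bc k X K)).image (Curv2.bcFst k X K).continuous
  rwa [Set.image_univ, (surjective_bcFst (k := k) (X := X) K).range_eq, closure_univ] at this

theorem isIrreducible_fibre_of_bc [IrreducibleSpace (Curv2.bc k X K)] [IrreducibleSpace X] :
    IsIrreducible ((Curv2.bcFst k X K) ⁻¹' ({genericPoint X} : Set X)) := by
  have hmem : genericPoint (Curv2.bc k X K) ∈ (Curv2.bcFst k X K) ⁻¹' ({genericPoint X} : Set X) :=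
    bcFst_genericPoint K
  refine ⟨⟨_, hmem⟩, isPreirreducible_iff_closure.mp ?_⟩
  have : closure ((Curv2.bcFst k X K) ⁻¹' ({genericPoint X} : Set X)) = Set.univ :=
    Set.univ_subset_iff.mp ((genericPoint_closure (α := Curv2.bc k X K)).ge.trans
      (closure_mono (Set.singleton_subset_iff.mpr hmem)))
  rw [this]
  exact PreirreducibleSpace.isPreirreducible_univ

theorem geometricallyIrreducible_iff_forall :
    GeometricallyIrreducible (X ↘ (Spec (CommRingCat.of k))) ↔
      ∀ (K : Type u) [Field K] [Algebra k K], IrreducibleSpace (Curv2.bc k X K) := by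
  rw [GeometricallyIrreducible.eq_geometrically,
    geometrically_iff_of_commRing_of_isClosedUnderIsomorphisms]

theorem geometricallyIrreducible_of_sepClosedAt [IrreducibleSpace X]
    (h : SepClosedAt k X (genericPoint X)) :
    GeometricallyIrreducible (X ↘ (Spec (CommRingCat.of k))) :=
  geometricallyIrreducible_iff_forall.mpr fun K _ _ =>
    irreducibleSpace_bc_of_fibre K (isIrreducible_preimage_of_sepClosedAt K h)

/-- An element of `κ(ξ)` separable over `k` lies in `k` if `X_{k(a)}` is irreducible. -/
theorem mem_range_of_irreducibleSpace_bc [IrreducibleSpace X] (a : X.residueField (genericPoint X))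
    (ha : IsSeparable k a) (h : IrreducibleSpace (Curv2.bc k X (IntermediateField.adjoin k {a}))) :
    a ∈ Set.range (algebraMap k (X.residueField (genericPoint X))) :=
  mem_range_of_nilradical_isPrime_tensor a ha
    ((isIrreducible_preimage_iff _ _).mp (isIrreducible_fibre_of_bc _))

/-- If `X_S` is irreducible for a field `S` receiving all finite separable extensions of `k`, then
`k` is separably closed in the function field. -/
theorem sepClosedAt_genericPoint_of_bc (S : Type u) [Field S] [Algebra k S]
    (hS : ∀ (E : Type u) [Field E] [Algebra k E] [FiniteDimensional k E] [Algebra.IsSeparable k E],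
      Nonempty (E →ₐ[k] S))
    [IrreducibleSpace X] [IrreducibleSpace (Curv2.bc k X S)] :
    SepClosedAt k X (genericPoint X) :=
  sepClosedIn_of_nilradical_isPrime S (fun E => hS E)
    ((isIrreducible_preimage_iff S (genericPoint X)).mp (isIrreducible_fibre_of_bc S))

theorem nonempty_algHom_of_isSepClosed (S : Type u) [Field S] [Algebra k S] [IsSepClosed S]
    (E : Type u) [Field E] [Algebra k E] [Algebra.IsSeparable k E] : Nonempty (E →ₐ[k] S) :=
  ⟨IsSepClosed.lift⟩

end Groth.VarietyBC
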