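/-
Towers of field extensions: the transition maps `X_L → X_K` and common extensions at points.
-/
import Groth.Agent.VarietyBC.BC

open CategoryTheory CategoryTheory.Limits AlgebraicGeometry

universe u

namespace Groth.VarietyBC

variable {k : Type u} [Field k] {X : Scheme.{u}} [X.Over (Spec (CommRingCat.of k))]
  {K L : Type u} [Field K] [Algebra k K] [Field L] [Algebra k L]

/-- The transition map `X_L → X_K` of a `k`-embedding `K → L`. -/
noncomputable def bcMap (i : K →ₐ[k] L) : Curv2.bc k X L ⟶ Curv2.bc k X K :=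
  pullback.lift (Curv2.bcFst k X L) (Curv2.bcSnd k X L ≫ Spec.map (CommRingCat.ofHom i.toRingHom)) (by
    rw [Category.assoc, ← Spec.map_comp, ← CommRingCat.ofHom_comp, AlgHom.toRingHom_eq_coe,
      AlgHom.comp_algebraMap]
    exact pullback.condition)

theorem bcMap_fst (i : K →ₐ[k] L) : bcMap (X := X) i ≫ Curv2.bcFst k X K = Curv2.bcFst k X L :=
  pullback.lift_fst ..

theorem bcMap_snd (i : K →ₐ[k] L) :
    bcMap (X := X) i ≫ Curv2.bcSnd k X K = Curv2.bcSnd k X L ≫ Spec.map (CommRingCat.ofHom i.toRingHom) :=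
  pullback.lift_snd ..

theorem isPullback_bcMap (i : K →ₐ[k] L) :
    IsPullback (bcMap (X := X) i) (Curv2.bcSnd k X L) (Curv2.bcSnd k X K)
      (Spec.map (CommRingCat.ofHom i.toRingHom)) := by
  refine IsPullback.of_right ?_ (bcMap_snd i) (IsPullback.of_hasPullback _ _)
  rw [bcMap_fst, ← Spec.map_comp, ← CommRingCat.ofHom_comp, AlgHom.toRingHom_eq_coe,
      AlgHom.comp_algebraMap]
  exact IsPullback.of_hasPullback _ _

theorem flat_bcMap (i : K →ₐ[k] L) : Flat (bcMap (X := X) i) :=
  MorphismProperty.of_isPullback (P := (@Flat : MorphismProperty Scheme.{u})) (isPullback_bcMap i).flip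
    inferInstance

theorem surjective_bcMap (i : K →ₐ[k] L) : Surjective (bcMap (X := X) i) :=
  MorphismProperty.of_isPullback (P := (@Surjective : MorphismProperty Scheme.{u})) (isPullback_bcMap i).flip
    ⟨fun x => ⟨Classical.arbitrary _, Subsingleton.elim _ _⟩⟩

/-- `(X_K)_L = X_L`. -/
noncomputable def towerIso [Algebra K L] [IsScalarTower k K L] :
    @Curv2.bc K _ (Curv2.bc k X K) ⟨Curv2.bcSnd k X K⟩ L _ _ ≅ Curv2.bc k X L :=
  (IsPullback.isoPullback (isPullback_bcMap (X := X) (IsScalarTower.toAlgHom k K L))).symm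

theorem towerIso_hom_bcMap [Algebra K L] [IsScalarTower k K L] :
    (towerIso (k := k) (X := X) (K := K) (L := L)).hom ≫ bcMap (IsScalarTower.toAlgHom k K L) =
      @Curv2.bcFst K _ (Curv2.bc k X K) ⟨Curv2.bcSnd k X K⟩ L _ _ :=
  IsPullback.isoPullback_inv_fst _

theorem towerIso_hom_snd [Algebra K L] [IsScalarTower k K L] :
    (towerIso (k := k) (X := X) (K := K) (L := L)).hom ≫ Curv2.bcSnd k X L =
      @Curv2.bcSnd K _ (Curv2.bc k X K) ⟨Curv2.bcSnd k X K⟩ L _ _ :=
  IsPullback.isoPullback_inv_snd _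

theorem towerIso_hom_fst [Algebra K L] [IsScalarTower k K L] :
    (towerIso (k := k) (X := X) (K := K) (L := L)).hom ≫ Curv2.bcFst k X L =
      @Curv2.bcFst K _ (Curv2.bc k X K) ⟨Curv2.bcSnd k X K⟩ L _ _ ≫ Curv2.bcFst k X K := by
  rw [← towerIso_hom_bcMap (k := k) (X := X) (K := K) (L := L), Category.assoc, bcMap_fst]

/-- Points of `X_K` and `X_L` over one point of `X` come from one point of `X_Ω`. -/
theorem exists_common_extension (y : Curv2.bc k X K) (y' : Curv2.bc k X L)
    (h : Curv2.bcFst k X K y = Curv2.bcFst k X L y') :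
    ∃ (Ω : Type u) (_ : Field Ω) (_ : Algebra k Ω) (i : K →ₐ[k] Ω) (j : L →ₐ[k] Ω)
      (ω : Curv2.bc k X Ω), bcMap i ω = y ∧ bcMap j ω = y' := by
  obtain ⟨z, hz₁, hz₂⟩ := Scheme.Pullback.exists_preimage_pullback y y' h
  let W := pullback (Curv2.bcFst k X K) (Curv2.bcFst k X L)
  let Ω : Type u := W.residueField z
  let s := W.fromSpecResidueField z
  let iK : K →+* Ω := (Spec.preimage (s ≫ pullback.fst _ _ ≫ Curv2.bcSnd k X K)).hom
  let iL : L →+* Ω := (Spec.preimage (s ≫ pullback.snd _ _ ≫ Curv2.bcSnd k X L)).hom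
  have hiK : Spec.map (CommRingCat.ofHom iK) = s ≫ pullback.fst _ _ ≫ Curv2.bcSnd k X K :=
    Spec.map_preimage _
  have hiL : Spec.map (CommRingCat.ofHom iL) = s ≫ pullback.snd _ _ ≫ Curv2.bcSnd k X L :=
    Spec.map_preimage _
  let aΩ : Algebra k Ω := (iK.comp (algebraMap k K)).toAlgebra
  let i : K →ₐ[k] Ω := { iK with commutes' := fun _ => rfl }
  have hj : iL.comp (algebraMap k L) = iK.comp (algebraMap k K) := by
    have e : Spec.map (CommRingCat.ofHom (iL.comp (algebraMap k L))) =
        Spec.map (CommRingCat.ofHom (iK.comp (algebraMap k K))) := by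
      rw [CommRingCat.ofHom_comp, CommRingCat.ofHom_comp, Spec.map_comp, Spec.map_comp, hiK, hiL]
      simp only [Category.assoc]
      have eK : Curv2.bcSnd k X K ≫ Spec.map (CommRingCat.ofHom (algebraMap k K)) =
          Curv2.bcFst k X K ≫ (X ↘ Spec (CommRingCat.of k)) := pullback.condition.symm
      have eL : Curv2.bcSnd k X L ≫ Spec.map (CommRingCat.ofHom (algebraMap k L)) =
          Curv2.bcFst k X L ≫ (X ↘ Spec (CommRingCat.of k)) := pullback.condition.symm
      rw [eK, eL, ← pullback.condition_assoc]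
    exact congrArg CommRingCat.Hom.hom (Spec.map_injective e)
  let j : L →ₐ[k] Ω := { iL with commutes' := fun c => congr($hj c) }
  let g : Spec (CommRingCat.of Ω) ⟶ Curv2.bc k X Ω :=
    pullback.lift (s ≫ pullback.fst _ _ ≫ Curv2.bcFst k X K) (𝟙 _) (by
      rw [Category.id_comp]
      change _ = Spec.map (CommRingCat.ofHom (iK.comp (algebraMap k K)))
      rw [CommRingCat.ofHom_comp, Spec.map_comp, hiK]
      simp only [Category.assoc]
      exact congrArg (fun q => s ≫ pullback.fst _ _ ≫ q) pullback.condition)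
  have h1 : g ≫ bcMap i = s ≫ pullback.fst _ _ := by
    refine pullback.hom_ext ?_ ?_
    · rw [Category.assoc, bcMap_fst, pullback.lift_fst, Category.assoc]
    · rw [Category.assoc, bcMap_snd, pullback.lift_snd_assoc, Category.id_comp, Category.assoc]
      exact hiK
  have h2 : g ≫ bcMap j = s ≫ pullback.snd _ _ := by
    refine pullback.hom_ext ?_ ?_
    · rw [Category.assoc, bcMap_fst, pullback.lift_fst, Category.assoc]
      rw [← pullback.condition]
    · rw [Category.assoc, bcMap_snd, pullback.lift_snd_assoc, Category.id_comp, Category.assoc]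
      exact hiL
  let o : Spec (CommRingCat.of Ω) := IsLocalRing.closedPoint Ω
  refine ⟨Ω, inferInstance, aΩ, i, j, g o, ?_, ?_⟩
  · have := congr($h1 o)
    simp only [Scheme.Hom.comp_apply] at this
    rw [this, ← hz₁]
    exact congrArg _ (Scheme.fromSpecResidueField_apply _ _)
  · have := congr($h2 o)
    simp only [Scheme.Hom.comp_apply] at this
    rw [this, ← hz₂]
    exact congrArg _ (Scheme.fromSpecResidueField_apply _ _)

end Groth.VarietyBC
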