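/-
Stalks of base changes and geometric reducedness at a point.
-/
import Groth.Agent.VarietyBC.Fibre
import Groth.Agent.VarietyBC.Tower
import Mathlib.RingTheory.LocalProperties.Reduced
import Mathlib.AlgebraicGeometry.Properties

open CategoryTheory CategoryTheory.Limits AlgebraicGeometry TensorProduct

universe u

set_option backward.isDefEq.respectTransparency false

namespace Groth.VarietyBC

variable {k : Type u} [Field k] {X : Scheme.{u}} [X.Over (Spec (CommRingCat.of k))]

attribute [local instance] Curv2.stalkAlgebra Curv2.resAlgebra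

section Chart

variable (K : Type u) [Field K] [Algebra k K] {A : Type u} [CommRing A] [Algebra k A]
  {m : Spec (CommRingCat.of A) ⟶ X}

/-- The stalk of `X_K` at a point of a flat chart is a localization of `A ⊗ K`. -/
theorem nonempty_stalkEquiv_tensorTo (hm : OverSpec (k := k) A m) [IsPreimmersion m] [Flat m]
    (P : Spec (CommRingCat.of (A ⊗[k] K))) :
    Nonempty ((Curv2.bc k X K).presheaf.stalk (tensorTo K hm P) ≃+*
      Localization.AtPrime P.asIdeal) := by
  have := isPreimmersion_tensorTo K hm
  have := flat_tensorTo K hm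
  have := isIso_stalkMap_of_flat_preimmersion (tensorTo K hm) P
  exact ⟨(asIso ((tensorTo K hm).stalkMap P) ≪≫ Spec.stalkIso _ P).commRingCatIsoToRingEquiv⟩

end Chart

/-- Stalks of `X_K` at points over generalisations of `x` are localizations of `O_x ⊗ K`. -/
theorem exists_stalkEquiv (K : Type u) [Field K] [Algebra k K] (x : X) (z : Curv2.bc k X K)
    (h : Curv2.bcFst k X K z ⤳ x) :
    ∃ P : PrimeSpectrum (X.presheaf.stalk x ⊗[k] K),
      tensorTo K (overSpec_stalk (k := k) x) P = z ∧
      Nonempty ((Curv2.bc k X K).presheaf.stalk z ≃+* Localization.AtPrime P.asIdeal) := by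
  obtain ⟨P, hP⟩ : z ∈ Set.range (tensorTo K (overSpec_stalk (k := k) x)) := by
    rw [range_tensorTo]
    exact (X.range_fromSpecStalk (x := x)).ge h
  subst hP
  have := flat_fromSpecStalk X x
  have : IsPreimmersion (X.fromSpecStalk x) := inferInstance
  exact ⟨P, rfl, nonempty_stalkEquiv_tensorTo K (overSpec_stalk (k := k) x) P⟩

/-- For algebraic `K`, reducedness of `X_K` at the points over `x` means that `O_x ⊗ K` is reduced. -/
theorem isReduced_tensor_of_stalks (K : Type u) [Field K] [Algebra k K] [Algebra.IsAlgebraic k K]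
    (x : X) (h : ∀ z : Curv2.bc k X K, Curv2.bcFst k X K z = x →
      _root_.IsReduced ((Curv2.bc k X K).presheaf.stalk z)) :
    _root_.IsReduced (X.presheaf.stalk x ⊗[k] K) := by
  refine isReduced_ofLocalizationMaximal _ fun P hP => ?_
  let hm := overSpec_stalk (k := k) x
  let P' : Spec (CommRingCat.of (X.presheaf.stalk x ⊗[k] K)) := ⟨P, hP.isPrime⟩
  have : IsPreimmersion (X.fromSpecStalk x) := inferInstance
  have := flat_fromSpecStalk X x
  obtain ⟨e⟩ := nonempty_stalkEquiv_tensorTo K hm P'
  have hz : Curv2.bcFst k X K (tensorTo K hm P') = x := by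
    rw [tensorTo_fst_apply]
    have hc : Spec.map (CommRingCat.ofHom Algebra.TensorProduct.includeLeftRingHom) P' =
        IsLocalRing.closedPoint (X.presheaf.stalk x) := by
      refine PrimeSpectrum.ext (IsLocalRing.eq_maximalIdeal ?_)
      exact Ideal.isMaximal_comap_of_isIntegral_of_isMaximal
        (R := X.presheaf.stalk x) (S := X.presheaf.stalk x ⊗[k] K) P
    rw [hc]
    exact Scheme.fromSpecStalk_closedPoint
  have := h _ hz
  exact isReduced_of_injective e.symm e.symm.injective

theorem isGeomReducedAt_iff (x : X) :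
    Curv2.IsGeomReducedAt k X x ↔ Algebra.IsGeometricallyReduced k (X.presheaf.stalk x) := by
  refine ⟨fun h => ?_, fun h K _ _ z hz => ?_⟩
  · rw [Algebra.isGeometricallyReduced_field_iff]
    exact isReduced_tensor_comm (isReduced_tensor_of_stalks _ x fun z hz => h _ z hz)
  · obtain ⟨P, -, ⟨e⟩⟩ := exists_stalkEquiv K x z (specializes_of_eq hz)
    have : IsReduced (X.presheaf.stalk x ⊗[k] K) := isReduced_tensor_of_isGeometricallyReduced
    exact isReduced_of_injective e e.injective

theorem geometricallyReduced_iff_forall :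
    GeometricallyReduced (X ↘ (Spec (CommRingCat.of k))) ↔ ∀ x : X, Curv2.IsGeomReducedAt k X x := by
  rw [GeometricallyReduced.eq_geometrically,
    geometrically_iff_of_commRing_of_isClosedUnderIsomorphisms]
  constructor
  · intro h x K _ _ z _
    have := h K
    exact inferInstanceAs (IsReduced ((Curv2.bc k X K).presheaf.stalk z))
  · intro h K _ _
    have : ∀ z, IsReduced ((Curv2.bc k X K).presheaf.stalk z) := fun z => h _ K z rfl
    exact isReduced_of_isReduced_stalk (Curv2.bc k X K)

/-- A flat local homomorphism is injective. -/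
theorem injective_stalkMap_of_flat {Y Z : Scheme.{u}} (g : Y ⟶ Z) [Flat g] (y : Y) :
    Function.Injective (g.stalkMap y).hom := by
  algebraize [(g.stalkMap y).hom]
  have : Module.Flat (Z.presheaf.stalk (g y)) (Y.presheaf.stalk y) := Flat.stalkMap g y
  have : IsLocalHom (algebraMap (Z.presheaf.stalk (g y)) (Y.presheaf.stalk y)) :=
    inferInstanceAs (IsLocalHom (g.stalkMap y).hom)
  have := Module.FaithfullyFlat.of_flat_of_isLocalHom (A := Z.presheaf.stalk (g y)) (B := Y.presheaf.stalk y)
  exact FaithfulSMul.algebraMap_injective (Z.presheaf.stalk (g y)) (Y.presheaf.stalk y)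

theorem isReduced_stalk_of_flat {Y Z : Scheme.{u}} (g : Y ⟶ Z) [Flat g] (y : Y) {z : Z} (h : g y = z)
    [_root_.IsReduced (Y.presheaf.stalk y)] : _root_.IsReduced (Z.presheaf.stalk z) := by
  subst h
  exact isReduced_of_injective (g.stalkMap y).hom (injective_stalkMap_of_flat g y)

/-- The map of stalks along a specialization, as a `k`-algebra map. -/
noncomputable def specializesHom {x y : X} (h : y ⤳ x) :
    X.presheaf.stalk x →ₐ[k] X.presheaf.stalk y :=
  { (X.presheaf.stalkSpecializes h).hom with
    commutes' := fun c => X.presheaf.germ_stalkSpecializes_apply (U := ⊤) trivial h _ }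

/-- The prime of `O_x` of a generalisation pulls back the maximal ideal. -/
theorem comap_maximalIdeal_stalkSpecializes {x y : X} (h : y ⤳ x)
    (p : Spec (X.presheaf.stalk x)) (hp : X.fromSpecStalk x p = y) :
    (IsLocalRing.maximalIdeal (X.presheaf.stalk y)).comap (X.presheaf.stalkSpecializes h).hom =
      p.asIdeal := by
  have hq : Spec.map (X.presheaf.stalkSpecializes h) (IsLocalRing.closedPoint (X.presheaf.stalk y)) = p := by
    refine (X.fromSpecStalk x).isEmbedding.injective ?_
    rw [hp, ← Scheme.Hom.comp_apply, Scheme.SpecMap_stalkSpecializes_fromSpecStalk,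
      Scheme.fromSpecStalk_closedPoint]
  exact congrArg PrimeSpectrum.asIdeal hq

/-- If `O_x` is reduced and `X` is geometrically reduced at the generic points of the components
through `x`, then `O_x ⊗ kbar` is reduced. -/
theorem isReduced_stalk_tensor (x : X) [_root_.IsReduced (X.presheaf.stalk x)]
    (h : ∀ y : X, closure ({y} : Set X) ∈ irreducibleComponents X → Curv2.IsGeomReducedAt k X y) :
    _root_.IsReduced (X.presheaf.stalk x ⊗[k] AlgebraicClosure k) := by
  let A := X.presheaf.stalk x
  let K := AlgebraicClosure k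
  refine ⟨fun w hw => ?_⟩
  obtain ⟨⟨ι, b⟩⟩ := Module.Free.exists_basis (R := k) (M := K)
  refine (b.baseChange A).ext_elem fun i => ?_
  rw [map_zero, Finsupp.zero_apply]
  by_contra hc
  have hn : (b.baseChange A).repr w i ∉ nilradical A := fun hn => hc (mem_nilradical.mp hn).eq_zero
  rw [nilradical, Ideal.zero_eq_bot, ← Ideal.sInf_minimalPrimes, Submodule.mem_sInf] at hn
  push Not at hn
  obtain ⟨p, hp, hcp⟩ := hn
  let P : Spec (X.presheaf.stalk x) := ⟨p, hp.1.1⟩
  let y := X.fromSpecStalk x P
  have hyx : y ⤳ x := (X.range_fromSpecStalk (x := x)).le ⟨P, rfl⟩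
  have hy : closure ({y} : Set X) ∈ irreducibleComponents X := by
    let Z := irreducibleComponent y
    have hZ : IsGenericPoint isIrreducible_irreducibleComponent.genericPoint Z :=
      isIrreducible_irreducibleComponent.isGenericPoint_genericPoint isClosed_irreducibleComponent
    have hη : isIrreducible_irreducibleComponent.genericPoint (S := Z) ⤳ y :=
      hZ.specializes mem_irreducibleComponent
    obtain ⟨Q, hQ⟩ := (X.range_fromSpecStalk (x := x)).ge (hη.trans hyx)
    have hQP : Q ⤳ P := (X.fromSpecStalk x).isEmbedding.isInducing.specializes_iff.mp (hQ ▸ hη)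
    have : Q = P := PrimeSpectrum.ext (le_antisymm ((PrimeSpectrum.le_iff_specializes _ _).mpr hQP)
      (hp.2 ⟨Q.isPrime, bot_le⟩ ((PrimeSpectrum.le_iff_specializes _ _).mpr hQP)))
    subst this
    have : closure ({y} : Set X) = Z := by rw [← hZ.def, ← hQ]
    exact this ▸ irreducibleComponent_mem_irreducibleComponents y
  have hgr := (isGeomReducedAt_iff y).mp (h y hy)
  have : _root_.IsReduced (X.presheaf.stalk y ⊗[k] K) :=
    isReduced_tensor_comm ((Algebra.isGeometricallyReduced_field_iff _ _).mp hgr)
  let φ := specializesHom (k := k) hyx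
  have key : ∀ v : A ⊗[k] K, φ ((b.baseChange A).repr v i) =
      (b.baseChange (X.presheaf.stalk y)).repr (Algebra.TensorProduct.map φ (AlgHom.id k K) v) i := by
    intro v
    induction v using TensorProduct.induction_on with
    | zero => simp
    | tmul a c => simp
    | add v v' hv hv' => simp [hv, hv']
  refine hcp ?_
  have h0 := key w
  rw [(hw.map (Algebra.TensorProduct.map φ (AlgHom.id k K))).eq_zero, map_zero, Finsupp.zero_apply] at h0
  change _ ∈ P.asIdeal
  rw [← comap_maximalIdeal_stalkSpecializes hyx P rfl, Ideal.mem_comap]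
  exact h0 ▸ zero_mem (IsLocalRing.maximalIdeal (X.presheaf.stalk y))

/-- A product chart: at points of `X ×ₖ Y` over `x`, stalks are localizations of `O_x ⊗ B`. -/
theorem isReduced_stalk_prod {Y : Scheme.{u}} [Y.Over (Spec (CommRingCat.of k))] [IsReduced Y] (x : X)
    (hx : Curv2.IsGeomReducedAt k X x)
    (z : ↑(pullback (X ↘ (Spec (CommRingCat.of k))) (Y ↘ (Spec (CommRingCat.of k)))))
    (hz : pullback.fst (X ↘ (Spec (CommRingCat.of k))) (Y ↘ (Spec (CommRingCat.of k))) z = x) :
    _root_.IsReduced ((pullback (X ↘ (Spec (CommRingCat.of k))) (Y ↘ (Spec (CommRingCat.of k)))).presheaf.stalk z) := by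
  let y := pullback.snd (X ↘ (Spec (CommRingCat.of k))) (Y ↘ (Spec (CommRingCat.of k))) z
  let m : Spec (CommRingCat.of (X.presheaf.stalk x ⊗[k] Y.presheaf.stalk y)) ⟶
      pullback (X ↘ (Spec (CommRingCat.of k))) (Y ↘ (Spec (CommRingCat.of k))) :=
    (pullbackSpecIso k (X.presheaf.stalk x) (Y.presheaf.stalk y)).inv ≫
      pullback.map _ _ _ _ (X.fromSpecStalk x) (Y.fromSpecStalk y) (𝟙 _)
        (by rw [Category.comp_id, fromSpecStalk_str]; rfl) (by rw [Category.comp_id, fromSpecStalk_str]; rfl)
  have := flat_fromSpecStalk X x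
  have := flat_fromSpecStalk Y y
  have hP : ∀ (P : MorphismProperty Scheme.{u}) [P.IsStableUnderBaseChange] [P.IsMultiplicative],
      P (X.fromSpecStalk x) → P (Y.fromSpecStalk y) → P m := fun P _ _ h₁ h₂ => by
    have : P.RespectsIso := MorphismProperty.IsStableUnderBaseChange.respectsIso
    rw [MorphismProperty.cancel_left_of_respectsIso P]
    exact P.pullbackMap h₁ h₂ (fromSpecStalk_str x).symm (fromSpecStalk_str y).symm
  have : IsPreimmersion m := hP (@IsPreimmersion : MorphismProperty Scheme.{u}) inferInstance inferInstance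
  have : Flat m := hP (@Flat : MorphismProperty Scheme.{u}) inferInstance inferInstance
  obtain ⟨P, hP'⟩ : z ∈ Set.range m := by
    rw [Scheme.Hom.comp_base, TopCat.coe_comp, (Scheme.Hom.surjective _).range_comp,
      Scheme.Pullback.range_map]
    exact ⟨(X.range_fromSpecStalk (x := x)).ge (specializes_of_eq hz),
      (Y.range_fromSpecStalk (x := y)).ge (specializes_refl _)⟩
  rw [← hP']
  have := isIso_stalkMap_of_flat_preimmersion m P
  have := (isGeomReducedAt_iff x).mp hx
  have : _root_.IsReduced (X.presheaf.stalk x ⊗[k] Y.presheaf.stalk y) :=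
    isReduced_tensor_of_isGeometricallyReduced
  let e := (asIso (m.stalkMap P) ≪≫ Spec.stalkIso _ P).commRingCatIsoToRingEquiv
  exact isReduced_of_injective e e.injective

end Groth.VarietyBC
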