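import Groth.Agent.VarietyBC.BC
import Groth.Agent.Calg4.SmoothRegularField
import Mathlib.AlgebraicGeometry.Morphisms.Smooth
import Mathlib.AlgebraicGeometry.Morphisms.FiniteType
import Mathlib.RingTheory.Smooth.Locus

/-!
# Affine charts of `k`-schemes: smooth locus, residue fields
-/

set_option autoImplicit false
universe u

open CategoryTheory AlgebraicGeometry

namespace Groth.VarietyBC

variable {k : Type u} [Field k] {X : Scheme.{u}} [X.Over (Spec (CommRingCat.of k))]

theorem openMap_eq {U : X.Opens} (hU : IsAffineOpen U) :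
    CommRingCat.ofHom (openMap (k := k) hU) = (Scheme.ΓSpecIso (CommRingCat.of k)).inv ≫
      (X ↘ Spec (CommRingCat.of k)).appLE ⊤ U (by simp) := by
  apply Spec.map_injective
  have h := IsAffineOpen.SpecMap_appLE_fromSpec (X ↘ Spec (CommRingCat.of k))
    (isAffineOpen_top _) hU (by simp)
  rw [IsAffineOpen.fromSpec_top, Scheme.isoSpec_Spec_inv] at h
  rw [← fromSpec_str hU, ← h, Spec.map_comp]

theorem germ_openMap {U : X.Opens} (hU : IsAffineOpen U) {x : X} (hx : x ∈ U) :
    (X.presheaf.germ U x hx).hom.comp (openMap (k := k) hU) = Curv2.stalkMap k X x := by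
  have h1 := congrArg CommRingCat.Hom.hom (openMap_eq (k := k) hU)
  rw [CommRingCat.hom_ofHom, CommRingCat.hom_comp] at h1
  have key : (X ↘ Spec (CommRingCat.of k)).appLE ⊤ U (by simp) ≫ X.presheaf.germ U x hx =
      (X ↘ Spec (CommRingCat.of k)).appTop ≫ X.presheaf.germ ⊤ x trivial := by
    simp only [Scheme.Hom.appLE, Category.assoc]
    erw [X.presheaf.germ_res]
    rfl
  rw [h1, ← RingHom.comp_assoc, ← CommRingCat.hom_comp, key]
  rfl

theorem finiteType_openMap [LocallyOfFiniteType (X ↘ (Spec (CommRingCat.of k)))] {U : X.Opens}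
    (hU : IsAffineOpen U) :
    letI := (openMap (k := k) hU).toAlgebra
    Algebra.FiniteType k Γ(X, U) := by
  have h : IsOpenImmersion hU.fromSpec := hU.isOpenImmersion_fromSpec
  have h' : LocallyOfFiniteType (hU.fromSpec ≫ (X ↘ (Spec (CommRingCat.of k)))) := inferInstance
  rw [fromSpec_str] at h'
  exact (HasRingHomProperty.Spec_iff (P := @LocallyOfFiniteType)).1 h'

/-- A point lies in the smooth locus iff the algebra of a chart is smooth at the prime. -/
theorem mem_smoothLocus_iff [LocallyOfFinitePresentation (X ↘ (Spec (CommRingCat.of k)))]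
    {U : X.Opens} (hU : IsAffineOpen U) {x : X} (hx : x ∈ U) :
    letI := (openMap (k := k) hU).toAlgebra
    x ∈ (X ↘ (Spec (CommRingCat.of k))).smoothLocus ↔
      Algebra.IsSmoothAt k (hU.primeIdealOf ⟨x, hx⟩).asIdeal := by
  letI := (openMap (k := k) hU).toAlgebra
  rw [Scheme.Hom.mem_smoothLocus, formallySmooth_stalkMap_iff ⊤ (isAffineOpen_top _) U hU (by simp) hx]
  let A₀ := Γ(Spec (CommRingCat.of k), ⊤)
  letI : Algebra k A₀ := (Scheme.ΓSpecIso (CommRingCat.of k)).inv.hom.toAlgebra
  letI := ((X ↘ (Spec (CommRingCat.of k))).appLE ⊤ U (by simp)).hom.toAlgebra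
  haveI : IsScalarTower k A₀ Γ(X, U) := IsScalarTower.of_algebraMap_eq' (by
    have h1 := congrArg CommRingCat.Hom.hom (openMap_eq (k := k) hU)
    rw [CommRingCat.hom_ofHom, CommRingCat.hom_comp] at h1
    exact h1)
  haveI : Algebra.FormallyEtale k A₀ :=
    Algebra.FormallyEtale.of_equiv (AlgEquiv.ofRingEquiv
      (f := (Scheme.ΓSpecIso (CommRingCat.of k)).commRingCatIsoToRingEquiv.symm) fun _ => rfl)
  exact (Algebra.FormallySmooth.iff_restrictScalars (R := k) (A := A₀)).symm

/-- The local ring of a chart. -/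
theorem nonempty_stalkAlgEquiv {U : X.Opens} (hU : IsAffineOpen U) {x : X} (hx : x ∈ U) :
    letI := (openMap (k := k) hU).toAlgebra
    letI := Curv2.stalkAlgebra k X x
    Nonempty (Localization.AtPrime (hU.primeIdealOf ⟨x, hx⟩).asIdeal ≃ₐ[k] X.presheaf.stalk x) := by
  letI := (openMap (k := k) hU).toAlgebra
  letI := Curv2.stalkAlgebra k X x
  letI := TopCat.Presheaf.algebra_section_stalk X.presheaf (⟨x, hx⟩ : U)
  haveI : IsLocalization.AtPrime (X.presheaf.stalk x) (hU.primeIdealOf ⟨x, hx⟩).asIdeal :=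
    hU.isLocalization_stalk ⟨x, hx⟩
  haveI : IsScalarTower k Γ(X, U) (X.presheaf.stalk x) :=
    IsScalarTower.of_algebraMap_eq' (germ_openMap hU hx).symm
  exact ⟨(IsLocalization.algEquiv (hU.primeIdealOf ⟨x, hx⟩).asIdeal.primeCompl
    (Localization.AtPrime (hU.primeIdealOf ⟨x, hx⟩).asIdeal) (X.presheaf.stalk x)).restrictScalars k⟩

theorem isRegularLocalRing_stalk_iff {U : X.Opens} (hU : IsAffineOpen U) {x : X} (hx : x ∈ U) :
    IsRegularLocalRing (Localization.AtPrime (hU.primeIdealOf ⟨x, hx⟩).asIdeal) ↔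
      IsRegularLocalRing (X.presheaf.stalk x) := by
  letI := TopCat.Presheaf.algebra_section_stalk X.presheaf (⟨x, hx⟩ : U)
  haveI : IsLocalization.AtPrime (X.presheaf.stalk x) (hU.primeIdealOf ⟨x, hx⟩).asIdeal :=
    hU.isLocalization_stalk ⟨x, hx⟩
  let e := (IsLocalization.algEquiv (hU.primeIdealOf ⟨x, hx⟩).asIdeal.primeCompl
    (Localization.AtPrime (hU.primeIdealOf ⟨x, hx⟩).asIdeal) (X.presheaf.stalk x)).toRingEquiv
  exact ⟨fun _ => IsRegularLocalRing.of_ringEquiv e, fun _ => IsRegularLocalRing.of_ringEquiv e.symm⟩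

/-- The residue field of a chart. -/
theorem nonempty_residueAlgEquiv {U : X.Opens} (hU : IsAffineOpen U) {x : X} (hx : x ∈ U) :
    letI := (openMap (k := k) hU).toAlgebra
    letI := Curv2.resAlgebra k X x
    Nonempty ((hU.primeIdealOf ⟨x, hx⟩).asIdeal.ResidueField ≃ₐ[k] X.residueField x) := by
  letI := (openMap (k := k) hU).toAlgebra
  letI := Curv2.resAlgebra k X x
  letI := Curv2.stalkAlgebra k X x
  obtain ⟨e⟩ := nonempty_stalkAlgEquiv (k := k) hU hx
  refine ⟨AlgEquiv.ofRingEquiv (f := IsLocalRing.ResidueField.mapEquiv e.toRingEquiv) fun c => ?_⟩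
  show X.residue x (e (algebraMap k _ c)) = _
  rw [e.commutes]
  rfl

variable [LocallyOfFinitePresentation (X ↘ (Spec (CommRingCat.of k)))]

/-- A smooth point has a regular local ring. -/
theorem isRegularLocalRing_of_mem_smoothLocus {x : X}
    (h : x ∈ (X ↘ (Spec (CommRingCat.of k))).smoothLocus) :
    IsRegularLocalRing (X.presheaf.stalk x) := by
  obtain ⟨_, ⟨U, hU, rfl⟩, hx, -⟩ := X.isBasis_affineOpens.exists_subset_of_mem_open
    (Set.mem_univ x) isOpen_univ
  letI := (openMap (k := k) hU).toAlgebra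
  haveI := finiteType_openMap (k := k) hU
  haveI := (mem_smoothLocus_iff hU hx).1 h
  exact (isRegularLocalRing_stalk_iff hU hx).1 (Groth.Calg4.isRegularLocalRing_of_isSmoothAt (k := k) _)

/-- At a point whose residue field is formally smooth over `k` regular implies smooth. -/
theorem mem_smoothLocus_iff_isRegularLocalRing (x : X)
    (hres : letI := Curv2.resAlgebra k X x; Algebra.FormallySmooth k (X.residueField x)) :
    x ∈ (X ↘ (Spec (CommRingCat.of k))).smoothLocus ↔ IsRegularLocalRing (X.presheaf.stalk x) := by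
  refine ⟨isRegularLocalRing_of_mem_smoothLocus, fun h => ?_⟩
  obtain ⟨_, ⟨U, hU, rfl⟩, hx, -⟩ := X.isBasis_affineOpens.exists_subset_of_mem_open
    (Set.mem_univ x) isOpen_univ
  letI := (openMap (k := k) hU).toAlgebra
  haveI := finiteType_openMap (k := k) hU
  letI := Curv2.resAlgebra k X x
  obtain ⟨e⟩ := nonempty_residueAlgEquiv (k := k) hU hx
  haveI := hres
  haveI : Algebra.FormallySmooth k (hU.primeIdealOf ⟨x, hx⟩).asIdeal.ResidueField :=
    Algebra.FormallySmooth.of_equiv e.symm
  haveI := (isRegularLocalRing_stalk_iff hU hx).2 h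
  exact (mem_smoothLocus_iff hU hx).2 (Groth.Calg4.isSmoothAt_of_isRegularLocalRing _)

end Groth.VarietyBC
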