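import Groth.Agent.Ega2Proj.Spans
import Groth.Agent.Ega2Proj.TwistExtend
import Groth.Agent.PropsBasic.AmpleSec

/-!
# Globally generated modules: global sections span the stalks
-/

set_option autoImplicit false
set_option backward.isDefEq.respectTransparency.types false
universe u

open CategoryTheory CategoryTheory.Limits AlgebraicGeometry TopologicalSpace Opposite

namespace Groth.VarietyBC.GGen

open Groth.QCohMod

variable {X : Scheme.{u}}

/-- Global sections of a globally generated module span every stalk. -/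
theorem spansStalks {G : X.Modules} (h : Curv2.IsGloballyGenerated G) :
    Groth.Ega2Proj.SpansStalks G := by
  obtain ⟨ι, p, hp⟩ := h
  let p' : (∐ fun _ : ι => Coh.structureModule X) ⟶ G := p
  haveI : Epi p' := hp
  intro x
  let P := Submodule.span (X.presheaf.stalk x)
    (Set.range fun t : Γ(G, (⊤ : X.Opens)) =>
      germ G x (Set.mem_univ x : x ∈ (⊤ : X.Opens)) t)
  rw [eq_top_iff]
  rintro v -
  obtain ⟨w, rfl⟩ := (epi_iff_stalk p').1 inferInstance x v
  let S : AddSubgroup ((stalk x).obj G) := P.toAddSubgroup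
  let q : (stalk x).obj G ⟶ AddCommGrpCat.of ((stalk x).obj G ⧸ S) :=
    AddCommGrpCat.ofHom (QuotientAddGroup.mk' S)
  have hzero : (stalk x).map p' ≫ q = 0 := by
    refine (isColimitOfPreserves (stalk x)
      (colimit.isColimit (Discrete.functor fun _ : ι => Coh.structureModule X))).hom_ext fun j => ?_
    obtain ⟨i⟩ := j
    rw [comp_zero]
    change (stalk x).map (Sigma.ι (fun _ : ι => Coh.structureModule X) i) ≫
      (stalk x).map p' ≫ q = 0
    rw [← Category.assoc, ← Functor.map_comp]
    refine AddCommGrpCat.ext fun a => ?_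
    obtain ⟨V, hV, r, rfl⟩ := exists_germ (Coh.structureModule X) x a
    refine Eq.trans ?_ (show (0 : (stalk x).obj G ⧸ S) = _ from rfl)
    refine (QuotientAddGroup.eq_zero_iff _).2 (show _ ∈ P from ?_)
    let φ : Coh.structureModule X ⟶ G := Sigma.ι (fun _ : ι => Coh.structureModule X) i ≫ p'
    change (stalk x).map φ (germ _ x hV r) ∈ P
    rw [stalk_map_germ, ← structureModule_eq_smul_one r, Scheme.Modules.Hom.app_smul, germ_smul]
    refine P.smul_mem _ (Submodule.subset_span ⟨φ.app ⊤ (Groth.PicAux.oneSec X ⊤), ?_⟩)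
    change germ G x _ _ = _
    rw [← germ_res G (le_top : V ≤ ⊤) x hV]
    congr 1
    exact (Groth.PicAux.app_res φ (le_top : V ≤ ⊤) _).symm.trans
      (congrArg _ (Groth.PicAux.res_oneSec _))
  have h0 : QuotientAddGroup.mk' S ((stalk x).map p' w) = 0 := ConcreteCategory.congr_hom hzero w
  exact (QuotientAddGroup.eq_zero_iff _).1 h0

/-- A globally generated invertible module has a section generating near any point. -/
theorem exists_mem_gloc {L : X.Modules} (hL : PicF.IsInvertible L)
    (h : Curv2.IsGloballyGenerated L) (x : X) :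
    ∃ t : Γ(L, (⊤ : X.Opens)), x ∈ Groth.PropsBasic.Ample.gloc t := by
  obtain ⟨U, e, hxU, he⟩ := (Groth.PicAux.isInvertible_iff_exists_gen L).1 hL x
  obtain ⟨t, -, ht⟩ := Groth.Ega2Proj.exists_mem_gloc_of_mem_span he hxU Set.univ (c := 1)
    (by rw [Scheme.basicOpen_of_isUnit _ isUnit_one]; exact hxU)
    (by rw [Set.image_univ]; exact (spansStalks h x).ge trivial)
  exact ⟨t, ht⟩

end Groth.VarietyBC.GGen
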