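import Groth.Agent.CurveDiv.FlatH0
import Groth.Agent.VarietyBC.GGen
import Groth.Agent.Flatmor4.FpqcSubterminal

/-!
# Generation by global sections along flat base change
-/

set_option autoImplicit false
set_option backward.isDefEq.respectTransparency.types false
universe u

open CategoryTheory Limits AlgebraicGeometry Opposite
open scoped TensorProduct

namespace Groth.VarietyBC.FFSections

open Groth.QCohMod (sectionsAlg stalkAlg germ pullGerm pullGerm_germ pullStalkHom pullStalkHom_tmul pullStalkEquiv)
open Groth.PicAux (pullSec)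
open Groth.CohBase.FlatBC (secMod psec psec_apply)
open Groth.Ega2Proj (SpansStalks)

variable {X S X' S' : Scheme.{u}} {f : X ⟶ S} {g : S' ⟶ S} {g' : X' ⟶ X} {f' : X' ⟶ S'}

/-- Inverse image of a global section. -/
noncomputable def pullTop (g' : X' ⟶ X) (M : X.Modules) :
    Γ(M, (⊤ : X.Opens)) → Γ((Scheme.Modules.pullback g').obj M, (⊤ : X'.Opens)) := fun m =>
  pullSec g' M m

/-- Over affine bases, the sections of a flat base change are spanned by pulled back sections. -/
theorem mem_span_pullSec (sq : IsPullback g' f' f g) [IsAffine S] [IsAffine S'] [QuasiCompact f]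
    [QuasiSeparated f] [Flat g] (M : X.Modules) [M.IsQuasicoherent]
    (t : Γ((Scheme.Modules.pullback g').obj M, ⊤)) :
    t ∈ Submodule.span Γ(X', (⊤ : X'.Opens))
      (Set.range (pullTop g' M)) := by
  have e : (⊤ : S'.Opens) ≤ g ⁻¹ᵁ ⊤ := le_rfl
  have e₁ : f' ⁻¹ᵁ ⊤ ≤ g' ⁻¹ᵁ (f ⁻¹ᵁ ⊤) := le_rfl
  let := sectionsAlg g e
  obtain ⟨Φ, hΦ⟩ := Groth.CurveDiv.FlatH0.exists_baseChange_equiv sq M (isAffineOpen_top S)
    (isAffineOpen_top S') e e₁
  obtain ⟨z, rfl⟩ := Φ.surjective t
  induction z using TensorProduct.induction_on with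
  | zero => rw [map_zero]; exact Submodule.zero_mem _
  | add a b ha hb => rw [map_add]; exact Submodule.add_mem _ ha hb
  | tmul b m =>
    rw [hΦ]
    refine Submodule.smul_mem _ _ (Submodule.subset_span ⟨(show Γ(M, ⊤) from m), ?_⟩)
    rw [psec_apply]
    exact (Groth.PicAux.res_self _ _).symm

/-- Inverse images of modules spanned by global sections are spanned by global sections. -/
theorem spansStalks_pullback (g : X' ⟶ X) {M : X.Modules} (h : SpansStalks M) :
    SpansStalks ((Scheme.Modules.pullback g).obj M) := by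
  intro y
  let := stalkAlg g y
  rw [eq_top_iff]
  rintro v -
  obtain ⟨z, rfl⟩ := (pullStalkEquiv g M y).surjective v
  change pullStalkHom g M y z ∈ _
  induction z using TensorProduct.induction_on with
  | zero => rw [map_zero]; exact Submodule.zero_mem _
  | add a b ha hb => rw [map_add]; exact Submodule.add_mem _ ha hb
  | tmul b t =>
    rw [pullStalkHom_tmul]
    refine Submodule.smul_mem _ _ ?_
    have ht := (h (g y)).ge (Submodule.mem_top (x := t))
    induction ht using Submodule.span_induction with
    | mem t ht =>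
      obtain ⟨m, rfl⟩ := ht
      exact Submodule.subset_span ⟨pullSec g M m, (pullGerm_germ g M y _ m).symm⟩
    | zero => rw [map_zero]; exact Submodule.zero_mem _
    | add a b _ _ ha hb => rw [map_add]; exact Submodule.add_mem _ ha hb
    | smul r a _ ha => rw [Groth.QCohMod.pullGerm_smul]; exact Submodule.smul_mem _ _ ha

/-- Generation by global sections descends along a faithfully flat base change of affine bases. -/
theorem spansStalks_of_pullback (sq : IsPullback g' f' f g) [IsAffine S] [IsAffine S'] [QuasiCompact f]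
    [QuasiSeparated f] [Flat g] [Surjective g] (M : X.Modules) [M.IsQuasicoherent]
    (h : SpansStalks ((Scheme.Modules.pullback g').obj M)) : SpansStalks M := by
  have : Flat g' := MorphismProperty.of_isPullback (P := @Flat) sq.flip ‹_›
  have : Surjective g' := MorphismProperty.of_isPullback (P := @Surjective) sq.flip ‹_›
  intro x
  obtain ⟨y, rfl⟩ := g'.surjective x
  let := stalkAlg g' y
  have := Groth.Flatmor4.faithfullyFlat_stalk g' y
  set P := Submodule.span (X.presheaf.stalk (g' y))
    (Set.range fun t : Γ(M, (⊤ : X.Opens)) =>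
      germ M (g' y) (Set.mem_univ _ : g' y ∈ (⊤ : X.Opens)) t)
  suffices hP : Function.Surjective (P.subtype.lTensor (X'.presheaf.stalk y)) by
    rw [eq_top_iff]
    rintro v -
    obtain ⟨w, rfl⟩ := (Module.FaithfullyFlat.lTensor_surjective_iff_surjective
      (X.presheaf.stalk (g' y)) (X'.presheaf.stalk y) _).1 hP v
    exact w.2
  let Q := LinearMap.range ((pullStalkEquiv g' M y).toLinearMap ∘ₗ
    P.subtype.baseChange (X'.presheaf.stalk y))
  suffices hQ : Q = ⊤ by
    intro z
    obtain ⟨w, hw⟩ := LinearMap.range_eq_top.1 hQ (pullStalkEquiv g' M y z)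
    exact ⟨w, (pullStalkEquiv g' M y).injective hw⟩
  rw [eq_top_iff, ← h y, Submodule.span_le]
  rintro _ ⟨t, rfl⟩
  have ht := mem_span_pullSec sq M t
  induction ht using Submodule.span_induction with
  | mem t ht =>
    obtain ⟨m, rfl⟩ := ht
    refine ⟨(1 : X'.presheaf.stalk y) ⊗ₜ
      (⟨_, Submodule.subset_span ⟨m, rfl⟩⟩ : P), ?_⟩
    change pullStalkHom g' M y ((1 : X'.presheaf.stalk y) ⊗ₜ _) = _
    rw [pullStalkHom_tmul, one_smul]
    exact pullGerm_germ g' M y _ m
  | zero =>
    change germ _ y _ 0 ∈ Q
    rw [map_zero]; exact Submodule.zero_mem _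
  | add a b _ _ ha hb =>
    change germ _ y _ (a + b) ∈ Q
    rw [map_add]; exact Submodule.add_mem _ ha hb
  | smul r a _ ha =>
    change germ _ y _ (r • a) ∈ Q
    rw [Groth.QCohMod.germ_smul]
    exact Submodule.smul_mem _ _ ha

end Groth.VarietyBC.FFSections
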