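import Groth.Agent.EulerDeg.Coherent
import Groth.Agent.PropsBasic.AmpleSec
import Groth.Agent.QCohMod.Coherent
import Groth.Agent.Ega2Proj.TwistExtend
import Groth.Agent.CohFin.Linear

/-!
# Large powers of an invertible module with a section with finitely many zeros on a proper curve
are globally generated
-/

set_option autoImplicit false
set_option linter.style.haveILetI false
set_option backward.isDefEq.respectTransparency.types false
universe u

open CategoryTheory CategoryTheory.Limits AlgebraicGeometry TopologicalSpace Opposite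
open Groth.PicAux Groth.PropsBasic.Ample

namespace Groth.VarietyBC.CurveGG

variable {X : Scheme.{u}}

theorem isCoh_of_isInvertible {L : X.Modules} (hL : PicF.IsInvertible L) : Coh.IsCoh L :=
  ⟨isQCoh_of_isInvertible hL, Groth.Ega2Proj.isFT_of_isInvertible hL⟩

/-- An epimorphism gives a short exact sequence with its kernel. -/
theorem shortExact_of_epi {M N : X.Modules} (p : M ⟶ N) [Epi p] :
    (ShortComplex.mk (kernel.ι p) p (kernel.condition p)).ShortExact :=
  { exact := ShortComplex.exact_of_f_is_kernel _ (kernelIsKernel p)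
    mono_f := inferInstanceAs (Mono (kernel.ι p))
    epi_g := inferInstanceAs (Epi p) }

/-- The multiplication by a global section of an invertible module. -/
theorem exists_mulHom {A L : X.Modules} (hA : PicF.IsInvertible A) (s : Γ(L, ⊤)) :
    ∃ φ : A ⟶ CohB1.tensorMod A L, ∀ (W : X.Opens) (a : Γ(A, W)),
      φ.app W a = tmulSec a (res L le_top s) := by
  choose U e hxU he using (isInvertible_iff_exists_gen A).1 hA
  obtain ⟨φ, hφ⟩ := exists_hom_of_gen (M := CohB1.tensorMod A L)
    (top_le_iff.1 fun x _ => Opens.mem_iSup.2 ⟨x, hxU x⟩) e he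
    (fun i => tmulSec (e i) (res L le_top s)) fun i j r hr => by
      rw [res_tmulSec, res_tmulSec, hr, tmulSec_smul_left, res_res, res_res]
  refine ⟨φ, fun W a => res_ext (fun i => W ⊓ U i) (fun i => inf_le_left)
    (fun z hz => Opens.mem_iSup.2 ⟨z, hz, hxU z⟩) fun i => ?_⟩
  obtain ⟨c, hc⟩ := (he i).exists_coeff (inf_le_right : W ⊓ U i ≤ U i)
    (res A (inf_le_left : W ⊓ U i ≤ W) a)
  rw [← app_res, hc, Scheme.Modules.Hom.app_smul, app_res, hφ, res_tmulSec, res_tmulSec, hc,
    tmulSec_smul_left, res_res, res_res]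

/-- The inclusion of the image and the projection onto it. -/
theorem exists_image {M N : X.Modules} (φ : M ⟶ N) :
    ∃ (I : X.Modules) (p : M ⟶ I) (ι : I ⟶ N) (w : ι ≫ cokernel.π φ = 0),
      Epi p ∧ p ≫ ι = φ ∧ (ShortComplex.mk ι (cokernel.π φ) w).ShortExact :=
  ⟨Abelian.image φ, Abelian.factorThruImage φ, Abelian.image.ι φ, kernel.condition _, inferInstance,
    Abelian.image.fac φ, shortExact_of_epi (cokernel.π φ)⟩

theorem germ_pres (M : X.Modules) {U V : X.Opens} (h : V ≤ U) (x : X) (hx : x ∈ V) (m : Γ(M, U)) :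
    Groth.QCohMod.germ M x hx (res M h m) = Groth.QCohMod.germ M x (h hx) m :=
  Groth.QCohMod.germ_res M h x hx m

/-- On a proper curve, powers of an invertible module with a section whose zeros are closed points
are eventually globally generated. -/
theorem exists_gg_of_section (k : Type u) [Field k] [X.Over (Spec (CommRingCat.of k))]
    [IsProper (X ↘ Spec (CommRingCat.of k))] (hdim : topologicalKrullDim X ≤ 1) {L : X.Modules}
    (hL : PicF.IsInvertible L) (s : Γ(L, ⊤)) (hB : ∀ x : X, x ∉ gloc s → IsClosed ({x} : Set X)) :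
    ∃ N : ℕ, ∀ n, N ≤ n → ∀ x : X, ∃ t : Γ(CohB1.tensorPow L (n + 1), ⊤), x ∈ gloc t := by
  haveI := Groth.EulerDeg.noetherianSpace_of_proper k X
  haveI : NoetherianSpace (X.toTopCat : Type u) := Groth.EulerDeg.noetherianSpace_of_proper k X
  haveI : QuasiSober (X.toTopCat : Type u) := inferInstanceAs (QuasiSober X)
  let P : ℕ → X.Modules := fun n => CohB1.tensorPow L n
  choose φ hφ using fun n => exists_mulHom (L := L) (isInvertible_tensorPow hL n) s
  choose I p ι w hp hpι hses using fun n => exists_image (φ n)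
  -- stalks of the cokernel vanish away from the zeros
  have hQ : ∀ n (z : X), z ∈ gloc s → ∀ q : (Groth.QCohMod.stalk z).obj (cokernel (φ n)), q = 0 := by
    intro n z hz q
    obtain ⟨v, rfl⟩ := (Groth.QCohMod.epi_iff_stalk (cokernel.π (φ n))).1 inferInstance z q
    obtain ⟨W, hzW, m, rfl⟩ := Groth.QCohMod.exists_germ _ z v
    obtain ⟨A, e, hzA, he⟩ := (isInvertible_iff_exists_gen (P n)).1 (isInvertible_tensorPow hL n) z
    let V : X.Opens := W ⊓ (A ⊓ gloc s)
    have hVA : V ≤ A := inf_le_right.trans inf_le_left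
    have hVs : V ≤ gloc s := inf_le_right.trans inf_le_right
    have hzV : z ∈ V := ⟨hzW, hzA, hz⟩
    obtain ⟨c, hc⟩ := ((he.res hVA).tensor (gen_gloc s hVs)).exists_coeff le_rfl
      (res _ (inf_le_left : V ≤ W) m)
    have h1 : res _ (inf_le_left : V ≤ W) m = (φ n).app V (c • res (P n) hVA e) := by
      rw [Scheme.Modules.Hom.app_smul, hφ, hc, res_self]
    have h0 : (cokernel.π (φ n)).app V (res _ (inf_le_left : V ≤ W) m) = 0 := by
      rw [h1]
      exact congr(($(cokernel.condition (φ n))).app V (c • res (P n) hVA e))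
    rw [← germ_pres _ (inf_le_left : V ≤ W) z hzV, Groth.QCohMod.stalk_map_germ]
    exact (congrArg _ h0).trans (map_zero _)
  have hzero : ∀ n (z : X), z ∈ gloc s →
      IsZero ((Groth.EulerDeg.stalkAb (X := X.toTopCat) z).obj (Coh.toAb (cokernel (φ n)))) := by
    intro n z hz
    haveI : Subsingleton ((Groth.QCohMod.stalk z).obj (cokernel (φ n))) :=
      ⟨fun a b => (hQ n z hz a).trans (hQ n z hz b).symm⟩
    exact AddCommGrpCat.isZero_of_subsingleton ((Groth.QCohMod.stalk z).obj (cokernel (φ n)))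
  -- surjectivity on `H¹`
  let f : ∀ n, Coh.HH X (P n) 1 →ₗ[k] Coh.HH X (I n) 1 := fun n => Groth.EulerDeg.hMap k (p n) 1
  let g : ∀ n, Coh.HH X (I n) 1 →ₗ[k] Coh.HH X (P (n + 1)) 1 := fun n => Groth.EulerDeg.hMap k (ι n) 1
  have hf : ∀ n, Function.Surjective (f n) := fun n y => by
    haveI := hp n
    have h0 : Subsingleton (Coh.HH X (kernel (p n)) 2) :=
      Groth.EulerDeg.subsingleton_HH_of_dim_le_one X hdim _ 2 le_rfl
    exact ((Groth.EulerDeg.exact_right k (shortExact_of_epi (p n)) 1) y).1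
      (@Subsingleton.elim _ h0 _ _)
  have hQ1 : ∀ n, Subsingleton (Coh.HH X (cokernel (φ n)) 1) := fun n =>
    Groth.EulerDeg.subsingleton_H_succ_of_closed_support (X := X.toTopCat) (Coh.toAb (cokernel (φ n)))
      (fun z hz => hzero n z (not_not.1 fun h => hz (hB z h))) 0
  have hg : ∀ n, Function.Surjective (g n) := fun n y => by
    have := hQ1 n
    exact ((Groth.EulerDeg.exact_mid k (hses n) 1) y).1 (Subsingleton.elim _ _)
  let d : ℕ → ℕ := fun n => Module.finrank k (Coh.HH X (P n) 1)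
  haveI hfinite : ∀ n, Module.Finite k (Coh.HH X (P n) 1) := fun n =>
    Groth.EulerDeg.finite_HH k X (isCoh_of_isInvertible (isInvertible_tensorPow hL n)) 1
  have hle : ∀ n, d (n + 1) ≤ d n := fun n =>
    LinearMap.finrank_le_finrank_of_surjective (f := (g n).comp (f n)) ((hg n).comp (hf n))
  obtain ⟨N, hN⟩ : ∃ N, ∀ n, N ≤ n → d (n + 1) = d n := by
    have hanti : Antitone d := antitone_nat_of_succ_le hle
    refine ⟨Function.argmin d, fun n hn => le_antisymm (hle n) ?_⟩
    exact (hanti hn).trans (Function.argmin_le d _)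
  refine ⟨N, fun n hn x => ?_⟩
  by_cases hx : x ∈ gloc s
  · refine ⟨powSec s (n + 1), ?_⟩
    rw [gloc_powSec hL s (Nat.succ_pos n)]
    exact hx
  have hginj : Function.Injective (g n) := by
    have hinj : Function.Injective ((g n).comp (f n)) :=
      (LinearMap.injective_iff_surjective_of_finrank_eq_finrank (hN n hn).symm).2 ((hg n).comp (hf n))
    intro a b hab
    obtain ⟨a', rfl⟩ := hf n a
    obtain ⟨b', rfl⟩ := hf n b
    exact congrArg _ (hinj hab)
  -- a section of the cokernel near `x`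
  obtain ⟨A, e, hxA, he⟩ := (isInvertible_iff_exists_gen (CohB1.tensorMod (CohB1.tensorPow L n) L)).1
    (isInvertible_tensorPow hL (n + 1)) x
  obtain ⟨A', e', hxA', he'⟩ := (isInvertible_iff_exists_gen (CohB1.tensorPow L n)).1 (isInvertible_tensorPow hL n) x
  obtain ⟨A'', e'', hxA'', he''⟩ := (isInvertible_iff_exists_gen L).1 hL x
  have hBfin := Groth.EulerDeg.finite_and_isClosed_of_closed_points (X := X.toTopCat)
    (U := Set.univ) (Z := ((gloc s : Set X))ᶜ \ {x}) isOpen_univ (Set.subset_univ _) (by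
      intro z hz
      have hz0 : z ∉ gloc s := (closure_minimal Set.sdiff_subset (gloc s).isOpen.isClosed_compl) hz.1
      refine ⟨hz0, fun hzx => ?_⟩
      rw [Set.mem_singleton_iff] at hzx
      subst hzx
      obtain ⟨W, hW, hzW, hWsub⟩ : ∃ W : Set X, IsOpen W ∧ z ∈ W ∧
          ∀ y ∈ W, y ∉ gloc s → y = z := by
        obtain ⟨hfin, -⟩ := Groth.EulerDeg.finite_and_isClosed_of_closed_points (X := X.toTopCat)
          (U := Set.univ) (Z := ((gloc s : Set X))ᶜ) isOpen_univ (Set.subset_univ _)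
          (by rw [(gloc s).isOpen.isClosed_compl.closure_eq, Set.inter_univ]) hB
        refine ⟨(((gloc s : Set X))ᶜ \ {z})ᶜ, ?_, fun h => h.2 rfl,
          fun y hy hys => not_not.1 fun hne => hy ⟨hys, hne⟩⟩
        rw [isOpen_compl_iff, ← Set.biUnion_of_singleton (((gloc s : Set X))ᶜ \ {z})]
        exact (hfin.subset Set.sdiff_subset).isClosed_biUnion fun y hy => hB y hy.1
      obtain ⟨y, hyW, hy⟩ := mem_closure_iff.1 hz.1 W hW hzW
      exact hy.2 (hWsub y hyW hy.1)) (fun z hz => hB z hz.1)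
  let W : X.Opens := A ⊓ (A' ⊓ A'') ⊓ ⟨_, hBfin.2.isOpen_compl⟩
  have hWA : W ≤ A := inf_le_left.trans inf_le_left
  have hWA' : W ≤ A' := inf_le_left.trans (inf_le_right.trans inf_le_left)
  have hWA'' : W ≤ A'' := inf_le_left.trans (inf_le_right.trans inf_le_right)
  have hxW : x ∈ W := ⟨⟨hxA, hxA', hxA''⟩, fun h => h.2 rfl⟩
  let O : X.Opens := ⟨({x} : Set X)ᶜ, (hB x hx).isOpen_compl⟩
  let Q := cokernel (φ n)
  let σ : Γ(Q, W) := (cokernel.π (φ n)).app W (res _ hWA e)
  have hσ : ∀ z ∈ W ⊓ O, z ∈ gloc s := fun z hz => not_not.1 fun h => hz.1.2 ⟨h, hz.2⟩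
  have hσ0 : res Q (inf_le_left : W ⊓ O ≤ W) σ = 0 :=
    TopCat.Presheaf.section_ext (X := X.toTopCat) (Coh.toAb Q) _ _ _ fun z hz =>
      (hQ n z (hσ z hz) _).trans (map_zero _).symm
  obtain ⟨q, hq, -⟩ := res_glue (M := Q) (U := ⊤) (fun b : Bool => if b then W else O) (fun _ => le_top)
    (fun z _ => by
      by_cases hz : z = x
      · exact Opens.mem_iSup.2 ⟨true, hz ▸ hxW⟩
      · exact Opens.mem_iSup.2 ⟨false, hz⟩)
    (fun b => match b with
      | true => σ
      | false => 0)
    (fun a b => by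
      cases a <;> cases b
      · rfl
      · refine (map_zero _).trans ?_
        have h := congrArg (res Q (le_of_eq (inf_comm O W))) hσ0
        rw [res_res] at h
        exact (h.trans (map_zero _)).symm
      · exact hσ0.trans (map_zero _).symm
      · rfl)
  -- lift it
  obtain ⟨t, ht⟩ : ∃ t : Γ(CohB1.tensorMod (CohB1.tensorPow L n) L, ⊤), (cokernel.π (φ n)).app ⊤ t = q := by
    have h1 : Groth.EulerDeg.hDelta k (hses n) 0 ((Sheaf.H.equiv₀ (Coh.toAb Q) isTerminalTop).symm q) = 0 := by
      refine hginj ?_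
      rw [map_zero]
      exact (Groth.EulerDeg.exact_left k (hses n) 0).apply_apply_eq_zero _
    obtain ⟨t, ht⟩ := ((Groth.EulerDeg.exact_right k (hses n) 0) _).1 h1
    refine ⟨Sheaf.H.equiv₀ (Coh.toAb (CohB1.tensorMod (CohB1.tensorPow L n) L)) isTerminalTop t, ?_⟩
    have h2 := Sheaf.H.equiv₀_naturality isTerminalTop
      ((Groth.CohBase.toAbF X).map (cokernel.π (φ n))) t
    exact h2.trans ((congrArg _ ht).trans (AddEquiv.apply_symm_apply _ _))
  refine ⟨t, ?_⟩
  -- `t` generates at `x`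
  obtain ⟨a, ha⟩ := (he.res hWA).exists_coeff le_rfl (res (CohB1.tensorMod (CohB1.tensorPow L n) L) (le_top : W ≤ ⊤) t)
  rw [res_self] at ha
  have hga := gloc_inf_eq_basicOpen (he.res hWA) ha
  suffices x ∈ X.basicOpen a from (hga.ge this).1
  -- near `x`, `t - e` is a multiple of `s`
  let S : ShortComplex X.Modules := ShortComplex.mk (ι n) (cokernel.π (φ n)) (w n)
  let D : Γ(CohB1.tensorMod (CohB1.tensorPow L n) L, W) := res (CohB1.tensorMod (CohB1.tensorPow L n) L) (le_top : W ≤ ⊤) t - res _ hWA e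
  have hD0 : (cokernel.π (φ n)).app W D = 0 := by
    change (cokernel.π (φ n)).app W (res (CohB1.tensorMod (CohB1.tensorPow L n) L) (le_top : W ≤ ⊤) t - res _ hWA e) = 0
    rw [map_sub]
    refine sub_eq_zero.2 (Eq.trans ?_ (hq true))
    exact (app_res _ _ _).trans (congrArg _ ht)
  obtain ⟨b, hb⟩ := (ShortComplex.ab_exact_iff _).1
    ((Groth.QCohMod.exact_iff_stalk S).1 (hses n).exact x)
    (Groth.QCohMod.germ (CohB1.tensorMod (CohB1.tensorPow L n) L) x hxW D) ((Groth.QCohMod.stalk_map_germ _ x hxW D).trans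
      ((congrArg _ hD0).trans (map_zero _)))
  haveI := hp n
  obtain ⟨v, rfl⟩ := (Groth.QCohMod.epi_iff_stalk (p n)).1 inferInstance x b
  obtain ⟨V, hxV, m, rfl⟩ := Groth.QCohMod.exists_germ _ x v
  have hgm : Groth.QCohMod.germ (CohB1.tensorMod (CohB1.tensorPow L n) L) x hxV ((φ n).app V m) =
      Groth.QCohMod.germ (CohB1.tensorMod (CohB1.tensorPow L n) L) x hxW D := by
    refine Eq.trans ?_ hb
    change _ = (Groth.QCohMod.stalk x).map (ι n) ((Groth.QCohMod.stalk x).map (p n) _)
    rw [Groth.QCohMod.stalk_map_germ]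
    refine Eq.trans (congrArg _ ?_) (Groth.QCohMod.stalk_map_germ _ x hxV _).symm
    exact (congr(($(hpι n)).app V m)).symm
  obtain ⟨W', hxW', i₁, i₂, hW'⟩ := TopCat.Presheaf.germ_eq (CohB1.tensorMod (CohB1.tensorPow L n) L).presheaf x hxV hxW _ _ hgm
  have hW'' : res (CohB1.tensorMod (CohB1.tensorPow L n) L) i₁.le ((φ n).app V m) = res (CohB1.tensorMod (CohB1.tensorPow L n) L) i₂.le D := hW'
  rw [← app_res, hφ] at hW''
  have hWV : W' ≤ W := i₂.le
  obtain ⟨c₁, hc₁⟩ := he'.exists_coeff (hWV.trans hWA') (res (CohB1.tensorPow L n) i₁.le m)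
  obtain ⟨c, hc⟩ := he''.exists_coeff le_rfl (res L (le_top : A'' ≤ ⊤) s)
  rw [res_self] at hc
  obtain ⟨u, hu⟩ := (he.res hWA).exists_coeff hWV
    (tmulSec (res (CohB1.tensorPow L n) (hWV.trans hWA') e') (res L (hWV.trans hWA'') e''))
  rw [hc₁, show res L (le_top : W' ≤ ⊤) s = res L (hWV.trans hWA'') (res L le_top s) from
    (res_res _ _ _).symm, hc, res_smul, tmulSec_smul_right, tmulSec_smul_left] at hW''
  have hD : res (CohB1.tensorMod (CohB1.tensorPow L n) L) hWV D = resX X hWV a • res (CohB1.tensorMod (CohB1.tensorPow L n) L) (hWV.trans hWA) e -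
      res (CohB1.tensorMod (CohB1.tensorPow L n) L) (hWV.trans hWA) e := by
    change res _ hWV (res _ _ t - res _ hWA e) = _
    rw [ha]
    refine (map_sub ((CohB1.tensorMod (CohB1.tensorPow L n) L).presheaf.map (homOfLE hWV).op).hom _ _).trans ?_
    exact congrArg₂ (· - ·) ((res_smul _ _ _).trans (congrArg _ (res_res _ _ _))) (res_res _ _ _)
  have key : (resX X (hWV.trans hWA'') c * c₁ * u + 1) • res (CohB1.tensorMod (CohB1.tensorPow L n) L) (hWV.trans hWA) e =
      resX X hWV a • res (CohB1.tensorMod (CohB1.tensorPow L n) L) (hWV.trans hWA) e := by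
    rw [res_res] at hu
    rw [add_smul, one_smul, mul_smul, mul_smul]
    refine eq_add_of_sub_eq ?_ |>.symm
    rw [← hu]
    exact (hW''.trans hD).symm
  have ha' := he.smul_inj (hWV.trans hWA) key
  have hxc : x ∉ X.basicOpen c := fun h => hx ((gloc_inf_eq_basicOpen he'' hc).ge h).1
  have hunit : IsUnit (X.presheaf.germ W' x hxW' (resX X hWV a)) := by
    rw [← ha', map_add, map_mul, map_mul, map_one, mul_assoc]
    rw [add_comm, ← sub_neg_eq_add]
    refine IsLocalRing.isUnit_one_sub_self_of_mem_nonunits _ ((IsLocalRing.mem_maximalIdeal _).1 (neg_mem ?_))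
    refine Ideal.mul_mem_right _ _ ((IsLocalRing.mem_maximalIdeal _).2 fun h => hxc ?_)
    rw [resX, X.presheaf.germ_res_apply] at h
    exact (Scheme.mem_basicOpen _ _ _ hxA'').2 h
  rw [resX, X.presheaf.germ_res_apply] at hunit
  exact (Scheme.mem_basicOpen _ _ _ hxW).2 hunit

end Groth.VarietyBC.CurveGG
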