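import Groth.Agent.HensPair.SectionsBaseChange
import Groth.Agent.ModelsGraphs.GlobalFunctions
import Groth.Prelude.Def_Coh
import Mathlib.AlgebraicGeometry.Geometrically.Irreducible
import Mathlib.AlgebraicGeometry.Geometrically.Reduced
import Mathlib.RingTheory.Flat.Basic

/-!
# The field of global functions of a proper scheme over a field
-/

set_option autoImplicit false
universe u

open CategoryTheory Limits AlgebraicGeometry Polynomial Opposite
open scoped TensorProduct

namespace Groth.VarietyBC.GlobalField

/-- Global functions on a flat affine base change. -/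
theorem exists_ringEquiv {k E : Type u} [Field k] [Field E] [Algebra k E] {X P : Scheme.{u}}
    [CompactSpace X] [QuasiSeparatedSpace X] (p : X ⟶ Spec (CommRingCat.of k))
    [Algebra k Γ(X, ⊤)]
    (hp : algebraMap k Γ(X, ⊤) = ((Scheme.ΓSpecIso (CommRingCat.of k)).inv ≫ p.appTop).hom)
    {a : P ⟶ X} {b : P ⟶ Spec (CommRingCat.of E)}
    (H : IsPullback a b p (Spec.map (CommRingCat.ofHom (algebraMap k E)))) :
    Nonempty (E ⊗[k] Γ(X, ⊤) ≃+* Γ(P, ⊤)) := by
  have h1 := Groth.HensPair.isPushout_appTop H
  have h2 := (CommRingCat.isPushout_tensorProduct k E Γ(X, ⊤)).flip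
  have h3 : IsPushout (CommRingCat.ofHom (algebraMap k Γ(X, ⊤)))
      (CommRingCat.ofHom (algebraMap k E)) a.appTop
      ((Scheme.ΓSpecIso (CommRingCat.of E)).inv ≫ b.appTop) := by
    refine h1.of_iso (Scheme.ΓSpecIso (CommRingCat.of k)) (Iso.refl _)
      (Scheme.ΓSpecIso (CommRingCat.of E)) (Iso.refl _) ?_ ?_ (by simp) (by simp)
    · rw [hp]; simp
    · exact Scheme.ΓSpecIso_naturality _
  exact ⟨(h2.isoIsPushout _ _ h3).commRingCatIsoToRingEquiv⟩

variable {k : Type u} [Field k] {L : Type u} [Field L] [Algebra k L]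
  {E : Type u} [Field E] [Algebra k E]

/-- Powers stay independent after extending scalars. -/
theorem eq_zero_of_aeval {a : L} (q : Polynomial E)
    (hq : q.natDegree < (minpoly k a).natDegree)
    (h : Polynomial.aeval ((1 : E) ⊗ₜ[k] a) q = 0) : q = 0 := by
  have hli : LinearIndependent E fun i : Fin (minpoly k a).natDegree =>
      (1 : E) ⊗ₜ[k] (a ^ (i : ℕ)) :=
    Module.Flat.linearIndependent_one_tmul (linearIndependent_pow a)
  rw [Fintype.linearIndependent_iff] at hli
  have hsum : ∑ i : Fin (minpoly k a).natDegree, q.coeff i • ((1 : E) ⊗ₜ[k] (a ^ (i : ℕ))) = 0 := by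
    rw [← h, Polynomial.aeval_eq_sum_range' hq, Finset.sum_range]
    refine Finset.sum_congr rfl fun i _ => ?_
    rw [Algebra.TensorProduct.tmul_pow, one_pow]
  ext i
  by_cases hi : i < (minpoly k a).natDegree
  · simpa using hli _ hsum ⟨i, hi⟩
  · rw [Polynomial.coeff_eq_zero_of_natDegree_lt (by omega), Polynomial.coeff_zero]

/-- A reduced tensor with an algebraic closure forces separability. -/
theorem isSeparable_of_isReduced [IsAlgClosed E] [Algebra.IsIntegral k L]
    [_root_.IsReduced (E ⊗[k] L)] : Algebra.IsSeparable k L := by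
  classical
  refine ⟨fun a => ?_⟩
  have hint : _root_.IsIntegral k a := Algebra.IsIntegral.isIntegral a
  set m := (minpoly k a).map (algebraMap k E) with hm
  have hsplit : m = (m.roots.map fun r => X - C r).prod :=
    (IsAlgClosed.splits m).eq_prod_roots_of_monic ((minpoly.monic hint).map _)
  let g : Polynomial E := ∏ r ∈ m.roots.toFinset, (X - C r)
  have hzero : Polynomial.aeval ((1 : E) ⊗ₜ[k] a) m = 0 := by
    rw [hm, Polynomial.aeval_map_algebraMap]
    have := Polynomial.aeval_algHom_apply
      (Algebra.TensorProduct.includeRight : L →ₐ[k] E ⊗[k] L) a (minpoly k a)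
    rw [minpoly.aeval, map_zero] at this
    exact this
  have hdvd : m ∣ g ^ m.roots.card := by
    conv_lhs => rw [hsplit]
    rw [Finset.prod_multiset_map_count, ← Finset.prod_pow]
    exact Finset.prod_dvd_prod_of_dvd _ _ fun r _ => pow_dvd_pow _ (Multiset.count_le_card r _)
  have hg : Polynomial.aeval ((1 : E) ⊗ₜ[k] a) g = 0 := by
    refine IsNilpotent.eq_zero ⟨m.roots.card, ?_⟩
    rw [← map_pow]
    exact eq_zero_of_zero_dvd (hzero ▸ map_dvd _ hdvd)
  have hdeg : g.natDegree = m.roots.toFinset.card := by
    rw [Polynomial.natDegree_prod _ _ fun r _ => X_sub_C_ne_zero r]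
    simp
  have hcard : m.roots.card = (minpoly k a).natDegree := by
    rw [← (IsAlgClosed.splits m).natDegree_eq_card_roots, hm, Polynomial.natDegree_map]
  have hge : (minpoly k a).natDegree ≤ g.natDegree := by
    by_contra hlt
    push Not at hlt
    exact (monic_prod_X_sub_C (fun r => r) _).ne_zero (eq_zero_of_aeval g hlt hg)
  have hnd : m.roots.Nodup := by
    rw [← Multiset.toFinset_card_eq_card_iff_nodup]
    have := Multiset.toFinset_card_le m.roots
    omega
  have hne : m ≠ 0 := ((minpoly.monic hint).map _).ne_zero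
  exact (Polynomial.separable_map (algebraMap k E)).1
    ((Polynomial.nodup_roots_iff_of_splits hne (IsAlgClosed.splits m)).1 hnd)

/-- A root of a product of distinct linear factors, in a ring without idempotents. -/
theorem exists_eq_of_prod_eq_zero {A : Type u} [CommRing A] [Algebra E A]
    (hidem : ∀ e : A, e * e = e → e = 0 ∨ e = 1) (b : A) :
    ∀ s : Finset E, (0 : A) ≠ 1 → ∏ r ∈ s, (b - algebraMap E A r) = 0 →
      ∃ r ∈ s, b = algebraMap E A r := by
  classical
  intro s
  induction s using Finset.induction_on with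
  | empty => intro h01 h; exact absurd h.symm (by simpa using h01)
  | @insert r s hr ih =>
    intro h01 h
    rw [Finset.prod_insert hr] at h
    have hcop : IsCoprime (Polynomial.X - Polynomial.C r)
        (∏ t ∈ s, (Polynomial.X - Polynomial.C t)) :=
      IsCoprime.prod_right fun t ht => Polynomial.isCoprime_X_sub_C_of_isUnit_sub
        (sub_ne_zero.mpr (fun e : r = t => hr (e ▸ ht))).isUnit
    obtain ⟨u, v, huv⟩ := hcop
    have h1 := congrArg (Polynomial.aeval b) huv
    simp only [map_add, map_mul, map_sub, map_prod, Polynomial.aeval_X, Polynomial.aeval_C, map_one] at h1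
    set Q := ∏ t ∈ s, (b - algebraMap E A t)
    set p := b - algebraMap E A r
    have he : (Polynomial.aeval b u * p) * (Polynomial.aeval b u * p) = Polynomial.aeval b u * p := by
      have : Polynomial.aeval b u * p * (Polynomial.aeval b v * Q) = 0 := by
        rw [mul_mul_mul_comm, h, mul_zero]
      linear_combination (Polynomial.aeval b u * p) * h1 - this
    rcases hidem _ he with h2 | h2
    · refine ⟨r, Finset.mem_insert_self r s, sub_eq_zero.mp ?_⟩
      have hQ : Polynomial.aeval b v * Q = 1 := by linear_combination h1 - h2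
      change p = 0
      linear_combination Polynomial.aeval b v * h - p * hQ
    · have hQ : Q = 0 := by linear_combination Polynomial.aeval b u * h - Q * h2
      obtain ⟨t, ht, e⟩ := ih h01 hQ
      exact ⟨t, Finset.mem_insert_of_mem ht, e⟩

/-- No idempotents after extending to an algebraically closed field forces pure inseparability. -/
theorem isPurelyInseparable_of_idem [IsAlgClosed E] [Algebra.IsIntegral k L]
    (hidem : ∀ e : E ⊗[k] L, e * e = e → e = 0 ∨ e = 1) : IsPurelyInseparable k L := by
  classical
  refine ⟨inferInstance, fun a ha => minpoly.mem_range_of_degree_eq_one k a ?_⟩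
  have hint : _root_.IsIntegral k a := Algebra.IsIntegral.isIntegral a
  set m := (minpoly k a).map (algebraMap k E) with hm
  have hne : m ≠ 0 := ((minpoly.monic hint).map _).ne_zero
  have hsplit : m = (m.roots.map fun r => X - C r).prod :=
    (IsAlgClosed.splits m).eq_prod_roots_of_monic ((minpoly.monic hint).map _)
  have hnd : m.roots.Nodup := Polynomial.nodup_roots (Polynomial.Separable.map ha)
  have hzero : Polynomial.aeval ((1 : E) ⊗ₜ[k] a) m = 0 := by
    rw [hm, Polynomial.aeval_map_algebraMap]
    have := Polynomial.aeval_algHom_apply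
      (Algebra.TensorProduct.includeRight : L →ₐ[k] E ⊗[k] L) a (minpoly k a)
    rw [minpoly.aeval, map_zero] at this
    exact this
  have hprod : ∏ r ∈ m.roots.toFinset,
      ((1 : E) ⊗ₜ[k] a - algebraMap E (E ⊗[k] L) r) = 0 := by
    rw [← hzero]
    conv_rhs => rw [hsplit]
    rw [Finset.prod_eq_multiset_prod, Multiset.toFinset_val, Multiset.dedup_eq_self.2 hnd,
      map_multiset_prod, Multiset.map_map]
    simp [Function.comp_def]
  have h01 : (0 : E ⊗[k] L) ≠ 1 := zero_ne_one
  obtain ⟨r, -, hr⟩ := exists_eq_of_prod_eq_zero hidem _ _ h01 hprod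
  have hpos := minpoly.natDegree_pos hint
  rw [Polynomial.degree_eq_natDegree (minpoly.ne_zero hint)]
  norm_cast
  by_contra hne1
  have hq := eq_zero_of_aeval (k := k) (a := a) (X - C r) (by rw [natDegree_X_sub_C]; omega)
    (by rw [map_sub, aeval_X, aeval_C, hr, sub_self])
  exact X_sub_C_ne_zero r hq

end Groth.VarietyBC.GlobalField

namespace Groth.VarietyBC.GlobalField

/-- No nontrivial idempotent functions on a connected scheme. -/
theorem eq_zero_or_one_of_idem {P : Scheme.{u}} [PreconnectedSpace P] (e : Γ(P, ⊤))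
    (he : e * e = e) : e = 0 ∨ e = 1 := by
  have key : ∀ f : Γ(P, ⊤), f * f = f → P.basicOpen (1 - f) = ⊤ → f = 0 := by
    intro f hf htop
    have hu : IsUnit (1 - f) := by
      refine P.toRingedSpace.isUnit_of_isUnit_germ ⊤ _ fun x hx => ?_
      have : x ∈ P.basicOpen (1 - f) := by rw [htop]; trivial
      exact (Scheme.mem_basicOpen_top ..).1 this
    have : (1 - f) * f = 0 := by rw [sub_mul, one_mul, hf, sub_self]
    exact (hu.mul_right_eq_zero).1 this
  have h0 : P.basicOpen e ⊓ P.basicOpen (1 - e) = ⊥ := by
    rw [← Scheme.basicOpen_mul]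
    have : e * (1 - e) = 0 := by rw [mul_sub, mul_one, he, sub_self]
    rw [this, Scheme.basicOpen_zero]
  have h1 : ∀ x : P, x ∈ P.basicOpen e ∨ x ∈ P.basicOpen (1 - e) := by
    intro x
    rw [Scheme.mem_basicOpen_top, Scheme.mem_basicOpen_top, map_sub, map_one]
    exact IsLocalRing.isUnit_or_isUnit_one_sub_self _
  rcases (P.basicOpen e : Set P).eq_empty_or_nonempty with hA | hA
  · left
    refine key e he (TopologicalSpace.Opens.ext (Set.eq_univ_of_forall fun x => ?_))
    exact (h1 x).resolve_left fun hx => (Set.eq_empty_iff_forall_notMem.1 hA) x hx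
  · rcases (P.basicOpen (1 - e) : Set P).eq_empty_or_nonempty with hB | hB
    · right
      refine (sub_eq_zero.1 (key (1 - e) (by linear_combination he) ?_)).symm
      rw [sub_sub_cancel]
      refine TopologicalSpace.Opens.ext (Set.eq_univ_of_forall fun x => ?_)
      exact (h1 x).resolve_right fun hx => (Set.eq_empty_iff_forall_notMem.1 hB) x hx
    · exfalso
      have := isPreconnected_univ (α := P) _ _ (P.basicOpen e).isOpen (P.basicOpen (1 - e)).isOpen
        (fun x _ => h1 x) (by simpa using hA) (by simpa using hB)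
      rw [Set.univ_inter, ← TopologicalSpace.Opens.coe_inf, h0] at this
      simpa using this

/-- A proper geometrically reduced and geometrically connected scheme over a field has only
constant functions. -/
theorem appTop_bijective {K : Type u} [Field K] {C : Scheme.{u}}
    (f : C ⟶ Spec (CommRingCat.of K)) [GeometricallyReduced f] [IsProper f]
    [GeometricallyConnected f] : Function.Bijective f.appTop := by
  let E := AlgebraicClosure K
  let s : Spec (CommRingCat.of E) ⟶ Spec (CommRingCat.of K) :=
    Spec.map (CommRingCat.ofHom (algebraMap K E))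
  let P := pullback f s
  haveI hPc : ConnectedSpace P :=
    GeometricallyConnected.geometrically_connectedSpace (f := f) s (pullback.fst f s) (pullback.snd f s) (IsPullback.of_hasPullback f s)
  haveI hPr : IsReduced P :=
    GeometricallyReduced.geometrically_isReduced (f := f) s (pullback.fst f s) (pullback.snd f s) (IsPullback.of_hasPullback f s)
  haveI : Nonempty C := ⟨(pullback.fst f s) (Classical.arbitrary P)⟩
  haveI : CompactSpace C := QuasiCompact.compactSpace_of_compactSpace f
  haveI : Nonempty (⊤ : C.Opens) := ⟨⟨Classical.arbitrary C, trivial⟩⟩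
  haveI : Nonempty (⊤ : P.Opens) := ⟨⟨Classical.arbitrary P, trivial⟩⟩
  have hfld : IsField Γ(Spec (CommRingCat.of K), ⊤) :=
    MulEquiv.isField (Field.toIsField K)
      (Scheme.ΓSpecIso (CommRingCat.of K)).commRingCatIsoToRingEquiv.toMulEquiv
  constructor
  · letI := hfld.toField
    exact f.appTop.hom.injective
  intro a
  haveI : Flat s := (HasRingHomProperty.Spec_iff (P := @Flat)).mpr
    (RingHom.flat_algebraMap_iff.mpr inferInstance)
  obtain ⟨m, hm, hma⟩ := isIntegral_appTop_of_universallyClosed f a
  let gE : E →+* Γ(P, ⊤) := (pullback.snd f s).appTop.hom.comp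
    (Scheme.ΓSpecIso (CommRingCat.of E)).inv.hom
  letI : Algebra E Γ(P, ⊤) := gE.toAlgebra
  let b : Γ(P, ⊤) := (pullback.fst f s).appTop a
  let φ : Γ(Spec (CommRingCat.of K), ⊤) →+* E :=
    ((Scheme.ΓSpecIso (CommRingCat.of E)).hom.hom).comp s.appTop.hom
  have hφ : gE.comp φ = (pullback.fst f s).appTop.hom.comp f.appTop.hom := by
    rw [← CommRingCat.hom_comp, ← Scheme.Hom.comp_appTop, pullback.condition, Scheme.Hom.comp_appTop]
    ext c
    simp [gE, φ]
  let mE : Polynomial E := m.map φ
  have hmb : Polynomial.aeval b mE = 0 := by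
    rw [Polynomial.aeval_def, Polynomial.eval₂_map, RingHom.algebraMap_toAlgebra, hφ]
    rw [← Polynomial.hom_eval₂]
    rw [hma, map_zero]
  obtain ⟨r, -, hr⟩ := Groth.ModelsGraphs.GlobalFun.exists_eq_of_aeval_eq_zero
    (Groth.ModelsGraphs.GlobalFun.eq_zero_or_one_of_idem (P := P)) b mE (hm.map φ) hmb
  exact Groth.ModelsGraphs.GlobalFun.mem_range_of_baseChange (IsPullback.of_hasPullback f s) hfld a
    ((Scheme.ΓSpecIso (CommRingCat.of E)).inv r) hr

/-- `H⁰(X, O_X)` has the dimension of the ring of global functions. -/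
theorem finrank_HH_zero (k : Type u) [Field k] (X : Scheme.{u})
    [X.Over (Spec (CommRingCat.of k))] :
    letI := ((X ↘ (Spec (CommRingCat.of k))).appTop.hom.comp
      (Scheme.ΓSpecIso (CommRingCat.of k)).inv.hom : k →+* Γ(X, ⊤)).toAlgebra
    Module.finrank k (Coh.HH X (Coh.structureModule X) 0) = Module.finrank k Γ(X, ⊤) := by
  letI := ((X ↘ (Spec (CommRingCat.of k))).appTop.hom.comp
    (Scheme.ΓSpecIso (CommRingCat.of k)).inv.hom : k →+* Γ(X, ⊤)).toAlgebra
  let e := Sheaf.H.equiv₀ (Coh.toAb (Coh.structureModule X))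
    (T := (⊤ : TopologicalSpace.Opens X)) isTerminalTop
  refine LinearEquiv.finrank_eq
    { toFun := fun x => (e x : Γ(X, ⊤))
      invFun := fun y => e.symm y
      left_inv := e.symm_apply_apply
      right_inv := e.apply_symm_apply
      map_add' := e.map_add
      map_smul' := fun c x => ?_ }
  have h := Sheaf.H.equiv₀_naturality (T := (⊤ : TopologicalSpace.Opens X)) isTerminalTop
    (Coh.smulAb (Coh.structureModule X) (Coh.toGlobal (X ↘ Spec (CommRingCat.of k)) c)) x
  refine h.symm.trans ?_
  rw [Coh.smulAb_app, RingHom.id_apply]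
  have hres : ∀ r : Coh.Γtop X, Coh.resTop X (op ⊤) r = r := by
    intro r
    show (X.ringCatSheaf.obj.map (𝟙 _)).hom r = r
    rw [X.ringCatSheaf.obj.map_id]
    rfl
  erw [hres]
  rfl

end Groth.VarietyBC.GlobalField
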