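import Groth.Agent.VarietyBC.SmoothChart
import Groth.Agent.VarietyBC.Reduced
import Groth.Agent.AlgGrp1.PointsAlg
import Groth.Agent.Flatmor4.GenericPts

/-!
# Geometrically reduced iff generically smooth
-/

set_option autoImplicit false
set_option maxHeartbeats 800000
universe u

open CategoryTheory AlgebraicGeometry
open scoped TensorProduct

namespace Groth.VarietyBC

/-- A reduced Noetherian algebra which is geometrically reduced at its minimal primes is geometrically
reduced. -/
theorem isGeometricallyReduced_of_minimal (k A : Type u) [Field k] [CommRing A] [Algebra k A]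
    [_root_.IsReduced A] [IsNoetherianRing A]
    (h : ∀ P : Ideal A, [P.IsPrime] → P ∈ minimalPrimes A →
      Algebra.IsGeometricallyReduced k (Localization.AtPrime P)) :
    Algebra.IsGeometricallyReduced k A := by
  classical
  haveI : ∀ P : minimalPrimes A, P.1.IsPrime := fun P => P.2.1.1
  haveI : Finite (minimalPrimes A) := (minimalPrimes.finite_of_isNoetherianRing A).to_subtype
  haveI := Fintype.ofFinite (minimalPrimes A)
  let L : minimalPrimes A → Type u := fun P => Localization.AtPrime P.1
  let φ : A →ₐ[k] ∀ P, L P := Pi.algHom k L fun P => IsScalarTower.toAlgHom k A (Localization.AtPrime P.1)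
  have hφ : Function.Injective φ := by
    rw [injective_iff_map_eq_zero]
    intro a ha
    have hmem : a ∈ nilradical A := by
      rw [nilradical, ← Ideal.sInf_minimalPrimes, Submodule.mem_sInf]
      intro (P : Ideal A) hP
      haveI : P.IsPrime := hP.1.1
      have h0 : algebraMap A (Localization.AtPrime P) a = 0 := congrFun ha ⟨P, hP⟩
      obtain ⟨s, hs⟩ := (IsLocalization.map_eq_zero_iff P.primeCompl _ _).1 h0
      exact (Ideal.IsPrime.mem_or_mem ‹P.IsPrime› (hs ▸ P.zero_mem)).resolve_left s.2
    exact (mem_nilradical.1 hmem).eq_zero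
  haveI : ∀ P : minimalPrimes A, Algebra.IsGeometricallyReduced k (L P) := fun P => h P.1 P.2
  rw [Algebra.isGeometricallyReduced_field_iff]
  let K := AlgebraicClosure k
  let ψ : K ⊗[k] A →ₐ[K] K ⊗[k] (∀ P, L P) := Algebra.TensorProduct.map (AlgHom.id K K) φ
  have hψ : Function.Injective ψ :=
    Module.Flat.lTensor_preserves_injective_linearMap (M := K) φ.toLinearMap hφ
  haveI : ∀ P, _root_.IsReduced (K ⊗[k] L P) := fun P =>
    (Algebra.isGeometricallyReduced_field_iff k (L P)).1 inferInstance
  haveI : _root_.IsReduced (K ⊗[k] (∀ P, L P)) :=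
    isReduced_of_injective (Algebra.TensorProduct.piRight k K K L)
      (Algebra.TensorProduct.piRight k K K L).injective
  exact isReduced_of_injective ψ hψ

variable {k : Type u} [Field k] {X : Scheme.{u}} [X.Over (Spec (CommRingCat.of k))]
  [LocallyOfFiniteType (X ↘ (Spec (CommRingCat.of k)))]

local notation "str" => (X ↘ (Spec (CommRingCat.of k)))

/-- Every nonempty open contains a point without proper generization. -/
theorem exists_maximal_mem {O : X.Opens} (h : (O : Set X).Nonempty) :
    ∃ η ∈ O, ∀ z : X, z ⤳ η → z = η := by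
  obtain ⟨x, hx⟩ := h
  obtain ⟨η, hη⟩ := QuasiSober.sober (S := irreducibleComponent x)
    isIrreducible_irreducibleComponent isClosed_irreducibleComponent
  refine ⟨η, (hη.specializes mem_irreducibleComponent).mem_open O.isOpen hx, fun z hz => ?_⟩
  have hsub : irreducibleComponent x ⊆ closure {z} := by
    rw [← hη.def]
    exact closure_minimal (Set.singleton_subset_iff.mpr hz.mem_closure) isClosed_closure
  have h1 : z ∈ irreducibleComponent x :=
    (irreducibleComponent_property x).2.2 _ isIrreducible_singleton.closure.2 hsub ▸ subset_closure rfl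
  exact ((hη.specializes h1).antisymm hz).eq.symm

omit [LocallyOfFiniteType str] in
theorem isField_stalk_of_maximal [IsReduced X] {η : X} (hη : ∀ z : X, z ⤳ η → z = η) :
    IsField (X.presheaf.stalk η) := by
  haveI : Ring.KrullDimLE 0 (X.presheaf.stalk η) := by
    rw [Ring.krullDimLE_iff, ringKrullDim_stalk_eq_coheight]
    have : Order.coheight η = 0 := Order.coheight_eq_zero.2 fun z (hz : η ≤ z) => by
      rw [hη z hz]
    simp [this]
  exact Ring.KrullDimLE.isField_of_isReduced

theorem mem_smoothLocus_of_maximal [IsReduced X] [LocallyOfFinitePresentation str]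
    [GeometricallyReduced str] {η : X} (hη : ∀ z : X, z ⤳ η → z = η) :
    η ∈ (str).smoothLocus := by
  letI := Curv2.stalkAlgebra k X η
  letI := Curv2.resAlgebra k X η
  have hF := isField_stalk_of_maximal hη
  have hbij : Function.Bijective (X.residue η).hom :=
    ⟨by
      rw [injective_iff_map_eq_zero]
      intro a ha
      by_contra h0
      obtain ⟨b, hb⟩ := hF.mul_inv_cancel h0
      have := congrArg (X.residue η).hom hb
      rw [map_mul, ha, zero_mul, map_one] at this
      exact zero_ne_one this, IsLocalRing.residue_surjective⟩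
  haveI : Algebra.IsGeometricallyReduced k (X.presheaf.stalk η) :=
    (isGeomReducedAt_iff η).1 (geometricallyReduced_iff_forall.1 inferInstance η)
  haveI : IsRegularLocalRing (X.presheaf.stalk η) := by
    letI := hF.toField
    exact inferInstance
  let e : X.presheaf.stalk η ≃ₐ[k] X.residueField η :=
    AlgEquiv.ofRingEquiv (f := RingEquiv.ofBijective (X.residue η).hom hbij) fun _ => rfl
  haveI : Algebra.IsGeometricallyReduced k (X.residueField η) :=
    Algebra.IsGeometricallyReduced.of_injective e.symm.toAlgHom e.symm.injective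
  exact (mem_smoothLocus_iff_isRegularLocalRing η
    ((Groth.Ega41Sep.formallySmooth_iff_isGeometricallyReduced k _).2 inferInstance)).2 inferInstance

theorem dense_smoothLocus [IsReduced X] [LocallyOfFinitePresentation str]
    [GeometricallyReduced str] : Dense ((str).smoothLocus : Set X) := by
  rw [dense_iff_inter_open]
  intro O hO hne
  obtain ⟨η, hηO, hη⟩ := exists_maximal_mem (O := ⟨O, hO⟩) hne
  exact ⟨η, hηO, mem_smoothLocus_of_maximal hη⟩

theorem geometricallyReduced_of_dense_smooth [IsReduced X] [LocallyOfFinitePresentation str]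
    (U : X.Opens) (hU : Dense (U : Set X)) (hsm : U ≤ (str).smoothLocus) :
    GeometricallyReduced str := by
  refine geometricallyReduced_iff_forall.2 fun x => (isGeomReducedAt_iff x).2 ?_
  obtain ⟨_, ⟨V, hV, rfl⟩, hx, -⟩ := X.isBasis_affineOpens.exists_subset_of_mem_open
    (Set.mem_univ x) isOpen_univ
  letI := (openMap (k := k) hV).toAlgebra
  haveI := finiteType_openMap (k := k) hV
  haveI : IsNoetherianRing Γ(X, V) := Algebra.FiniteType.isNoetherianRing k _
  haveI : IsLocallyNoetherian X := LocallyOfFiniteType.isLocallyNoetherian str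
  haveI := hV.isOpenImmersion_fromSpec
  haveI hA : Algebra.IsGeometricallyReduced k Γ(X, V) := by
    refine isGeometricallyReduced_of_minimal k _ fun P hPp hP => ?_
    let p : Spec Γ(X, V) := ⟨P, hPp⟩
    have hηV : hV.fromSpec.base p ∈ V := hV.range_fromSpec.subset ⟨p, rfl⟩
    have hp : hV.primeIdealOf ⟨_, hηV⟩ = p :=
      hV.fromSpec.isOpenEmbedding.injective (hV.fromSpec_primeIdealOf ⟨_, hηV⟩)
    have hη : ∀ z : X, z ⤳ hV.fromSpec.base p → z = hV.fromSpec.base p := fun z hz => by
      obtain ⟨q, rfl⟩ : z ∈ Set.range hV.fromSpec.base := by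
        rw [hV.range_fromSpec]; exact hz.mem_open V.isOpen hηV
      have hle : q.asIdeal ≤ P :=
        (PrimeSpectrum.le_iff_specializes q p).2 (hV.fromSpec.isOpenEmbedding.isInducing.specializes_iff.1 hz)
      rw [show q = p from PrimeSpectrum.ext (le_antisymm hle (hP.2 ⟨q.2, bot_le⟩ hle))]
    have hmem := hsm (Groth.Flatmor4.mem_of_dense_of_maximal U hU _ hη)
    have hs := (mem_smoothLocus_iff hV hηV).1 hmem
    rw [Algebra.IsSmoothAt, show (hV.primeIdealOf ⟨_, hηV⟩) = p from hp] at hs
    haveI : _root_.IsReduced (Localization.AtPrime P) :=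
      isReduced_localizationPreserves P.primeCompl _ inferInstance
    haveI : Ring.KrullDimLE 0 (Localization.AtPrime P) := .of_isLocalization _ hP _
    letI := (Ring.KrullDimLE.isField_of_isReduced (R := Localization.AtPrime P)).toField
    haveI : Algebra.EssFiniteType k (Localization.AtPrime P) :=
      Algebra.EssFiniteType.comp k Γ(X, V) (Localization.AtPrime P)
    exact (Groth.Ega41Sep.formallySmooth_iff_isGeometricallyReduced k _).1 hs
  letI := Curv2.stalkAlgebra k X x
  obtain ⟨e⟩ := nonempty_stalkAlgEquiv (k := k) hV hx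
  haveI : Algebra.IsGeometricallyReduced k
      (Localization.AtPrime (hV.primeIdealOf ⟨x, hx⟩).asIdeal) := by
    rw [Algebra.isGeometricallyReduced_field_iff]
    exact Groth.AlgGrp1.isReduced_tensor_localization (hV.primeIdealOf ⟨x, hx⟩).asIdeal.primeCompl
      ((Algebra.isGeometricallyReduced_field_iff k _).1 hA)
  exact Algebra.IsGeometricallyReduced.of_injective e.symm.toAlgHom e.symm.injective

end Groth.VarietyBC
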