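import Groth.Agent.Chow.VeryAmple
import Groth.Agent.EulerDeg.Coherent
import Groth.Agent.Divisors.Assoc
import Groth.Prelude.Def_CurvBase
import Groth.Prelude.Def_ClSub2

/-!
# Global sections of negative ample twists vanish when no closed point is associated
-/

set_option autoImplicit false
set_option linter.style.haveILetI false
set_option backward.isDefEq.respectTransparency.types false
universe u

open CategoryTheory CategoryTheory.Limits AlgebraicGeometry TopologicalSpace Opposite
open Groth.PicAux Groth.PropsBasic.Ample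
open scoped TensorProduct

namespace Groth.VarietyBC.NegTwist

variable {X : Scheme.{u}}

/-- The constants inside the global functions. -/
noncomputable def const (k : Type u) [Field k] (X : Scheme.{u}) [X.Over (Spec (CommRingCat.of k))] :
    k →+* Γ(X, ⊤) :=
  (X ↘ (Spec (CommRingCat.of k))).appTop.hom.comp (Scheme.ΓSpecIso (CommRingCat.of k)).inv.hom

/-- `H⁰` consists of the global sections, compatibly with the constants. -/
theorem exists_h0Equiv (k : Type u) [Field k] [X.Over (Spec (CommRingCat.of k))] (M : X.Modules) :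
    ∃ e : Coh.HH X M 0 ≃+ Γ(M, ⊤), ∀ (c : k) (x : Coh.HH X M 0), e (c • x) = const k X c • e x := by
  refine ⟨Sheaf.H.equiv₀ (Coh.toAb M) (T := (⊤ : X.Opens)) isTerminalTop, fun c x => ?_⟩
  have h := Sheaf.H.equiv₀_naturality (T := (⊤ : TopologicalSpace.Opens X)) isTerminalTop
    (Coh.smulAb M (Coh.toGlobal (X ↘ Spec (CommRingCat.of k)) c)) x
  refine h.symm.trans ?_
  rw [Coh.smulAb_app]
  have hres : ∀ r : Coh.Γtop X, Coh.resTop X (op ⊤) r = r := by
    intro r
    show (X.ringCatSheaf.obj.map (𝟙 _)).hom r = r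
    rw [X.ringCatSheaf.obj.map_id]
    rfl
  erw [hres]
  rfl

/-- Twisting by a generator loses nothing. -/
theorem germ_eq_zero_of_tmulSec {A Q : X.Modules} {U : X.Opens} {e : Γ(Q, U)} (he : Gen Q U e)
    {x : X} (hx : x ∈ U) (a : Γ(A, U))
    (h : (CohB1.tensorMod A Q).presheaf.germ U x hx (tmulSec a e) = 0) :
    A.presheaf.germ U x hx a = 0 := by
  obtain ⟨W, hxW, i₁, i₂, hW⟩ := TopCat.Presheaf.germ_eq (CohB1.tensorMod A Q).presheaf x hx hx
    (tmulSec a e) 0 (h.trans (map_zero _).symm)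
  have hW' : ptenUnit A Q W (res A i₁.le a ⊗ₜ res Q i₁.le e) = ptenUnit A Q W 0 := by
    rw [map_zero]
    refine ((res_tmulSec i₁.le a e).symm.trans ?_)
    exact hW.trans (map_zero _)
  obtain ⟨W', hle, hxW', hp⟩ := ptenUnit_locally_injective A Q W _ _ hW' x hxW
  rw [ptenRes_tmul, map_zero, res_res, res_res] at hp
  let φ := LinearEquiv.ofBijective
    (LinearMap.toSpanSingleton Γ(X, W') Γ(Q, W') (res Q (hle.trans i₁.le) e)) (he W' _)
  have h2 := congrArg (fun p => TensorProduct.rid Γ(X, W') Γ(A, W')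
    (LinearMap.lTensor Γ(A, W') φ.symm.toLinearMap p)) hp
  simp only [LinearMap.lTensor_tmul, TensorProduct.rid_tmul, LinearEquiv.coe_coe, map_zero] at h2
  have h3 : φ.symm (res Q (hle.trans i₁.le) e) = 1 :=
    φ.injective ((φ.apply_symm_apply _).trans (one_smul _ _).symm)
  rw [h3, one_smul] at h2
  rw [← A.presheaf.germ_res_apply (homOfLE (hle.trans i₁.le)) x hxW']
  exact (congrArg _ h2).trans (map_zero _)

/-- A point all of whose specializations lie in one affine open of a proper scheme is closed. -/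
theorem isClosed_singleton_of_closure_le (k : Type u) [Field k] [X.Over (Spec (CommRingCat.of k))]
    [IsProper (X ↘ Spec (CommRingCat.of k))] {W : X.Opens} (hW : IsAffineOpen W) (x : X)
    (h : closure ({x} : Set X) ⊆ W) : IsClosed ({x} : Set X) := by
  let I := Scheme.IdealSheafData.vanishingIdeal
    (⟨closure {x}, isClosed_closure⟩ : TopologicalSpace.Closeds X)
  have hr : Set.range I.subschemeι.base ⊆ Set.range W.ι.base := by
    rw [Scheme.IdealSheafData.range_subschemeι, Scheme.Opens.range_ι,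
      Scheme.IdealSheafData.coe_support_vanishingIdeal]
    exact h
  let ℓ := IsOpenImmersion.lift W.ι I.subschemeι hr
  have : IsClosedImmersion (ℓ ≫ W.ι) := by
    rw [IsOpenImmersion.lift_fac]; infer_instance
  have : IsClosedImmersion ℓ := IsClosedImmersion.of_comp ℓ W.ι
  have : IsAffine W.toScheme := hW
  have : IsAffine I.subscheme := isAffine_of_isAffineHom ℓ
  let q := I.subschemeι ≫ (X ↘ Spec (CommRingCat.of k))
  have : IsFinite q := (IsFinite.iff_isProper_and_isAffineHom (f := q)).2 ⟨inferInstance, inferInstance⟩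
  have : JacobsonSpace I.subscheme := LocallyOfFiniteType.jacobsonSpace q
  have : Finite I.subscheme := by
    refine Set.finite_univ_iff.1 ((q.finite_preimage_singleton default).subset fun z _ => ?_)
    exact Subsingleton.elim _ _
  obtain ⟨z, hz⟩ : x ∈ Set.range I.subschemeι.base := by
    rw [Scheme.IdealSheafData.range_subschemeι,
      Scheme.IdealSheafData.coe_support_vanishingIdeal]
    exact subset_closure rfl
  have := I.subschemeι.isClosedEmbedding.isClosedMap {z} (isClosed_discrete _)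
  rwa [Set.image_singleton, hz] at this

/-- The product of `N` sections. -/
noncomputable def prodSec {L : X.Modules} (f : ℕ → Γ(L, ⊤)) : ∀ N, Γ(CohB1.tensorPow L N, ⊤)
  | 0 => oneSec X ⊤
  | n + 1 => tmulSec (prodSec f n) (f n)

theorem res_prodSec {L : X.Modules} (f : ℕ → Γ(L, ⊤)) {W : X.Opens} (e : Γ(L, W))
    (a : ℕ → Γ(X, W)) (h : ∀ l, res L le_top (f l) = a l • e) :
    ∀ N, res _ (le_top : W ≤ ⊤) (prodSec f N) = (∏ l ∈ Finset.range N, a l) • powSec e N
  | 0 => by
    rw [Finset.prod_range_zero, one_smul]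
    exact res_oneSec le_top
  | n + 1 => by
    rw [Finset.prod_range_succ]
    change res _ le_top (tmulSec (prodSec f n) (f n)) = _
    rw [res_tmulSec, res_prodSec f e a h n, h n, tmulSec_smul_left, tmulSec_smul_right, smul_smul]
    rfl

/-- A nonzero polynomial in a function vanishing at a specialization does not vanish. -/
theorem isUnit_germ_eval₂ {W : X.Opens} {k : Type u} [Field k] (φ : k →+* Γ(X, W)) (a : Γ(X, W))
    {x y : X} (hxy : x ⤳ y) (hyW : y ∈ W) (hy : y ∉ X.basicOpen a) (hx : x ∈ X.basicOpen a)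
    {p : Polynomial k} (hp : p ≠ 0) : x ∈ X.basicOpen (p.eval₂ φ a) := by
  obtain ⟨q, hq, hqdvd⟩ := p.exists_eq_pow_rootMultiplicity_mul_and_not_dvd hp 0
  rw [map_zero, sub_zero] at hq hqdvd
  rw [hq, Polynomial.eval₂_mul, Polynomial.eval₂_X_pow, Scheme.basicOpen_mul]
  refine ⟨?_, hxy.mem_open (X.basicOpen (q.eval₂ φ a)).isOpen ?_⟩
  · rcases Nat.eq_zero_or_pos (p.rootMultiplicity 0) with h0 | h0
    · rw [h0, pow_zero, Scheme.basicOpen_of_isUnit _ isUnit_one]
      exact X.basicOpen_le a hx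
    · rw [X.basicOpen_pow _ h0]
      exact hx
  · refine (Scheme.mem_basicOpen _ _ _ hyW).2 ?_
    rw [← q.divX_mul_X_add, Polynomial.eval₂_add, Polynomial.eval₂_mul, Polynomial.eval₂_X,
      Polynomial.eval₂_C, map_add, map_mul]
    have hc : IsUnit (φ (q.coeff 0)) := by
      refine IsUnit.map φ (Ne.isUnit fun h0 => hqdvd ?_)
      exact Polynomial.X_dvd_iff.2 h0
    have hm : X.presheaf.germ W y hyW a ∈ IsLocalRing.maximalIdeal (X.presheaf.stalk y) :=
      (IsLocalRing.mem_maximalIdeal _).2 fun hu => hy ((Scheme.mem_basicOpen _ _ _ hyW).2 hu)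
    by_contra hu
    have h1 : X.presheaf.germ W y hyW (φ (q.coeff 0)) ∈
        IsLocalRing.maximalIdeal (X.presheaf.stalk y) := by
      refine (Ideal.add_mem_iff_right _
        (Ideal.mul_mem_left _ (X.presheaf.germ W y hyW (q.divX.eval₂ φ a)) hm)).1 ?_
      exact (IsLocalRing.mem_maximalIdeal _).2 hu
    exact (IsLocalRing.mem_maximalIdeal _).1 h1 (hc.map _)

/-- Sections of negative ample twists of modules without associated closed points vanish from a
degree on that depends only on the dimension of the space of global sections. -/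
theorem exists_uniform (k : Type u) [Field k] [X.Over (Spec (CommRingCat.of k))]
    [IsProper (X ↘ Spec (CommRingCat.of k))] (L : X.Modules) (hL : CohB1.IsAmple L) (M : X.Modules)
    (hM : ClSub.IsInverseOf L M) :
    ∃ m n₁ : ℕ, ∀ (F : X.Modules), Coh.IsCoh F →
      (∀ x : X, IsClosed ({x} : Set X) → ¬ Curv2.IsAssPoint F x) →
      ∀ n : ℕ, m * Module.finrank k (Coh.HH X F 0) + n₁ ≤ n →
        Subsingleton (Coh.HH X (CohB1.tensorMod F (CohB1.tensorPow M n)) 0) := by
  classical
  have hLi := hL.1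
  have := hL.2.1
  choose W hWaff hxW hW using fun x => Groth.Chow.exists_uniform_sections hL x
  choose b hb using fun x => hW x ∅
  obtain ⟨S, hS⟩ := CompactSpace.isCompact_univ.elim_finite_subcover (fun x => (W x : Set X))
    (fun x => (W x).isOpen) (fun x _ => Set.mem_iUnion.2 ⟨x, hxW x⟩)
  let n₁ := S.sup b
  have hσ : ∀ x ∈ S, ∀ n, n₁ ≤ n → ∃ σ : Γ(CohB1.tensorPow L n, ⊤), gloc σ = W x := fun x hx n hn =>
    (hb x n ((Finset.le_sup hx).trans hn)).imp fun _ h => h.1
  have hmem : ∀ y : X, ∃ j ∈ S, y ∈ W j := fun y => by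
    obtain ⟨j, hj, hyj⟩ := Set.mem_iUnion₂.1 (hS (Set.mem_univ y))
    exact ⟨j, hj, hyj⟩
  refine ⟨n₁ + 1, n₁, fun F hF hass n hn => ?_⟩
  obtain ⟨eF, heF⟩ := exists_h0Equiv k F
  have : Module.Finite k (Coh.HH X F 0) := Groth.EulerDeg.finite_HH k X hF 0
  let N := Module.finrank k (Coh.HH X F 0)
  let m := n₁ + 1
  change m * N + n₁ ≤ n at hn
  set A := CohB1.tensorMod F (CohB1.tensorPow M n) with hA
  obtain ⟨eA, -⟩ := exists_h0Equiv k A
  suffices ∀ s : Γ(A, ⊤), s = 0 from
    ⟨fun a b => eA.injective ((this _).trans (this _).symm)⟩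
  intro s
  by_contra hs
  let ι₀ : CohB1.tensorMod A (CohB1.tensorPow L n) ≅ F :=
    (exists_associator F (CohB1.tensorPow M n) (CohB1.tensorPow L n)).choose ≪≫
      PicGrp.tensorModIso (Iso.refl F) (isInverseOf_tensorPow (isInverseOf_symm hM) n).some ≪≫
      SecTwist.unitorR F
  -- a nonclosed point where `s` is nonzero
  obtain ⟨y₀, hy₀⟩ : ∃ y : X, A.presheaf.germ ⊤ y trivial s ≠ 0 := by
    by_contra h
    push_neg at h
    refine hs (TopCat.Presheaf.section_ext ⟨A.presheaf, A.isSheaf⟩ ⊤ s 0 fun y hy => ?_)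
    erw [map_zero]
    exact h y
  obtain ⟨x, hxne, hxncl⟩ : ∃ x : X, A.presheaf.germ ⊤ x trivial s ≠ 0 ∧
      ¬ IsClosed ({x} : Set X) := by
    obtain ⟨j, hj, hyj⟩ := hmem y₀
    obtain ⟨t, ht⟩ := hσ j hj n (le_of_add_le_right hn)
    have hy₁ : F.presheaf.germ ⊤ y₀ trivial (ι₀.hom.app ⊤ (tmulSec s t)) ≠ 0 := by
      intro h0
      have h1 : (CohB1.tensorMod A (CohB1.tensorPow L n)).presheaf.germ ⊤ y₀ trivial (tmulSec s t)
          = 0 := by
        have hinj : Function.Injective ((Groth.QCohMod.stalk y₀).map ι₀.hom) := fun p q hpq => by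
          have := congrArg ((Groth.QCohMod.stalk y₀).map ι₀.inv) hpq
          simpa only [← ConcreteCategory.comp_apply, ← Functor.map_comp, Iso.hom_inv_id,
            CategoryTheory.Functor.map_id, ConcreteCategory.id_apply] using this
        refine hinj ?_
        have hy₀' : y₀ ∈ (⊤ : X.Opens) := trivial
        exact ((Groth.QCohMod.stalk_map_germ _ y₀ hy₀' _).trans h0).trans (map_zero _).symm
      rw [← (CohB1.tensorMod A _).presheaf.germ_res_apply (homOfLE (le_top : gloc t ≤ ⊤)) y₀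
        (ht.ge hyj)] at h1
      change (CohB1.tensorMod A _).presheaf.germ _ y₀ _ (res _ le_top (tmulSec s t)) = 0 at h1
      rw [res_tmulSec] at h1
      have h2 := germ_eq_zero_of_tmulSec (gen_gloc t le_rfl) _ _ h1
      exact hy₀ ((A.presheaf.germ_res_apply (homOfLE (le_top : gloc t ≤ ⊤)) y₀ (ht.ge hyj) s).symm.trans h2)
    obtain ⟨x, _, -, hwa, hgx⟩ :=
      Groth.Divisors.exists_weakAss_germ_ne_zero hF.1 (ι₀.hom.app ⊤ (tmulSec s t)) trivial hy₁
    have hx' : x ∈ (⊤ : X.Opens) := trivial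
    refine ⟨x, fun h0 => hgx ?_, fun hc => hass x hc (Groth.Divisors.isAssPoint_iff_weak.2 hwa)⟩
    obtain ⟨V, hxV, i₁, i₂, hV⟩ := TopCat.Presheaf.germ_eq A.presheaf x hx' hx' s 0
      (h0.trans (map_zero _).symm)
    have h3 : res A (le_top : V ≤ ⊤) s = 0 := hV.trans (map_zero _)
    rw [← F.presheaf.germ_res_apply (homOfLE (le_top : V ≤ ⊤)) x hxV]
    change F.presheaf.germ _ x _ (res F le_top _) = 0
    rw [← app_res, res_tmulSec, h3, tmulSec_zero_left, map_zero, map_zero]
  -- two sections separating `x` from a specialization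
  obtain ⟨i, hi, hxi⟩ := hmem x
  obtain ⟨y, hxy, hyi⟩ : ∃ y, x ⤳ y ∧ y ∉ W i := by
    by_contra h
    push_neg at h
    exact hxncl (isClosed_singleton_of_closure_le k (hWaff i) x
      fun y hy => h y (specializes_iff_mem_closure.2 hy))
  obtain ⟨j, hj, hyj⟩ := hmem y
  have hxj : x ∈ W j := hxy.mem_open (W j).isOpen hyj
  obtain ⟨t₀, ht₀⟩ := hσ i hi m n₁.le_succ
  obtain ⟨t₁, ht₁⟩ := hσ j hj m n₁.le_succ
  obtain ⟨r, rfl⟩ : ∃ r, n = m * N + r := ⟨n - m * N, by omega⟩
  obtain ⟨t₂, ht₂⟩ := hσ j hj r (by omega)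
  have hP := isInvertible_tensorPow hLi m
  have he₁ : Gen (CohB1.tensorPow L m) (W j) (res _ le_top t₁) := gen_gloc t₁ ht₁.ge
  obtain ⟨a, ha⟩ := he₁.exists_coeff le_rfl (res _ (le_top : W j ≤ ⊤) t₀)
  rw [res_self] at ha
  have hga := gloc_inf_eq_basicOpen he₁ ha
  have hya : y ∉ X.basicOpen a := fun h => hyi (ht₀.le (hga.ge h).1)
  have hxa : x ∈ X.basicOpen a := hga.le ⟨ht₀.ge hxi, hxj⟩
  -- the monomials
  let Q := CohB1.tensorMod (CohB1.tensorPow (CohB1.tensorPow L m) N) (CohB1.tensorPow L r)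
  let P : ℕ → Γ(CohB1.tensorPow (CohB1.tensorPow L m) N, ⊤) := fun l =>
    prodSec (fun o => if o < l then t₀ else t₁) N
  have hres : ∀ l ≤ N, res _ (le_top : W j ≤ ⊤) (P l) = a ^ l • powSec (res _ le_top t₁) N := by
    intro l hl
    rw [res_prodSec _ (res _ le_top t₁) (fun o => if o < l then a else 1) (fun o => by
      split_ifs
      · exact ha
      · exact (one_smul _ _).symm) N]
    congr 1
    rw [← Finset.prod_range_mul_prod_Ico _ hl, Finset.prod_congr rfl fun o ho => if_pos
      (Finset.mem_range.1 ho), Finset.prod_const, Finset.card_range, Finset.prod_eq_one fun o ho =>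
      if_neg (not_lt.2 (Finset.mem_Ico.1 ho).1), mul_one]
  let ι : CohB1.tensorMod A Q ≅ F :=
    PicGrp.tensorModIso (Iso.refl A) (PicGrp.tensorModIso (tensorPow_mul L m N).some.symm (Iso.refl _) ≪≫
      (tensorPow_add L (m * N) r).some.symm) ≪≫ ι₀
  let T : (Fin (N + 1) → k) → Γ(Q, ⊤) := fun c =>
    tmulSec (∑ l : Fin (N + 1), const k X (c l) • P l) t₂
  have hTadd : ∀ c d, T (c + d) = T c + T d := fun c d => by
    simp only [T, Pi.add_apply, map_add, add_smul, Finset.sum_add_distrib, tmulSec_add_left]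
  have hTsmul : ∀ (z : k) c, T (z • c) = const k X z • T c := fun z c => by
    simp only [T, Pi.smul_apply, smul_eq_mul, map_mul, mul_smul, ← Finset.smul_sum, tmulSec_smul_left]
  let Ψ : (Fin (N + 1) → k) →ₗ[k] Coh.HH X F 0 :=
    { toFun := fun c => eF.symm (ι.hom.app ⊤ (tmulSec s (T c)))
      map_add' := fun c d => by
        rw [hTadd, tmulSec_add_right, map_add, map_add]
      map_smul' := fun z c => eF.injective (by
        rw [RingHom.id_apply, heF, eF.apply_symm_apply, eF.apply_symm_apply, hTsmul,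
          tmulSec_smul_right, Scheme.Modules.Hom.app_smul]) }
  suffices hΨ : Function.Injective Ψ by
    have := LinearMap.finrank_le_finrank_of_injective hΨ
    rw [Module.finrank_fin_fun] at this
    omega
  refine (injective_iff_map_eq_zero Ψ).2 fun c hc => ?_
  by_contra hc0
  have h1 : ι.hom.app ⊤ (tmulSec s (T c)) = 0 := (eF.symm.map_eq_zero_iff).1 hc
  have h2 : tmulSec s (T c) = (0 : Γ(CohB1.tensorMod A Q, ⊤)) := by
    have := congrArg (ι.inv.app ⊤) h1
    rw [map_zero] at this
    exact (congr(($(ι.hom_inv_id)).app ⊤ (tmulSec s (T c)))).symm.trans this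
  let p : Polynomial k := ∑ l : Fin (N + 1), Polynomial.C (c l) * Polynomial.X ^ (l : ℕ)
  have hp : p ≠ 0 := by
    obtain ⟨l, hl⟩ := Function.ne_iff.1 hc0
    intro h0
    refine hl ?_
    have := congrArg (fun q => Polynomial.coeff q (l : ℕ)) h0
    simpa [p, Polynomial.finsetSum_coeff, Polynomial.coeff_C_mul, Polynomial.coeff_X_pow,
      Fin.val_inj] using this
  let φ : k →+* Γ(X, W j) := (resX X le_top).comp (const k X)
  have hxp := isUnit_germ_eval₂ φ a hxy hyj hya hxa hp
  have he : Gen Q (W j) (tmulSec (powSec (res _ le_top t₁) N) (res _ le_top t₂)) :=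
    (he₁.pow N).tensor (gen_gloc t₂ ht₂.ge)
  have hTres : res Q (le_top : W j ≤ ⊤) (T c) =
      p.eval₂ φ a • tmulSec (powSec (res _ le_top t₁) N) (res _ le_top t₂) := by
    rw [show T c = tmulSec (∑ l : Fin (N + 1), const k X (c l) • P l) t₂ from rfl, res_tmulSec,
      ← tmulSec_smul_left]
    congr 1
    have hadd : res (CohB1.tensorPow (CohB1.tensorPow L m) N) (le_top : W j ≤ ⊤)
        (∑ l : Fin (N + 1), const k X (c l) • P l) =
        ∑ l : Fin (N + 1), res _ (le_top : W j ≤ ⊤) (const k X (c l) • P l) :=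
      map_sum ((CohB1.tensorPow (CohB1.tensorPow L m) N).presheaf.map (homOfLE le_top).op).hom _ _
    rw [hadd, Polynomial.eval₂_finsetSum, Finset.sum_smul]
    refine Finset.sum_congr rfl fun l _ => ?_
    rw [res_smul, hres l (Nat.lt_succ_iff.1 l.2), smul_smul, Polynomial.eval₂_mul,
      Polynomial.eval₂_C, Polynomial.eval₂_X_pow]
    rfl
  have hxT : x ∈ gloc (T c) := ((gloc_inf_eq_basicOpen he hTres).ge hxp).1
  refine hxne ?_
  rw [← A.presheaf.germ_res_apply (homOfLE (le_top : gloc (T c) ≤ ⊤)) x hxT]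
  refine germ_eq_zero_of_tmulSec (gen_gloc (T c) le_rfl) hxT _ ?_
  change (CohB1.tensorMod A Q).presheaf.germ _ x _ (tmulSec (res A le_top s) (res Q le_top (T c))) = 0
  rw [← res_tmulSec, h2, res_zero, map_zero]

/-- Sections of large negative ample twists vanish if no closed point is associated. -/
theorem exists_bound (k : Type u) [Field k] [X.Over (Spec (CommRingCat.of k))]
    [IsProper (X ↘ Spec (CommRingCat.of k))] (L : X.Modules) (hL : CohB1.IsAmple L) (M : X.Modules)
    (hM : ClSub.IsInverseOf L M) (F : X.Modules) (hF : Coh.IsCoh F)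
    (hass : ∀ x : X, IsClosed ({x} : Set X) → ¬ Curv2.IsAssPoint F x) :
    ∃ n₀ : ℕ, ∀ n : ℕ, n₀ ≤ n →
      Subsingleton (Coh.HH X (CohB1.tensorMod F (CohB1.tensorPow M n)) 0) :=
  let ⟨m, n₁, h⟩ := exists_uniform k L hL M hM
  ⟨m * Module.finrank k (Coh.HH X F 0) + n₁, h F hF hass⟩

end Groth.VarietyBC.NegTwist
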