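import Groth.Agent.Inter.PushProper
import Groth.Agent.Inter.Length
import Groth.Agent.RDerLib.LES
import Groth.Agent.Misc4.QCohCd

/-!
# Euler characteristics and higher direct images

`χ(Y, G) = Σ_i (-1)^i χ(X, R^i f_* G)` for a morphism of proper schemes over a field, by dévissage and
Chow's lemma.
-/

set_option autoImplicit false
set_option linter.style.haveILetI false

universe u

open CategoryTheory CategoryTheory.Limits AlgebraicGeometry TopologicalSpace Opposite

namespace Groth.VarietyBC.EulerPush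

open Groth.Inter Groth.PicAux Groth.CohFin Groth.CohBase

variable (k : Type u) [Field k] {X : Scheme.{u}} [X.Over (Spec (CommRingCat.of k))]
  [IsProper (X ↘ Spec (CommRingCat.of k))]

/-- In an exact sequence `A ⟶ B ⟶ D`, `χ(A) = χ(ker a) + χ(ker b)`. -/
theorem euler_eq_ker_add {A B D : X.Modules} (a : A ⟶ B) (b : B ⟶ D) (w : a ≫ b = 0)
    (h : (ShortComplex.mk a b w).Exact) (hA : Coh.IsCoh A) (hB : Coh.IsCoh B) (hD : Coh.IsCoh D) :
    Curv2.euler k X A = Curv2.euler k X (kernel a) + Curv2.euler k X (kernel b) := by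
  have hN : IsNoetherian X := Groth.Inter.isNoetherian k
  haveI := hB.1
  haveI := hD.1
  let p : A ⟶ kernel b := kernel.lift b a w
  have hp : p ≫ kernel.ι b = a := kernel.lift_ι b a w
  haveI hep : Epi p := (ShortComplex.exact_iff_epi_kernel_lift _).1 h
  have w' : kernel.ι a ≫ p = 0 := by
    rw [← cancel_mono (kernel.ι b), Category.assoc, hp, kernel.condition, zero_comp]
  let S := ShortComplex.mk (kernel.ι a) p w'
  have hex : S.Exact := ShortComplex.exact_of_f_is_kernel S
    (KernelFork.IsLimit.ofι' _ _ fun {W} g hg => ⟨kernel.lift a g (by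
      rw [← hp, ← Category.assoc, show g ≫ p = 0 from hg, zero_comp]), kernel.lift_ι _ _ _⟩)
  exact Groth.Inter.euler_add k (S := S) { exact := hex, mono_f := inferInstanceAs (Mono (kernel.ι a)), epi_g := hep }
    (QCohMod.isCoh_kernel a hA) (QCohMod.isCoh_kernel b hB)

/-- The alternating sum along a long exact sequence vanishing from some degree on. -/
theorem telescope (A B C : ℕ → X.Modules) (hA : ∀ n, Coh.IsCoh (A n)) (hB : ∀ n, Coh.IsCoh (B n))
    (hC : ∀ n, Coh.IsCoh (C n)) (a : ∀ n, A n ⟶ B n) (b : ∀ n, B n ⟶ C n) (d : ∀ n, C n ⟶ A (n + 1))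
    (wa : ∀ n, a n ≫ b n = 0) (wb : ∀ n, b n ≫ d n = 0) (wd : ∀ n, d n ≫ a (n + 1) = 0)
    (ha : ∀ n, (ShortComplex.mk _ _ (wa n)).Exact) (hb : ∀ n, (ShortComplex.mk _ _ (wb n)).Exact)
    (hd : ∀ n, (ShortComplex.mk _ _ (wd n)).Exact) [Mono (a 0)] (N : ℕ) (hz : IsZero (A N)) :
    ∑ i ∈ Finset.range N, (-1 : ℤ) ^ i *
      (Curv2.euler k X (A i) - Curv2.euler k X (B i) + Curv2.euler k X (C i)) = 0 := by
  let K : ℕ → ℤ := fun n => Curv2.euler k X (kernel (a n))
  have hstep : ∀ n, Curv2.euler k X (A n) - Curv2.euler k X (B n) + Curv2.euler k X (C n) =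
      K n + K (n + 1) := fun n => by
    rw [euler_eq_ker_add k _ _ (wa n) (ha n) (hA n) (hB n) (hC n),
      euler_eq_ker_add k _ _ (wb n) (hb n) (hB n) (hC n) (hA (n + 1)),
      euler_eq_ker_add k _ _ (wd n) (hd n) (hC n) (hA (n + 1)) (hB (n + 1))]
    simp only [K]
    ring
  have key : ∀ n, ∑ i ∈ Finset.range n, (-1 : ℤ) ^ i *
      (Curv2.euler k X (A i) - Curv2.euler k X (B i) + Curv2.euler k X (C i)) =
        K 0 - (-1 : ℤ) ^ n * K n := by
    intro n
    induction n with
    | zero => simp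
    | succ n ih => rw [Finset.sum_range_succ, ih, hstep n, pow_succ]; ring
  have h0 : K 0 = 0 := Groth.Inter.euler_of_isZero k (isZero_kernel_of_mono (a 0))
  have hN : K N = 0 := Groth.Inter.euler_of_isZero k (IsZero.of_mono (kernel.ι (a N)) hz)
  rw [key N, h0, hN, mul_zero, sub_zero]

variable {Y : Scheme.{u}} [Y.Over (Spec (CommRingCat.of k))]
  [IsProper (Y ↘ Spec (CommRingCat.of k))] (f : Y ⟶ X) [IsProper f] [HasInjectiveResolutions Y.Modules]

/-- The alternating sum of the Euler characteristics of the first `N` higher direct images. -/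
noncomputable def psi (N : ℕ) (G : Y.Modules) : ℤ :=
  ∑ i ∈ Finset.range N, (-1 : ℤ) ^ i * Curv2.euler k X ((Coh.Rpush f i).obj G)

/-- The defect `χ(Y, G) - Σ_i (-1)^i χ(X, R^i f_* G)`. -/
noncomputable def phi (N : ℕ) (G : Y.Modules) : ℤ := Curv2.euler k Y G - psi k f N G

omit [IsProper (Y ↘ Spec (CommRingCat.of k))] in
theorem psi_add (N : ℕ) (hN : ∀ G : Y.Modules, Coh.IsCoh G → IsZero ((Coh.Rpush f N).obj G))
    {S : ShortComplex Y.Modules} (hS : S.ShortExact) (h₁ : Coh.IsCoh S.X₁) (h₂ : Coh.IsCoh S.X₂)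
    (h₃ : Coh.IsCoh S.X₃) : psi k f N S.X₂ = psi k f N S.X₁ + psi k f N S.X₃ := by
  have hNX : IsNoetherian X := Groth.Inter.isNoetherian k
  obtain ⟨L⟩ := Groth.RDerLib.exists_derivedLES (Scheme.Modules.pushforward f)
  have hc : ∀ (G : Y.Modules), Coh.IsCoh G → ∀ i, Coh.IsCoh ((Coh.Rpush f i).obj G) :=
    fun G hG i => isCoh_rightDerived_of_proper projFinite f i G hG
  haveI : Mono ((Coh.Rpush f 0).map S.f) := by
    haveI := hS.mono_f
    haveI : Mono ((Scheme.Modules.pushforward f).map S.f) := inferInstance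
    rw [show (Coh.Rpush f 0).map S.f =
      (Scheme.Modules.pushforward f).rightDerivedZeroIsoSelf.hom.app S.X₁ ≫
        (Scheme.Modules.pushforward f).map S.f ≫
          (Scheme.Modules.pushforward f).rightDerivedZeroIsoSelf.inv.app S.X₂ by
      rw [← Category.assoc, ← NatTrans.naturality, Category.assoc, Iso.hom_inv_id_app, Category.comp_id]]
    infer_instance
  have h := telescope k (fun i => (Coh.Rpush f i).obj S.X₁) (fun i => (Coh.Rpush f i).obj S.X₂)
    (fun i => (Coh.Rpush f i).obj S.X₃) (hc _ h₁) (hc _ h₂) (hc _ h₃)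
    (fun i => (Coh.Rpush f i).map S.f) (fun i => (Coh.Rpush f i).map S.g)
    (fun i => L.δ S hS i (i + 1) rfl)
    (fun i => by rw [← Functor.map_comp, S.zero, Functor.map_zero])
    (fun i => L.comp_δ S hS i (i + 1) rfl) (fun i => L.δ_comp S hS i (i + 1) rfl)
    (fun i => L.exact₂ S hS i) (fun i => L.exact₃ S hS i (i + 1) rfl)
    (fun i => L.exact₁ S hS i (i + 1) rfl) N (hN _ h₁)
  simp only [mul_add, mul_sub, Finset.sum_add_distrib, Finset.sum_sub_distrib] at h
  simp only [psi]
  linarith

theorem phi_add (N : ℕ) (hN : ∀ G : Y.Modules, Coh.IsCoh G → IsZero ((Coh.Rpush f N).obj G))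
    {S : ShortComplex Y.Modules} (hS : S.ShortExact) (h₁ : Coh.IsCoh S.X₁) (h₂ : Coh.IsCoh S.X₂)
    (h₃ : Coh.IsCoh S.X₃) : phi k f N S.X₂ = phi k f N S.X₁ + phi k f N S.X₃ := by
  simp only [phi, psi_add k f N hN hS h₁ h₂ h₃, Groth.Inter.euler_add k hS h₁ h₃]
  ring

variable (hf : f ≫ (X ↘ Spec (CommRingCat.of k)) = Y ↘ Spec (CommRingCat.of k))

omit [IsProper (Y ↘ Spec (CommRingCat.of k))] [IsProper f] in
include hf in
/-- The defect vanishes on modules which are acyclic for the direct image. -/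
theorem phi_eq_zero_of_pushAcyclic (N : ℕ) {P : Y.Modules} (hP : PushAcyclic f.base (abSheaf P)) :
    phi k f (N + 1) P = 0 := by
  have hR := rightAcyclic_of_pushAcyclic f P hP
  rw [phi, psi, Finset.sum_range_succ', Finset.sum_eq_zero fun i _ => by
    rw [Groth.Inter.euler_of_isZero k (hR i), mul_zero]]
  rw [EulerDeg.euler_congr k ((Scheme.Modules.pushforward f).rightDerivedZeroIsoSelf.app P),
    show (Scheme.Modules.pushforward f).obj P = (Coh.push f).obj P from rfl,
    euler_push_acyclic k f hf hP]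
  ring

/-- A module on `Z'` acyclic for `ρ` and for `ρ ≫ f` has direct image acyclic for `f`. -/
theorem pushAcyclic_push {Z' : Scheme.{u}} (ρ : Z' ⟶ Y) {T : Z'.Modules}
    (h₁ : PushAcyclic ρ.base (abSheaf T)) (h₂ : PushAcyclic (ρ ≫ f).base (abSheaf T)) :
    PushAcyclic f.base (abSheaf ((Coh.push ρ).obj T)) := by
  intro V y hy
  obtain ⟨V', hle, hy', hV'⟩ := h₂ V y hy
  refine ⟨V', hle, hy', fun q => ?_⟩
  obtain ⟨e⟩ := h₁.nonempty_equiv_H' (q + 1) ((Opens.map f.base).obj V')
  exact @Equiv.subsingleton _ _ e.toEquiv (hV' q)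

include hf in
/-- The defect vanishes on the structure sheaves of integral closed subschemes. -/
theorem phi_closureStructureSheaf (N : ℕ)
    (hN : ∀ G : Y.Modules, Coh.IsCoh G → IsZero ((Coh.Rpush f (N + 1)).obj G)) (y : Y) :
    phi k f (N + 1) (Cyc.closureStructureSheaf y) = 0 := by
  have hNX : IsNoetherian X := Groth.Inter.isNoetherian k
  have hNY : IsNoetherian Y := Groth.Inter.isNoetherian k
  suffices ∀ (c : Closeds Y) (y : Y), closure ({y} : Set Y) = c →
      phi k f (N + 1) (Cyc.closureStructureSheaf y) = 0 from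
    this ⟨closure {y}, isClosed_closure⟩ y rfl
  intro c
  induction c using WellFoundedLT.induction with
  | _ c ih =>
  intro y hy
  -- Chow's lemma on the closure of `y`
  let i := (IntMult.ptIdeal y).subschemeι
  let Z := (IntMult.ptIdeal y).subscheme
  let s : Z ⟶ Spec (CommRingCat.of k) := i ≫ (Y ↘ Spec (CommRingCat.of k))
  have : IsProper s := inferInstance
  have : IsIntegral Z := CohTwo.isIntegral_closure_subscheme rfl
  letI : Z.Over (Spec (CommRingCat.of k)) := ⟨s⟩
  have : IsProper (Z ↘ Spec (CommRingCat.of k)) := inferInstanceAs (IsProper s)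
  have hZN : IsNoetherian Z := Groth.Inter.isNoetherian k
  have hrange : Set.range i = closure ({y} : Set Y) :=
    Groth.PropsBasic2.range_vanishingIdeal_subschemeι ⟨closure {y}, isClosed_closure⟩
  obtain ⟨n, Z', μ, j, hj, hje, hμ, hsurj, ⟨U, hU, hU', hiso⟩, hred, hirr⟩ :=
    Groth.Chow.exists_chow s NoetherianSpace.finite_irreducibleComponents
  letI : Z'.Over (Spec (CommRingCat.of k)) := ⟨μ ≫ s⟩
  have : IsProper (Z' ↘ Spec (CommRingCat.of k)) := inferInstanceAs (IsProper (μ ≫ s))
  have : IrreducibleSpace Z' := hirr inferInstance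
  let ρ : Z' ⟶ Y := μ ≫ i
  have hA : CohB1.IsAmple
      ((Scheme.Modules.pullback j).obj (Twist.twistOver n (Spec (CommRingCat.of k)) 1)) :=
    Chow.isAmple_of_immersion (μ ≫ s) _ n j (Iso.refl _)
  set A := (Scheme.Modules.pullback j).obj (Twist.twistOver n (Spec (CommRingCat.of k)) 1)
  have hZN' : IsNoetherian Z' := Groth.Inter.isNoetherian k
  have hO : Coh.IsCoh (Coh.structureModule Z') :=
    isCoh_of_isInvertible (EulerDeg.isInvertible_structureModule Z')
  obtain ⟨e₁, he₁⟩ := exists_pushAcyclic ρ hA hO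
  obtain ⟨e₂, he₂⟩ := exists_pushAcyclic (ρ ≫ f) hA hO
  let e := max e₁ e₂
  let T := CohB1.tensorMod (CohB1.tensorPow A e) (Coh.structureModule Z')
  have hAi := PicAux.isInvertible_tensorPow hA.1 e
  have hT : Coh.IsCoh T := Groth.Inter.isCoh_twist hAi hO
  let P := (Coh.push ρ).obj T
  have hP : Coh.IsCoh P := isCoh_push_proper ρ hT
  have hP0 : phi k f (N + 1) P = 0 := phi_eq_zero_of_pushAcyclic k f hf N
    (pushAcyclic_push f ρ (he₁ e (le_max_left _ _)) (he₂ e (le_max_right _ _)))
  have hPsub : CohB1.support P ⊆ closure {y} := fun x hx => by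
    obtain ⟨z, -, rfl⟩ := support_push_subset' ρ T (CohTwo.isClosed_support _ hT) hx
    exact hrange.le ⟨μ z, (Scheme.Hom.comp_apply μ i z).symm⟩
  let η := genericPoint Z'
  have hηU : μ η ∈ U :=
    (genericPoint_spec Z').mem_open_set_iff (μ ⁻¹ᵁ U).2 |>.2 (by simpa using hU'.nonempty)
  have hμη : μ η = genericPoint Z := by
    refine ((genericPoint_spec Z').image μ.continuous).eq ?_
    rw [IsGenericPoint, Set.image_univ, μ.surjective.range_eq, closure_univ]
    exact genericPoint_spec Z
  have hρη : ρ η = y := by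
    rw [show ρ η = i (μ η) from Scheme.Hom.comp_apply μ i η, hμη]
    exact CohTwo.apply_genericPoint_eq i hrange
  have hyP : y ∈ CohB1.support P := by
    have h1 : η ∈ CohB1.support T := by
      obtain ⟨B, hB, hAB⟩ := exists_isInverseOf hA.1
      have e' : Nonempty (CohB1.tensorMod (CohB1.tensorPow B e) T ≅ Coh.structureModule Z') :=
        ⟨(tensor_assoc _ _ _).some.symm ≪≫
          (tensor_congr (isInverseOf_symm (isInverseOf_tensorPow hAB e)) ⟨Iso.refl _⟩).some ≪≫
          (tensor_one _).some⟩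
      exact support_twist_subset (CohB1.tensorPow B e) T ((QCohMod.support_eq_of_iso e'.some).ge fun h => by
        have : Nontrivial ((Coh.structureModule Z').presheaf.stalk η) :=
          (RefRank.oneEquiv η).toEquiv.nontrivial_congr.1 inferInstance
        exact not_subsingleton _ h)
    have h2 : μ η ∈ CohB1.support ((Coh.push μ).obj T) := mem_support_push_of_isIso μ U T hηU h1
    intro h
    refine h2 (@Equiv.subsingleton _ _ (Equiv.ofBijective _
      (CohTwo.bijective_pushStalk i ((Coh.push μ).obj T) (μ η))).symm ?_)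
    rw [← hρη] at h
    exact h
  -- lengths at `y`
  let O := Cyc.closureStructureSheaf y
  let len : Y.Modules → ℕ := fun G => (Module.length (Y.presheaf.stalk y) (G.presheaf.stalk y)).toNat
  have hfin : ∀ G : Y.Modules, Coh.IsCoh G → CohB1.support G ⊆ closure {y} →
      Module.length (Y.presheaf.stalk y) (G.presheaf.stalk y) ≠ ⊤ := fun G hG hsub =>
    KTheory.Devissage.length_stalk_ne_top hG y fun z hz hzy =>
      hzy.antisymm (specializes_iff_mem_closure.2 (hsub hz)) |>.eq
  have hlin : phi k f (N + 1) P - (len P : ℤ) * phi k f (N + 1) O = 0 := by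
    refine additive_eq_zero_of_support
      (fun G => phi k f (N + 1) G - (len G : ℤ) * phi k f (N + 1) O)
      isClosed_closure (fun S hS c₁ c₂ c₃ s₁ _ s₃ => ?_) (fun y' hy' => ?_) hP hPsub
    · simp only [len]
      rw [phi_add k f (N + 1) hN hS c₁ c₂ c₃, length_stalk_add hS y,
        ENat.toNat_add (hfin _ c₁ s₁) (hfin _ c₃ s₃)]
      push_cast
      ring
    · by_cases h : y' = y
      · subst h
        simp [len, O, KTheory.Devissage.length_closureStructureSheaf]
      · have hnot : y ∉ closure ({y'} : Set Y) := fun h' => h <|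
          ((specializes_iff_mem_closure.2 h').antisymm
            (specializes_iff_mem_closure.2 (hy' (subset_closure rfl)))).eq
        have h0 : len (Cyc.closureStructureSheaf y') = 0 := by
          have : Subsingleton ((Cyc.closureStructureSheaf y').presheaf.stalk y) := by
            by_contra h'
            exact hnot (KTheory.Devissage.support_closureStructureSheaf_subset y' h')
          simp [len, Module.length_eq_zero]
        simp only [h0, Nat.cast_zero, zero_mul, sub_zero]
        refine ih ⟨closure {y'}, isClosed_closure⟩ ?_ y' rfl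
        have hlt : closure ({y'} : Set Y) ⊂ (c : Set Y) := hy ▸
          (Set.ssubset_iff_of_subset hy').2 ⟨y, subset_closure rfl, hnot⟩
        exact SetLike.coe_ssubset_coe.1 hlt
  have hr : (len P : ℤ) ≠ 0 := by
    refine Int.natCast_ne_zero.2 fun h0 => ?_
    rcases ENat.toNat_eq_zero.1 h0 with h | h
    · exact hyP (Module.length_eq_zero_iff.1 h)
    · exact hfin P hP hPsub h
  rw [hP0, zero_sub, neg_eq_zero, mul_eq_zero] at hlin
  exact hlin.resolve_left hr

include hf in
/-- `χ(Y, G) = Σ_{i ≤ N} (-1)^i χ(X, R^i f_* G)` when the higher direct images vanish above `N`. -/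
theorem euler_eq_sum_Rpush (N : ℕ)
    (hN : ∀ G : Y.Modules, Coh.IsCoh G → IsZero ((Coh.Rpush f (N + 1)).obj G))
    {G : Y.Modules} (hG : Coh.IsCoh G) :
    Curv2.euler k Y G = ∑ i ∈ Finset.range (N + 1), (-1 : ℤ) ^ i *
      Curv2.euler k X ((Coh.Rpush f i).obj G) := by
  have hNY : IsNoetherian Y := Groth.Inter.isNoetherian k
  rw [← sub_eq_zero]
  exact additive_eq_zero (phi k f (N + 1)) (fun S hS c₁ c₂ c₃ => phi_add k f (N + 1) hN hS c₁ c₂ c₃)
    isClosed_univ (fun y _ => phi_closureStructureSheaf k f hf N hN y) hG (Set.subset_univ _)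

end Groth.VarietyBC.EulerPush
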