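import Groth.Agent.VarietyBC.CurveAmple
import Groth.Agent.S1664
import Groth.Agent.Chow.DenseAffine
import Groth.Agent.Chow.QuasiProjective
import Groth.Agent.Chow.Core
import Groth.Agent.PnCoh.OverAffine
import Groth.Agent.Variety2.DimScheme
import Groth.Agent.FibreDim.DimStalk

/-!
# Schemes of dimension at most one are quasi-projective
-/

set_option autoImplicit false
set_option linter.style.haveILetI false
universe u

open CategoryTheory CategoryTheory.Limits AlgebraicGeometry TopologicalSpace

namespace Groth.VarietyBC.CurveProj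

theorem stalk_dim_le {X : Scheme.{u}} (hdim : topologicalKrullDim X ≤ 1) (x : X) :
    ringKrullDim (X.presheaf.stalk x) ≤ 1 :=
  ((le_iSup (fun y : X => ringKrullDim (X.presheaf.stalk y)) x).trans
    (Groth.FibreDim.dim_eq_iSup_stalk X).ge).trans hdim

/-- A dense open of a scheme with finitely many components contains the generic points. -/
theorem exists_mem_specializes {X : Scheme.{u}} [IsNoetherian X] (U : X.Opens)
    (hU : Dense (U : Set X)) (z : X) : ∃ η, η ∈ U ∧ η ⤳ z := by
  obtain ⟨η, hη, hηz⟩ : ∃ η ∈ genericPoints X, η ⤳ z := by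
    let c : irreducibleComponents X := ⟨_, irreducibleComponent_mem_irreducibleComponents z⟩
    exact ⟨_, (genericPoints.ofComponent c).2, specializes_iff_mem_closure.2 (by
      rw [(genericPoints.isGenericPoint_ofComponent c)]; exact mem_irreducibleComponent)⟩
  refine ⟨η, ?_, hηz⟩
  have hfin := genericPoints.finite (NoetherianSpace.finite_irreducibleComponents (α := X))
  let V : X.Opens := ⟨(⋃ ζ ∈ genericPoints X \ {η}, closure {ζ})ᶜ,
    ((hfin.subset Set.sdiff_subset).isClosed_biUnion fun _ _ => isClosed_closure).isOpen_compl⟩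
  have hηV : η ∈ V := fun h => by
    obtain ⟨ζ, ⟨hζ, hne⟩, hmem⟩ := Set.mem_iUnion₂.1 h
    refine hne (Set.mem_singleton_iff.2 ?_)
    exact IsGenericPoint.eq (genericPoints.isGenericPoint ⟨ζ, hζ⟩)
      ((hη.eq_of_le isIrreducible_singleton.closure
        ((specializes_iff_closure_subset.1 (specializes_iff_mem_closure.2 hmem)))) :
        closure {η} = closure {ζ})
  obtain ⟨w, hwV, hwU⟩ := hU.inter_open_nonempty _ V.isOpen ⟨η, hηV⟩
  have hηw : η ⤳ w := by
    let c : irreducibleComponents X := ⟨_, irreducibleComponent_mem_irreducibleComponents w⟩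
    have h : (genericPoints.ofComponent c).1 ⤳ w := specializes_iff_mem_closure.2 (by
      rw [(genericPoints.isGenericPoint_ofComponent c)]; exact mem_irreducibleComponent)
    by_cases e : (genericPoints.ofComponent c).1 = η
    · exact e ▸ h
    · exact (hwV (Set.mem_biUnion ⟨(genericPoints.ofComponent c).2, e⟩ h.mem_closure)).elim
  exact hηw.mem_open U.isOpen hwU

/-- A noetherian separated scheme of dimension at most one has an ample invertible module. -/
theorem exists_ample (X : Scheme.{u}) [IsNoetherian X] [X.IsSeparated]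
    (hdim : topologicalKrullDim X ≤ 1) : ∃ L : X.Modules, CohB1.IsAmple L := by
  refine Groth.Agent.S1664.result X fun x => ?_
  obtain ⟨U, hU, hxU, hUd⟩ :=
    Groth.Chow.exists_dense_affine (NoetherianSpace.finite_irreducibleComponents (α := X)) x
  obtain ⟨L, s, hL, hg, hs⟩ := CurveAmple.exists_finset_ggModule (stalk_dim_le hdim) U hU
    (exists_mem_specializes U hUd)
  exact ⟨L, s, hL, hg, hs ▸ hxU, hs ▸ hU⟩

variable (k : Type u) [Field k] {X : Scheme.{u}} (f : X ⟶ Spec (CommRingCat.of k))

/-- A separated curve of finite type over a field embeds into a projective space. -/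
theorem exists_immersion [IsSeparated f] [LocallyOfFiniteType f] [QuasiCompact f]
    (hdim : topologicalKrullDim X ≤ 1) :
    ∃ (n : ℕ) (i : X ⟶ CohB1.ProjSpace n k), IsImmersion i ∧ QuasiCompact i ∧
      i ≫ CohB1.ProjSpace.toSpec n k = f := by
  haveI : IsLocallyNoetherian X := LocallyOfFiniteType.isLocallyNoetherian f
  haveI : CompactSpace X := QuasiCompact.compactSpace_of_compactSpace f
  haveI : IsNoetherian X := ⟨⟩
  haveI : X.IsSeparated := ⟨by
    rw [show terminal.from X = f ≫ terminal.from _ from terminal.hom_ext _ _]; infer_instance⟩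
  obtain ⟨L, hL⟩ := exists_ample X hdim
  obtain ⟨n, i, hi, hqc, hif⟩ := Groth.Chow.isHQuasiProjective_of_isAmple f hL
  refine ⟨n, i ≫ (Groth.PnCoh.overIso n k).inv, inferInstance, inferInstance, ?_⟩
  rw [← Groth.PnCoh.overIso_hom_toBase, Category.assoc, Iso.inv_hom_id_assoc, hif]

/-- The closure of a curve in projective space. -/
theorem exists_completion [IsSeparated f] [LocallyOfFiniteType f] [QuasiCompact f]
    (hdim : topologicalKrullDim X ≤ 1) :
    ∃ (d : ℕ) (Y : Scheme.{u}) (c : Y ⟶ CohB1.ProjSpace d k) (j : X ⟶ Y), IsClosedImmersion c ∧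
      IsOpenImmersion j ∧ j ≫ c ≫ CohB1.ProjSpace.toSpec d k = f ∧ Dense (Set.range j.base) ∧
      IsSchemeTheoreticallyDominant j ∧ (Set.range j.base)ᶜ.Finite ∧
      ∀ y ∈ (Set.range j.base)ᶜ, IsClosed ({y} : Set Y) := by
  obtain ⟨n, i, hi, hqc, hif⟩ := exists_immersion k f hdim
  let P := CohB1.ProjSpace.toSpec n k
  haveI : IsProper P := Groth.Variety2.isProper_projSpace_toSpec n k
  let g : i.image ⟶ Spec (CommRingCat.of k) := i.imageι ≫ P
  haveI : LocallyOfFiniteType g := inferInstanceAs (LocallyOfFiniteType (i.imageι ≫ P))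
  haveI : QuasiCompact g := inferInstanceAs (QuasiCompact (i.imageι ≫ P))
  haveI : IsLocallyNoetherian i.image := LocallyOfFiniteType.isLocallyNoetherian g
  haveI : CompactSpace i.image := QuasiCompact.compactSpace_of_compactSpace g
  haveI : IsNoetherian i.image := ⟨⟩
  have hd : Dense (Set.range i.toImage) := i.toImage.denseRange
  have hjf : i.toImage ≫ g = f := by
    simp only [g]
    rw [Scheme.Hom.toImage_imageι_assoc]
    exact hif
  have hclosed : ∀ y ∈ (Set.range i.toImage.base)ᶜ, IsClosed ({y} : Set i.image) := by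
    intro y hy
    obtain ⟨η, ⟨x, rfl⟩, hηy⟩ := exists_mem_specializes i.toImage.opensRange
      (by rwa [Scheme.Hom.coe_opensRange]) y
    have h1 : Order.height (i.toImage x) = Order.height x :=
      Groth.Variety2.Dim.height_eq_of_isPreimmersion f g i.toImage hjf x
    have h2 : Order.height x ≤ 1 := by
      have := (le_iSup (fun x : X => ((Order.height x : ℕ∞) : WithBot ℕ∞)) x).trans
        ((Groth.Variety2.Dim.dim_eq_iSup_height X).ge.trans hdim)
      exact WithBot.coe_le_coe.1 this
    refine closure_eq_iff_isClosed.1 (Set.Subset.antisymm (fun w hw => ?_) subset_closure)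
    have hyw : y ⤳ w := specializes_iff_mem_closure.2 hw
    by_contra hne
    have hne' : w ≠ y := fun h => hne (Set.mem_singleton_iff.2 h)
    have hy' : y < i.toImage x :=
      lt_iff_le_not_ge.2 ⟨hηy, fun h => hy ⟨x, (Specializes.antisymm hηy h).eq⟩⟩
    have hw' : w < y := lt_iff_le_not_ge.2 ⟨hyw, fun h => hne' (Specializes.antisymm h hyw).eq⟩
    have h3 : ((2 : ℕ) : ℕ∞) ≤ Order.height (i.toImage x) := Order.length_le_height
      (p := ((RelSeries.singleton _ w).snoc y (by simpa using hw')).snoc (i.toImage x)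
        (by simpa using hy')) (by simp)
    rw [h1] at h3
    exact absurd (h3.trans h2) (by decide)
  refine ⟨n, i.image, i.imageι, i.toImage, inferInstance, inferInstance, hjf, hd,
    Groth.Chow.isSchemeTheoreticallyDominant_toImage i, ?_, hclosed⟩
  obtain ⟨S, hSf, hSc, hSi, hS⟩ := NoetherianSpace.exists_finite_set_isClosed_irreducible
    (i.toImage.opensRange.isOpen.isClosed_compl)
  rw [Scheme.Hom.coe_opensRange] at hS
  rw [hS]
  refine hSf.sUnion fun s hs => ?_
  refine (Set.finite_singleton (hSi s hs).genericPoint).subset fun w hw => ?_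
  have hg := (hSi s hs).isGenericPoint_genericPoint (hSc s hs)
  exact (hclosed _ (hS.ge ⟨s, hs, hg.mem⟩)).closure_eq ▸ (hg.specializes hw).mem_closure

end Groth.VarietyBC.CurveProj
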