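import Groth.Agent.FlatMor2.AffineThickening
import Groth.Agent.PropsBasic2.Reduced
import Mathlib.AlgebraicGeometry.Morphisms.ClosedImmersion

/-!
# Gluing affine opens along closed pieces

A reduced scheme covered by two affine closed subschemes is affine; affine opens containing a given
finite set can be glued along closed pieces.
-/

set_option autoImplicit false
universe u

open CategoryTheory AlgebraicGeometry TopologicalSpace Opposite

namespace Groth.VarietyBC.AffineUnion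

/-- Prime avoidance for a coset. -/
theorem exists_add_notMem {R : Type u} [CommRing R] {S : Set (Ideal R)} (hS : S.Finite)
    (hprime : ∀ p ∈ S, p.IsPrime) (y : R) (J : Ideal R) (hJ : ∀ p ∈ S, ¬ J ≤ p) :
    ∃ z ∈ J, ∀ p ∈ S, y + z ∉ p := by
  classical
  let A : Set (Ideal R) := {p | Maximal (· ∈ S) p ∧ y ∈ p}
  let Bs : Finset (Ideal R) := hS.toFinset.filter fun p => Maximal (· ∈ S) p ∧ y ∉ p
  have hA : A.Finite := hS.subset fun p hp => hp.1.1
  have hK : ¬ ((J * ∏ q ∈ Bs, q : Ideal R) : Set R) ⊆ ⋃ p ∈ A, (id p : Ideal R) := fun hsub => by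
    obtain ⟨p, hp, hle⟩ := (Ideal.subset_union_prime_finite hA (f := id) 0 0
      fun p hp _ _ => hprime p hp.1.1).1 hsub
    rcases (hprime p hp.1.1).mul_le.1 hle with h | h
    · exact hJ p hp.1.1 h
    · obtain ⟨q, hq, hqp⟩ := (hprime p hp.1.1).prod_le.1 h
      obtain ⟨-, hqmax, hyq⟩ := Finset.mem_filter.1 hq
      have heq : q = p := hqmax.eq_of_le hp.1.1 hqp
      rw [heq] at hyq
      exact hyq hp.2
  obtain ⟨z, hz, hzA⟩ := Set.not_subset.1 hK
  refine ⟨z, Ideal.mul_le_left hz, fun p hp hmem => ?_⟩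
  obtain ⟨p', hpp', hp'⟩ := hS.exists_le_maximal hp
  have hmem' := hpp' hmem
  by_cases hy : y ∈ p'
  · refine hzA (Set.mem_biUnion (show p' ∈ A from ⟨hp', hy⟩) ?_)
    exact (Ideal.add_mem_iff_right p' hy).1 hmem'
  · have hzp : z ∈ p' := by
      have h1 : (∏ q ∈ Bs, q) ≤ p' := (hprime p' hp'.1).prod_le.2
        ⟨p', Finset.mem_filter.2 ⟨hS.mem_toFinset.2 hp'.1, hp', hy⟩, le_rfl⟩
      exact h1 (Ideal.mul_le_right hz)
    exact hy ((Ideal.add_mem_iff_left p' hzp).1 hmem')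

variable {X : Scheme.{u}} {U : X.Opens} (hU : IsAffineOpen U)

include hU in
theorem mem_basicOpen_iff (x : X) (hx : x ∈ U) (f : Γ(X, U)) :
    x ∈ X.basicOpen f ↔ f ∉ (hU.primeIdealOf ⟨x, hx⟩).asIdeal := by
  have hx' : hU.fromSpec (hU.primeIdealOf ⟨x, hx⟩) = x := hU.fromSpec_primeIdealOf ⟨x, hx⟩
  refine Iff.trans (b := hU.primeIdealOf ⟨x, hx⟩ ∈ hU.fromSpec ⁻¹ᵁ X.basicOpen f) ?_ ?_
  · conv_lhs => rw [← hx']
    rfl
  rw [hU.fromSpec_preimage_basicOpen]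
  rfl

include hU in
/-- The functions whose nonvanishing locus avoids a closed set cut it out. -/
theorem exists_avoid (C : Set X) (hC : IsClosed C) :
    ∃ J : Ideal Γ(X, U), (∀ j ∈ J, ∀ c ∈ C, c ∉ X.basicOpen j) ∧
      ∀ x ∈ U, x ∉ C → ∃ j ∈ J, x ∈ X.basicOpen j := by
  let J : Ideal Γ(X, U) :=
    { carrier := {j | ∀ c ∈ C, c ∉ X.basicOpen j}
      zero_mem' := by intro c _; simp
      add_mem' := by
        intro a b ha hb c hc h
        have hcU : c ∈ U := X.basicOpen_le _ h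
        rw [mem_basicOpen_iff hU c hcU] at h
        have ha' := ha c hc
        have hb' := hb c hc
        rw [mem_basicOpen_iff hU c hcU, not_not] at ha' hb'
        exact h (add_mem ha' hb')
      smul_mem' := by
        intro r a ha c hc h
        rw [smul_eq_mul, Scheme.basicOpen_mul] at h
        exact ha c hc h.2 }
  refine ⟨J, fun j hj => hj, fun x hx hxC => ?_⟩
  obtain ⟨f, hf, hxf⟩ := hU.exists_basicOpen_le (V := ⟨Cᶜ, hC.isOpen_compl⟩ ⊓ U)
    ⟨x, ⟨hxC, hx⟩⟩ hx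
  exact ⟨f, fun c hc h => (hf h).1 hc, hxf⟩

include hU in
/-- A function nonzero at finitely many given points and vanishing on a closed set avoiding them. -/
theorem exists_vanishing (C : Set X) (hC : IsClosed C) (T : Set X) (hT : T.Finite)
    (hTU : T ⊆ U) (hTC : Disjoint T C) :
    ∃ f : Γ(X, U), T ⊆ X.basicOpen f ∧ ∀ c ∈ C, c ∉ X.basicOpen f := by
  obtain ⟨J, hJC, hJ⟩ := exists_avoid hU C hC
  haveI := hT.to_subtype
  let π : T → Ideal Γ(X, U) := fun t => (hU.primeIdealOf ⟨t.1, hTU t.2⟩).asIdeal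
  obtain ⟨z, hz, hzp⟩ := exists_add_notMem (Set.finite_range π)
    (by rintro _ ⟨t, rfl⟩; exact (hU.primeIdealOf _).2) 0 J (by
      rintro _ ⟨t, rfl⟩ hle
      obtain ⟨j, hj, htj⟩ := hJ t.1 (hTU t.2) (fun h => hTC.le_bot ⟨t.2, h⟩)
      exact (mem_basicOpen_iff hU t.1 (hTU t.2) j).1 htj (hle hj))
  refine ⟨z, fun t ht => ?_, hJC z hz⟩
  have := hzp _ ⟨⟨t, ht⟩, rfl⟩
  rw [zero_add] at this
  exact (mem_basicOpen_iff hU t (hTU ht) z).2 this

include hU in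
theorem exists_pow_mem (K : Ideal Γ(X, U)) (h : Γ(X, U))
    (hK : ∀ x ∈ X.basicOpen h, ∃ k ∈ K, x ∈ X.basicOpen k) :
    ∃ m : ℕ, h ^ m ∈ K := by
  have hrad : h ∈ K.radical := by
    rw [Ideal.radical_eq_sInf, Ideal.mem_sInf]
    rintro p ⟨hKp, hp⟩
    by_contra hhp
    let q : PrimeSpectrum Γ(X, U) := ⟨p, hp⟩
    have hiff : ∀ f : Γ(X, U), hU.fromSpec q ∈ X.basicOpen f ↔ f ∉ p := by
      intro f
      change q ∈ hU.fromSpec ⁻¹ᵁ X.basicOpen f ↔ _
      rw [hU.fromSpec_preimage_basicOpen]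
      rfl
    obtain ⟨k, hk, hxk⟩ := hK _ ((hiff h).2 hhp)
    exact (hiff k).1 hxk (hKp hk)
  exact hrad

include hU in
/-- Lifting a function along a closed immersion, with prescribed vanishing and nonvanishing. -/
theorem exists_lift {P : Scheme.{u}} (p : P ⟶ X) [IsClosedImmersion p] (h : Γ(P, p ⁻¹ᵁ U))
    (C : Set X) (hC : IsClosed C) (hh : ∀ z ∈ P.basicOpen h, p z ∉ C)
    (T : Set X) (hT : T.Finite) (hTU : T ⊆ U) (hTC : Disjoint T C)
    (hTh : ∀ z : P, p z ∈ T → z ∈ P.basicOpen h) :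
    ∃ (n : ℕ) (f : Γ(X, U)), 0 < n ∧ p.app U f = h ^ n ∧ T ⊆ X.basicOpen f ∧
      ∀ c ∈ C, c ∉ X.basicOpen f := by
  have hPU : IsAffineOpen (p ⁻¹ᵁ U) := hU.preimage p
  have hsurj : Function.Surjective (p.app U) := p.app_surjective U hU
  obtain ⟨J, hJC, hJ⟩ := exists_avoid hU C hC
  obtain ⟨m, hm⟩ := exists_pow_mem hPU (J.map (p.app U).hom) h (by
    intro z hz
    have hzU : p z ∈ U := (P.basicOpen_le h) hz
    obtain ⟨j, hj, hzj⟩ := hJ (p z) hzU (hh z hz)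
    refine ⟨_, Ideal.mem_map_of_mem _ hj, ?_⟩
    rw [← p.preimage_basicOpen]
    exact hzj)
  have hm' : h ^ (m + 1) ∈ J.map (p.app U).hom := by
    rw [pow_succ]; exact Ideal.mul_mem_right _ _ hm
  obtain ⟨j₀, hj₀, hj₀h⟩ := (Ideal.mem_map_iff_of_surjective _ hsurj).1 hm'
  let T' : Set X := T \ Set.range p
  haveI := (hT.subset (fun t ht => ht.1 : T' ⊆ T)).to_subtype
  let π : T' → Ideal Γ(X, U) := fun t => (hU.primeIdealOf ⟨t.1, hTU t.2.1⟩).asIdeal
  obtain ⟨z, hz, hzp⟩ := exists_add_notMem (Set.finite_range π)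
    (by rintro _ ⟨t, rfl⟩; exact (hU.primeIdealOf _).2) j₀ (J ⊓ RingHom.ker (p.app U).hom) (by
      rintro _ ⟨t, rfl⟩ hle
      haveI := (hU.primeIdealOf ⟨t.1, hTU t.2.1⟩).2
      rcases (Ideal.IsPrime.inf_le (by assumption)).1 hle with hi | hi
      · obtain ⟨j, hj, htj⟩ := hJ t.1 (hTU t.2.1) (fun h => hTC.le_bot ⟨t.2.1, h⟩)
        exact (mem_basicOpen_iff hU t.1 (hTU t.2.1) j).1 htj (hi hj)
      · obtain ⟨g, hg, hgr⟩ := exists_vanishing hU (Set.range p)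
          p.isClosedEmbedding.isClosed_range {t.1} (Set.finite_singleton _)
          (Set.singleton_subset_iff.2 (hTU t.2.1)) (Set.disjoint_singleton_left.2 t.2.2)
        have hbot : P.basicOpen (p.app U g) = ⊥ := by
          rw [← p.preimage_basicOpen]
          exact Opens.ext (Set.eq_empty_iff_forall_notMem.2 fun z hz => hgr _ ⟨z, rfl⟩ hz)
        obtain ⟨N, hN⟩ := (Scheme.isNilpotent_iff_basicOpen_eq_bot_of_isCompact
          hPU.isCompact (p.app U g)).2 hbot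
        have : g ^ N ∈ π t := hi (by
          show (p.app U).hom (g ^ N) = 0
          rw [map_pow]; exact hN)
        exact (mem_basicOpen_iff hU t.1 (hTU t.2.1) g).1 (hg rfl)
          ((hU.primeIdealOf ⟨t.1, hTU t.2.1⟩).2.mem_of_pow_mem N this))
  have happ : p.app U (j₀ + z) = h ^ (m + 1) := by
    rw [map_add, show p.app U z = 0 from hz.2, add_zero]
    exact hj₀h
  refine ⟨m + 1, j₀ + z, Nat.succ_pos m, happ, fun t ht => ?_, hJC _ (add_mem hj₀ hz.1)⟩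
  by_cases htr : t ∈ Set.range p
  · obtain ⟨w, rfl⟩ := htr
    change w ∈ p ⁻¹ᵁ X.basicOpen (j₀ + z)
    rw [p.preimage_basicOpen, happ, Scheme.basicOpen_pow]
    · exact hTh w ht
    · omega
  · exact (mem_basicOpen_iff hU t (hTU ht) _).2 (hzp _ ⟨⟨t, ht, htr⟩, rfl⟩)

section Glue

variable {Y : Scheme.{u}} (I₁ I₂ : Y.IdealSheafData)

/-- The scheme theoretic intersection. -/
noncomputable abbrev inter : Scheme.{u} := (I₁ ⊔ I₂).subscheme

/-- The first projection of the intersection. -/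
noncomputable abbrev π₁ : inter I₁ I₂ ⟶ I₁.subscheme :=
  Scheme.IdealSheafData.inclusion (I := I₁) le_sup_left

/-- The second projection of the intersection. -/
noncomputable abbrev π₂ : inter I₁ I₂ ⟶ I₂.subscheme :=
  Scheme.IdealSheafData.inclusion (I := I₂) le_sup_right

theorem π₁_ι : π₁ I₁ I₂ ≫ I₁.subschemeι = (I₁ ⊔ I₂).subschemeι :=
  Scheme.IdealSheafData.inclusion_subschemeι _

theorem π₂_ι : π₂ I₁ I₂ ≫ I₂.subschemeι = (I₁ ⊔ I₂).subschemeι :=
  Scheme.IdealSheafData.inclusion_subschemeι _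

instance : IsClosedImmersion (π₁ I₁ I₂) := by
  haveI : IsClosedImmersion (π₁ I₁ I₂ ≫ I₁.subschemeι) := by rw [π₁_ι]; infer_instance
  exact IsClosedImmersion.of_comp_isClosedImmersion (π₁ I₁ I₂) I₁.subschemeι

instance : IsClosedImmersion (π₂ I₁ I₂) := by
  haveI : IsClosedImmersion (π₂ I₁ I₂ ≫ I₂.subschemeι) := by rw [π₂_ι]; infer_instance
  exact IsClosedImmersion.of_comp_isClosedImmersion (π₂ I₁ I₂) I₂.subschemeι

theorem π_comm (z : inter I₁ I₂) :
    I₁.subschemeι (π₁ I₁ I₂ z) = I₂.subschemeι (π₂ I₁ I₂ z) := by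
  rw [← Scheme.Hom.comp_apply, ← Scheme.Hom.comp_apply, π₁_ι, π₂_ι]

theorem exists_inter (a : I₁.subscheme) (b : I₂.subscheme)
    (h : I₁.subschemeι a = I₂.subschemeι b) :
    ∃ z, π₁ I₁ I₂ z = a ∧ π₂ I₁ I₂ z = b := by
  have ha : I₁.subschemeι a ∈ (I₁.support : Set Y) := by
    rw [← I₁.range_subschemeι]; exact ⟨a, rfl⟩
  have hb : I₁.subschemeι a ∈ (I₂.support : Set Y) := by
    rw [h, ← I₂.range_subschemeι]; exact ⟨b, rfl⟩
  have hm : I₁.subschemeι a ∈ Set.range (I₁ ⊔ I₂).subschemeι := by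
    rw [Scheme.IdealSheafData.range_subschemeι, Scheme.IdealSheafData.support_sup]
    exact ⟨ha, hb⟩
  obtain ⟨z, hz⟩ := hm
  refine ⟨z, ?_, ?_⟩
  · refine I₁.subschemeι.isClosedEmbedding.injective ?_
    rw [← Scheme.Hom.comp_apply, π₁_ι]
    exact hz
  · refine I₂.subschemeι.isClosedEmbedding.injective ?_
    rw [← Scheme.Hom.comp_apply, π₂_ι, hz]
    exact h

variable [IsReduced Y] (hcov : ∀ y : Y, y ∈ I₁.support ∨ y ∈ I₂.support)

include hcov in
theorem eq_zero_of_app (V : Y.Opens) (e : Γ(Y, V)) (h₁ : I₁.subschemeι.app V e = 0)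
    (h₂ : I₂.subschemeι.app V e = 0) : e = 0 := by
  have key : ∀ I : Y.IdealSheafData, I.subschemeι.app V e = 0 → ∀ y ∈ Y.basicOpen e,
      y ∉ (I.support : Set Y) := by
    intro I hI y hy hyI
    rw [← I.range_subschemeι] at hyI
    obtain ⟨w, rfl⟩ := hyI
    have hw : w ∈ I.subschemeι ⁻¹ᵁ Y.basicOpen e := hy
    rw [Scheme.preimage_basicOpen, hI, Scheme.basicOpen_zero] at hw
    exact hw
  refine eq_zero_of_basicOpen_eq_bot e (Opens.ext (Set.eq_empty_iff_forall_notMem.2 fun y hy => ?_))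
  exact (hcov y).elim (key I₁ h₁ y hy) (key I₂ h₂ y hy)

theorem app_eq_of_comp {A B C : Scheme.{u}} (q : A ⟶ B) (i : B ⟶ C) (k : A ⟶ C) (hk : q ≫ i = k)
    (W : C.Opens) (a : Γ(C, W)) (s : Γ(B, ⊤))
    (ha : i.app W a = B.presheaf.map (homOfLE (le_top : i ⁻¹ᵁ W ≤ ⊤)).op s) :
    k.app W a = A.presheaf.map (homOfLE (le_top : k ⁻¹ᵁ W ≤ ⊤)).op (q.appTop s) := by
  subst hk
  show q.app _ (i.app W a) = _
  rw [ha]
  exact ConcreteCategory.congr_hom (q.naturality (homOfLE (le_top : i ⁻¹ᵁ W ≤ ⊤)).op) s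

include hcov in
/-- Functions on the two pieces agreeing on the intersection glue. -/
theorem exists_glue (s₁ : Γ(I₁.subscheme, ⊤)) (s₂ : Γ(I₂.subscheme, ⊤))
    (h : (π₁ I₁ I₂).appTop s₁ = (π₂ I₁ I₂).appTop s₂) :
    ∃ s : Γ(Y, ⊤), I₁.subschemeι.appTop s = s₁ ∧ I₂.subschemeι.appTop s = s₂ := by
  -- local existence
  have loc : ∀ W : Y.affineOpens, ∃ e : Γ(Y, W.1),
      I₁.subschemeι.app W.1 e =
        I₁.subscheme.presheaf.map (homOfLE (le_top : I₁.subschemeι ⁻¹ᵁ W.1 ≤ ⊤)).op s₁ ∧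
      I₂.subschemeι.app W.1 e =
        I₂.subscheme.presheaf.map (homOfLE (le_top : I₂.subschemeι ⁻¹ᵁ W.1 ≤ ⊤)).op s₂ := by
    intro W
    obtain ⟨a, ha⟩ := I₁.subschemeι.app_surjective W.1 W.2
      (I₁.subscheme.presheaf.map (homOfLE (le_top : I₁.subschemeι ⁻¹ᵁ W.1 ≤ ⊤)).op s₁)
    obtain ⟨b, hb⟩ := I₂.subschemeι.app_surjective W.1 W.2
      (I₂.subscheme.presheaf.map (homOfLE (le_top : I₂.subschemeι ⁻¹ᵁ W.1 ≤ ⊤)).op s₂)
    have hP : (I₁ ⊔ I₂).subschemeι.app W.1 a = (I₁ ⊔ I₂).subschemeι.app W.1 b := by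
      rw [app_eq_of_comp (π₁ I₁ I₂) I₁.subschemeι _ (π₁_ι I₁ I₂) W.1 a s₁ ha,
        app_eq_of_comp (π₂ I₁ I₂) I₂.subschemeι _ (π₂_ι I₁ I₂) W.1 b s₂ hb, h]
    have hmem : a - b ∈ (I₁ ⊔ I₂).ideal W := by
      rw [← Scheme.IdealSheafData.ker_subschemeι_app, RingHom.mem_ker, map_sub, sub_eq_zero]
      exact hP
    rw [Scheme.IdealSheafData.ideal_sup] at hmem
    obtain ⟨c, hc, d, hd, hcd⟩ := Submodule.mem_sup.1 hmem
    rw [← Scheme.IdealSheafData.ker_subschemeι_app] at hc hd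
    refine ⟨a - c, ?_, ?_⟩
    · rw [map_sub, show I₁.subschemeι.app W.1 c = 0 from hc, sub_zero, ha]
    · have : a - c = b + d := by linear_combination (-1 : Γ(Y, W.1)) * hcd
      rw [this, map_add, show I₂.subschemeι.app W.1 d = 0 from hd, add_zero, hb]
  choose sf hsf₁ hsf₂ using loc
  have hcompat : TopCat.Presheaf.IsCompatible Y.presheaf (fun W : Y.affineOpens => W.1) sf := by
    intro W W'
    rw [← sub_eq_zero]
    refine eq_zero_of_app I₁ I₂ hcov _ _ ?_ ?_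
    · rw [map_sub, sub_eq_zero]
      erw [ConcreteCategory.congr_hom (I₁.subschemeι.naturality (Opens.infLELeft W.1 W'.1).op) (sf W),
        ConcreteCategory.congr_hom (I₁.subschemeι.naturality (Opens.infLERight W.1 W'.1).op) (sf W')]
      simp only [CommRingCat.comp_apply, hsf₁]
      rw [← CommRingCat.comp_apply, ← CommRingCat.comp_apply, ← Functor.map_comp, ← Functor.map_comp]
      rfl
    · rw [map_sub, sub_eq_zero]
      erw [ConcreteCategory.congr_hom (I₂.subschemeι.naturality (Opens.infLELeft W.1 W'.1).op) (sf W),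
        ConcreteCategory.congr_hom (I₂.subschemeι.naturality (Opens.infLERight W.1 W'.1).op) (sf W')]
      simp only [CommRingCat.comp_apply, hsf₂]
      rw [← CommRingCat.comp_apply, ← CommRingCat.comp_apply, ← Functor.map_comp, ← Functor.map_comp]
      rfl
  obtain ⟨s, hs, -⟩ := TopCat.Sheaf.existsUnique_gluing' Y.sheaf (fun W : Y.affineOpens => W.1) ⊤
    (fun W => homOfLE le_top) (iSup_affineOpens_eq_top Y).ge sf hcompat
  refine ⟨s, ?_, ?_⟩
  · refine TopCat.Sheaf.eq_of_locally_eq' I₁.subscheme.sheaf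
      (fun W : Y.affineOpens => I₁.subschemeι ⁻¹ᵁ W.1) ⊤ (fun W => homOfLE le_top) ?_ _ _ fun W => ?_
    · intro x _
      rw [Opens.mem_iSup]
      obtain ⟨W, hW⟩ := Opens.mem_iSup.1 ((iSup_affineOpens_eq_top Y).ge
        (Opens.mem_top (I₁.subschemeι x)))
      exact ⟨W, hW⟩
    · erw [← hsf₁ W, ← hs W]
      exact (ConcreteCategory.congr_hom (I₁.subschemeι.naturality (homOfLE le_top).op) s).symm
  · refine TopCat.Sheaf.eq_of_locally_eq' I₂.subscheme.sheaf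
      (fun W : Y.affineOpens => I₂.subschemeι ⁻¹ᵁ W.1) ⊤ (fun W => homOfLE le_top) ?_ _ _ fun W => ?_
    · intro x _
      rw [Opens.mem_iSup]
      obtain ⟨W, hW⟩ := Opens.mem_iSup.1 ((iSup_affineOpens_eq_top Y).ge
        (Opens.mem_top (I₂.subschemeι x)))
      exact ⟨W, hW⟩
    · erw [← hsf₂ W, ← hs W]
      exact (ConcreteCategory.congr_hom (I₂.subschemeι.naturality (homOfLE le_top).op) s).symm

include hcov in
theorem isAffine_of_subschemes [IsAffine I₁.subscheme] [IsAffine I₂.subscheme] : IsAffine Y := by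
  have h₁ := isAffineOpen_top I₁.subscheme
  have h₂ := isAffineOpen_top I₂.subscheme
  have lift : ∀ (g : Γ(I₁.subscheme, ⊤)) (C : Set I₂.subscheme), IsClosed C →
      (∀ z ∈ (inter I₁ I₂).basicOpen ((π₁ I₁ I₂).appTop g), π₂ I₁ I₂ z ∉ C) →
      ∀ T : Set I₂.subscheme, T.Finite → Disjoint T C →
      (∀ z, π₂ I₁ I₂ z ∈ T → π₁ I₁ I₂ z ∈ I₁.subscheme.basicOpen g) →
      ∃ (n : ℕ) (s : Γ(Y, ⊤)), 0 < n ∧ I₁.subschemeι.appTop s = g ^ n ∧
        (∀ t ∈ T, I₂.subschemeι t ∈ Y.basicOpen s) ∧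
        ∀ c ∈ C, I₂.subschemeι c ∉ Y.basicOpen s := by
    intro g C hC hgC T hT hTC hTg
    obtain ⟨n, f, hn, hf, hTf, hCf⟩ := exists_lift h₂ (π₂ I₁ I₂) ((π₁ I₁ I₂).appTop g) C hC hgC
      T hT (fun _ _ => trivial) hTC (fun z hz => by
        have := hTg z hz
        change z ∈ (π₁ I₁ I₂) ⁻¹ᵁ I₁.subscheme.basicOpen g at this
        rw [Scheme.preimage_basicOpen] at this
        exact this)
    have hf' : (π₁ I₁ I₂).appTop (g ^ n) = (π₂ I₁ I₂).appTop f := by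
      rw [map_pow]; exact hf.symm
    obtain ⟨s, hs₁, hs₂⟩ := exists_glue I₁ I₂ hcov (g ^ n) f hf'
    refine ⟨n, s, hn, hs₁, fun t ht => ?_, fun c hc h => ?_⟩
    · change t ∈ I₂.subschemeι ⁻¹ᵁ Y.basicOpen s
      rw [Scheme.preimage_basicOpen_top, hs₂]
      exact hTf ht
    · refine hCf c hc ?_
      change c ∈ I₂.subschemeι ⁻¹ᵁ Y.basicOpen s at h
      rwa [Scheme.preimage_basicOpen_top, hs₂] at h
  have hsurj : Function.Surjective I₁.subschemeι.appTop := by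
    intro g
    obtain ⟨f, hf⟩ := (π₂ I₁ I₂).app_surjective ⊤ h₂ ((π₁ I₁ I₂).appTop g)
    obtain ⟨s, hs, -⟩ := exists_glue I₁ I₂ hcov g f hf.symm
    exact ⟨s, hs⟩
  have hcov' : ∀ y : Y, ∃ s : Γ(Y, ⊤), y ∈ Y.basicOpen s ∧ IsAffineOpen (Y.basicOpen s) := by
    intro y
    obtain ⟨W, hW, hyW, -⟩ := exists_isAffineOpen_mem_and_subset (U := ⊤) (show y ∈ (⊤ : Y.Opens) from trivial)
    let C₁ : Set I₁.subscheme := I₁.subschemeι ⁻¹' (W : Set Y)ᶜ
    let C₂ : Set I₂.subscheme := I₂.subschemeι ⁻¹' (W : Set Y)ᶜ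
    have hC₁ : IsClosed C₁ := W.isOpen.isClosed_compl.preimage I₁.subschemeι.continuous
    have hC₂ : IsClosed C₂ := W.isOpen.isClosed_compl.preimage I₂.subschemeι.continuous
    let T₁ : Set I₁.subscheme := I₁.subschemeι ⁻¹' {y}
    let T₂ : Set I₂.subscheme := I₂.subschemeι ⁻¹' {y}
    have hT₁ : T₁.Finite :=
      (Set.finite_singleton y).preimage I₁.subschemeι.isClosedEmbedding.injective.injOn
    have hT₂ : T₂.Finite :=
      (Set.finite_singleton y).preimage I₂.subschemeι.isClosedEmbedding.injective.injOn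
    have hd₁ : Disjoint T₁ C₁ := Set.disjoint_left.2 fun t (ht : I₁.subschemeι t = y) hc => hc (ht ▸ hyW)
    have hd₂ : Disjoint T₂ C₂ := Set.disjoint_left.2 fun t (ht : I₂.subschemeι t = y) hc => hc (ht ▸ hyW)
    obtain ⟨g, hTg, hCg⟩ := exists_vanishing h₁ C₁ hC₁ T₁ hT₁ (fun _ _ => trivial) hd₁
    obtain ⟨n, s, hn, hs₁, hsT, hsC⟩ := lift g C₂ hC₂ (fun z hz hzC => by
      change _ ∈ (inter I₁ I₂).basicOpen _ at hz
      rw [← Scheme.preimage_basicOpen_top] at hz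
      exact hCg (π₁ I₁ I₂ z) (by
        show I₁.subschemeι (π₁ I₁ I₂ z) ∉ W
        rw [π_comm]; exact hzC) hz) T₂ hT₂ hd₂ (fun z hz => by
      refine hTg ?_
      show I₁.subschemeι (π₁ I₁ I₂ z) = y
      rw [π_comm]; exact hz)
    have hpre : I₁.subschemeι ⁻¹ᵁ Y.basicOpen s = I₁.subscheme.basicOpen g := by
      rw [Scheme.preimage_basicOpen_top, hs₁, Scheme.basicOpen_pow]
      exact hn
    have hle : Y.basicOpen s ≤ W := by
      intro w hw
      by_contra hwW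
      rcases hcov w with hw1 | hw2
      · rw [← SetLike.mem_coe, ← I₁.range_subschemeι] at hw1
        obtain ⟨v, rfl⟩ := hw1
        exact hCg v hwW (hpre ▸ (hw : v ∈ I₁.subschemeι ⁻¹ᵁ Y.basicOpen s))
      · rw [← SetLike.mem_coe, ← I₂.range_subschemeι] at hw2
        obtain ⟨v, rfl⟩ := hw2
        exact hsC v hwW hw
    refine ⟨s, ?_, ?_⟩
    · rcases hcov y with hy1 | hy2
      · rw [← SetLike.mem_coe, ← I₁.range_subschemeι] at hy1
        obtain ⟨v, hv⟩ := hy1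
        rw [← hv]
        change v ∈ I₁.subschemeι ⁻¹ᵁ Y.basicOpen s
        rw [hpre]
        exact hTg hv
      · rw [← SetLike.mem_coe, ← I₂.range_subschemeι] at hy2
        obtain ⟨v, hv⟩ := hy2
        rw [← hv]
        exact hsT v hv
    · have h := Scheme.basicOpen_res Y s (homOfLE (le_top : W ≤ ⊤)).op
      rw [inf_eq_right.2 hle] at h
      rw [← h]
      exact hW.basicOpen _
  refine isAffine_of_isAffineOpen_basicOpen {s : Γ(Y, ⊤) | IsAffineOpen (Y.basicOpen s)} ?_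
    fun s hs => hs
  by_contra hne
  obtain ⟨m, hm, hle⟩ := Ideal.exists_le_maximal _ hne
  have key : ∀ (I : Y.IdealSheafData), IsAffine I.subscheme →
      Function.Surjective I.subschemeι.appTop →
      RingHom.ker I.subschemeι.appTop.hom ≤ m → False := by
    intro I hI hsI hker
    haveI hmI : (m.map I.subschemeι.appTop.hom).IsPrime := Ideal.map_isPrime_of_surjective hsI hker
    let q : PrimeSpectrum Γ(I.subscheme, ⊤) := ⟨m.map I.subschemeι.appTop.hom, hmI⟩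
    obtain ⟨s, hys, hsA⟩ := hcov' (I.subschemeι ((isAffineOpen_top I.subscheme).fromSpec q))
    have h1 : (isAffineOpen_top I.subscheme).fromSpec q ∈ I.subschemeι ⁻¹ᵁ Y.basicOpen s := hys
    rw [Scheme.preimage_basicOpen_top] at h1
    have h2 : q ∈ (isAffineOpen_top I.subscheme).fromSpec ⁻¹ᵁ
        I.subscheme.basicOpen (I.subschemeι.appTop s) := h1
    rw [(isAffineOpen_top I.subscheme).fromSpec_preimage_basicOpen] at h2
    exact h2 (Ideal.mem_map_of_mem _ (hle (Ideal.subset_span hsA)))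
  have hprod : RingHom.ker I₁.subschemeι.appTop.hom * RingHom.ker I₂.subschemeι.appTop.hom ≤ m := by
    intro e he
    have he' := Ideal.mul_le_inf he
    rw [eq_zero_of_app I₁ I₂ hcov ⊤ e he'.1 he'.2]
    exact zero_mem _
  have hsurj₂ : Function.Surjective I₂.subschemeι.appTop := by
    intro f
    obtain ⟨g, hg⟩ := (π₁ I₁ I₂).app_surjective ⊤ h₁ ((π₂ I₁ I₂).appTop f)
    obtain ⟨s, -, hs⟩ := exists_glue I₁ I₂ hcov g f hg
    exact ⟨s, hs⟩
  rcases hm.isPrime.mul_le.1 hprod with h | h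
  · exact key I₁ ‹_› hsurj h
  · exact key I₂ ‹_› hsurj₂ h

end Glue

/-- A reduced scheme covered by two affine closed subschemes is affine. -/
theorem isAffine_of_closedImmersions {Y Y₁ Y₂ : Scheme.{u}} [IsReduced Y] (i₁ : Y₁ ⟶ Y)
    (i₂ : Y₂ ⟶ Y) [IsClosedImmersion i₁] [IsClosedImmersion i₂] [IsAffine Y₁] [IsAffine Y₂]
    (hcov : ∀ y : Y, y ∈ Set.range i₁ ∨ y ∈ Set.range i₂) : IsAffine Y := by
  haveI : IsAffine i₁.ker.subscheme := IsAffine.of_isIso (inv i₁.toImage)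
  haveI : IsAffine i₂.ker.subscheme := IsAffine.of_isIso (inv i₂.toImage)
  refine isAffine_of_subschemes i₁.ker i₂.ker fun y => ?_
  rcases hcov y with h | h
  · left
    rw [← SetLike.mem_coe, Scheme.Hom.support_ker]
    exact subset_closure h
  · right
    rw [← SetLike.mem_coe, Scheme.Hom.support_ker]
    exact subset_closure h

/-- Affine opens of the two pieces glue around finitely many points. -/
theorem exists_affineOpen_union {Y : Scheme.{u}} [IsReduced Y] (I₁ I₂ : Y.IdealSheafData)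
    (hcov : ∀ y : Y, y ∈ I₁.support ∨ y ∈ I₂.support) (T : Set Y) (hT : T.Finite)
    (U₁ : I₁.subscheme.Opens) (hU₁ : IsAffineOpen U₁) (hT₁ : I₁.subschemeι ⁻¹' T ⊆ U₁)
    (U₂ : I₂.subscheme.Opens) (hU₂ : IsAffineOpen U₂) (hT₂ : I₂.subschemeι ⁻¹' T ⊆ U₂) :
    ∃ U : Y.Opens, IsAffineOpen U ∧ T ⊆ U := by
  have inj₁ := I₁.subschemeι.isClosedEmbedding.injective
  have inj₂ := I₂.subschemeι.isClosedEmbedding.injective
  have hTf₁ : (I₁.subschemeι ⁻¹' T).Finite := hT.preimage inj₁.injOn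
  have hTf₂ : (I₂.subschemeι ⁻¹' T).Finite := hT.preimage inj₂.injOn
  -- shrink the second piece
  let C₂ : Set I₂.subscheme := π₂ I₁ I₂ '' (π₁ I₁ I₂ ⁻¹' (U₁ : Set I₁.subscheme)ᶜ)
  have hC₂ : IsClosed C₂ := (π₂ I₁ I₂).isClosedEmbedding.isClosedMap _
    (U₁.isOpen.isClosed_compl.preimage (π₁ I₁ I₂).continuous)
  obtain ⟨g, hTg, hCg⟩ := exists_vanishing hU₂ C₂ hC₂ _ hTf₂ hT₂ (Set.disjoint_left.2 (by
    rintro _ ht ⟨z, hz, rfl⟩
    refine hz (hT₁ ?_)
    show I₁.subschemeι (π₁ I₁ I₂ z) ∈ T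
    rw [π_comm]; exact ht))
  -- cut the first piece
  let V₂ : I₂.subscheme.Opens := I₂.subscheme.basicOpen g
  have hV₂ : IsAffineOpen V₂ := hU₂.basicOpen g
  have hle : π₂ I₁ I₂ ⁻¹ᵁ V₂ ≤ π₁ I₁ I₂ ⁻¹ᵁ U₁ := fun z hz => by
    by_contra hne
    exact hCg _ ⟨z, hne, rfl⟩ hz
  let C₁ : Set I₁.subscheme := π₁ I₁ I₂ '' (π₂ I₁ I₂ ⁻¹' (V₂ : Set I₂.subscheme)ᶜ)
  have hC₁ : IsClosed C₁ := (π₁ I₁ I₂).isClosedEmbedding.isClosedMap _
    (V₂.isOpen.isClosed_compl.preimage (π₂ I₁ I₂).continuous)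
  obtain ⟨h, hTh, hCh⟩ := exists_vanishing hU₁ C₁ hC₁ _ hTf₁ hT₁ (Set.disjoint_left.2 (by
    rintro _ ht ⟨z, hz, rfl⟩
    refine hz (hTg ?_)
    show I₂.subschemeι (π₂ I₁ I₂ z) ∈ T
    rw [← π_comm]; exact ht))
  have hh' : (inter I₁ I₂).basicOpen ((π₁ I₁ I₂).appLE U₁ _ hle h) =
      π₂ I₁ I₂ ⁻¹ᵁ V₂ ⊓ π₁ I₁ I₂ ⁻¹ᵁ I₁.subscheme.basicOpen h := Scheme.basicOpen_appLE ..
  obtain ⟨n, f, hn, hf, hTf, -⟩ := exists_lift hV₂ (π₂ I₁ I₂) ((π₁ I₁ I₂).appLE U₁ _ hle h)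
    ∅ isClosed_empty (fun _ _ => id) _ hTf₂ hTg (disjoint_bot_right) (fun z hz => by
      rw [hh']
      refine ⟨hTg hz, hTh ?_⟩
      show I₁.subschemeι (π₁ I₁ I₂ z) ∈ T
      rw [π_comm]; exact hz)
  let V₁ : I₁.subscheme.Opens := I₁.subscheme.basicOpen h
  let W₂ : I₂.subscheme.Opens := I₂.subscheme.basicOpen f
  have hiff : ∀ z, π₁ I₁ I₂ z ∈ V₁ ↔ π₂ I₁ I₂ z ∈ W₂ := by
    intro z
    have h1 : π₂ I₁ I₂ ⁻¹ᵁ W₂ = π₂ I₁ I₂ ⁻¹ᵁ V₂ ⊓ π₁ I₁ I₂ ⁻¹ᵁ V₁ := by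
      rw [Scheme.preimage_basicOpen, hf, Scheme.basicOpen_pow, hh']
      exact hn
    constructor
    · intro hz
      change z ∈ π₂ I₁ I₂ ⁻¹ᵁ W₂
      rw [h1]
      refine ⟨?_, hz⟩
      by_contra hne
      exact hCh _ ⟨z, hne, rfl⟩ hz
    · intro hz
      change z ∈ π₂ I₁ I₂ ⁻¹ᵁ W₂ at hz
      rw [h1] at hz
      exact hz.2
  let U : Y.Opens := ⟨(I₁.subschemeι '' (V₁ : Set I₁.subscheme)ᶜ ∪
      I₂.subschemeι '' (W₂ : Set I₂.subscheme)ᶜ)ᶜ,
    ((I₁.subschemeι.isClosedEmbedding.isClosedMap _ V₁.isOpen.isClosed_compl).union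
      (I₂.subschemeι.isClosedEmbedding.isClosedMap _ W₂.isOpen.isClosed_compl)).isOpen_compl⟩
  have hp₁ : I₁.subschemeι ⁻¹ᵁ U = V₁ := by
    refine Opens.ext (Set.ext fun a => ⟨fun ha => ?_, fun ha => ?_⟩)
    · by_contra hne
      exact ha (Or.inl ⟨a, hne, rfl⟩)
    · rintro (⟨a', ha', he⟩ | ⟨b, hb, he⟩)
      · exact ha' (inj₁ he ▸ ha)
      · obtain ⟨z, rfl, rfl⟩ := exists_inter I₁ I₂ a b he.symm
        exact hb ((hiff z).1 ha)
  have hp₂ : I₂.subschemeι ⁻¹ᵁ U = W₂ := by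
    refine Opens.ext (Set.ext fun b => ⟨fun hb => ?_, fun hb => ?_⟩)
    · by_contra hne
      exact hb (Or.inr ⟨b, hne, rfl⟩)
    · rintro (⟨a, ha, he⟩ | ⟨b', hb', he⟩)
      · obtain ⟨z, rfl, rfl⟩ := exists_inter I₁ I₂ a b he
        exact ha ((hiff z).2 hb)
      · exact hb' (inj₂ he ▸ hb)
  refine ⟨U, ?_, ?_⟩
  · haveI : IsAffine ↑(I₁.subschemeι ⁻¹ᵁ U) := by rw [hp₁]; exact hU₁.basicOpen h
    haveI : IsAffine ↑(I₂.subschemeι ⁻¹ᵁ U) := by rw [hp₂]; exact hV₂.basicOpen f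
    haveI : IsClosedImmersion (I₁.subschemeι ∣_ U) := MorphismProperty.of_isPullback
      (isPullback_morphismRestrict I₁.subschemeι U).flip inferInstance
    haveI : IsClosedImmersion (I₂.subschemeι ∣_ U) := MorphismProperty.of_isPullback
      (isPullback_morphismRestrict I₂.subschemeι U).flip inferInstance
    haveI : IsReduced (U : Scheme.{u}) := isReduced_of_isOpenImmersion U.ι
    refine isAffine_of_closedImmersions (I₁.subschemeι ∣_ U) (I₂.subschemeι ∣_ U) fun y => ?_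
    rcases hcov y.1 with hy | hy
    · rw [← SetLike.mem_coe, ← I₁.range_subschemeι] at hy
      obtain ⟨v, hv⟩ := hy
      left
      exact ⟨⟨v, show I₁.subschemeι v ∈ U from hv ▸ y.2⟩, Subtype.ext (by
        rw [morphismRestrict_base]; exact hv)⟩
    · rw [← SetLike.mem_coe, ← I₂.range_subschemeι] at hy
      obtain ⟨v, hv⟩ := hy
      right
      exact ⟨⟨v, show I₂.subschemeι v ∈ U from hv ▸ y.2⟩, Subtype.ext (by
        rw [morphismRestrict_base]; exact hv)⟩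
  · rintro t ht (⟨a, ha, rfl⟩ | ⟨b, hb, rfl⟩)
    · exact ha (hTh ht)
    · exact hb (hTf ht)

end Groth.VarietyBC.AffineUnion
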