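import Groth.Agent.PicAux.Cocycle
import Groth.Agent.PicAux.Pullback
import Groth.Agent.PicAux.GenLocusAffine
import Groth.Agent.VarietyBC.AffineUnion

/-!
# Gluing invertible modules from trivialisations on pieces
-/

set_option autoImplicit false
universe u

open CategoryTheory AlgebraicGeometry TopologicalSpace Opposite
open Groth.PicAux

namespace Groth.VarietyBC.PicGlue

variable {X : Scheme.{u}}

theorem subsingleton_sections (M : X.Modules) {U : X.Opens} (hU : U ≤ ⊥) (x y : Γ(M, U)) : x = y :=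
  res_ext (fun i : PEmpty.{u + 1} => i.elim) (fun i => i.elim) (hU.trans bot_le) fun i => i.elim

theorem subsingleton_functions {U : X.Opens} (hU : U ≤ ⊥) (x y : Γ(X, U)) : x = y :=
  resX_ext (fun i : PEmpty.{u + 1} => i.elim) (fun i => i.elim) (hU.trans bot_le) fun i => i.elim

theorem gen_of_le_bot (M : X.Modules) {U : X.Opens} (hU : U ≤ ⊥) (s : Γ(M, U)) : Gen M U s :=
  fun _ hV => ⟨fun _ _ _ => subsingleton_functions (hV.trans hU) _ _,
    fun _ => ⟨0, subsingleton_sections M (hV.trans hU) _ _⟩⟩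

/-- Bases on disjoint opens glue to a basis. -/
theorem exists_gen_iSup {M : X.Modules} {ι : Type*} (O : ι → X.Opens)
    (hO : ∀ i j, i ≠ j → O i ⊓ O j ≤ ⊥) (e : ∀ i, Γ(M, O i)) (he : ∀ i, Gen M (O i) (e i)) :
    ∃ s : Γ(M, iSup O), Gen M (iSup O) s := by
  obtain ⟨s, hs, -⟩ := res_glue O (fun i => le_iSup O i) le_rfl e fun i j => by
    by_cases h : i = j
    · subst h; rfl
    · exact subsingleton_sections M (hO i j h) _ _
  exact ⟨s, Gen.of_cover O (fun i => le_iSup O i) le_rfl fun i => by rw [hs i]; exact he i⟩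

theorem bijective_app_of_isIso_restrict {Y : Scheme.{u}} (f : Y ⟶ X) (U : X.Opens) [IsIso (f ∣_ U)]
    (W : X.Opens) (hW : W ≤ U) : Function.Bijective (f.app W) := by
  obtain ⟨V, rfl⟩ : ∃ V, U.ι ''ᵁ V = W :=
    ⟨U.ι ⁻¹ᵁ W, by simp [Scheme.Hom.image_preimage_eq_opensRange_inf, hW]⟩
  haveI : IsIso ((f ∣_ U).app V) := Scheme.Hom.isIso_app _ _ (by rw [Scheme.Hom.opensRange_of_isIso]; exact le_top)
  have h1 : Function.Bijective ((f ∣_ U).app V) := ConcreteCategory.bijective_of_isIso _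
  rw [morphismRestrict_app] at h1
  have h2 : Function.Bijective
      (⇑(Y.presheaf.map (eqToHom (image_morphismRestrict_preimage f U V)).op) ∘ ⇑(f.app (U.ι ''ᵁ V))) := h1
  exact (Function.Bijective.of_comp_iff' (ConcreteCategory.bijective_of_isIso _) _).1 h2

section Glue

variable {ι : Type u} (O : ι → X.Opens) {κ : Type*} {Z : κ → Scheme.{u}} (g : ∀ k, Z k ⟶ X)
  (L : ∀ k, (Z k).Modules) (e : ∀ a k, Γ(L k, g k ⁻¹ᵁ O a))
  (he : ∀ a k, Gen (L k) (g k ⁻¹ᵁ O a) (e a k))

include he in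
/-- An invertible module from a cocycle compatible with trivialisations of the pieces. -/
theorem exists_glue_cocycle (hO : iSup O = ⊤) (η : ∀ a b, Γ(X, O a ⊓ O b))
    (hunit : ∀ a b, IsUnit (η a b))
    (hη : ∀ a b c : ι,
      resX X (inf_le_inf_right (O c) inf_le_left : O a ⊓ O b ⊓ O c ≤ O a ⊓ O c) (η a c) =
        resX X (inf_le_left : O a ⊓ O b ⊓ O c ≤ O a ⊓ O b) (η a b) *
          resX X (inf_le_inf_right (O c) inf_le_right : O a ⊓ O b ⊓ O c ≤ O b ⊓ O c) (η b c))
    (hcomp : ∀ a b k, res (L k) ((g k).preimage_mono inf_le_left) (e a k) =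
      (g k).app (O a ⊓ O b) (η a b) • res (L k) ((g k).preimage_mono inf_le_right) (e b k)) :
    ∃ M : X.Modules, PicF.IsInvertible M ∧
      ∀ k, Nonempty ((Scheme.Modules.pullback (g k)).obj M ≅ L k) := by
  obtain ⟨M, s, hs, hinv, hrel⟩ := exists_module_of_cocycle O η hO hunit hη
  refine ⟨M, hinv, fun k => ?_⟩
  have hcov : ⨆ a, g k ⁻¹ᵁ O a = ⊤ := by
    rw [← Scheme.Hom.preimage_iSup, hO]; rfl
  obtain ⟨φ, -⟩ := exists_iso_of_gen hcov (fun a => pullSec (g k) M (s a))
    (fun a => (hs a).pull (g k)) (fun a => e a k) (fun a => he a k) fun a b r hr => by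
    have h1 : res _ ((g k).preimage_mono (inf_le_left : O a ⊓ O b ≤ O a)) (pullSec (g k) M (s a)) =
        (g k).app (O a ⊓ O b) (η a b) •
          res _ ((g k).preimage_mono (inf_le_right : O a ⊓ O b ≤ O b)) (pullSec (g k) M (s b)) := by
      rw [res_pullSec (g k) M (inf_le_left : O a ⊓ O b ≤ O a),
        res_pullSec (g k) M (inf_le_right : O a ⊓ O b ≤ O b), hrel, pullSec_smul]
    have h2 : (g k).app (O a ⊓ O b) (η a b) = r :=
      ((hs b).pull (g k)).smul_inj ((g k).preimage_mono (inf_le_right : O a ⊓ O b ≤ O b))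
        (h1.symm.trans hr)
    exact h2 ▸ hcomp a b k
  exact ⟨φ⟩

/-- The comparison maps to the pieces. -/
noncomputable def toPieces (V : X.Opens) (r : Γ(X, V)) : ∀ k, Γ(Z k, g k ⁻¹ᵁ V) :=
  fun k => (g k).app V r

theorem resX_app {k : κ} {V W : X.Opens} (h : W ≤ V) (r : Γ(X, V)) :
    (g k).app W (resX X h r) = resX (Z k) ((g k).preimage_mono h) ((g k).app V r) :=
  ConcreteCategory.congr_hom ((g k).naturality (homOfLE h).op) r

include he in
/-- An invertible module from trivialisations when the overlaps are disjoint unions of the pieces. -/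
theorem exists_glue_bijective (hO : iSup O = ⊤)
    (hb : ∀ a b, a ≠ b → ∀ V ≤ O a ⊓ O b, Function.Bijective (toPieces g V)) :
    ∃ M : X.Modules, PicF.IsInvertible M ∧
      ∀ k, Nonempty ((Scheme.Modules.pullback (g k)).obj M ≅ L k) := by
  classical
  have ex : ∀ a b, ∃ r : Γ(X, O a ⊓ O b), IsUnit r ∧ (a = b → r = 1) ∧
      ∀ k, res (L k) ((g k).preimage_mono inf_le_left) (e a k) =
        (g k).app (O a ⊓ O b) r • res (L k) ((g k).preimage_mono inf_le_right) (e b k) := by
    intro a b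
    by_cases hab : a = b
    · subst hab
      exact ⟨1, isUnit_one, fun _ => rfl, fun k => by rw [map_one, one_smul]⟩
    · choose c hc using fun k => Gen.exists_unit
        ((he b k).res ((g k).preimage_mono (inf_le_right : O a ⊓ O b ≤ O b)))
        ((he a k).res ((g k).preimage_mono (inf_le_left : O a ⊓ O b ≤ O a)))
      obtain ⟨r, hr⟩ := (hb a b hab _ le_rfl).2 fun k => (c k : Γ(Z k, g k ⁻¹ᵁ (O a ⊓ O b)))
      obtain ⟨r', hr'⟩ := (hb a b hab _ le_rfl).2 fun k =>
        ((c k)⁻¹ : Γ(Z k, g k ⁻¹ᵁ (O a ⊓ O b))ˣ).1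
      refine ⟨r, ⟨⟨r, r', ?_, ?_⟩, rfl⟩, fun h => absurd h hab, fun k => ?_⟩
      · refine (hb a b hab _ le_rfl).1 (funext fun k => ?_)
        simp only [toPieces, map_mul, map_one]
        rw [show (g k).app _ r = _ from congrFun hr k, show (g k).app _ r' = _ from congrFun hr' k]
        exact (c k).mul_inv
      · refine (hb a b hab _ le_rfl).1 (funext fun k => ?_)
        simp only [toPieces, map_mul, map_one]
        rw [show (g k).app _ r = _ from congrFun hr k, show (g k).app _ r' = _ from congrFun hr' k]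
        exact (c k).inv_mul
      · rw [show (g k).app _ r = _ from congrFun hr k]
        exact hc k
  choose η hunit hone hcomp using ex
  refine exists_glue_cocycle O g L e he hO η hunit (fun a b c => ?_) hcomp
  by_cases hab : a = b
  · subst hab
    rw [hone a a rfl, map_one, one_mul]
  by_cases hbc : b = c
  · subst hbc
    rw [hone b b rfl, map_one, mul_one]
  refine (hb a b hab _ inf_le_left).1 (funext fun k => ?_)
  simp only [toPieces, map_mul, resX_app]
  refine (he c k).smul_inj ((g k).preimage_mono inf_le_right) ?_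
  have h1 := congrArg (res (L k) ((g k).preimage_mono
    (inf_le_inf_right (O c) inf_le_left : O a ⊓ O b ⊓ O c ≤ O a ⊓ O c))) (hcomp a c k)
  have h2 := congrArg (res (L k) ((g k).preimage_mono
    (inf_le_left : O a ⊓ O b ⊓ O c ≤ O a ⊓ O b))) (hcomp a b k)
  have h3 := congrArg (res (L k) ((g k).preimage_mono
    (inf_le_inf_right (O c) inf_le_right : O a ⊓ O b ⊓ O c ≤ O b ⊓ O c))) (hcomp b c k)
  simp only [res_smul, res_res] at h1 h2 h3
  rw [mul_smul, ← h3, ← h2, ← h1]

end Glue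

/-- A basis near finitely many incomparable points of an affine open. -/
theorem exists_gen_finite {L : X.Modules} (hL : PicF.IsInvertible L) {A : X.Opens}
    (hA : IsAffineOpen A) (T : Set X) (hT : T.Finite) (hTA : T ⊆ A)
    (hinc : ∀ s ∈ T, ∀ t ∈ T, s ⤳ t → s = t) :
    ∃ (O : X.Opens) (e : Γ(L, O)), T ⊆ O ∧ O ≤ A ∧ Gen L O e := by
  classical
  have := isQCoh_of_isInvertible hL
  haveI := hT.fintype
  have loc : ∀ η : T, ∃ (b : Γ(X, A)) (t : Γ(L, A)), η.1 ∈ X.basicOpen b ∧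
      Gen L (X.basicOpen b) (res L (X.basicOpen_le b) t) := by
    intro η
    obtain ⟨W, e, hW, he⟩ := (isInvertible_iff_exists_gen L).1 hL η.1
    obtain ⟨b, hb, hxb⟩ := hA.exists_basicOpen_le (V := W) ⟨η.1, hW⟩ (hTA η.2)
    obtain ⟨n, t, ht⟩ := Groth.QCohMod.exists_pow_smul_eq_res L hA b (res L hb e)
    refine ⟨b, t, hxb, ?_⟩
    have ht' : res L (X.basicOpen_le b) t = resX X (X.basicOpen_le b) b ^ n • res L hb e := ht
    rw [ht']
    exact (he.res hb).smul_unit (IsUnit.pow n (RingedSpace.isUnit_res_basicOpen _ b))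
  choose b t hb htg using loc
  have avoid : ∀ η : T, ∃ c : Γ(X, A), η.1 ∈ X.basicOpen c ∧
      ∀ ζ : T, ζ ≠ η → ζ.1 ∉ X.basicOpen c := by
    intro η
    obtain ⟨c, hc, hcv⟩ := AffineUnion.exists_vanishing hA
      (⋃ ζ : {ζ : T // ζ ≠ η}, closure {ζ.1.1}) (isClosed_iUnion_of_finite fun _ => isClosed_closure)
      {η.1} (Set.finite_singleton _) (Set.singleton_subset_iff.2 (hTA η.2))
      (Set.disjoint_singleton_left.2 fun hmem => by
        obtain ⟨ζ, hζ⟩ := Set.mem_iUnion.1 hmem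
        exact ζ.2 (Subtype.ext (hinc _ ζ.1.2 _ η.2 (specializes_iff_mem_closure.2 hζ))))
    exact ⟨c, hc rfl, fun ζ hζ => hcv _ (Set.mem_iUnion.2 ⟨⟨ζ, hζ⟩, subset_closure rfl⟩)⟩
  choose c hc hcv using avoid
  let s : Γ(L, A) := ∑ ζ, c ζ • t ζ
  have ha : ∀ η : T, ∃ a : Γ(X, X.basicOpen (b η)), η.1 ∈ X.basicOpen a ∧
      res L (X.basicOpen_le (b η)) s = a • res L (X.basicOpen_le (b η)) (t η) := by
    intro η
    choose a ha using fun ζ => (htg η).exists_coeff le_rfl (res L (X.basicOpen_le (b η)) (t ζ))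
    refine ⟨∑ ζ, resX X (X.basicOpen_le (b η)) (c ζ) * a ζ, ?_, ?_⟩
    · rw [Scheme.mem_basicOpen _ _ _ (hb η), map_sum]
      rw [← Finset.add_sum_erase Finset.univ _ (Finset.mem_univ η)]
      refine IsLocalRing.notMem_maximalIdeal.1 fun hmem => ?_
      have hsum : ∑ ζ ∈ Finset.univ.erase η, X.presheaf.germ (X.basicOpen (b η)) η.1 (hb η)
          (resX X (X.basicOpen_le (b η)) (c ζ) * a ζ) ∈ IsLocalRing.maximalIdeal _ := by
        refine Ideal.sum_mem _ fun ζ hζ => ?_
        rw [map_mul]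
        refine Ideal.mul_mem_right _ _ ?_
        by_contra hu
        rw [IsLocalRing.mem_maximalIdeal, mem_nonunits_iff, not_not] at hu
        rw [resX, X.presheaf.germ_res_apply] at hu
        exact hcv ζ η (Finset.ne_of_mem_erase hζ).symm
          ((Scheme.mem_basicOpen _ _ _ (hTA η.2)).2 hu)
      rw [Ideal.add_mem_iff_left _ hsum, map_mul] at hmem
      have h1 : IsUnit (X.presheaf.germ (X.basicOpen (b η)) η.1 (hb η)
          (resX X (X.basicOpen_le (b η)) (c η))) := by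
        rw [resX, X.presheaf.germ_res_apply]
        exact (Scheme.mem_basicOpen _ _ _ (hTA η.2)).1 (hc η)
      have h2 : a η = 1 := by
        refine (htg η).smul_inj le_rfl ?_
        rw [res_self, one_smul]
        have h3 := ha η
        rw [res_self] at h3
        exact h3.symm
      rw [h2, map_one, mul_one] at hmem
      exact IsLocalRing.notMem_maximalIdeal.2 h1 hmem
    · simp only [s]
      rw [show res L (X.basicOpen_le (b η)) (∑ ζ, c ζ • t ζ) =
        ∑ ζ, res L (X.basicOpen_le (b η)) (c ζ • t ζ) from map_sum (L.presheaf.map _).hom _ _,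
        Finset.sum_smul]
      refine Finset.sum_congr rfl fun ζ _ => ?_
      rw [res_smul, mul_smul]
      congr 1
      have := ha ζ
      rwa [res_self] at this
  choose a haη has using ha
  let O : T → X.Opens := fun η => X.basicOpen (a η)
  have hOA : iSup O ≤ A := iSup_le fun η => (X.basicOpen_le _).trans (X.basicOpen_le _)
  refine ⟨iSup O, res L hOA s, fun η hη => Opens.mem_iSup.2 ⟨⟨η, hη⟩, haη _⟩, hOA,
    Gen.of_cover O (fun η => le_iSup O η) le_rfl fun η => ?_⟩
  have h2 := congrArg (res L (X.basicOpen_le (a η))) (has η)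
  rw [res_res, res_smul] at h2
  rw [res_res, h2]
  exact ((htg η).res _).smul_unit (RingedSpace.isUnit_res_basicOpen _ (a η))

/-- Shrinking around a point to avoid the part of a quasi-compact open inside a closed set. -/
theorem exists_basicOpen_avoid {W : X.Opens} (hW : IsAffineOpen W) {x : X} (hx : x ∈ W)
    (V : X.Opens) (hVW : V ≤ W) (hV : IsCompact (V : Set X)) (C : Set X) (hC : IsClosed C)
    (hgen : ∀ z : X, z ⤳ x → z ∈ V → z ∉ C) :
    ∃ g : Γ(X, W), x ∈ X.basicOpen g ∧ ∀ z ∈ X.basicOpen g, z ∈ V → z ∉ C := by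
  classical
  obtain ⟨J, hJC, hJ⟩ := AffineUnion.exists_avoid hW C hC
  let p : PrimeSpectrum Γ(X, W) := hW.primeIdealOf ⟨x, hx⟩
  have hmem : ∀ (q : PrimeSpectrum Γ(X, W)) (f : Γ(X, W)),
      hW.fromSpec q ∈ X.basicOpen f ↔ f ∉ q.asIdeal := by
    intro q f
    change q ∈ hW.fromSpec ⁻¹ᵁ X.basicOpen f ↔ _
    rw [hW.fromSpec_preimage_basicOpen]
    rfl
  have loc : ∀ v : (V : Set X), ∃ b : Γ(X, W), X.basicOpen b ≤ V ∧ v.1 ∈ X.basicOpen b ∧
      ∃ g ∉ p.asIdeal, ∀ z ∈ X.basicOpen g, z ∈ X.basicOpen b → z ∉ C := by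
    intro v
    obtain ⟨b, hb, hvb⟩ := hW.exists_basicOpen_le ⟨v.1, v.2⟩ (hVW v.2)
    refine ⟨b, hb, hvb, ?_⟩
    have hne : ¬ Disjoint (J : Set Γ(X, W))
        (p.asIdeal.primeCompl ⊔ Submonoid.powers b : Submonoid Γ(X, W)) := by
      intro hd
      obtain ⟨P, hP, hJP, hPd⟩ := Ideal.exists_le_prime_disjoint J _ hd
      have hPp : P ≤ p.asIdeal := fun f hf => by
        by_contra hfp
        exact Set.disjoint_left.1 hPd hf (Submonoid.mem_sup_left hfp)
      have hbP : b ∉ P := fun hf =>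
        Set.disjoint_left.1 hPd hf (Submonoid.mem_sup_right (Submonoid.mem_powers b))
      let q : PrimeSpectrum Γ(X, W) := ⟨P, hP⟩
      have hzx : hW.fromSpec q ⤳ x := by
        have := ((PrimeSpectrum.le_iff_specializes q p).1 hPp).map hW.fromSpec.continuous
        rwa [hW.fromSpec_primeIdealOf ⟨x, hx⟩] at this
      have hzV : hW.fromSpec q ∈ V := hb ((hmem q b).2 hbP)
      have hzW : hW.fromSpec q ∈ W := hVW hzV
      obtain ⟨j, hj, hzj⟩ := hJ _ hzW (hgen _ hzx hzV)
      exact (hmem q j).1 hzj (hJP hj)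
    obtain ⟨f, hfJ, hfM⟩ := Set.not_disjoint_iff.1 hne
    obtain ⟨g, hg, b', ⟨n, rfl⟩, rfl⟩ := Submonoid.mem_sup.1 hfM
    refine ⟨g, hg, fun z hzg hzb hzC => hJC _ hfJ z hzC ?_⟩
    rw [Scheme.basicOpen_mul]
    refine ⟨hzg, ?_⟩
    rcases Nat.eq_zero_or_pos n with rfl | hn
    · simp only [pow_zero]
      rw [Scheme.basicOpen_of_isUnit _ isUnit_one]
      exact hVW (hb hzb)
    · rw [Scheme.basicOpen_pow _ _ hn]
      exact hzb
  choose b hbV hvb g hgp hg using loc
  obtain ⟨F, hF⟩ := hV.elim_finite_subcover (fun v : (V : Set X) => (X.basicOpen (b v) : Set X))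
    (fun v => (X.basicOpen (b v)).isOpen) fun v hv => Set.mem_iUnion.2 ⟨⟨v, hv⟩, hvb _⟩
  refine ⟨∏ v ∈ F, g v, ?_, fun z hz hzV => ?_⟩
  · rw [AffineUnion.mem_basicOpen_iff hW x hx]
    intro h
    obtain ⟨v, -, hv⟩ := (p.2.prod_mem_iff (s := F)).1 h
    exact hgp v hv
  · obtain ⟨v, hvF, hzv⟩ := Set.mem_iUnion₂.1 (hF hzV)
    refine hg v z ?_ hzv
    rw [← Finset.mul_prod_erase F g hvF, Scheme.basicOpen_mul] at hz
    exact hz.1

/-- Near a point of a discrete complement with local ring of dimension at most one, the open is a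
basic open. -/
theorem exists_chart (U : X.Opens) (x : X) (hxU : x ∉ U) [IsNoetherianRing (X.presheaf.stalk x)]
    (hdim : ringKrullDim (X.presheaf.stalk x) ≤ 1) (W₀ : X.Opens) (hx₀ : x ∈ W₀)
    (hiso : ∀ z ∈ W₀, z ∉ U → z = x)
    (hU : ∀ W : X.Opens, IsAffineOpen W → IsCompact ((W ⊓ U : X.Opens) : Set X)) :
    ∃ (W : X.Opens) (f : Γ(X, W)), IsAffineOpen W ∧ x ∈ W ∧ W ≤ W₀ ∧ X.basicOpen f = W ⊓ U := by
  classical
  obtain ⟨W, hW, hxW, hWle⟩ := exists_isAffineOpen_mem_and_subset hx₀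
  let p := hW.primeIdealOf ⟨x, hxW⟩
  have hloc := hW.isLocalization_stalk ⟨x, hxW⟩
  letI := X.presheaf.algebra_section_stalk ⟨x, hxW⟩
  haveI : IsLocalization.AtPrime (X.presheaf.stalk x) p.asIdeal := hloc
  -- the minimal primes of the local ring
  let S : Set (Ideal Γ(X, W)) :=
    {P | ∃ Q ∈ minimalPrimes (X.presheaf.stalk x), P = Q.comap (algebraMap Γ(X, W) _) ∧ ¬ p.asIdeal ≤ P}
  have hS : S.Finite := by
    refine ((minimalPrimes.finite_of_isNoetherianRing (X.presheaf.stalk x)).image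
      (Ideal.comap (algebraMap Γ(X, W) _))).subset ?_
    rintro P ⟨Q, hQ, rfl, -⟩
    exact ⟨Q, hQ, rfl⟩
  obtain ⟨f, hf, hfS⟩ := AffineUnion.exists_add_notMem hS
    (by rintro P ⟨Q, hQ, rfl, -⟩; haveI := hQ.1.1; exact Ideal.IsPrime.comap _) 0 p.asIdeal
    (by rintro P ⟨Q, hQ, rfl, h⟩; exact h)
  have hgen : ∀ z : X, z ⤳ x → z ∈ W ⊓ U → z ∉ ((X.basicOpen f : Set X))ᶜ := by
    intro z hz hzWU hzf
    let q := hW.primeIdealOf ⟨z, hzWU.1⟩
    have hqp : q.asIdeal ≤ p.asIdeal := by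
      refine (PrimeSpectrum.le_iff_specializes q p).2 ?_
      refine (hW.fromSpec.isEmbedding.isInducing.specializes_iff).1 ?_
      rw [hW.fromSpec_primeIdealOf, hW.fromSpec_primeIdealOf]
      exact hz
    have hne : q ≠ p := fun h => by
      have h' := congrArg hW.fromSpec h
      rw [hW.fromSpec_primeIdealOf, hW.fromSpec_primeIdealOf] at h'
      exact hxU (show x ∈ U from (show z = x from h') ▸ hzWU.2)
    have hfq : f ∈ q.asIdeal := not_not.1 fun h =>
      hzf ((AffineUnion.mem_basicOpen_iff hW z hzWU.1 f).2 h)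
    have hdisj : Disjoint (p.asIdeal.primeCompl : Set Γ(X, W)) (q.asIdeal : Set Γ(X, W)) :=
      Set.disjoint_left.2 fun a ha ha' => ha (hqp ha')
    let Q := q.asIdeal.map (algebraMap Γ(X, W) (X.presheaf.stalk x))
    have hQp : Q.IsPrime := IsLocalization.isPrime_of_isPrime_disjoint p.asIdeal.primeCompl _ _ q.2 hdisj
    have hQc : Q.comap (algebraMap Γ(X, W) (X.presheaf.stalk x)) = q.asIdeal :=
      IsLocalization.comap_map_of_isPrime_disjoint p.asIdeal.primeCompl _ q.2 hdisj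
    have hQmin : Q ∈ minimalPrimes (X.presheaf.stalk x) := by
      by_contra hnot
      haveI := hQp
      obtain ⟨P, hP, hPQ⟩ := Ideal.exists_minimalPrimes_le (bot_le : ⊥ ≤ Q)
      have hPQ' : P < Q := lt_of_le_of_ne hPQ fun h => hnot (h ▸ hP)
      apply hne
      have : Q = IsLocalRing.maximalIdeal _ := by
        by_contra hQm
        have hlt : Q < IsLocalRing.maximalIdeal _ :=
          lt_of_le_of_ne (IsLocalRing.le_maximalIdeal hQp.ne_top) hQm
        let c : LTSeries (PrimeSpectrum (X.presheaf.stalk x)) :=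
          ((RelSeries.singleton _ ⟨P, hP.1.1⟩).snoc ⟨Q, hQp⟩ (by simp; exact hPQ')).snoc
            (IsLocalRing.closedPoint _) (by simp; exact hlt)
        have h2 := (Order.LTSeries.length_le_krullDim c).trans hdim
        simp [c] at h2
      refine PrimeSpectrum.ext ?_
      rw [← hQc, this]
      exact IsLocalization.AtPrime.comap_maximalIdeal (X.presheaf.stalk x) p.asIdeal
    refine (zero_add f ▸ hfS q.asIdeal ⟨Q, hQmin, hQc.symm, fun h => hne ?_⟩) hfq
    exact PrimeSpectrum.ext (le_antisymm hqp h)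
  obtain ⟨g, hxg, hg⟩ := exists_basicOpen_avoid hW hxW (W ⊓ U) inf_le_left (hU W hW) _
    (X.basicOpen f).isOpen.isClosed_compl hgen
  refine ⟨X.basicOpen g, X.presheaf.map (homOfLE (X.basicOpen_le g)).op f, hW.basicOpen g, hxg,
    (X.basicOpen_le g).trans hWle, ?_⟩
  rw [Scheme.basicOpen_res]
  refine le_antisymm (le_inf inf_le_left fun z hz => ?_) (le_inf inf_le_left fun z hz => ?_)
  · by_contra hzU
    have hzx : z = x := hiso z (hWle (X.basicOpen_le _ hz.1)) hzU
    exact (AffineUnion.mem_basicOpen_iff hW x hxW f).1 (hzx ▸ hz.2) hf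
  · exact not_not.1 (hg z hz.1 ⟨X.basicOpen_le _ hz.1, hz.2⟩)

end Groth.VarietyBC.PicGlue
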