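import Groth.Agent.VarietyBC.CurveGG
import Groth.Agent.Chow.ToPn
import Groth.Agent.Variety2.ProjBasics
import Groth.Agent.VarietyBC.GlobalField

/-!
# Non-vanishing loci of sections on irreducible proper curves
-/

set_option autoImplicit false
set_option linter.style.haveILetI false
set_option backward.isDefEq.respectTransparency.types false
universe u

open CategoryTheory CategoryTheory.Limits AlgebraicGeometry TopologicalSpace Opposite
open Groth.PicAux Groth.PropsBasic.Ample

namespace Groth.VarietyBC.CurveAffine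

variable {Y : Scheme.{u}}

/-- On an irreducible space of dimension at most one the points other than the generic one are closed. -/
theorem isClosed_of_ne_genericPoint [IrreducibleSpace Y] (hdim : topologicalKrullDim Y ≤ 1) (z : Y)
    (hz : z ≠ genericPoint Y) : IsClosed ({z} : Set Y) := by
  by_contra h
  haveI : T0Space (Y.toTopCat : Type u) := inferInstanceAs (T0Space Y)
  haveI : QuasiSober (Y.toTopCat : Type u) := inferInstanceAs (QuasiSober Y)
  exact hz (Groth.EulerDeg.eq_of_specializes_of_not_isClosed (X := Y.toTopCat) hdim h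
    (genericPoint_specializes z)).symm

/-- A proper closed subset of a noetherian irreducible space of dimension at most one is finite. -/
theorem finite_of_genericPoint_notMem [IrreducibleSpace Y] [NoetherianSpace Y]
    (hdim : topologicalKrullDim Y ≤ 1) {F : Set Y} (hF : IsClosed F) (hη : genericPoint Y ∉ F) :
    F.Finite := by
  obtain ⟨S, hSf, hSc, hSi, hS⟩ := NoetherianSpace.exists_finite_set_isClosed_irreducible hF
  rw [hS]
  refine hSf.sUnion fun t ht => ?_
  refine (Set.finite_singleton (hSi t ht).genericPoint).subset fun w hw => ?_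
  have hg := (hSi t ht).isGenericPoint_genericPoint (hSc t ht)
  have hgF : (hSi t ht).genericPoint ∈ F := hS.ge ⟨t, ht, hg.mem⟩
  exact (isClosed_of_ne_genericPoint hdim _ (fun h => hη (h ▸ hgF))).closure_eq ▸
    (hg.specializes hw).mem_closure

/-- A section with a zero on an irreducible proper curve has affine non-vanishing locus. -/
theorem isAffineOpen_gloc (k : Type u) [Field k] [Y.Over (Spec (CommRingCat.of k))]
    [IsProper (Y ↘ Spec (CommRingCat.of k))] [IrreducibleSpace Y] (hdim : topologicalKrullDim Y ≤ 1) {L : Y.Modules}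
    (hL : PicF.IsInvertible L) (s : Γ(L, ⊤)) (hne : genericPoint Y ∈ gloc s) (htop : gloc s ≠ ⊤) :
    IsAffineOpen (gloc s) := by
  classical
  haveI := Groth.EulerDeg.noetherianSpace_of_proper k Y
  haveI := Groth.EulerDeg.compactSpace_of_proper k Y
  obtain ⟨N, hN⟩ := CurveGG.exists_gg_of_section k hdim hL s
    fun x hx => isClosed_of_ne_genericPoint hdim x fun h => hx (h ▸ hne)
  choose t ht using hN N le_rfl
  obtain ⟨F, hF⟩ := CompactSpace.isCompact_univ.elim_finite_subcover
    (fun x => (gloc (t x) : Set Y)) (fun x => (gloc (t x)).isOpen)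
    (fun x _ => Set.mem_iUnion.2 ⟨x, ht x⟩)
  let e := F.equivFin
  let σ : Fin (F.card + 1) → Γ(CohB1.tensorPow L (N + 1), ⊤) :=
    Fin.cons (powSec s (N + 1)) (fun i => t (e.symm i).1)
  let q : Y ⟶ Spec (CommRingCat.of k) := Y ↘ Spec (CommRingCat.of k)
  let U := Groth.Chow.ToPn.U (CohB1.tensorPow L (N + 1)) σ
  have hU : ⨆ i, U i = ⊤ := top_le_iff.1 fun x _ => by
    obtain ⟨y, hy, hxy⟩ := Set.mem_iUnion₂.1 (hF (Set.mem_univ x))
    refine Opens.mem_iSup.2 ⟨(e ⟨y, hy⟩).succ, ?_⟩
    change x ∈ gloc (σ (e ⟨y, hy⟩).succ)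
    simp only [σ, Fin.cons_succ, Equiv.symm_apply_apply]
    exact hxy
  obtain ⟨r, hr⟩ := Groth.Chow.ToPn.exists_r q _ σ hU
  have hrq := Groth.Chow.ToPn.r_toSpec hr hU
  have hpre := Groth.Chow.ToPn.preimage_D hr hU 0
  have hU0 : U 0 = gloc s := by
    change gloc (σ 0) = gloc s
    simp only [σ, Fin.cons_zero]
    exact gloc_powSec hL s (Nat.succ_pos N)
  let D : (CohB1.ProjSpace F.card k).Opens :=
    Proj.basicOpen (CohB1.polyGrading F.card k) (MvPolynomial.X 0)
  have hD : r ⁻¹ᵁ D = gloc s := hpre.trans hU0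
  haveI : IsProper (r ≫ CohB1.ProjSpace.toSpec F.card k) := by
    rw [hrq]; exact inferInstanceAs (IsProper (Y ↘ Spec (CommRingCat.of k)))
  haveI : IsProper r := IsProper.of_comp r (CohB1.ProjSpace.toSpec F.card k)
  haveI : IsProper (r ∣_ D) := IsZariskiLocalAtTarget.restrict ‹IsProper r› D
  have hfin : ∀ z ∈ D, (r ⁻¹' {z}).Finite := by
    intro z hz
    by_contra hinf
    have hη : r (genericPoint Y) = z := by
      have hmem : genericPoint Y ∈ closure (r ⁻¹' {z}) := by
        by_contra hη
        exact hinf ((finite_of_genericPoint_notMem hdim isClosed_closure hη).subset subset_closure)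
      have h1 : z ⤳ r (genericPoint Y) := specializes_iff_mem_closure.2
        (closure_minimal (t := r ⁻¹' closure {z}) (fun w hw => subset_closure hw)
          (isClosed_closure.preimage r.continuous) hmem)
      obtain ⟨w, hw⟩ := Set.Infinite.nonempty hinf
      have h2 : r (genericPoint Y) ⤳ z :=
        (Set.mem_singleton_iff.1 hw) ▸ (genericPoint_specializes w).map r.continuous
      exact (h2.antisymm h1).eq
    obtain ⟨w, hw, hwne⟩ : ∃ w ∈ r ⁻¹' {z}, w ≠ genericPoint Y :=
      (Set.Infinite.diff hinf (Set.finite_singleton (genericPoint Y))).nonempty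
    have hzcl : IsClosed ({z} : Set (CohB1.ProjSpace F.card k)) := by
      have h := r.isClosedMap _ (isClosed_of_ne_genericPoint hdim w hwne)
      rwa [Set.image_singleton, Set.mem_singleton_iff.1 hw] at h
    refine htop (top_le_iff.1 fun y _ => hD.le ?_)
    have h3 : z ⤳ r y := hη ▸ (genericPoint_specializes y).map r.continuous
    have h4 : r y = z := Set.mem_singleton_iff.1 (hzcl.closure_eq.le h3.mem_closure)
    change r y ∈ D
    rw [h4]
    exact hz
  haveI : LocallyQuasiFinite (r ∣_ D) := locallyQuasiFinite_iff_finite_preimage_singleton.2 fun z => by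
    refine ((hfin z.1 z.2).preimage Subtype.val_injective.injOn).subset fun w hw => ?_
    exact ((morphismRestrict_base_coe r D w).symm.trans (congrArg Subtype.val hw) :)
  haveI : IsFinite (r ∣_ D) := IsFinite.of_isProper_of_locallyQuasiFinite _
  haveI : IsAffine D.toScheme :=
    Proj.isAffineOpen_basicOpen _ _ (Groth.Chow.ToPn.X_mem 0) one_pos
  rw [← hD]
  exact isAffine_of_isAffineHom (r ∣_ D)

/-- An invertible module with a section having a zero on an integral proper curve is ample. -/
theorem isAmple_of_section (k : Type u) [Field k] [Y.Over (Spec (CommRingCat.of k))]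
    [IsProper (Y ↘ Spec (CommRingCat.of k))] [IsIntegral Y] (hdim : topologicalKrullDim Y ≤ 1) {L : Y.Modules}
    (hL : PicF.IsInvertible L) (s : Γ(L, ⊤)) (hne : genericPoint Y ∈ gloc s) (htop : gloc s ≠ ⊤) :
    CohB1.IsAmple L := by
  haveI := Groth.EulerDeg.noetherianSpace_of_proper k Y
  haveI := Groth.EulerDeg.compactSpace_of_proper k Y
  obtain ⟨N, hN⟩ := CurveGG.exists_gg_of_section k hdim hL s
    fun x hx => isClosed_of_ne_genericPoint hdim x fun h => hx (h ▸ hne)
  have hLn := isInvertible_tensorPow hL (N + 1)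
  refine ⟨hL, inferInstance, fun x => ?_⟩
  obtain ⟨t, ht⟩ := hN N le_rfl x
  refine ⟨N, homOfSection t, ht, ?_⟩
  refine isAffineOpen_gloc k hdim hLn t
    (((genericPoint_spec Y).mem_open_set_iff (gloc t).isOpen).2 ⟨x, trivial, ht⟩) fun htop' => ?_
  -- otherwise the power is trivial and a power of `s` is a constant
  have hg : Gen (CohB1.tensorPow L (N + 1)) ⊤ t := by
    have := gen_gloc t (V := ⊤) htop'.ge
    rwa [res_self] at this
  obtain ⟨c, hc⟩ := hg.exists_coeff le_rfl (powSec s (N + 1))
  rw [res_self] at hc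
  have h1 : gloc (powSec s (N + 1)) ⊓ ⊤ = Y.basicOpen c :=
    gloc_inf_eq_basicOpen hg (by rw [res_self]; exact hc)
  rw [inf_top_eq, gloc_powSec hL s (Nat.succ_pos N)] at h1
  have hfield : IsField Γ(Y, ⊤) := isField_of_universallyClosed k (Y ↘ Spec (CommRingCat.of k))
  obtain h0 | hu : c = 0 ∨ IsUnit c := (eq_or_ne c 0).imp_right fun h =>
    let ⟨d, hd⟩ := hfield.mul_inv_cancel h
    IsUnit.of_mul_eq_one _ hd
  · rw [h0, Scheme.basicOpen_zero] at h1
    rw [h1] at hne
    exact hne
  · exact htop (h1.trans (Scheme.basicOpen_of_isUnit _ hu))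

end Groth.VarietyBC.CurveAffine
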