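/-
Functoriality of the transition maps `X_L → X_K`; Galois transitivity on the fibres of `X_K → X`.
-/
import Groth.Prelude.Def_Curv2
import Groth.Agent.VarietyBC.Tower
import Mathlib.FieldTheory.Normal.Basic
import Mathlib.FieldTheory.Galois.Basic
import Mathlib.AlgebraicGeometry.Morphisms.Integral
import Mathlib.AlgebraicGeometry.Morphisms.UniversallyOpen
import Mathlib.AlgebraicGeometry.Morphisms.Finite
import Mathlib.AlgebraicGeometry.Morphisms.QuasiFinite

open CategoryTheory CategoryTheory.Limits AlgebraicGeometry TensorProduct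

universe u

namespace Groth.VarietyBC

variable {k : Type u} [Field k] {X : Scheme.{u}} [X.Over (Spec (CommRingCat.of k))]
  {K L M : Type u} [Field K] [Algebra k K] [Field L] [Algebra k L] [Field M] [Algebra k M]

theorem bcMap_comp (i : K →ₐ[k] L) (j : L →ₐ[k] M) :
    bcMap (X := X) j ≫ bcMap i = bcMap (j.comp i) := by
  refine pullback.hom_ext ?_ ?_
  · rw [Category.assoc, bcMap_fst, bcMap_fst, bcMap_fst]
  · rw [Category.assoc, bcMap_snd, ← Category.assoc, bcMap_snd, bcMap_snd, Category.assoc, ← Spec.map_comp]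
    rfl

theorem bcMap_comp_apply (i : K →ₐ[k] L) (j : L →ₐ[k] M) (y : Curv2.bc k X M) :
    bcMap i (bcMap j y) = bcMap (j.comp i) y := by
  rw [← bcMap_comp i j]; rfl

theorem bcMap_id : bcMap (X := X) (AlgHom.id k K) = 𝟙 _ := by
  refine pullback.hom_ext ?_ ?_
  · rw [bcMap_fst, Category.id_comp]
  · rw [bcMap_snd, Category.id_comp]
    exact (congrArg (_ ≫ ·) (Spec.map_id _)).trans (Category.comp_id _)

theorem bcMap_fst_apply (i : K →ₐ[k] L) (y : Curv2.bc k X L) :
    Curv2.bcFst k X K (bcMap i y) = Curv2.bcFst k X L y :=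
  congr($(bcMap_fst i) y)

theorem galAct_eq_bcMap (σ : K ≃ₐ[k] K) :
    Curv2.galAct k X K σ = bcMap (σ : K →ₐ[k] K) := by
  refine pullback.hom_ext ?_ ?_
  · exact (pullback.lift_fst ..).trans ((Category.comp_id _).trans (bcMap_fst _).symm)
  · exact (pullback.lift_snd ..).trans (bcMap_snd _).symm

theorem galAct_comp_symm (σ : K ≃ₐ[k] K) :
    Curv2.galAct k X K σ ≫ Curv2.galAct k X K σ.symm = 𝟙 _ := by
  rw [galAct_eq_bcMap, galAct_eq_bcMap, bcMap_comp, ← bcMap_id (k := k) (X := X) (K := K)]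
  congr 1
  exact AlgHom.ext fun a => σ.apply_symm_apply a

theorem galAct_fst (σ : K ≃ₐ[k] K) : Curv2.galAct k X K σ ≫ Curv2.bcFst k X K = Curv2.bcFst k X K := by
  rw [galAct_eq_bcMap, bcMap_fst]

theorem galAct_fst_apply (σ : K ≃ₐ[k] K) (y : Curv2.bc k X K) :
    Curv2.bcFst k X K (Curv2.galAct k X K σ y) = Curv2.bcFst k X K y :=
  congr($(galAct_fst σ) y)

theorem isIso_galAct (σ : K ≃ₐ[k] K) : IsIso (Curv2.galAct k X K σ) :=
  ⟨Curv2.galAct k X K σ.symm, galAct_comp_symm σ, by
    simpa using galAct_comp_symm (k := k) (X := X) σ.symm⟩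

/-- The Galois action as a homeomorphism. -/
noncomputable def galHomeo (σ : K ≃ₐ[k] K) : Curv2.bc k X K ≃ₜ Curv2.bc k X K :=
  have := isIso_galAct (X := X) σ
  (Curv2.galAct k X K σ).homeomorph

theorem galHomeo_apply (σ : K ≃ₐ[k] K) (y : Curv2.bc k X K) :
    galHomeo σ y = Curv2.galAct k X K σ y := rfl

theorem universallyOpen_bcMap (i : K →ₐ[k] L) : UniversallyOpen (bcMap (X := X) i) :=
  MorphismProperty.of_isPullback (P := (@UniversallyOpen : MorphismProperty Scheme.{u}))
    (isPullback_bcMap i).flip inferInstance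

theorem isIntegralHom_bcMap (i : K →ₐ[k] L) [Algebra.IsAlgebraic k L] :
    IsIntegralHom (bcMap (X := X) i) := by
  refine MorphismProperty.of_isPullback (P := (@IsIntegralHom : MorphismProperty Scheme.{u}))
    (isPullback_bcMap i).flip ?_
  rw [IsIntegralHom.SpecMap_iff]
  intro x
  exact RingHom.IsIntegralElem.of_comp (f := algebraMap k K) (by
    rw [AlgHom.toRingHom_eq_coe]
    change (((i : K →+* L)).comp (algebraMap k K)).IsIntegralElem x
    rw [AlgHom.comp_algebraMap]
    exact (Algebra.IsAlgebraic.isAlgebraic x).isIntegral)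

theorem isIntegralHom_bcFst [Algebra.IsAlgebraic k K] : IsIntegralHom (Curv2.bcFst k X K) := by
  refine MorphismProperty.of_isPullback (P := (@IsIntegralHom : MorphismProperty Scheme.{u}))
    (IsPullback.of_hasPullback _ _).flip ?_
  rw [IsIntegralHom.SpecMap_iff]
  exact fun x => (Algebra.IsAlgebraic.isAlgebraic x).isIntegral

theorem isClosedMap_bcFst [Algebra.IsAlgebraic k K] : IsClosedMap (Curv2.bcFst k X K) :=
  have := isIntegralHom_bcFst (k := k) (X := X) (K := K)
  (Curv2.bcFst k X K).isClosedMap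

theorem finite_preimage_bcFst [FiniteDimensional k K] (x : X) :
    ((Curv2.bcFst k X K) ⁻¹' {x}).Finite := by
  have : IsFinite (Curv2.bcFst k X K) := by
    refine MorphismProperty.of_isPullback (P := (@IsFinite : MorphismProperty Scheme.{u}))
      (IsPullback.of_hasPullback _ _).flip ?_
    rw [IsFinite.SpecMap_iff]
    exact RingHom.finite_algebraMap.2 ‹_›
  exact (Curv2.bcFst k X K).finite_preimage_singleton x

theorem tensorTo_bcMap {A : Type u} [CommRing A] [Algebra k A] {m : Spec (CommRingCat.of A) ⟶ X}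
    (hm : OverSpec (k := k) A m) (i : K →ₐ[k] L) :
    tensorTo L hm ≫ bcMap i =
      Spec.map (CommRingCat.ofHom (Algebra.TensorProduct.map (AlgHom.id k A) i).toRingHom) ≫ tensorTo K hm := by
  refine pullback.hom_ext ?_ ?_
  · rw [Category.assoc, bcMap_fst, tensorTo_fst, Category.assoc, tensorTo_fst, ← Category.assoc,
      ← Spec.map_comp]
    congr 2
    ext a
    change a ⊗ₜ[k] (1 : L) = Algebra.TensorProduct.map (AlgHom.id k A) i (a ⊗ₜ 1)
    simp only [Algebra.TensorProduct.map_tmul, map_one, AlgHom.id_apply]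

  · rw [Category.assoc, bcMap_snd, ← Category.assoc, tensorTo_snd, Category.assoc, tensorTo_snd,
      ← Spec.map_comp, ← Spec.map_comp]
    congr 1

/-- For a normal extension, the automorphisms act transitively on every fibre of `X_K → X`. -/
theorem exists_galAct_eq [Normal k K] (y y' : Curv2.bc k X K)
    (h : Curv2.bcFst k X K y = Curv2.bcFst k X K y') :
    ∃ σ : K ≃ₐ[k] K, Curv2.galAct k X K σ y = y' := by
  obtain ⟨Ω, _, _, i, j, ω, rfl, rfl⟩ := exists_common_extension y y' h
  let : Algebra K Ω := i.toRingHom.toAlgebra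
  have : IsScalarTower k K Ω := IsScalarTower.of_algebraMap_eq fun c => (i.commutes c).symm
  let e : (K →ₐ[k] Ω) ≃ (K ≃ₐ[k] K) := Normal.algHomEquivAut k Ω K
  refine ⟨e j, ?_⟩
  have hσ : i.comp (e j : K →ₐ[k] K) = j := AlgHom.ext fun a => congr($(e.symm_apply_apply j) a)
  rw [galAct_eq_bcMap, bcMap_comp_apply, hσ]

end Groth.VarietyBC
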