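/-
Topology of a tower of open and closed maps over a connected space: connected components of the
limit surject onto the base.
-/
import Mathlib.Topology.Connected.Clopen
import Mathlib.Topology.Compactness.Compact
import Mathlib.Topology.LocalAtTarget
import Mathlib.Data.Finset.Order
import Mathlib.Data.Set.Card

open Set Topology

namespace Groth.VarietyBC

section Space

variable {X Z : Type*} [TopologicalSpace X] [TopologicalSpace Z] {a : Z → X}

theorem image_eq_univ_of_isClopen [PreconnectedSpace X] (ho : IsOpenMap a) (hc : IsClosedMap a)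
    {W : Set Z} (hW : IsClopen W) (hne : W.Nonempty) : a '' W = univ :=
  IsClopen.eq_univ ⟨hc _ hW.1, ho _ hW.2⟩ (hne.image a)

/-- An open and closed surjection onto a connected space with a preconnected fibre has connected
source. -/
theorem connectedSpace_of_open_closed_fibre [ConnectedSpace X] (ho : IsOpenMap a) (hc : IsClosedMap a)
    (hs : Function.Surjective a) (x : X) (hx : IsPreconnected (a ⁻¹' {x})) : ConnectedSpace Z := by
  have : Nonempty Z := let ⟨z, _⟩ := hs x; ⟨z⟩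
  have key : ∀ W : Set Z, IsClopen W → W.Nonempty → a ⁻¹' {x} ⊆ W := fun W hW hne => by
    obtain ⟨w, hw, hwx⟩ := (image_eq_univ_of_isClopen ho hc hW hne).ge (mem_univ x)
    exact hx.subset_isClopen hW ⟨w, hwx, hw⟩
  refine connectedSpace_iff_clopen.2 ⟨inferInstance, fun W hW => ?_⟩
  by_contra h
  obtain ⟨h1, h2⟩ := not_or.1 h
  obtain ⟨z, hz⟩ := hs x
  exact key Wᶜ hW.compl (nonempty_compl.2 h2) hz (key W hW (nonempty_iff_ne_empty.2 h1) hz)

theorem isClopen_connectedComponent_of_finite_fibre [PreconnectedSpace X] (ho : IsOpenMap a)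
    (hc : IsClosedMap a) (hfin : ∀ x, (a ⁻¹' {x}).Finite) (z : Z) :
    IsClopen (connectedComponent z) := by
  set x := a z
  let S : Set (Set Z) := {W | IsClopen W ∧ z ∈ W}
  obtain ⟨C, hC, hmin⟩ := exists_minimalFor_of_wellFoundedLT (· ∈ S)
    (fun W => (W ∩ a ⁻¹' {x}).ncard) ⟨univ, isClopen_univ, trivial⟩
  have hsub : ∀ W, IsClopen W → z ∈ W → C ⊆ W := fun W hW hzW => by
    by_contra h
    obtain ⟨w, hw, hwx⟩ := (image_eq_univ_of_isClopen ho hc (hC.1.diff hW)
      (sdiff_nonempty.2 h)).ge (mem_univ x)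
    have hlt : ((C ∩ W) ∩ a ⁻¹' {x}).ncard < (C ∩ a ⁻¹' {x}).ncard :=
      Set.ncard_lt_ncard ⟨inter_subset_inter_left _ inter_subset_left,
        fun hle => hw.2 (hle ⟨hw.1, hwx⟩).1.2⟩ ((hfin x).inter_of_right _)
    exact absurd (hmin ⟨hC.1.inter hW, hC.2, hzW⟩ hlt.le) (not_le.2 hlt)
  have : IsPreconnected C := by
    refine isPreconnected_iff_subset_of_fully_disjoint_closed hC.1.1 |>.2 fun u v hu hv huv hd => ?_
    have hcu : IsClopen (C ∩ u) := by
      refine ⟨hC.1.1.inter hu, ?_⟩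
      have : C ∩ u = C ∩ vᶜ := Set.ext fun w => ⟨fun h => ⟨h.1, disjoint_left.1 hd h.2⟩,
        fun h => ⟨h.1, (huv h.1).resolve_right h.2⟩⟩
      exact this ▸ hC.1.2.inter hv.isOpen_compl
    rcases huv hC.2 with h | h
    · exact .inl ((hsub _ hcu ⟨hC.2, h⟩).trans inter_subset_right)
    · refine .inr fun w hw => (huv hw).resolve_left fun hwu => ?_
      exact (hsub _ (hC.1.diff hcu) ⟨hC.2, fun h' => disjoint_left.1 hd h'.2 h⟩ hw).2 ⟨hw, hwu⟩
  have heq : connectedComponent z = C :=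
    (hC.1.connectedComponent_subset hC.2).antisymm (this.subset_connectedComponent hC.2)
  exact heq ▸ hC.1

end Space

/-- A tower `Y → Z i → X` of open and closed maps with finite fibres below, compact fibres above,
and separation of disjoint closed sets at finite level, locally on `X`. -/
structure CompTower {X Y ι : Type*} [TopologicalSpace X] [TopologicalSpace Y] [Preorder ι]
    (Z : ι → Type*) [∀ i, TopologicalSpace (Z i)] (p : Y → X) where
  a : ∀ i, Z i → X
  q : ∀ i, Y → Z i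
  r : ∀ ⦃i j⦄, i ≤ j → Z j → Z i
  a_q : ∀ i y, a i (q i y) = p y
  r_q : ∀ ⦃i j⦄ (h : i ≤ j) y, r h (q j y) = q i y
  continuous_a : ∀ i, Continuous (a i)
  isOpenMap_a : ∀ i, IsOpenMap (a i)
  isClosedMap_a : ∀ i, IsClosedMap (a i)
  finite_a : ∀ i x, (a i ⁻¹' {x}).Finite
  continuous_q : ∀ i, Continuous (q i)
  isClosedMap_q : ∀ i, IsClosedMap (q i)
  surjective_q : ∀ i, Function.Surjective (q i)
  compact_q : ∀ i z, IsCompact (q i ⁻¹' {z})
  continuous_r : ∀ ⦃i j⦄ (h : i ≤ j), Continuous (r h)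
  isOpenMap_r : ∀ ⦃i j⦄ (h : i ≤ j), IsOpenMap (r h)
  isClosedMap_r : ∀ ⦃i j⦄ (h : i ≤ j), IsClosedMap (r h)
  sep : ∀ x : X, ∃ U : Set X, IsOpen U ∧ x ∈ U ∧ ∀ W W' : Set Y, IsClosed W → IsClosed W' →
    Disjoint W W' → ∃ i, ∀ y ∈ W, ∀ y' ∈ W', q i y = q i y' → p y ∉ U

namespace CompTower

variable {X Y ι : Type*} [TopologicalSpace X] [TopologicalSpace Y] [Preorder ι] [IsDirectedOrder ι]
  [Nonempty ι] {Z : ι → Type*} [∀ i, TopologicalSpace (Z i)] {p : Y → X}

theorem image_connectedComponent [PreconnectedSpace X] (T : CompTower Z p) (y0 : Y) :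
    p '' connectedComponent y0 = univ := by
  set C : ∀ i, Set (Z i) := fun i => connectedComponent (T.q i y0) with hC
  have hclo : ∀ i, IsClopen (C i) := fun i =>
    isClopen_connectedComponent_of_finite_fibre (T.isOpenMap_a i) (T.isClosedMap_a i) (T.finite_a i) _
  have hr : ∀ ⦃i j⦄ (h : i ≤ j), T.r h '' C j = C i := fun i j h => by
    have hcl : IsClopen (T.r h '' C j) :=
      ⟨T.isClosedMap_r h _ (hclo j).1, T.isOpenMap_r h _ (hclo j).2⟩
    have hmem : T.q i y0 ∈ T.r h '' C j := ⟨_, mem_connectedComponent, T.r_q h y0⟩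
    exact Subset.antisymm
      ((isPreconnected_connectedComponent.image _ (T.continuous_r h).continuousOn).subset_connectedComponent hmem)
      (hcl.connectedComponent_subset hmem)
  set D : Set Y := ⋂ i, T.q i ⁻¹' C i with hD
  have hDc : IsClosed D := isClosed_iInter fun i => (hclo i).1.preimage (T.continuous_q i)
  have hmem0 : y0 ∈ D := mem_iInter.2 fun i => mem_connectedComponent
  have hqD : ∀ i, T.q i '' D = C i := fun i => by
    refine Subset.antisymm (image_subset_iff.2 (iInter_subset _ i)) fun z hz => ?_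
    obtain ⟨y, hy1, hy2⟩ : ((T.q i ⁻¹' {z}) ∩ D).Nonempty := by
      refine (T.compact_q i z).inter_iInter_nonempty _
        (fun j => (hclo j).1.preimage (T.continuous_q j)) fun u => ?_
      classical
      obtain ⟨l, hl⟩ := (insert i u).exists_le
      obtain ⟨w, hw, rfl⟩ := (hr (hl i (Finset.mem_insert_self i u))).ge hz
      obtain ⟨y, rfl⟩ := T.surjective_q l w
      refine ⟨y, (T.r_q _ y).symm, mem_iInter₂.2 fun j hj => ?_⟩
      rw [mem_preimage, ← hr (hl j (Finset.mem_insert_of_mem hj))]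
      exact ⟨_, hw, T.r_q _ y⟩
    exact ⟨y, hy2, hy1⟩
  have hDpre : IsPreconnected D := by
    rw [isPreconnected_iff_subset_of_fully_disjoint_closed hDc]
    intro u v hu hv huv hd
    by_contra hne
    simp only [not_or, not_subset] at hne
    obtain ⟨⟨y₁, hy₁D, hy₁⟩, ⟨y₂, hy₂D, hy₂⟩⟩ := hne
    have key : ∀ W W' : Set Y, IsClosed W → IsClosed W' → Disjoint W W' → W ⊆ D → D ⊆ W ∪ W' →
        W.Nonempty → ∀ i, T.q i '' W = C i := by
      intro W W' hW hW' hdis hWD hcov ⟨w, hw⟩ i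
      have hsub : T.q i '' W ⊆ C i := (image_mono hWD).trans (hqD i).le
      have hopW : IsOpen (T.q i '' W) := by
        refine isOpen_iff_forall_mem_open.2 ?_
        rintro _ ⟨y, hy, rfl⟩
        obtain ⟨U, hU, hyU, hUsep⟩ := T.sep (p y)
        obtain ⟨j, hj⟩ := hUsep W W' hW hW' hdis
        obtain ⟨l, hil, hjl⟩ := exists_ge_ge i j
        refine ⟨T.r hil '' ((C l ∩ T.a l ⁻¹' U) \ T.q l '' W'), ?_, T.isOpenMap_r hil _
          (((hclo l).2.inter (hU.preimage (T.continuous_a l))).sdiff (T.isClosedMap_q l _ hW')), ?_⟩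
        · rintro _ ⟨z, ⟨⟨hzC, hzU⟩, hzW'⟩, rfl⟩
          obtain ⟨t, htD, rfl⟩ := (hqD l).ge hzC
          rcases hcov htD with ht | ht
          · exact ⟨t, ht, (T.r_q hil t).symm⟩
          · exact absurd ⟨t, ht, rfl⟩ hzW'
        · refine ⟨T.q l y, ⟨⟨(hqD l).le ⟨y, hWD hy, rfl⟩, ?_⟩, ?_⟩, T.r_q hil y⟩
          · rw [mem_preimage, T.a_q]; exact hyU
          · rintro ⟨y', hy', he⟩
            refine hj y hy y' hy' ?_ hyU
            rw [← T.r_q hjl y, ← T.r_q hjl y', he]
      refine hsub.antisymm ?_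
      rw [hC]
      dsimp only
      rw [show connectedComponent (T.q i y0) = connectedComponent (T.q i w) from
        connectedComponent_eq (hsub ⟨w, hw, rfl⟩)]
      exact IsClopen.connectedComponent_subset ⟨T.isClosedMap_q i _ hW, hopW⟩ ⟨w, hw, rfl⟩
    have h1 := key (D ∩ v) (D ∩ u) (hDc.inter hv) (hDc.inter hu)
      (hd.symm.mono inter_subset_right inter_subset_right) inter_subset_left
      (fun t ht => (huv ht).elim (fun h => .inr ⟨ht, h⟩) fun h => .inl ⟨ht, h⟩)
      ⟨y₁, hy₁D, (huv hy₁D).resolve_left hy₁⟩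
    obtain ⟨U, hU, hxU, hUsep⟩ := T.sep (p y₂)
    obtain ⟨j, hj⟩ := hUsep (D ∩ u) (D ∩ v) (hDc.inter hu) (hDc.inter hv)
      (hd.mono inter_subset_right inter_subset_right)
    obtain ⟨y', hy', he⟩ := (h1 j).ge ((hqD j).le ⟨y₂, hy₂D, rfl⟩)
    exact hj y₂ ⟨hy₂D, (huv hy₂D).resolve_right hy₂⟩ y' hy' he.symm hxU
  refine eq_univ_of_forall fun x => ?_
  obtain ⟨i⟩ := ‹Nonempty ι›
  obtain ⟨z, hz, rfl⟩ := (image_eq_univ_of_isClopen (T.isOpenMap_a i) (T.isClosedMap_a i) (hclo i)
    ⟨_, mem_connectedComponent⟩).ge (mem_univ x)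
  obtain ⟨y, hy, rfl⟩ := (hqD i).ge hz
  exact ⟨y, hDpre.subset_connectedComponent hmem0 hy, (T.a_q i y).symm⟩

/-- Restriction of a tower over a closed subset of the base. -/
noncomputable def restrict (T : CompTower Z p) (S : Set X) (hS : IsClosed S) :
    CompTower (fun i => ↥(T.a i ⁻¹' S)) (S.restrictPreimage p) where
  a i := S.restrictPreimage (T.a i)
  q i y := ⟨T.q i y.1, show T.a i (T.q i y.1) ∈ S by rw [T.a_q]; exact y.2⟩
  r i j h z := ⟨T.r h z.1, show T.a i (T.r h z.1) ∈ S by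
    obtain ⟨y, hy⟩ := T.surjective_q j z.1
    rw [← hy, T.r_q, T.a_q, ← T.a_q j, hy]; exact z.2⟩
  a_q i y := Subtype.ext (T.a_q i y.1)
  r_q i j h y := Subtype.ext (T.r_q h y.1)
  continuous_a i := (T.continuous_a i).restrictPreimage
  isOpenMap_a i := (T.isOpenMap_a i).restrictPreimage S
  isClosedMap_a i := (T.isClosedMap_a i).restrictPreimage S
  finite_a i x := ((T.finite_a i x.1).preimage Subtype.val_injective.injOn).subset fun z hz =>
    congrArg Subtype.val hz
  continuous_q i := Continuous.subtype_mk ((T.continuous_q i).comp continuous_subtype_val) _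
  isClosedMap_q i W hW := by
    have hS' : IsClosed (p ⁻¹' S) := by
      have : p = T.a i ∘ T.q i := funext fun y => (T.a_q i y).symm
      rw [this]
      exact hS.preimage ((T.continuous_a i).comp (T.continuous_q i))
    refine isClosed_induced_iff.2 ⟨T.q i '' (Subtype.val '' W),
      T.isClosedMap_q i _ (hS'.isClosedEmbedding_subtypeVal.isClosedMap W hW), ?_⟩
    ext z
    constructor
    · rintro ⟨_, ⟨y, hy, rfl⟩, h⟩; exact ⟨y, hy, Subtype.ext h⟩
    · rintro ⟨y, hy, rfl⟩; exact ⟨y.1, ⟨y, hy, rfl⟩, rfl⟩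
  surjective_q i z := by
    obtain ⟨y, hy⟩ := T.surjective_q i z.1
    exact ⟨⟨y, show p y ∈ S by rw [← T.a_q i, hy]; exact z.2⟩, Subtype.ext hy⟩
  compact_q i z := by
    refine Topology.IsInducing.subtypeVal.isCompact_iff.2 ?_
    convert T.compact_q i z.1
    ext y
    exact ⟨fun ⟨y', h, e⟩ => e ▸ congrArg Subtype.val h,
      fun h => ⟨⟨y, show p y ∈ S by rw [← T.a_q i, show T.q i y = z.1 from h]; exact z.2⟩, Subtype.ext h, rfl⟩⟩
  continuous_r i j h := Continuous.subtype_mk ((T.continuous_r h).comp continuous_subtype_val) _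
  isOpenMap_r i j h O hO := by
    obtain ⟨O', hO', rfl⟩ := isOpen_induced_iff.1 hO
    refine isOpen_induced_iff.2 ⟨T.r h '' O', T.isOpenMap_r h _ hO', ?_⟩
    ext z
    constructor
    · rintro ⟨w, hw, he⟩
      have hwS : T.a j w ∈ S := by
        obtain ⟨y, rfl⟩ := T.surjective_q j w
        rw [T.a_q, ← T.a_q i, ← T.r_q h, he]; exact z.2
      exact ⟨⟨w, hwS⟩, hw, Subtype.ext he⟩
    · rintro ⟨w, hw, rfl⟩; exact ⟨w.1, hw, rfl⟩
  isClosedMap_r i j h O hO := by
    obtain ⟨O', hO', rfl⟩ := isClosed_induced_iff.1 hO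
    refine isClosed_induced_iff.2 ⟨T.r h '' O', T.isClosedMap_r h _ hO', ?_⟩
    ext z
    constructor
    · rintro ⟨w, hw, he⟩
      have hwS : T.a j w ∈ S := by
        obtain ⟨y, rfl⟩ := T.surjective_q j w
        rw [T.a_q, ← T.a_q i, ← T.r_q h, he]; exact z.2
      exact ⟨⟨w, hwS⟩, hw, Subtype.ext he⟩
    · rintro ⟨w, hw, rfl⟩; exact ⟨w.1, hw, rfl⟩
  sep x := by
    obtain ⟨U, hU, hxU, hUsep⟩ := T.sep x.1
    refine ⟨Subtype.val ⁻¹' U, hU.preimage continuous_subtype_val, hxU, fun W W' hW hW' hd => ?_⟩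
    obtain ⟨i0⟩ := ‹Nonempty ι›
    have hS' : IsClosed (p ⁻¹' S) := by
      have : p = T.a i0 ∘ T.q i0 := funext fun y => (T.a_q i0 y).symm
      rw [this]
      exact hS.preimage ((T.continuous_a i0).comp (T.continuous_q i0))
    obtain ⟨i, hi⟩ := hUsep _ _ (hS'.isClosedEmbedding_subtypeVal.isClosedMap W hW)
      (hS'.isClosedEmbedding_subtypeVal.isClosedMap W' hW')
      (disjoint_image_of_injective Subtype.val_injective hd)
    exact ⟨i, fun y hy y' hy' he => hi y.1 ⟨y, hy, rfl⟩ y'.1 ⟨y', hy', rfl⟩ (congrArg Subtype.val he)⟩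

end CompTower

end Groth.VarietyBC
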