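/-
Connected components of `X_K` over those of `X`; geometric connectedness.
-/
import Groth.Agent.VarietyBC.CompTower
import Groth.Agent.VarietyBC.BCMaps
import Groth.Agent.VarietyBC.Fibre
import Mathlib.AlgebraicGeometry.Geometrically.Connected
import Mathlib.FieldTheory.IsSepClosed

open CategoryTheory CategoryTheory.Limits AlgebraicGeometry TensorProduct Topology Set

universe u

set_option backward.isDefEq.respectTransparency false

namespace Groth.VarietyBC

variable {k : Type u} [Field k] {X : Scheme.{u}} [X.Over (Spec (CommRingCat.of k))]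

attribute [local instance] Curv2.resAlgebra

theorem geometricallyConnected_iff_forall :
    GeometricallyConnected (X ↘ (Spec (CommRingCat.of k))) ↔
      ∀ (K : Type u) [Field K] [Algebra k K], ConnectedSpace (Curv2.bc k X K) := by
  rw [GeometricallyConnected.eq_geometrically,
    geometrically_iff_of_commRing_of_isClosedUnderIsomorphisms]

section SepClosedBase

variable (K : Type u) [Field K] [Algebra k K]

theorem sepClosedAt_of_isSepClosed [IsSepClosed k] (x : X) : SepClosedAt k X x := fun a ha =>
  minpoly.natDegree_eq_one_iff.1 (by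
    have := IsSepClosed.degree_eq_one_of_irreducible k (minpoly.irreducible ha.isIntegral) ha
    exact Polynomial.natDegree_eq_of_degree_eq_some this)

theorem isConnected_fibre [IsSepClosed k] (x : X) :
    _root_.IsConnected ((Curv2.bcFst k X K) ⁻¹' ({x} : Set X)) :=
  (isIrreducible_preimage_of_sepClosedAt K (sepClosedAt_of_isSepClosed x)).isConnected

theorem isQuotientMap_bcFst : IsQuotientMap (Curv2.bcFst k X K) :=
  (isOpenMap_bcFst K).isQuotientMap (Curv2.bcFst k X K).continuous (surjective_bcFst K)

end SepClosedBase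

section Separable

variable (S : Type u) [Field S] [Algebra k S] [Algebra.IsAlgebraic k S]

/-- The finite subextensions of `S/k`. -/
abbrev FinExt (k : Type u) [Field k] (S : Type u) [Field S] [Algebra k S] :=
  {E : IntermediateField k S // FiniteDimensional k E}

instance : Nonempty (FinExt k S) := ⟨⟨⊥, inferInstance⟩⟩

instance : IsDirectedOrder (FinExt k S) :=
  ⟨fun E F => ⟨⟨E.1 ⊔ F.1, have := E.2; have := F.2; inferInstance⟩, le_sup_left (b := F.1),
    le_sup_right (a := E.1)⟩⟩

/-- Disjoint closed sets of `X_S` over an affine open are separated at finite level. -/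
theorem exists_finExt_sep {U : X.Opens} (hU : IsAffineOpen U) (W W' : Set (Curv2.bc k X S))
    (hW : IsClosed W) (hW' : IsClosed W') (hd : Disjoint W W') :
    ∃ E : FinExt k S, ∀ y ∈ W, ∀ y' ∈ W',
      bcMap E.1.val y = bcMap E.1.val y' → Curv2.bcFst k X S y ∉ U := by
  let A : Type u := Γ(X, U)
  let : Algebra k A := (openMap hU).toAlgebra
  have hm : OverSpec (k := k) A hU.fromSpec := ⟨fromSpec_str hU⟩
  let ψ := tensorTo S hm
  obtain ⟨I, hI⟩ := (PrimeSpectrum.isClosed_iff_zeroLocus_ideal (ψ ⁻¹' W)).1 (hW.preimage ψ.continuous)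
  obtain ⟨J, hJ⟩ := (PrimeSpectrum.isClosed_iff_zeroLocus_ideal (ψ ⁻¹' W')).1 (hW'.preimage ψ.continuous)
  have hIJ : I ⊔ J = ⊤ := by
    by_contra h
    obtain ⟨m, hm', hle⟩ := Ideal.exists_le_maximal _ h
    have h1 : (⟨m, hm'.isPrime⟩ : PrimeSpectrum (A ⊗[k] S)) ∈ ψ ⁻¹' W :=
      hI.ge (SetLike.coe_subset_coe.2 (le_sup_left.trans hle))
    have h2 : (⟨m, hm'.isPrime⟩ : PrimeSpectrum (A ⊗[k] S)) ∈ ψ ⁻¹' W' :=
      hJ.ge (SetLike.coe_subset_coe.2 (le_sup_right.trans hle))
    exact disjoint_left.1 hd h1 h2
  obtain ⟨f, hf, g, hg, hfg⟩ := Submodule.mem_sup.1 ((Ideal.eq_top_iff_one _).1 hIJ)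
  obtain ⟨D₁, hD₁, f', hf'⟩ := exists_fg_range (k := k) (A := S) (B := A) f
  obtain ⟨D₂, hD₂, g', hg'⟩ := exists_fg_range (k := k) (A := S) (B := A) g
  obtain ⟨s, hs⟩ := hD₁.sup hD₂
  let E : IntermediateField k S := IntermediateField.adjoin k (s : Set S)
  have : FiniteDimensional k E :=
    IntermediateField.finiteDimensional_adjoin fun x _ => (Algebra.IsAlgebraic.isAlgebraic x).isIntegral
  have hle : D₁ ⊔ D₂ ≤ E.toSubalgebra :=
    hs ▸ Algebra.adjoin_le (IntermediateField.subset_adjoin k _)
  let f₀ := Algebra.TensorProduct.map (AlgHom.id k A) (Subalgebra.inclusion (le_sup_left.trans hle)) f'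
  let g₀ := Algebra.TensorProduct.map (AlgHom.id k A) (Subalgebra.inclusion (le_sup_right.trans hle)) g'
  have hf₀ : Algebra.TensorProduct.map (AlgHom.id k A) E.val f₀ = f := by
    rw [← hf']
    change (Algebra.TensorProduct.map (AlgHom.id k A) E.val).comp
      (Algebra.TensorProduct.map (AlgHom.id k A) (Subalgebra.inclusion _)) f' = _
    rw [← Algebra.TensorProduct.map_comp]; rfl
  have hg₀ : Algebra.TensorProduct.map (AlgHom.id k A) E.val g₀ = g := by
    rw [← hg']
    change (Algebra.TensorProduct.map (AlgHom.id k A) E.val).comp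
      (Algebra.TensorProduct.map (AlgHom.id k A) (Subalgebra.inclusion _)) g' = _
    rw [← Algebra.TensorProduct.map_comp]; rfl
  refine ⟨⟨E, this⟩, fun y hy y' hy' he hyU => ?_⟩
  have hy'U : Curv2.bcFst k X S y' ∈ U := by
    rwa [← bcMap_fst_apply E.val y', ← he, bcMap_fst_apply]
  have hr : Set.range ψ = (Curv2.bcFst k X S) ⁻¹' (U : Set X) := by
    rw [range_tensorTo, hU.range_fromSpec]
  obtain ⟨P, rfl⟩ := hr.ge hyU
  obtain ⟨P', rfl⟩ := hr.ge hy'U
  have hfP : f ∈ P.asIdeal := hI.le hy hf
  have hgP' : g ∈ P'.asIdeal := hJ.le hy' hg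
  let c := CommRingCat.ofHom (Algebra.TensorProduct.map (AlgHom.id k A) E.val).toRingHom
  have hE : Spec.map c P = Spec.map c P' := by
    have h1 := congr($(tensorTo_bcMap hm E.val) P)
    have h2 := congr($(tensorTo_bcMap hm E.val) P')
    simp only [Scheme.Hom.comp_apply] at h1 h2
    have : IsOpenImmersion (tensorTo E hm) := isOpenImmersion_tensorTo E hm
    exact (tensorTo E hm).isOpenEmbedding.injective (h1.symm.trans (he.trans h2))
  have h3 : f₀ ∈ (Spec.map c P).asIdeal := by
    change Algebra.TensorProduct.map (AlgHom.id k A) E.val f₀ ∈ P.asIdeal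
    rwa [hf₀]
  rw [hE] at h3
  have h4 : Algebra.TensorProduct.map (AlgHom.id k A) E.val f₀ ∈ P'.asIdeal := h3
  rw [hf₀] at h4
  exact P'.isPrime.ne_top ((Ideal.eq_top_iff_one _).2 (hfg ▸ add_mem h4 hgP'))

/-- The tower of the `X_E`, `E/k` finite inside `S`. -/
noncomputable def bcTower :
    CompTower (X := X) (Y := Curv2.bc k X S) (fun E : FinExt k S => Curv2.bc k X E.1)
      (Curv2.bcFst k X S) where
  a E := Curv2.bcFst k X E.1
  q E := bcMap E.1.val
  r E F h := bcMap (IntermediateField.inclusion h)
  a_q E y := bcMap_fst_apply _ y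
  r_q E F h y := bcMap_comp_apply _ _ y
  continuous_a E := (Curv2.bcFst k X E.1).continuous
  isOpenMap_a E := isOpenMap_bcFst _
  isClosedMap_a E := have := E.2; isClosedMap_bcFst
  finite_a E x := have := E.2; finite_preimage_bcFst x
  continuous_q E := (bcMap E.1.val).continuous
  isClosedMap_q E :=
    have := isIntegralHom_bcMap (X := X) E.1.val
    (bcMap E.1.val).isClosedMap
  surjective_q E :=
    have := surjective_bcMap (X := X) E.1.val
    (bcMap E.1.val).surjective
  compact_q E z := by
    have := isIntegralHom_bcMap (X := X) E.1.val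
    rw [← (bcMap E.1.val).range_fiberι z]
    exact isCompact_range ((bcMap E.1.val).fiberι z).continuous
  continuous_r E F h := (bcMap (IntermediateField.inclusion h)).continuous
  isOpenMap_r E F h :=
    have := universallyOpen_bcMap (X := X) (IntermediateField.inclusion h)
    (bcMap (IntermediateField.inclusion h)).isOpenMap
  isClosedMap_r E F h :=
    have := F.2
    have := isIntegralHom_bcMap (X := X) (IntermediateField.inclusion h)
    (bcMap (IntermediateField.inclusion h)).isClosedMap
  sep x := by
    obtain ⟨U, hU, hxU, -⟩ := exists_isAffineOpen_mem_and_subset (U := (⊤ : X.Opens)) (x := x) trivial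
    exact ⟨U, U.2, hxU, fun W W' hW hW' hd => exists_finExt_sep S hU W W' hW hW' hd⟩

/-- Connected components surject: algebraic extensions. -/
theorem image_connectedComponent_of_algebraic (y : Curv2.bc k X S) :
    (Curv2.bcFst k X S) '' connectedComponent y = connectedComponent (Curv2.bcFst k X S y) := by
  set p := Curv2.bcFst k X S
  set T := connectedComponent (p y)
  have : PreconnectedSpace T := Subtype.preconnectedSpace isPreconnected_connectedComponent
  let y₀ : p ⁻¹' T := ⟨y, mem_connectedComponent⟩
  have h := ((bcTower S).restrict T isClosed_connectedComponent).image_connectedComponent y₀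
  refine Subset.antisymm (p.continuous.image_connectedComponent_subset y) fun t ht => ?_
  obtain ⟨z, hz, he⟩ := h.ge (mem_univ (⟨t, ht⟩ : T))
  refine ⟨z.1, ?_, congrArg Subtype.val he⟩
  exact (isPreconnected_connectedComponent.image _ continuous_subtype_val.continuousOn).subset_connectedComponent
    ⟨y₀, mem_connectedComponent, rfl⟩ ⟨z, hz, rfl⟩

end Separable

/-- The preimage of a connected closed set under `X_L → X_S`, `S` separably closed, is connected. -/
theorem isConnected_preimage_bcMap {S L : Type u} [Field S] [Algebra k S] [IsSepClosed S] [Field L]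
    [Algebra k L] (i : S →ₐ[k] L) {C : Set (Curv2.bc k X S)} (hC : _root_.IsConnected C)
    (hCc : IsClosed C) : _root_.IsConnected (bcMap i ⁻¹' C) := by
  let : Algebra S L := i.toRingHom.toAlgebra
  have : IsScalarTower k S L := IsScalarTower.of_algebraMap_eq fun c => (i.commutes c).symm
  let : (Curv2.bc k X S).Over (Spec (CommRingCat.of S)) := ⟨Curv2.bcSnd k X S⟩
  have e : IsScalarTower.toAlgHom k S L = i := AlgHom.ext fun _ => rfl
  have h := (isQuotientMap_bcFst (X := Curv2.bc k X S) (k := S) L).isCoinducing.isConnected_preimage_of_isClosed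
    (fun x => isConnected_fibre L x) hCc hC
  have hh : (bcMap i : Curv2.bc k X L ⟶ Curv2.bc k X S) ∘
      (towerIso (k := k) (X := X) (K := S) (L := L)).hom = Curv2.bcFst S (Curv2.bc k X S) L := by
    have := towerIso_hom_bcMap (k := k) (X := X) (K := S) (L := L)
    rw [e] at this
    exact funext fun w => congr($this w)
  have key : bcMap i ⁻¹' C =
      (towerIso (k := k) (X := X) (K := S) (L := L)).hom '' (Curv2.bcFst S (Curv2.bc k X S) L ⁻¹' C) := by
    rw [← hh, Set.preimage_comp, Set.image_preimage_eq]
    exact (towerIso (k := k) (X := X) (K := S) (L := L)).hom.surjective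
  rw [key]
  exact h.image _ (towerIso (k := k) (X := X) (K := S) (L := L)).hom.continuous.continuousOn

/-- **Connected components of `X_K` surject onto those of `X`.** -/
theorem image_connectedComponent_bcFst (K : Type u) [Field K] [Algebra k K] (x' : Curv2.bc k X K) :
    (Curv2.bcFst k X K) '' connectedComponent x' = connectedComponent (Curv2.bcFst k X K x') := by
  refine Subset.antisymm ((Curv2.bcFst k X K).continuous.image_connectedComponent_subset x') ?_
  let Ω := AlgebraicClosure K
  let j : K →ₐ[k] Ω := IsScalarTower.toAlgHom k K Ω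
  let S := SeparableClosure k
  let i : S →ₐ[k] Ω := IsSepClosed.lift
  have := surjective_bcMap (X := X) j
  obtain ⟨ω, rfl⟩ := (bcMap j).surjective x'
  rw [bcMap_fst_apply, ← bcMap_fst_apply i ω, ← image_connectedComponent_of_algebraic S]
  rintro t ⟨c, hc, rfl⟩
  have hP := isConnected_preimage_bcMap (X := X) i
    (isConnected_connectedComponent (x := bcMap i ω)) isClosed_connectedComponent
  have hsub : bcMap i ⁻¹' connectedComponent (bcMap i ω) ⊆ connectedComponent ω :=
    hP.isPreconnected.subset_connectedComponent (mem_preimage.2 mem_connectedComponent)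
  have := surjective_bcMap (X := X) i
  obtain ⟨w, rfl⟩ := (bcMap i).surjective c
  exact ⟨bcMap j w, (bcMap j).continuous.image_connectedComponent_subset ω ⟨w, hsub hc, rfl⟩,
    by rw [bcMap_fst_apply, bcMap_fst_apply]⟩

/-- If `X_S` is connected for a separably closed `S`, so is every base change. -/
theorem geometricallyConnected_of_connectedSpace_bc (S : Type u) [Field S] [Algebra k S] [IsSepClosed S]
    [Algebra.IsSeparable k S] [ConnectedSpace (Curv2.bc k X S)] :
    GeometricallyConnected (X ↘ (Spec (CommRingCat.of k))) :=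
  geometricallyConnected_iff_forall.2 fun K _ _ => by
    let Ω := AlgebraicClosure K
    let j : K →ₐ[k] Ω := IsScalarTower.toAlgHom k K Ω
    let i : S →ₐ[k] Ω := IsSepClosed.lift
    have h := isConnected_preimage_bcMap (X := X) i isConnected_univ isClosed_univ
    rw [preimage_univ] at h
    have := surjective_bcMap (X := X) j
    refine connectedSpace_iff_univ.2 ?_
    rw [← (bcMap (X := X) j).surjective.range_eq, ← image_univ]
    exact h.image _ (bcMap j).continuous.continuousOn

end Groth.VarietyBC
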