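import Groth.Agent.VarietyBC.SmoothChart
import Groth.Agent.AlgGrp1.SmoothReduced
import Groth.Agent.AlgGrp1.PointsAlg
import Mathlib.FieldTheory.SeparableClosure
import Mathlib.RingTheory.Jacobson.Ring

/-!
# Closed points with separable residue field
-/

set_option autoImplicit false
set_option maxHeartbeats 800000
universe u

open CategoryTheory AlgebraicGeometry
open scoped TensorProduct

namespace Groth.VarietyBC

/-- A geometrically reduced nonzero algebra of finite type has points in separably closed extensions. -/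
theorem nonempty_algHom_sepClosed (k K A : Type u) [Field k] [Field K] [Algebra k K] [IsSepClosed K]
    [CommRing A] [Algebra k A] [Nontrivial A] [Algebra.FiniteType k A]
    (hred : ∀ (L : Type u) [Field L] [Algebra k L], _root_.IsReduced (L ⊗[k] A)) :
    Nonempty (A →ₐ[k] K) := by
  haveI : Infinite K := by
    by_contra hfin
    rw [not_infinite_iff_finite] at hfin
    haveI := Fintype.ofFinite K
    haveI : PerfectField K := inferInstance
    haveI : IsAlgClosed K := IsAlgClosed.of_exists_root _ fun p hm hp =>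
      (IsSepClosed.exists_root p (Polynomial.degree_pos_of_irreducible hp).ne'
        (PerfectField.separable_of_irreducible hp))
    exact not_finite K
  haveI : Nontrivial (K ⊗[k] A) :=
    (Algebra.TensorProduct.includeRight_injective (A := K) (B := A) (algebraMap k K).injective).nontrivial
  haveI : _root_.IsReduced (K ⊗[k] A) := hred K
  haveI : Algebra.FiniteType K (K ⊗[k] A) := inferInstance
  have h2 : _root_.IsReduced (AlgebraicClosure K ⊗[K] (K ⊗[k] A)) := by
    haveI := hred (AlgebraicClosure K)
    exact isReduced_of_injective _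
      (Algebra.TensorProduct.cancelBaseChange k K K (AlgebraicClosure K) A).injective
  obtain ⟨φ, -⟩ := Groth.AlgGrp1.exists_algHom_ne_zero (k := K) (K ⊗[k] A) h2 1 one_ne_zero
  exact ⟨(φ.restrictScalars k).comp Algebra.TensorProduct.includeRight⟩

/-- A nonzero geometrically reduced algebra of finite type has a maximal ideal with finite separable
residue field. -/
theorem exists_maximal_separable (k A : Type u) [Field k] [CommRing A] [Algebra k A] [Nontrivial A]
    [Algebra.FiniteType k A]
    (hred : ∀ (L : Type u) [Field L] [Algebra k L], _root_.IsReduced (L ⊗[k] A)) :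
    ∃ m : Ideal A, ∃ _ : m.IsMaximal,
      FiniteDimensional k m.ResidueField ∧ Algebra.IsSeparable k m.ResidueField := by
  obtain ⟨ψ⟩ := nonempty_algHom_sepClosed k (SeparableClosure k) A hred
  let m := RingHom.ker ψ
  haveI : m.IsPrime := RingHom.ker_isPrime _
  let ι : (A ⧸ m) →ₐ[k] SeparableClosure k := Ideal.kerLiftAlg ψ
  have hι : Function.Injective ι := Ideal.kerLiftAlg_injective ψ
  haveI : Algebra.IsIntegral k (A ⧸ m) :=
    ⟨fun a => (isIntegral_algHom_iff ι hι).1 (Algebra.IsIntegral.isIntegral (ι a))⟩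
  have hm : m.IsMaximal :=
    Ideal.Quotient.maximal_of_isField m (isField_of_isIntegral_of_isField' (Field.toIsField k))
  letI := Ideal.Quotient.field m
  haveI : FiniteDimensional k (A ⧸ m) := finite_of_finite_type_of_isJacobsonRing k _
  haveI : Algebra.IsSeparable k (A ⧸ m) := Algebra.IsSeparable.of_algHom k (SeparableClosure k) ι
  let e : (A ⧸ m) ≃ₐ[k] m.ResidueField := AlgEquiv.ofBijective
    ((IsScalarTower.toAlgHom (A ⧸ m) (A ⧸ m) m.ResidueField).restrictScalars k)
    (Ideal.bijective_algebraMap_quotient_residueField m)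
  exact ⟨m, hm, e.toLinearEquiv.finiteDimensional, AlgEquiv.Algebra.isSeparable e⟩

variable {k : Type u} [Field k] {X : Scheme.{u}} [X.Over (Spec (CommRingCat.of k))]

/-- Closed points with finite separable residue field meet every nonempty open of a smooth scheme. -/
theorem exists_closed_separable [Smooth (X ↘ (Spec (CommRingCat.of k)))] {O : X.Opens}
    (hO : (O : Set X).Nonempty) :
    ∃ x ∈ O, IsClosed ({x} : Set X) ∧
      (letI := Curv2.resAlgebra k X x
       FiniteDimensional k (X.residueField x) ∧ Algebra.IsSeparable k (X.residueField x)) := by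
  obtain ⟨y, hy⟩ := hO
  obtain ⟨_, ⟨V, hV, rfl⟩, hyV, hVO⟩ := X.isBasis_affineOpens.exists_subset_of_mem_open hy O.isOpen
  letI := (openMap (k := k) hV).toAlgebra
  haveI := finiteType_openMap (k := k) hV
  haveI : Nontrivial Γ(X, V) := by
    haveI : Nonempty (Spec Γ(X, V)) := ⟨hV.primeIdealOf ⟨y, hyV⟩⟩
    exact PrimeSpectrum.nonempty_iff_nontrivial.1 ‹_›
  have hsm : Smooth (Spec.map (CommRingCat.ofHom (algebraMap k Γ(X, V)))) := by
    haveI := hV.isOpenImmersion_fromSpec
    show Smooth (Spec.map (CommRingCat.ofHom (openMap (k := k) hV)))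
    rw [← fromSpec_str hV]
    infer_instance
  have hsm' : Algebra.Smooth k Γ(X, V) :=
    RingHom.smooth_algebraMap.1 ((HasRingHomProperty.Spec_iff (P := @Smooth)).1 hsm)
  obtain ⟨m, hm, hfin, hsep⟩ := exists_maximal_separable k Γ(X, V) (fun L _ _ => by
    haveI : Algebra.Smooth L (L ⊗[k] Γ(X, V)) := inferInstance
    haveI : Smooth (Spec.map (CommRingCat.ofHom (algebraMap L (L ⊗[k] Γ(X, V))))) :=
      (HasRingHomProperty.Spec_iff (P := @Smooth)).2 (RingHom.smooth_algebraMap.2 inferInstance)
    haveI := Groth.AlgGrp1.isReduced_of_smooth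
      (Spec.map (CommRingCat.ofHom (algebraMap L (L ⊗[k] Γ(X, V)))))
    exact (affine_isReduced_iff (CommRingCat.of (L ⊗[k] Γ(X, V)))).1 this)
  let p : Spec Γ(X, V) := ⟨m, hm.isPrime⟩
  have hxV : hV.fromSpec.base p ∈ V := hV.range_fromSpec.subset ⟨p, rfl⟩
  haveI := hV.isOpenImmersion_fromSpec
  have hp : hV.primeIdealOf ⟨_, hxV⟩ = p :=
    hV.fromSpec.isOpenEmbedding.injective (hV.fromSpec_primeIdealOf ⟨_, hxV⟩)
  refine ⟨hV.fromSpec.base p, hVO hxV, ?_, ?_⟩
  · haveI : JacobsonSpace X := LocallyOfFiniteType.jacobsonSpace (X ↘ (Spec (CommRingCat.of k)))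
    refine isClosed_singleton_of_isLocallyClosed_singleton ?_
    rw [← Set.image_singleton]
    exact ((PrimeSpectrum.isClosed_singleton_iff_isMaximal p).2 hm).isLocallyClosed.image
      hV.fromSpec.isOpenEmbedding.isInducing hV.fromSpec.isOpenEmbedding.isOpen_range.isLocallyClosed
  · letI := Curv2.resAlgebra k X (hV.fromSpec.base p)
    obtain ⟨e⟩ := nonempty_residueAlgEquiv (k := k) hV hxV
    rw [hp] at e
    exact ⟨e.toLinearEquiv.finiteDimensional, AlgEquiv.Algebra.isSeparable e⟩

end Groth.VarietyBC
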