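/-
Normality of base changes and products of schemes over a field, via charts.
-/
import Groth.Agent.VarietyBC.BC
import Groth.Agent.Ega4Algebra2.NormalTensor
import Groth.Prelude.Def_Pi1
import Groth.Prelude.Def_EGA4b
import Mathlib.AlgebraicGeometry.Geometrically.Reduced

open CategoryTheory CategoryTheory.Limits AlgebraicGeometry TensorProduct

universe u

namespace Groth.VarietyBC.NormalBC

theorem stalk_normal_iff {Y Z : Scheme.{u}} (f : Y ⟶ Z) [IsOpenImmersion f] (y : Y) :
    (IsDomain (Z.presheaf.stalk (f y)) ∧ IsIntegrallyClosed (Z.presheaf.stalk (f y))) ↔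
      (IsDomain (Y.presheaf.stalk y) ∧ IsIntegrallyClosed (Y.presheaf.stalk y)) :=
  let e := (asIso (f.stalkMap y)).commRingCatIsoToRingEquiv
  ⟨fun ⟨_, _⟩ => ⟨e.symm.toMulEquiv.isDomain, IsIntegrallyClosed.of_equiv e⟩,
    fun ⟨_, _⟩ => ⟨e.toMulEquiv.isDomain, IsIntegrallyClosed.of_equiv e.symm⟩⟩

theorem isNormalRing_of_isNormalScheme {R : Type u} [CommRing R]
    (h : Pi1.IsNormalScheme (Spec (CommRingCat.of R))) : EGA4.IsNormalRing R := fun p hp => by
  obtain ⟨_, _⟩ := h (⟨p, hp⟩ : PrimeSpectrum R)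
  have e : (Spec (CommRingCat.of R)).presheaf.stalk (⟨p, hp⟩ : PrimeSpectrum R) ≃+* Localization.AtPrime p :=
    (StructureSheaf.stalkIso R ⟨p, hp⟩).symm.toRingEquiv
  exact ⟨e.symm.toMulEquiv.isDomain, IsIntegrallyClosed.of_equiv e⟩

theorem isNormalScheme_Spec {R : Type u} [CommRing R] (h : EGA4.IsNormalRing R) :
    Pi1.IsNormalScheme (Spec (CommRingCat.of R)) := fun x => by
  obtain ⟨_, _⟩ := h x.asIdeal
  have e : Localization.AtPrime x.asIdeal ≃+* (Spec (CommRingCat.of R)).presheaf.stalk x :=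
    (StructureSheaf.stalkIso R x).toRingEquiv
  exact ⟨e.symm.toMulEquiv.isDomain, IsIntegrallyClosed.of_equiv e⟩

theorem isNormalRing_of_chart {R : Type u} [CommRing R] {Z : Scheme.{u}} (hZ : Pi1.IsNormalScheme Z)
    (f : Spec (CommRingCat.of R) ⟶ Z) [IsOpenImmersion f] : EGA4.IsNormalRing R :=
  isNormalRing_of_isNormalScheme fun x => (stalk_normal_iff f x).1 (hZ (f x))

theorem isNormal_at_of_chart {R : Type u} [CommRing R] {Z : Scheme.{u}} (h : EGA4.IsNormalRing R)
    (f : Spec (CommRingCat.of R) ⟶ Z) [IsOpenImmersion f] (x : Spec (CommRingCat.of R)) :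
    IsDomain (Z.presheaf.stalk (f x)) ∧ IsIntegrallyClosed (Z.presheaf.stalk (f x)) :=
  (stalk_normal_iff f x).2 (isNormalScheme_Spec h x)

variable {k : Type u} [Field k] {X : Scheme.{u}} [X.Over (Spec (CommRingCat.of k))]

theorem exists_chart (x : X) : ∃ (A : Type u) (_ : CommRing A) (_ : Algebra k A)
    (m : Spec (CommRingCat.of A) ⟶ X), OverSpec (k := k) A m ∧ IsOpenImmersion m ∧ x ∈ Set.range m := by
  obtain ⟨U, hU, hxU, -⟩ := exists_isAffineOpen_mem_and_subset (x := x) (U := (⊤ : X.Opens)) trivial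
  letI : Algebra k Γ(X, U) := (openMap hU).toAlgebra
  exact ⟨Γ(X, U), inferInstance, inferInstance, hU.fromSpec, ⟨fromSpec_str hU⟩,
    hU.isOpenImmersion_fromSpec, hU.range_fromSpec.symm ▸ hxU⟩

/-- A chart of a geometrically normal scheme is a geometrically normal algebra. -/
theorem isGeomNormal_of_chart (hX : ∀ (K : Type u) [Field K] [Algebra k K], Pi1.IsNormalScheme (Curv2.bc k X K))
    {A : Type u} [CommRing A] [Algebra k A] {m : Spec (CommRingCat.of A) ⟶ X} (hm : OverSpec (k := k) A m)
    [IsOpenImmersion m] : EGA4.IsGeomNormal k A := by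
  intro K _ _ _
  have := isOpenImmersion_tensorTo K hm
  exact Groth.Ega4b.isNormalRing_of_ringEquiv (Algebra.TensorProduct.comm k A K).toRingEquiv
    (isNormalRing_of_chart (hX K) (tensorTo K hm))

theorem isGeometricallyReduced_of_specMap (K : Type u) [Field K] [Algebra k K]
    [GeometricallyReduced (Spec.map (CommRingCat.ofHom (algebraMap k K)))] :
    Algebra.IsGeometricallyReduced k K := by
  rw [Algebra.isGeometricallyReduced_field_iff]
  let L := AlgebraicClosure k
  have hP : AlgebraicGeometry.IsReduced (pullback (Spec.map (CommRingCat.ofHom (algebraMap k K)))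
      (Spec.map (CommRingCat.ofHom (algebraMap k L)))) :=
    GeometricallyReduced.geometrically_isReduced (f := Spec.map (CommRingCat.ofHom (algebraMap k K)))
      _ _ _ (IsPullback.of_hasPullback _ _)
  have h : AlgebraicGeometry.IsReduced (Spec (CommRingCat.of (K ⊗[k] L))) :=
    isReduced_of_isOpenImmersion (pullbackSpecIso k K L).inv
  have h' : _root_.IsReduced (K ⊗[k] L) := (affine_isReduced_iff (CommRingCat.of (K ⊗[k] L))).1 h
  exact isReduced_of_injective (Algebra.TensorProduct.comm k L K) (AlgEquiv.injective _)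

variable {Y : Scheme.{u}} [Y.Over (Spec (CommRingCat.of k))]

/-- The chart `Spec (A ⊗ B)` of a product of two `k`-schemes. -/
noncomputable def prodChart {A B : Type u} [CommRing A] [Algebra k A] [CommRing B] [Algebra k B]
    {m : Spec (CommRingCat.of A) ⟶ X} (hm : OverSpec (k := k) A m)
    {m' : Spec (CommRingCat.of B) ⟶ Y} (hm' : OverSpec (k := k) B m') :
    Spec (CommRingCat.of (A ⊗[k] B)) ⟶
      pullback (X ↘ Spec (CommRingCat.of k)) (Y ↘ Spec (CommRingCat.of k)) :=
  (pullbackSpecIso k A B).inv ≫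
    pullback.map _ _ _ _ m m' (𝟙 _) (by rw [Category.comp_id, hm.w]) (by rw [Category.comp_id, hm'.w])

theorem isOpenImmersion_prodChart {A B : Type u} [CommRing A] [Algebra k A] [CommRing B] [Algebra k B]
    {m : Spec (CommRingCat.of A) ⟶ X} (hm : OverSpec (k := k) A m) [IsOpenImmersion m]
    {m' : Spec (CommRingCat.of B) ⟶ Y} (hm' : OverSpec (k := k) B m') [IsOpenImmersion m'] :
    IsOpenImmersion (prodChart hm hm') := by
  unfold prodChart
  infer_instance

theorem range_prodChart {A B : Type u} [CommRing A] [Algebra k A] [CommRing B] [Algebra k B]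
    {m : Spec (CommRingCat.of A) ⟶ X} (hm : OverSpec (k := k) A m)
    {m' : Spec (CommRingCat.of B) ⟶ Y} (hm' : OverSpec (k := k) B m') :
    Set.range (prodChart hm hm') =
      pullback.fst (X ↘ Spec (CommRingCat.of k)) (Y ↘ Spec (CommRingCat.of k)) ⁻¹' Set.range m ∩
        pullback.snd (X ↘ Spec (CommRingCat.of k)) (Y ↘ Spec (CommRingCat.of k)) ⁻¹' Set.range m' := by
  rw [prodChart, Scheme.Hom.comp_base, TopCat.coe_comp,
    Function.Surjective.range_comp ((pullbackSpecIso k A B).inv.surjective) _, Scheme.Pullback.range_map]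

end Groth.VarietyBC.NormalBC
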