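/-
Quasi-compact opens of `X ×_k Spec A` descend to a finitely generated subalgebra of `A`.
-/
import Groth.Agent.VarietyBC.BC
import Groth.Agent.VarietyBC.TensorAlgClosed
import Mathlib.RingTheory.Adjoin.FG

open CategoryTheory CategoryTheory.Limits AlgebraicGeometry TensorProduct Set

universe u

namespace Groth.VarietyBC

variable {k : Type u} [Field k] {X : Scheme.{u}} [X.Over (Spec (CommRingCat.of k))]

local notation "str" => (X ↘ (Spec (CommRingCat.of k)))

/-- `X ×_k Spec R`. -/
noncomputable abbrev ringBC (k : Type u) [Field k] (X : Scheme.{u}) [X.Over (Spec (CommRingCat.of k))]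
    (R : Type u) [CommRing R] [Algebra k R] : Scheme.{u} :=
  pullback (X ↘ (Spec (CommRingCat.of k))) (Spec.map (CommRingCat.ofHom (algebraMap k R)))

section Chart

variable {B : Type u} [CommRing B] [Algebra k B] {m : Spec (CommRingCat.of B) ⟶ X}
  (hm : OverSpec (k := k) B m) (R : Type u) [CommRing R] [Algebra k R]

/-- The chart `Spec (B ⊗ R) ⟶ X ×_k Spec R`. -/
noncomputable def ringChart : Spec (CommRingCat.of (B ⊗[k] R)) ⟶ ringBC k X R :=
  (pullbackSpecIso k B R).inv ≫
    pullback.map _ _ _ _ m (𝟙 _) (𝟙 _) (by rw [Category.comp_id, hm.w]) (by simp)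

theorem ringChart_fst : ringChart hm R ≫ pullback.fst _ _ =
    Spec.map (CommRingCat.ofHom Algebra.TensorProduct.includeLeftRingHom) ≫ m := by
  rw [ringChart, Category.assoc, pullback.lift_fst, ← Category.assoc, pullbackSpecIso_inv_fst]

theorem ringChart_snd : ringChart hm R ≫ pullback.snd _ _ =
    Spec.map (CommRingCat.ofHom (Algebra.TensorProduct.includeRight (R := k) (A := B) (B := R)).toRingHom) := by
  rw [ringChart, Category.assoc, pullback.lift_snd, ← Category.assoc, Category.comp_id,
    pullbackSpecIso_inv_snd]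
  rfl

theorem range_ringChart :
    Set.range (ringChart hm R) = (pullback.fst str (Spec.map (CommRingCat.ofHom (algebraMap k R)))) ⁻¹' Set.range m := by
  rw [ringChart, Scheme.Hom.comp_base, TopCat.coe_comp,
    Function.Surjective.range_comp ((pullbackSpecIso k B R).inv.surjective) _]
  rw [Scheme.Pullback.range_map]
  simp

theorem isOpenImmersion_ringChart [IsOpenImmersion m] : IsOpenImmersion (ringChart hm R) := by
  rw [ringChart, MorphismProperty.cancel_left_of_respectsIso (@IsOpenImmersion : MorphismProperty Scheme.{u})]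
  exact MorphismProperty.pullbackMap (P := (@IsOpenImmersion : MorphismProperty Scheme.{u}))
    ‹IsOpenImmersion m› (inferInstanceAs (IsOpenImmersion (𝟙 _))) hm.w.symm (Category.id_comp _).symm

variable {R' : Type u} [CommRing R'] [Algebra k R']

theorem ringChart_comp (i : R' →ₐ[k] R) (π : ringBC k X R ⟶ ringBC k X R')
    (h1 : π ≫ pullback.fst _ _ = pullback.fst _ _)
    (h2 : π ≫ pullback.snd _ _ = pullback.snd _ _ ≫ Spec.map (CommRingCat.ofHom i.toRingHom)) :
    ringChart hm R ≫ π =
      Spec.map (CommRingCat.ofHom (Algebra.TensorProduct.map (AlgHom.id k B) i).toRingHom) ≫ ringChart hm R' := by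
  refine pullback.hom_ext ?_ ?_
  · rw [Category.assoc, h1, ringChart_fst, Category.assoc, ringChart_fst, ← Category.assoc, ← Spec.map_comp]
    congr 2
    ext a
    change a ⊗ₜ[k] (1 : R) = Algebra.TensorProduct.map (AlgHom.id k B) i (a ⊗ₜ 1)
    simp only [Algebra.TensorProduct.map_tmul, map_one, AlgHom.id_apply]
  · rw [Category.assoc, h2, ← Category.assoc, ringChart_snd, Category.assoc, ringChart_snd,
      ← Spec.map_comp, ← Spec.map_comp]
    congr 1

end Chart

theorem exists_local_chart (A : Type u) [CommRing A] [Algebra k A] {V : Set (ringBC k X A)}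
    (hV : IsOpen V) {z : ringBC k X A} (hz : z ∈ V) :
    ∃ (B : Type u) (_ : CommRing B) (_ : Algebra k B) (m : Spec (CommRingCat.of B) ⟶ X)
      (_ : IsOpenImmersion m) (hm : OverSpec (k := k) B m) (D : Subalgebra k A) (_ : D.FG) (g : B ⊗[k] D),
      z ∈ ringChart hm A '' (PrimeSpectrum.basicOpen (Algebra.TensorProduct.map (AlgHom.id k B) D.val g) : Set (PrimeSpectrum (B ⊗[k] A))) ∧
      ringChart hm A '' (PrimeSpectrum.basicOpen (Algebra.TensorProduct.map (AlgHom.id k B) D.val g) : Set (PrimeSpectrum (B ⊗[k] A))) ⊆ V := by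
  obtain ⟨U, hU, hzU, -⟩ := exists_isAffineOpen_mem_and_subset (U := (⊤ : X.Opens))
    (x := pullback.fst str (Spec.map (CommRingCat.ofHom (algebraMap k A))) z) trivial
  let : Algebra k Γ(X, U) := (openMap hU).toAlgebra
  have hm : OverSpec (k := k) Γ(X, U) hU.fromSpec := ⟨fromSpec_str hU⟩
  have : IsOpenImmersion hU.fromSpec := hU.isOpenImmersion_fromSpec
  obtain ⟨P, hP⟩ : z ∈ Set.range (ringChart hm A) := by
    rw [range_ringChart, hU.range_fromSpec]; exact hzU
  obtain ⟨_, ⟨g₀, rfl⟩, hPg, hgV⟩ := PrimeSpectrum.isTopologicalBasis_basic_opens.exists_subset_of_mem_open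
    (show P ∈ ringChart hm A ⁻¹' V by rw [mem_preimage, hP]; exact hz) (hV.preimage (ringChart hm A).continuous)
  obtain ⟨D, hD, g, hg⟩ := exists_fg_range (k := k) (A := A) (B := Γ(X, U)) g₀
  refine ⟨Γ(X, U), inferInstance, inferInstance, hU.fromSpec, this, hm, D, hD, g, ?_⟩
  rw [show Algebra.TensorProduct.map (AlgHom.id k Γ(X, U)) D.val g = g₀ from hg]
  exact ⟨⟨P, hPg, hP⟩, image_subset_iff.2 hgV⟩

/-- **A quasi-compact open of `X ×_k Spec A` comes from a finitely generated subalgebra.** -/
theorem exists_fg_descend_open (A : Type u) [CommRing A] [Algebra k A] (V : Set (ringBC k X A))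
    (hV : IsOpen V) (hVc : IsCompact V) :
    ∃ (A' : Subalgebra k A), A'.FG ∧ ∃ V' : Set (ringBC k X A'), IsOpen V' ∧ IsCompact V' ∧
      ∀ π : ringBC k X A ⟶ ringBC k X A', π ≫ pullback.fst _ _ = pullback.fst _ _ →
        π ≫ pullback.snd _ _ = pullback.snd _ _ ≫ Spec.map (CommRingCat.ofHom A'.val.toRingHom) →
          π ⁻¹' V' = V := by
  classical
  choose B iB iBk m hmo hm D hD g hz hsub using fun z : V => exists_local_chart (k := k) A hV z.2
  let W : V → Set (ringBC k X A) := fun z => ringChart (hm z) A ''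
    (PrimeSpectrum.basicOpen (Algebra.TensorProduct.map (AlgHom.id k (B z)) (D z).val (g z)) :
      Set (PrimeSpectrum (B z ⊗[k] A)))
  have hWo : ∀ z, IsOpen (W z) := fun z =>
    have := hmo z
    have := isOpenImmersion_ringChart (hm z) A
    (ringChart (hm z) A).isOpenEmbedding.isOpenMap _ (PrimeSpectrum.basicOpen _).2
  obtain ⟨t, ht⟩ := hVc.elim_finite_subcover W hWo fun z hzV => mem_iUnion.2 ⟨⟨z, hzV⟩, hz ⟨z, hzV⟩⟩
  let A' : Subalgebra k A := t.sup D
  have hA' : A'.FG := Finset.sup_induction (s := t) (f := D) (p := Subalgebra.FG) Subalgebra.fg_bot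
    (fun _ h₁ _ h₂ => h₁.sup h₂) fun z _ => hD z
  let g' : ∀ z : t, B z.1 ⊗[k] A' := fun z =>
    Algebra.TensorProduct.map (AlgHom.id k (B z.1)) (Subalgebra.inclusion (Finset.le_sup (f := D) z.2)) (g z.1)
  let W' : t → Set (ringBC k X A') := fun z => ringChart (hm z.1) A' ''
    (PrimeSpectrum.basicOpen (g' z) : Set (PrimeSpectrum (B z.1 ⊗[k] A')))
  refine ⟨A', hA', ⋃ z, W' z, isOpen_iUnion fun z => ?_, isCompact_iUnion fun z => ?_, fun π h1 h2 => ?_⟩
  · have := hmo z.1
    have := isOpenImmersion_ringChart (hm z.1) A'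
    exact (ringChart (hm z.1) A').isOpenEmbedding.isOpenMap _ (PrimeSpectrum.basicOpen _).2
  · exact (PrimeSpectrum.isCompact_basicOpen _).image (ringChart (hm z.1) A').continuous
  · have key : ∀ z : t, π ⁻¹' W' z = W z.1 := by
      intro z
      have := hmo z.1
      have := isOpenImmersion_ringChart (hm z.1) A'
      have hc : ∀ P, π (ringChart (hm z.1) A P) = ringChart (hm z.1) A'
          (Spec.map (CommRingCat.ofHom (Algebra.TensorProduct.map (AlgHom.id k (B z.1)) A'.val).toRingHom) P) :=
        fun P => congr($(ringChart_comp (hm z.1) A A'.val π h1 h2) P)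
      have hgg : Algebra.TensorProduct.map (AlgHom.id k (B z.1)) A'.val (g' z) =
          Algebra.TensorProduct.map (AlgHom.id k (B z.1)) (D z.1).val (g z.1) := by
        change (Algebra.TensorProduct.map (AlgHom.id k (B z.1)) A'.val).comp
          (Algebra.TensorProduct.map (AlgHom.id k (B z.1)) (Subalgebra.inclusion _)) (g z.1) = _
        rw [← Algebra.TensorProduct.map_comp]; rfl
      ext y
      constructor
      · rintro ⟨Q, hQ, hQy⟩
        obtain ⟨P, rfl⟩ : y ∈ Set.range (ringChart (hm z.1) A) := by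
          rw [range_ringChart (hm z.1), mem_preimage, ← h1, Scheme.Hom.comp_apply, ← hQy, ← mem_preimage,
            ← range_ringChart (hm z.1)]
          exact ⟨Q, rfl⟩
        have hQP := (ringChart (hm z.1) A').isOpenEmbedding.injective (hQy.trans (hc P))
        refine ⟨P, ?_, rfl⟩
        subst hQP
        have : Algebra.TensorProduct.map (AlgHom.id k (B z.1)) A'.val (g' z) ∉ P.asIdeal := hQ
        rwa [hgg] at this
      · rintro ⟨P, hP, rfl⟩
        refine ⟨_, ?_, (hc P).symm⟩
        change Algebra.TensorProduct.map (AlgHom.id k (B z.1)) A'.val (g' z) ∉ P.asIdeal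
        rw [hgg]
        exact hP
    rw [preimage_iUnion]
    simp only [key]
    exact Subset.antisymm (iUnion_subset fun z => hsub z.1) fun y hy => by
      obtain ⟨z, hzt, hyz⟩ := mem_iUnion₂.1 (ht hy)
      exact mem_iUnion.2 ⟨⟨z, hzt⟩, hyz⟩

end Groth.VarietyBC
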