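/-
Geometric reducedness in characteristic `p`: purely inseparable tests and the Frobenius test.
-/
import Groth.Agent.VarietyBC.TensorGeom
import Mathlib.FieldTheory.PurelyInseparable.PerfectClosure

open TensorProduct

universe u v w

namespace Groth.VarietyBC

variable {k : Type u} [Field k] {A : Type v} [CommRing A] [Algebra k A]

/-- Finite purely inseparable extensions detect geometric reducedness. -/
theorem isGeometricallyReduced_of_purelyInseparable
    (h : ∀ (F : Type u) [Field F] [Algebra k F] [FiniteDimensional k F] [IsPurelyInseparable k F],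
      IsReduced (A ⊗[k] F)) :
    Algebra.IsGeometricallyReduced k A := by
  let K := perfectClosure k (AlgebraicClosure k)
  have : IsReduced (A ⊗[k] K) := IsReduced.tensorProduct_of_flat_of_forall_fg fun D hD => by
    have : Algebra.FiniteType k D := (Subalgebra.fg_iff_finiteType D).mp hD
    have : Algebra.IsIntegral k D :=
      ⟨fun x => (isIntegral_algHom_iff D.val Subtype.val_injective).mp (Algebra.IsIntegral.isIntegral x.1)⟩
    let := (Subalgebra.isField_of_algebraic D).toField
    have : Module.Finite k D := Algebra.IsIntegral.finite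
    have : IsPurelyInseparable k D :=
      isPurelyInseparable_iff.mpr fun x => ⟨Algebra.IsIntegral.isIntegral x, fun hx => by
        obtain ⟨c, hc⟩ := (isPurelyInseparable_iff.mp (inferInstance : IsPurelyInseparable k K) x.1).2
          (by unfold IsSeparable at hx ⊢
              exact (minpoly.algHom_eq D.val Subtype.val_injective x).symm ▸ hx)
        exact ⟨c, Subtype.ext hc⟩⟩
    exact h D
  have := isReduced_tensor_comm this
  exact isGeometricallyReduced_of_perfect_extension K A

/-- If `p`-th powers preserve linear independence, `A ⊗ K` is reduced for every field `K`. -/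
theorem isReduced_tensor_of_linearIndependent_pow (p : ℕ) [Fact p.Prime] [CharP k p]
    (h : ∀ {ι : Type v} (a : ι → A), LinearIndependent k a → LinearIndependent k fun i => a i ^ p)
    (K : Type w) [Field K] [Algebra k K] : IsReduced (A ⊗[k] K) := by
  classical
  have hp := (Fact.out : p.Prime)
  refine (isReduced_iff_pow_one_lt p hp.one_lt).mpr fun x hx => ?_
  obtain ⟨⟨ι, b⟩⟩ := Module.Free.exists_basis (R := k) (M := A)
  let e := Algebra.TensorProduct.comm k A K
  apply e.injective
  rw [map_zero]
  obtain ⟨s, c, hsum⟩ : ∃ (s : Finset ι) (c : ι → K), x = ∑ i ∈ s, b i ⊗ₜ[k] c i := by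
    refine ⟨((b.baseChange K).repr (e x)).support, (b.baseChange K).repr (e x), e.injective ?_⟩
    conv_lhs => rw [← (b.baseChange K).linearCombination_repr (e x)]
    simp [e, Finsupp.linearCombination_apply, Finsupp.sum, TensorProduct.smul_tmul']
  rcases subsingleton_or_nontrivial A with hA | hA
  · have h1 : (1 : A ⊗[k] K) = 0 := by
      rw [Algebra.TensorProduct.one_def, Subsingleton.elim (1 : A) 0, zero_tmul]
    rw [← mul_one (e x), ← map_one e, ← map_mul, h1, mul_zero, map_zero]
  have : CharP (A ⊗[k] K) p := by
    have : Nontrivial (A ⊗[k] K) :=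
      (Algebra.TensorProduct.includeLeft_injective (R := k) (S := k) (A := A) (B := K)
        (algebraMap k K).injective).nontrivial
    exact charP_of_injective_ringHom (algebraMap k (A ⊗[k] K)).injective p
  rw [hsum, sum_pow_char p] at hx
  simp only [Algebra.TensorProduct.tmul_pow] at hx
  have hli := (h b b.linearIndependent)
  -- tensoring with `K` keeps `b i ^ p` independent
  have hzero : ∀ i ∈ s, c i ^ p = 0 := by
    have hinj : Function.Injective (TensorProduct.map (Finsupp.linearCombination k fun i => b i ^ p)
        (LinearMap.id (R := k) (M := K))) :=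
      Module.Flat.rTensor_preserves_injective_linearMap _ hli
    have h0 : (∑ i ∈ s, Finsupp.single i (1 : k) ⊗ₜ[k] (c i ^ p)) = 0 := by
      refine hinj ?_
      rw [map_sum, map_zero]
      simpa using hx
    intro i hi
    have := congrArg (fun z => (TensorProduct.finsuppScalarLeft k K ι) z i) h0
    simp [Finsupp.single_apply, Finset.sum_ite_eq', hi] at this
    rw [this.1, zero_pow hp.ne_zero]
  rw [hsum, map_sum]
  refine Finset.sum_eq_zero fun i hi => ?_
  rw [eq_zero_of_pow_eq_zero (hzero i hi), tmul_zero, map_zero]

/-- If `A ⊗ F` is reduced for `F` the field `k` seen through Frobenius, `p`-th powers preserve linear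
independence in `A`. -/
theorem linearIndependent_pow_of_isReduced (p : ℕ) [Fact p.Prime] [CharP k p]
    (F : Type u) [Field F] [Algebra k F] (e : k ≃+* F) (he : ∀ c, algebraMap k F c = e c ^ p)
    [IsReduced (A ⊗[k] F)] {ι : Type v} (a : ι → A) (ha : LinearIndependent k a) :
    LinearIndependent k fun i => a i ^ p := by
  classical
  rw [linearIndependent_iff']
  intro s c hc i hi
  have : Nontrivial A := ⟨a i, 0, ha.ne_zero i⟩
  have : Nontrivial (A ⊗[k] F) :=
    (Algebra.TensorProduct.includeLeft_injective (R := k) (S := k) (A := A) (B := F)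
      (algebraMap k F).injective).nontrivial
  have : CharP (A ⊗[k] F) p := charP_of_injective_ringHom (algebraMap k (A ⊗[k] F)).injective p
  have hz : IsNilpotent (∑ j ∈ s, a j ⊗ₜ[k] e (c j)) := by
    refine ⟨p, ?_⟩
    rw [sum_pow_char p]
    simp only [Algebra.TensorProduct.tmul_pow, ← he, Algebra.algebraMap_eq_smul_one,
      ← TensorProduct.smul_tmul]
    rw [← TensorProduct.sum_tmul, hc, zero_tmul]
  have hinj : Function.Injective (TensorProduct.map (Finsupp.linearCombination k a)
      (LinearMap.id (R := k) (M := F))) :=
    Module.Flat.rTensor_preserves_injective_linearMap _ ha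
  have h0 : (∑ j ∈ s, Finsupp.single j (1 : k) ⊗ₜ[k] e (c j)) = 0 := by
    refine hinj ?_
    rw [map_sum, map_zero]
    simpa using hz.eq_zero
  have := congrArg (fun z => (TensorProduct.finsuppScalarLeft k F ι) z i) h0
  simp [Finsupp.single_apply, Finset.sum_ite_eq', hi] at this
  exact this

end Groth.VarietyBC
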