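import Groth.Agent.BMCoh.Birational
import Mathlib.AlgebraicGeometry.ZariskisMainTheorem
import Mathlib.AlgebraicGeometry.FunctionField
import Mathlib.AlgebraicGeometry.Morphisms.IsIso
import Mathlib.AlgebraicGeometry.Morphisms.OpenImmersion
import Mathlib.RingTheory.IntegralClosure.IntegrallyClosed

/-!
# Zariski's main theorem: birational proper morphisms over normal points
-/

set_option autoImplicit false
universe u

open CategoryTheory AlgebraicGeometry TopologicalSpace

namespace Groth.VarietyBC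

variable {X Y : Scheme.{u}} [IsIntegral X] [IsIntegral Y] (f : Y ⟶ X) {W : X.Opens}

theorem base_genericPoint_of_isIso (hW : (W : Set X).Nonempty) [IsIso (f ∣_ W)] :
    f.base (genericPoint Y) = genericPoint X := by
  have hη : genericPoint X ∈ W :=
    ((genericPoint_spec X).mem_open_set_iff W.isOpen).2 (by simpa using hW)
  obtain ⟨y, hy⟩ := (Scheme.homeoOfIso (asIso (f ∣_ W))).surjective ⟨genericPoint X, hη⟩
  have hy' : f.base y.1 = genericPoint X := by
    rw [← morphismRestrict_base_coe]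
    exact congrArg Subtype.val hy
  exact (((genericPoint_specializes y.1).map f.continuous).trans (specializes_of_eq hy')).antisymm
    (genericPoint_specializes _) |>.eq

set_option backward.isDefEq.respectTransparency false in
theorem isIso_stalkMap_genericPoint (hW : (W : Set X).Nonempty) [IsIso (f ∣_ W)] :
    IsIso (f.stalkMap (genericPoint Y)) := by
  have h : f.base (genericPoint Y) ∈ W := by
    rw [base_genericPoint_of_isIso f hW]
    exact ((genericPoint_spec X).mem_open_set_iff W.isOpen).2 (by simpa using hW)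
  haveI : IsOpenImmersion (f ∣_ W) := inferInstance
  haveI : IsIso ((f ∣_ W).stalkMap (⟨genericPoint Y, h⟩ : ↥(f ⁻¹ᵁ W : Y.Opens).toScheme)) := inferInstance
  exact ((MorphismProperty.isomorphisms CommRingCat).arrow_mk_iso_iff
    (morphismRestrictStalkMap f W (⟨genericPoint Y, h⟩ : ↥(f ⁻¹ᵁ W : Y.Opens).toScheme))).1 ‹IsIso ((f ∣_ W).stalkMap _)›

/-- Functions integral over `U` are fractions with denominators invertible at a normal point. -/
theorem exists_mul_eq_of_isIntegral (hW : (W : Set X).Nonempty) [IsIso (f ∣_ W)] {x : X}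
    [IsIntegrallyClosed (X.presheaf.stalk x)] {U : X.Opens} (hU : IsAffineOpen U) (hx : x ∈ U)
    (c : Γ(Y, f ⁻¹ᵁ U)) (hc : (f.app U).hom.IsIntegralElem c) :
    ∃ s a : Γ(X, U), x ∈ X.basicOpen s ∧ f.app U s * c = f.app U a := by
  have hgen := base_genericPoint_of_isIso f hW
  have hηU : genericPoint X ∈ U :=
    ((genericPoint_spec X).mem_open_set_iff U.isOpen).2 ⟨x, trivial, hx⟩
  have hfη : f.base (genericPoint Y) ∈ U := hgen ▸ hηU
  haveI := isIso_stalkMap_genericPoint f hW
  haveI : Nonempty (f ⁻¹ᵁ U) := ⟨⟨genericPoint Y, hfη⟩⟩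
  haveI : Nonempty U := ⟨⟨x, hx⟩⟩
  letI : Algebra Γ(X, U) (X.presheaf.stalk x) :=
    TopCat.Presheaf.algebra_section_stalk X.presheaf (⟨x, hx⟩ : U)
  haveI : IsScalarTower Γ(X, U) (X.presheaf.stalk x) X.functionField :=
    functionField_isScalarTower X U ⟨x, hx⟩
  let ψ : Γ(Y, f ⁻¹ᵁ U) ⟶ X.functionField :=
    Y.presheaf.germ (f ⁻¹ᵁ U) (genericPoint Y) hfη ≫ inv (f.stalkMap (genericPoint Y)) ≫
      X.presheaf.stalkSpecializes (specializes_of_eq hgen.symm)
  have hψA : f.app U ≫ ψ = X.germToFunctionField U := by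
    rw [← Scheme.Hom.germ_stalkMap_assoc f U (genericPoint Y) hfη, IsIso.hom_inv_id_assoc,
      TopCat.Presheaf.germ_stalkSpecializes]
  have hψinj : Function.Injective ψ := by
    intro a b h
    have hb : Function.Bijective
        (inv (f.stalkMap (genericPoint Y)) ≫
          X.presheaf.stalkSpecializes (specializes_of_eq hgen.symm) :
            Y.presheaf.stalk (genericPoint Y) ⟶ X.functionField) := by
      haveI : IsIso (X.presheaf.stalkSpecializes (specializes_of_eq hgen.symm)) :=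
        (TopCat.Presheaf.stalkCongr X.presheaf (Inseparable.of_eq hgen)).isIso_hom
      exact ConcreteCategory.bijective_of_isIso _
    exact germ_injective_of_isIntegral Y (genericPoint Y) hfη (hb.1 h)
  have hint : IsIntegral Γ(X, U) (ψ c) := by
    obtain ⟨P, hP, hPc⟩ := hc
    refine ⟨P, hP, ?_⟩
    have hP2 := Polynomial.hom_eval₂ P (f.app U).hom ψ.hom c
    rw [hPc, map_zero, ← CommRingCat.hom_comp, hψA] at hP2
    exact hP2.symm
  obtain ⟨t, ht⟩ := IsIntegrallyClosed.algebraMap_eq_of_integral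
    (hint.tower_top (A := X.presheaf.stalk x))
  haveI : IsLocalization.AtPrime (X.presheaf.stalk x) (hU.primeIdealOf ⟨x, hx⟩).asIdeal :=
    hU.isLocalization_stalk ⟨x, hx⟩
  obtain ⟨⟨a, s⟩, hs⟩ := IsLocalization.surj (hU.primeIdealOf ⟨x, hx⟩).asIdeal.primeCompl t
  refine ⟨s, a, ?_, hψinj ?_⟩
  · exact (X.mem_basicOpen s.1 x hx).2 (IsLocalization.map_units (X.presheaf.stalk x) s)
  · have hA : ∀ b : Γ(X, U), ψ (f.app U b) = algebraMap Γ(X, U) X.functionField b := fun b =>
      congr(($hψA) b)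
    rw [map_mul, hA, hA, IsScalarTower.algebraMap_apply Γ(X, U) (X.presheaf.stalk x) X.functionField a,
      ← hs, map_mul, ← IsScalarTower.algebraMap_apply, ← ht, mul_comm]

/-- The normalization of `X` in `Y` has one point over a normal point. -/
theorem eq_of_fromNormalization_eq [QuasiCompact f] [QuasiSeparated f] (hW : (W : Set X).Nonempty)
    [IsIso (f ∣_ W)] {x : X} [IsIntegrallyClosed (X.presheaf.stalk x)]
    {n n' : ↥f.normalization} (hn : f.fromNormalization n = x) (hn' : f.fromNormalization n' = x) :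
    n = n' := by
  obtain ⟨U, hU, hx, -⟩ := exists_isAffineOpen_mem_and_subset (U := ⊤) (Set.mem_univ x)
  have hV : IsAffineOpen (f.fromNormalization ⁻¹ᵁ U) := hU.preimage _
  have hnU : n ∈ f.fromNormalization ⁻¹ᵁ U := show f.fromNormalization n ∈ U by rw [hn]; exact hx
  have hn'U : n' ∈ f.fromNormalization ⁻¹ᵁ U := show f.fromNormalization n' ∈ U by rw [hn']; exact hx
  have key : ∀ d : Γ(f.normalization, f.fromNormalization ⁻¹ᵁ U), ∃ a : Γ(X, U),
      ∀ m : ↥f.normalization, f.fromNormalization m = x →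
        (m ∈ f.normalization.basicOpen d ↔ x ∈ X.basicOpen a) := by
    intro d
    letI := (f.app U).hom.toAlgebra
    let c := (f.normalizationObjIso hU).hom d
    obtain ⟨s, a, hsx, hsa⟩ := exists_mul_eq_of_isIntegral f hW hU hx c.1 c.2
    have hd : f.fromNormalization.app U s * d = f.fromNormalization.app U a := by
      apply (ConcreteCategory.bijective_of_isIso (f.normalizationObjIso hU).hom).1
      rw [map_mul, f.fromNormalization_app hU, CommRingCat.comp_apply, CommRingCat.comp_apply,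
        Iso.inv_hom_id_apply, Iso.inv_hom_id_apply]
      exact Subtype.ext hsa
    refine ⟨a, fun m hm => ?_⟩
    have h1 : ∀ b : Γ(X, U), m ∈ f.normalization.basicOpen (f.fromNormalization.app U b) ↔
        x ∈ X.basicOpen b := fun b => by
      rw [← Scheme.preimage_basicOpen, Scheme.Hom.mem_preimage, hm]
    have h2 := Scheme.basicOpen_mul f.normalization (f.fromNormalization.app U s) d
    rw [hd] at h2
    rw [← h1 a, h2]
    exact ⟨fun h => ⟨(h1 s).2 hsx, h⟩, fun h => h.2⟩
  have hp : hV.primeIdealOf ⟨n, hnU⟩ = hV.primeIdealOf ⟨n', hn'U⟩ := by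
    refine PrimeSpectrum.ext (Ideal.ext fun d => ?_)
    obtain ⟨a, ha⟩ := key d
    have h : ∀ (m : ↥f.normalization) (hm : m ∈ f.fromNormalization ⁻¹ᵁ U),
        d ∈ (hV.primeIdealOf ⟨m, hm⟩).asIdeal ↔ m ∉ f.normalization.basicOpen d := fun m hm => by
      rw [← not_iff_not, not_not, ← PrimeSpectrum.mem_basicOpen, ← hV.fromSpec_preimage_basicOpen d]
      erw [Scheme.Hom.mem_preimage, hV.fromSpec_primeIdealOf]
    rw [h n hnU, h n' hn'U, ha n hn, ha n' hn']
  have := congrArg hV.fromSpec hp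
  rwa [hV.fromSpec_primeIdealOf, hV.fromSpec_primeIdealOf] at this

/-- A proper birational morphism, quasi-finite at one point over a normal point, is an isomorphism
over a neighbourhood. -/
theorem exists_isIso_of_quasiFiniteAt [IsProper f] (hW : (W : Set X).Nonempty) [IsIso (f ∣_ W)]
    (x : X) [IsIntegrallyClosed (X.presheaf.stalk x)] (y : Y) (hy : f.base y = x)
    (hq : f.QuasiFiniteAt y) : ∃ V : X.Opens, x ∈ V ∧ IsIso (f ∣_ V) := by
  obtain ⟨V₁, hyV₁, hiso⟩ := Scheme.Hom.exists_mem_and_isIso_morphismRestrict_toNormalization f y hq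
  have hpt : ∀ z : Y, f.fromNormalization (f.toNormalization z) = f.base z := fun z => by
    rw [← Scheme.Hom.comp_apply, f.toNormalization_fromNormalization]
  have hsing : f ⁻¹' {x} ⊆ {y} := by
    intro z hz
    have he : f.toNormalization z = f.toNormalization y :=
      eq_of_fromNormalization_eq f hW (x := x) ((hpt z).trans hz) ((hpt y).trans hy)
    have hinj := (Scheme.homeoOfIso (asIso (f.toNormalization ∣_ V₁))).injective
    have hz' : f.toNormalization z ∈ V₁ := he ▸ hyV₁
    have h2 : (⟨z, hz'⟩ : (f.toNormalization ⁻¹ᵁ V₁ : Y.Opens).toScheme) = ⟨y, hyV₁⟩ := by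
      refine hinj (Subtype.ext ?_)
      exact (morphismRestrict_base_coe f.toNormalization V₁ ⟨z, hz'⟩).trans
        (he.trans (morphismRestrict_base_coe f.toNormalization V₁ ⟨y, hyV₁⟩).symm)
    exact congrArg Subtype.val h2
  obtain ⟨V₂, hxV₂, hfin⟩ := exists_isFinite_morphismRestrict_of_finite_preimage_singleton f x
    ((Set.finite_singleton y).subset hsing)
  obtain ⟨U, hU, hxU, hUV⟩ := exists_isAffineOpen_mem_and_subset (U := V₂) hxV₂
  haveI : Nonempty U := ⟨⟨x, hxU⟩⟩
  have hηU : genericPoint X ∈ U :=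
    ((genericPoint_spec X).mem_open_set_iff U.isOpen).2 ⟨x, trivial, hxU⟩
  have hfη : f.base (genericPoint Y) ∈ U := by
    rw [base_genericPoint_of_isIso f hW]; exact hηU
  haveI := hfin
  have himg : V₂.ι ''ᵁ (V₂.ι ⁻¹ᵁ U) = U := by
    rw [Scheme.Hom.image_preimage_eq_opensRange_inf, Scheme.Opens.opensRange_ι, inf_eq_right.2 (show U ≤ V₂ from hUV)]
  have hU2 : IsAffineOpen (V₂.ι ⁻¹ᵁ U) :=
    hU.preimage_of_isOpenImmersion V₂.ι (by rw [Scheme.Opens.opensRange_ι]; exact hUV)
  have himg' : (f ⁻¹ᵁ V₂).ι ''ᵁ ((f ∣_ V₂) ⁻¹ᵁ (V₂.ι ⁻¹ᵁ U)) = f ⁻¹ᵁ U := by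
    rw [image_morphismRestrict_preimage, himg]
  have hUpre : IsAffineOpen (f ⁻¹ᵁ U) := by
    have h := (hU2.preimage (f ∣_ V₂)).image_of_isOpenImmersion (f ⁻¹ᵁ V₂).ι
    rwa [himg'] at h
  have hfinU : (f.app U).hom.Finite := by
    have h := IsFinite.finite_app (f ∣_ V₂) (V₂.ι ⁻¹ᵁ U) hU2
    rw [morphismRestrict_app'] at h
    have key : ∀ (V : X.Opens) (Z : Y.Opens) (e : Z ≤ f ⁻¹ᵁ V), V = U → Z = f ⁻¹ᵁ U →
        (f.appLE V Z e).hom.Finite → (f.app U).hom.Finite := by
      rintro V Z e rfl rfl hh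
      rwa [Scheme.Hom.app_eq_appLE]
    exact key _ _ _ himg himg' h
  obtain ⟨s, hsx, hs⟩ : ∃ s : Γ(X, U), x ∈ X.basicOpen s ∧
      ∀ c, ∃ a, f.app U s * c = f.app U a := by
    letI := (f.app U).hom.toAlgebra
    haveI : Module.Finite Γ(X, U) Γ(Y, f ⁻¹ᵁ U) := hfinU
    obtain ⟨G, hG⟩ := (Module.Finite.fg_top : (⊤ : Submodule Γ(X, U) Γ(Y, f ⁻¹ᵁ U)).FG)
    choose s a hsx hsa using fun g => exists_mul_eq_of_isIntegral f hW hU hxU g
      (Algebra.IsIntegral.isIntegral (R := Γ(X, U)) g)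
    classical
    refine ⟨∏ g ∈ G, s g, ?_, fun c => ?_⟩
    · rw [X.mem_basicOpen _ x hxU, map_prod]
      exact IsUnit.prod_iff.2 fun g _ => (X.mem_basicOpen _ x hxU).1 (hsx g)
    have hc : c ∈ Submodule.span Γ(X, U) (G : Set Γ(Y, f ⁻¹ᵁ U)) := hG ▸ Submodule.mem_top
    induction hc using Submodule.span_induction with
    | mem z hz =>
      refine ⟨(∏ g ∈ G.erase z, s g) * a z, ?_⟩
      rw [← Finset.mul_prod_erase G s hz, map_mul, map_mul, mul_comm (f.app U (s z)), mul_assoc, hsa]
    | zero => exact ⟨0, by simp⟩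
    | add p q _ _ hp hq =>
      obtain ⟨a₁, h₁⟩ := hp; obtain ⟨a₂, h₂⟩ := hq
      exact ⟨a₁ + a₂, by rw [mul_add, h₁, h₂, map_add]⟩
    | smul r z _ hz =>
      obtain ⟨a₁, h₁⟩ := hz
      refine ⟨r * a₁, ?_⟩
      rw [Algebra.smul_def, RingHom.algebraMap_toAlgebra, mul_left_comm, h₁, map_mul]
  have hinj : Function.Injective (f.app U) := by
    haveI := isIso_stalkMap_genericPoint f hW
    intro a b h
    have h' := congrArg (Y.presheaf.germ (f ⁻¹ᵁ U) (genericPoint Y) hfη) h
    rw [← Scheme.Hom.germ_stalkMap_apply f U _ hfη, ← Scheme.Hom.germ_stalkMap_apply f U _ hfη] at h'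
    exact germ_injective_of_isIntegral X _ hfη
      ((ConcreteCategory.bijective_of_isIso (f.stalkMap (genericPoint Y))).1 h')
  refine ⟨X.basicOpen s, hsx, ?_⟩
  let D := X.basicOpen s
  have hle : D ≤ U := X.basicOpen_le s
  haveI : IsAffine D.toScheme := hU.basicOpen s
  haveI : IsAffine (f ⁻¹ᵁ D).toScheme := by
    show IsAffineOpen (f ⁻¹ᵁ D)
    rw [f.preimage_basicOpen s]
    exact hUpre.basicOpen _
  suffices hT : IsIso (f ∣_ D).appTop by
    exact (MorphismProperty.arrow_mk_iso_iff (MorphismProperty.isomorphisms Scheme.{u})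
      (arrowIsoSpecΓOfIsAffine (f ∣_ D))).2 (inferInstanceAs (IsIso (Spec.map (f ∣_ D).appTop)))
  haveI : IsIso (f.app D) := by
    have hpre : f ⁻¹ᵁ D = Y.basicOpen (f.app U s) := f.preimage_basicOpen s
    letI := (X.presheaf.map (homOfLE hle).op).hom.toAlgebra
    letI := (Y.presheaf.map (homOfLE (f.preimage_mono hle)).op).hom.toAlgebra
    haveI : IsLocalization.Away s Γ(X, D) := hU.isLocalization_basicOpen s
    haveI : IsLocalization.Away ((f.app U).hom s) Γ(Y, f ⁻¹ᵁ D) :=
      hUpre.isLocalization_of_eq_basicOpen (f.app U s) _ hpre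
    rw [ConcreteCategory.isIso_iff_bijective]
    refine Groth.BMCohLib.bijective_isLocalization_map (f.app U).hom hinj hs (f.app D).hom fun a => ?_
    exact congr(($(f.naturality (homOfLE hle).op)) a)
  rw [Scheme.Hom.appTop, morphismRestrict_app']
  have key : ∀ (V : X.Opens) (Z : Y.Opens) (e : Z ≤ f ⁻¹ᵁ V), V = D → Z = f ⁻¹ᵁ D →
      IsIso (f.appLE V Z e) := by
    rintro V Z e rfl rfl
    rw [← Scheme.Hom.app_eq_appLE]; infer_instance
  exact key _ _ _ (Scheme.Opens.ι_image_top _) (Scheme.Opens.ι_image_top _)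

end Groth.VarietyBC
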