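import Groth.Agent.EGA41Two.GrLength
import Mathlib.RingTheory.Filtration

/-!
A local homomorphism to a regular local ring with trivial residue extension and injective
cotangent map is injective.
-/

set_option autoImplicit false

universe u

open IsLocalRing MvPolynomial

namespace Groth.VarietyBC.CotInj

variable {A R : Type u} [CommRing A] [IsLocalRing A] [IsNoetherianRing A] [CommRing R]
  [IsRegularLocalRing R]

theorem span_eq_maximalIdeal {ι : Type*} (g : ι → maximalIdeal A)
    (hg : Submodule.span (ResidueField A) (Set.range fun i => (maximalIdeal A).toCotangent (g i)) = ⊤) :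
    Ideal.span (Set.range fun i => (g i : A)) = maximalIdeal A := by
  rw [show (Set.range fun i => (maximalIdeal A).toCotangent (g i)) =
      (maximalIdeal A).toCotangent '' Set.range g from Set.range_comp _ g,
    CotangentSpace.span_image_eq_top_iff] at hg
  have h := congrArg (Submodule.map (maximalIdeal A).subtype) hg
  rw [Submodule.map_span, Submodule.map_top, Submodule.range_subtype, ← Set.range_comp] at h
  exact h

/-- A homogeneous form in elements independent modulo the square of the maximal ideal of a regular
local ring lies in the next power only if its coefficients lie in the maximal ideal. -/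
theorem coeff_mem_of_eval_mem {c : ℕ} (z : Fin c → maximalIdeal R)
    (hz : LinearIndependent (ResidueField R) fun i => (maximalIdeal R).toCotangent (z i))
    {n : ℕ} {P : MvPolynomial (Fin c) R} (hP : P.IsHomogeneous n)
    (he : eval (fun i => (z i : R)) P ∈ maximalIdeal R ^ (n + 1)) (d : Fin c →₀ ℕ) :
    P.coeff d ∈ maximalIdeal R := by
  classical
  let v := fun i => (maximalIdeal R).toCotangent (z i)
  let B := Module.Basis.sumExtend hz
  haveI : Fintype (Fin c ⊕ Module.Basis.sumExtendIndex hz) := FiniteDimensional.fintypeBasisIndex B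
  let e := Fintype.equivFin (Fin c ⊕ Module.Basis.sumExtendIndex hz)
  choose g' hg' using fun j : Module.Basis.sumExtendIndex hz =>
    (maximalIdeal R).toCotangent_surjective (B (Sum.inr j))
  let g : Fin (Fintype.card (Fin c ⊕ Module.Basis.sumExtendIndex hz)) → maximalIdeal R :=
    fun i => Sum.elim z g' (e.symm i)
  have hgB : ∀ i, (maximalIdeal R).toCotangent (g i) = B (e.symm i) := fun i => by
    simp only [g]
    cases e.symm i with
    | inl a =>
      simp [B, Module.Basis.sumExtend, Module.Basis.reindex_apply, Trans.trans]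
      rfl
    | inr b => exact hg' b
  have hspan : Ideal.span (Set.range fun i => (g i : R)) = maximalIdeal R := by
    refine span_eq_maximalIdeal g ?_
    rw [funext hgB]
    exact (B.reindex e).span_eq ▸ congrArg _ (congrArg Set.range (funext fun i => (B.reindex_apply e i).symm))
  let f := fun i => (g i : R)
  have hf : ∀ i, f i ∈ maximalIdeal R := fun i => (g i).2
  have hq : CAlgX.IsQuasiRegular f := by
    refine Groth.EGA41Two.isQuasiRegular_of_isWeaklyRegular f
      (Groth.Ega4b.isWeaklyRegular_of_independent_mod_sq _ R f hf fun a ha i => ?_)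
    have h2 : ∑ i, residue R (a i) • B (e.symm i) = 0 := by
      rw [← show (maximalIdeal R).toCotangent (∑ i, a i • g i) = ∑ i, residue R (a i) • B (e.symm i) from by
        rw [map_sum]
        refine Finset.sum_congr rfl fun i _ => ?_
        rw [map_smul, hgB, ← algebraMap_smul (ResidueField R) (a i)]
        rfl]
      rw [Ideal.toCotangent_eq_zero, Submodule.coe_sum]
      exact ha
    refine (residue_eq_zero_iff _).mp ?_
    exact Fintype.linearIndependent_iff.mp (B.linearIndependent.comp _ e.symm.injective) _ h2 i
  let σ : Fin c → Fin (Fintype.card (Fin c ⊕ Module.Basis.sumExtendIndex hz)) := fun a => e (Sum.inl a)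
  have hσ : Function.Injective σ := e.injective.comp Sum.inl_injective
  have hfσ : f ∘ σ = fun i => (z i : R) := funext fun a => by simp [f, g, σ]
  have h := hq n (rename σ P) hP.rename_isHomogeneous (by rw [eval_rename, hfσ, hspan]; exact he)
    (d.mapDomain σ)
  rwa [coeff_rename_mapDomain σ hσ, hspan] at h

/-- The criterion. -/
theorem injective_of_cotangent (φ : A →+* R) [IsLocalHom φ]
    (hres : ∀ y : R, ∃ a : A, y - φ a ∈ maximalIdeal R)
    (hcot : ∀ a ∈ maximalIdeal A, φ a ∈ maximalIdeal R ^ 2 → a ∈ maximalIdeal A ^ 2) :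
    Function.Injective φ := by
  classical
  rw [injective_iff_map_eq_zero]
  intro a ha
  by_contra hne
  have hmap : ∀ x ∈ maximalIdeal A, φ x ∈ maximalIdeal R := fun x hx =>
    (mem_maximalIdeal _).mpr fun hu => (mem_maximalIdeal _).mp hx ((isUnit_map_iff φ x).mp hu)
  obtain ⟨n, hn, hn'⟩ : ∃ n, a ∈ maximalIdeal A ^ n ∧ a ∉ maximalIdeal A ^ (n + 1) := by
    have h : ∃ n, a ∉ maximalIdeal A ^ n := by
      by_contra hc
      push Not at hc
      refine hne ?_
      have h1 : a ∈ ⨅ i : ℕ, maximalIdeal A ^ i := Ideal.mem_iInf.mpr hc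
      rwa [Ideal.iInf_pow_eq_bot_of_isLocalRing _ (maximalIdeal.isMaximal A).ne_top] at h1
    have h0 : Nat.find h ≠ 0 := fun h0 => by
      have := Nat.find_spec h
      rw [h0, pow_zero, Ideal.one_eq_top] at this
      exact this trivial
    obtain ⟨n, hn⟩ := Nat.exists_eq_succ_of_ne_zero h0
    exact ⟨n, not_not.mp (Nat.find_min h (m := n) (by omega)), by
      have h1 := Nat.find_spec h
      rw [hn] at h1
      exact h1⟩
  let b := Module.finBasis (ResidueField A) (CotangentSpace A)
  choose g hg using fun i => (maximalIdeal A).toCotangent_surjective (b i)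
  have hspan : Ideal.span (Set.range fun i => (g i : A)) = maximalIdeal A :=
    span_eq_maximalIdeal g (by rw [funext hg]; exact b.span_eq)
  obtain ⟨P, hP, hPa⟩ := Groth.EGA41Two.exists_homogeneous (fun i => (g i : A)) (hspan.symm ▸ hn)
  let z : _ → maximalIdeal R := fun i => ⟨φ (g i), hmap _ (g i).2⟩
  have hz : LinearIndependent (ResidueField R) fun i => (maximalIdeal R).toCotangent (z i) := by
    rw [Fintype.linearIndependent_iff]
    intro c hc i
    choose y hy using fun j => residue_surjective (R := R) (c j)
    choose x hx using fun j => hres (y j)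
    have hcx : ∀ j, residue R (φ (x j)) = c j := fun j => by
      rw [← hy j]
      exact ((Ideal.Quotient.mk_eq_mk_iff_sub_mem _ _).mpr (hx j)).symm
    have h1 : φ (∑ j, x j * (g j : A)) ∈ maximalIdeal R ^ 2 := by
      have e : (maximalIdeal R).toCotangent (∑ j, φ (x j) • z j) = ∑ j, c j • (maximalIdeal R).toCotangent (z j) := by
        rw [map_sum]
        refine Finset.sum_congr rfl fun j _ => ?_
        rw [map_smul, ← hcx j, ← algebraMap_smul (ResidueField R) (φ (x j))]
        rfl
      rw [hc, Ideal.toCotangent_eq_zero, Submodule.coe_sum] at e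
      rw [map_sum]
      refine (congrArg (· ∈ maximalIdeal R ^ 2) (Finset.sum_congr rfl fun j _ => ?_)).mp e
      exact (map_mul φ _ _).symm
    have h2 := hcot _ (Ideal.sum_mem _ fun j _ => Ideal.mul_mem_left _ _ (g j).2) h1
    have h3 : ∑ j, residue A (x j) • b j = 0 := by
      rw [← show (maximalIdeal A).toCotangent (∑ j, x j • g j) = ∑ j, residue A (x j) • b j from by
        rw [map_sum]
        refine Finset.sum_congr rfl fun j _ => ?_
        rw [map_smul, hg, ← algebraMap_smul (ResidueField A) (x j)]
        rfl]
      rw [Ideal.toCotangent_eq_zero, Submodule.coe_sum]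
      exact h2
    have h4 := (residue_eq_zero_iff _).mp (Fintype.linearIndependent_iff.mp b.linearIndependent _ h3 i)
    rw [← hcx i]
    exact (residue_eq_zero_iff _).mpr (hmap _ h4)
  refine hn' ?_
  rw [← hPa]
  have hcoef : ∀ d, P.coeff d ∈ Ideal.span (Set.range fun i => (g i : A)) := fun d => by
    rw [hspan]
    have h0 : eval (fun i => (z i : R)) (MvPolynomial.map φ P) = 0 := by
      rw [eval_map]
      show eval₂ φ (φ ∘ fun i => (g i : A)) P = 0
      rw [← eval₂_comp φ (fun i => (g i : A)) P, hPa, ha]
    have h1 := coeff_mem_of_eval_mem z hz (hP.map φ) (h0 ▸ zero_mem _) d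
    rw [coeff_map] at h1
    exact (mem_maximalIdeal _).mpr fun hu => (mem_maximalIdeal _).mp h1 (hu.map φ)
  have h := Groth.EGA41Two.eval_mem_pow_succ (fun i => (g i : A)) hP hcoef
  rwa [hspan] at h

end Groth.VarietyBC.CotInj
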