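import Groth.Agent.Variety2.ProjDim
import Groth.Agent.Variety2.DimFiber
import Groth.Agent.FibreDim.BaseChange
import Groth.Agent.S7610

/-!
# The intersection theorem in affine and projective space
-/

set_option autoImplicit false
universe u

open CategoryTheory AlgebraicGeometry MvPolynomial
open scoped TensorProduct

namespace Groth.VarietyBC.ProjInter

variable (k : Type u) [Field k]

theorem exists_dim_eq (T : Type u) [CommRing T] [IsDomain T] [Algebra k T] [Algebra.FiniteType k T] :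
    ∃ n : ℕ, ringKrullDim T = n := by
  obtain ⟨n, -, hn, -⟩ := Groth.Variety2.Dim.exists_dim (k := k) (A := T)
  exact ⟨n, hn⟩

/-- `dim T = ht M + dim T/M`. -/
theorem dim_quotient_add_height (T : Type u) [CommRing T] [IsDomain T] [Algebra k T]
    [Algebra.FiniteType k T] (M : PrimeSpectrum T) :
    ringKrullDim (T ⧸ M.asIdeal) + (M.asIdeal.height : WithBot ℕ∞) = ringKrullDim T := by
  haveI : IsDomain (CommRingCat.of T) := ‹IsDomain T›
  haveI : LocallyOfFiniteType (Spec.map (CommRingCat.ofHom (algebraMap k T))) :=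
    (HasRingHomProperty.Spec_iff (P := @LocallyOfFiniteType)).mpr
      (RingHom.finiteType_algebraMap.mpr ‹_›)
  have h := Groth.Variety2.Dim.ideal_height_add_height (C := CommRingCat.of T)
    (Spec.map (CommRingCat.ofHom (algebraMap k T))) M
  have h2 := Groth.FibreDim.height_spec_eq (S := T) M
  have h3 : topologicalKrullDim ↥(Spec (CommRingCat.of T)) = ringKrullDim T :=
    PrimeSpectrum.topologicalKrullDim_eq_ringKrullDim T
  rw [Groth.Variety2.Dim.dim_eq_height_genericPoint] at h3
  rw [← h2, ← h3, ← WithBot.coe_add, WithBot.coe_inj, add_comm]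
  exact h

/-- Cutting a domain by `#D` elements through a prime drops the dimension by at most `#D`. -/
theorem exists_minimal_dim_le (T : Type u) [CommRing T] [IsDomain T] [Algebra k T]
    [Algebra.FiniteType k T] (D : Finset T) (q : Ideal T) [q.IsPrime] (hD : ∀ d ∈ D, d ∈ q) :
    ∃ M : PrimeSpectrum T, M.asIdeal ∈ (Ideal.span (D : Set T)).minimalPrimes ∧ M.asIdeal ≤ q ∧
      ringKrullDim T ≤ ringKrullDim (T ⧸ M.asIdeal) + (D.card : WithBot ℕ∞) := by
  haveI : IsNoetherianRing T := Algebra.FiniteType.isNoetherianRing k T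
  obtain ⟨M, hM, hMq⟩ := Ideal.exists_minimalPrimes_le (I := Ideal.span (D : Set T)) (J := q)
    (Ideal.span_le.2 hD)
  refine ⟨⟨M, hM.1.1⟩, hM, hMq, ?_⟩
  rw [← dim_quotient_add_height k T ⟨M, hM.1.1⟩]
  refine add_le_add le_rfl ?_
  haveI := hM.1.1
  exact_mod_cast Ideal.height_le_card_of_mem_minimalPrimes_span_finset hM

theorem finiteType_tensor (A B : Type u) [CommRing A] [CommRing B] [Algebra k A] [Algebra k B]
    [Algebra.FiniteType k A] [Algebra.FiniteType k B] : Algebra.FiniteType k (A ⊗[k] B) :=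
  Algebra.FiniteType.trans (S := A) inferInstance inferInstance

/-- `dim (A ⊗ B) ≥ dim A + dim B` near every prime. -/
theorem exists_prime_dim_tensor (A B : Type u) [CommRing A] [CommRing B] [Algebra k A] [Algebra k B]
    [IsDomain A] [IsDomain B] [Algebra.FiniteType k A] [Algebra.FiniteType k B]
    (q : PrimeSpectrum (A ⊗[k] B)) :
    ∃ p : PrimeSpectrum (A ⊗[k] B), p.asIdeal ≤ q.asIdeal ∧
      ringKrullDim A + ringKrullDim B ≤ ringKrullDim ((A ⊗[k] B) ⧸ p.asIdeal) := by
  haveI := finiteType_tensor k A B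
  obtain ⟨p, hp, hpd⟩ := Groth.FibreDim.exists_ringKrullDim_quotient_eq_localDim (k := k) q
  refine ⟨p, hp, ?_⟩
  rw [hpd]
  letI : (Spec (CommRingCat.of A)).Over (Spec (CommRingCat.of k)) :=
    ⟨Spec.map (CommRingCat.ofHom (algebraMap k A))⟩
  letI : (Spec (CommRingCat.of B)).Over (Spec (CommRingCat.of k)) :=
    ⟨Spec.map (CommRingCat.ofHom (algebraMap k B))⟩
  haveI : LocallyOfFiniteType ((Spec (CommRingCat.of A)) ↘ (Spec (CommRingCat.of k))) :=
    (HasRingHomProperty.Spec_iff (P := @LocallyOfFiniteType)).mpr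
      (RingHom.finiteType_algebraMap.mpr ‹_›)
  haveI : LocallyOfFiniteType ((Spec (CommRingCat.of B)) ↘ (Spec (CommRingCat.of k))) :=
    (HasRingHomProperty.Spec_iff (P := @LocallyOfFiniteType)).mpr
      (RingHom.finiteType_algebraMap.mpr ‹_›)
  have h := Groth.Agent.S7610.result k (Spec (CommRingCat.of A)) (Spec (CommRingCat.of B))
    ((pullbackSpecIso k A B).inv q)
  have he := Groth.FibreDim.localDim_eq_of_isOpenEmbedding
    (pullbackSpecIso k A B).inv.isOpenEmbedding q
  refine le_trans ?_ (he.trans h).ge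
  refine add_le_add ?_ ?_
  · have hA := ringKrullDim_eq_of_ringEquiv (RingEquiv.quotientBot A)
    exact hA ▸ Groth.FibreDim.ringKrullDim_quotient_le_localDim (k := k) (S := A) _
      (p := ⟨⊥, Ideal.isPrime_bot⟩) bot_le
  · have hB := ringKrullDim_eq_of_ringEquiv (RingEquiv.quotientBot B)
    exact hB ▸ Groth.FibreDim.ringKrullDim_quotient_le_localDim (k := k) (S := B) _
      (p := ⟨⊥, Ideal.isPrime_bot⟩) bot_le

variable {k} {σ : Type} [Fintype σ]

local notation "R" => MvPolynomial σ k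

/-- Cutting down to the diagonal. -/
theorem exists_diagonal {T : Type u} [CommRing T] [IsDomain T] [Algebra k T] [Algebra.FiniteType k T]
    (l r : R →ₐ[k] T) (hgen : l.range ⊔ r.range = ⊤) (P Q m : Ideal R) [m.IsPrime]
    (hP : P ≤ RingHom.ker l) (hQ : Q ≤ RingHom.ker r) (ω : T →ₐ[k] R ⧸ m)
    (hωl : ∀ x, ω (l x) = Ideal.Quotient.mk m x) (hωr : ∀ x, ω (r x) = Ideal.Quotient.mk m x) :
    ∃ M ∈ (P ⊔ Q).minimalPrimes, M ≤ m ∧
      ringKrullDim T ≤ ringKrullDim (R ⧸ M) + (Fintype.card σ : WithBot ℕ∞) := by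
  classical
  let D : Finset T := Finset.univ.image fun i : σ => l (X i) - r (X i)
  have hD : ∀ d ∈ D, d ∈ RingHom.ker ω := by
    intro d hd
    obtain ⟨i, -, rfl⟩ := Finset.mem_image.1 hd
    rw [RingHom.mem_ker, map_sub, hωl, hωr, sub_self]
  haveI : (RingHom.ker ω).IsPrime := RingHom.ker_isPrime _
  obtain ⟨M', hM', hM'q, hM'dim⟩ := exists_minimal_dim_le k T D (RingHom.ker ω) hD
  let τ : T →ₐ[k] T ⧸ M'.asIdeal := Ideal.Quotient.mkₐ k _
  have hlr : τ.comp l = τ.comp r := by
    refine MvPolynomial.algHom_ext fun i => ?_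
    have hmem : l (X i) - r (X i) ∈ M'.asIdeal :=
      hM'.1.2 (Ideal.subset_span (Finset.mem_image_of_mem _ (Finset.mem_univ i)))
    exact Ideal.Quotient.eq.2 hmem
  have hsurj : Function.Surjective (τ.comp l) := by
    rw [← AlgHom.range_eq_top]
    have h : (τ.comp l).range ⊔ (τ.comp r).range = τ.range := by
      rw [AlgHom.range_comp, AlgHom.range_comp, ← Algebra.map_sup, hgen, Algebra.map_top]
    rw [← hlr, sup_idem] at h
    rw [h, AlgHom.range_eq_top]
    exact Ideal.Quotient.mkₐ_surjective _ _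
  let M0 : Ideal R := RingHom.ker (τ.comp l)
  haveI : IsDomain (T ⧸ M'.asIdeal) := Ideal.Quotient.isDomain M'.asIdeal
  haveI : M0.IsPrime := RingHom.ker_isPrime _
  have hPM : P ≤ M0 := fun x hx => by
    show τ (l x) = 0
    rw [show l x = 0 from hP hx, map_zero]
  have hQM : Q ≤ M0 := fun x hx => by
    show (τ.comp l) x = 0
    rw [hlr, AlgHom.comp_apply, show r x = 0 from hQ hx, map_zero]
  have hM0m : M0 ≤ m := fun x hx => by
    have hx' : l x ∈ M'.asIdeal := Ideal.Quotient.eq_zero_iff_mem.1 hx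
    exact Ideal.Quotient.eq_zero_iff_mem.1 ((hωl x).symm.trans (hM'q hx'))
  obtain ⟨M, hM, hMM0⟩ := Ideal.exists_minimalPrimes_le (I := P ⊔ Q) (J := M0) (sup_le hPM hQM)
  refine ⟨M, hM, hMM0.trans hM0m, hM'dim.trans (add_le_add ?_ ?_)⟩
  · rw [← ringKrullDim_eq_of_ringEquiv
      (RingHom.quotientKerEquivOfSurjective (f := (τ.comp l).toRingHom) hsurj)]
    exact ringKrullDim_le_of_surjective (Ideal.Quotient.factor hMM0)
      (Ideal.Quotient.factor_surjective hMM0)
  · have hc : D.card ≤ Fintype.card σ := Finset.card_image_le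
    exact_mod_cast hc

/-- The intersection theorem in affine space. -/
theorem exists_minimalPrimes_inter (P Q m : Ideal R) [P.IsPrime] [Q.IsPrime] [m.IsPrime]
    (hP : P ≤ m) (hQ : Q ≤ m) :
    ∃ M ∈ (P ⊔ Q).minimalPrimes, M ≤ m ∧ ringKrullDim (R ⧸ P) + ringKrullDim (R ⧸ Q) ≤
      ringKrullDim (R ⧸ M) + (Fintype.card σ : WithBot ℕ∞) := by
  let ψ : (R ⧸ P) ⊗[k] (R ⧸ Q) →ₐ[k] R ⧸ m :=
    Algebra.TensorProduct.lift (Ideal.Quotient.factorₐ k hP) (Ideal.Quotient.factorₐ k hQ)
      fun _ _ => Commute.all _ _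
  obtain ⟨p, hpq, hdim⟩ := exists_prime_dim_tensor k (R ⧸ P) (R ⧸ Q)
    ⟨RingHom.ker ψ, RingHom.ker_isPrime _⟩
  let π := Ideal.Quotient.mkₐ k p.asIdeal
  haveI hft := finiteType_tensor k (R ⧸ P) (R ⧸ Q)
  haveI := hft.of_surjective π (Ideal.Quotient.mkₐ_surjective _ _)
  haveI : IsDomain (((R ⧸ P) ⊗[k] (R ⧸ Q)) ⧸ p.asIdeal) := Ideal.Quotient.isDomain p.asIdeal
  let il : (R ⧸ P) →ₐ[k] (R ⧸ P) ⊗[k] (R ⧸ Q) := Algebra.TensorProduct.includeLeft
  let ir : (R ⧸ Q) →ₐ[k] (R ⧸ P) ⊗[k] (R ⧸ Q) := Algebra.TensorProduct.includeRight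
  refine (exists_diagonal
    (π.comp (il.comp (Ideal.Quotient.mkₐ k P))) (π.comp (ir.comp (Ideal.Quotient.mkₐ k Q)))
    ?_ P Q m ?_ ?_ (Ideal.Quotient.liftₐ p.asIdeal ψ fun x hx => hpq hx) ?_ ?_).imp
    fun M h => ⟨h.1, h.2.1, hdim.trans h.2.2⟩
  · rw [eq_top_iff]
    rintro z -
    obtain ⟨w, rfl⟩ := Ideal.Quotient.mkₐ_surjective k p.asIdeal z
    induction w using TensorProduct.induction_on with
    | zero => rw [map_zero]; exact zero_mem _
    | add a b ha hb => rw [map_add]; exact add_mem ha hb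
    | tmul a b =>
      obtain ⟨x, rfl⟩ := Ideal.Quotient.mk_surjective a
      obtain ⟨y, rfl⟩ := Ideal.Quotient.mk_surjective b
      have he : Ideal.Quotient.mk P x ⊗ₜ[k] Ideal.Quotient.mk Q y =
          il (Ideal.Quotient.mkₐ k P x) * ir (Ideal.Quotient.mkₐ k Q y) := by
        simp [il, ir]
      rw [he, map_mul]
      exact mul_mem ((le_sup_left : (π.comp (il.comp (Ideal.Quotient.mkₐ k P))).range ≤ _) ⟨x, rfl⟩)
        ((le_sup_right : (π.comp (ir.comp (Ideal.Quotient.mkₐ k Q))).range ≤ _) ⟨y, rfl⟩)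
  · intro x hx
    show π (il (Ideal.Quotient.mk P x)) = 0
    rw [Ideal.Quotient.eq_zero_iff_mem.2 hx, map_zero, map_zero]
  · intro x hx
    show π (ir (Ideal.Quotient.mk Q x)) = 0
    rw [Ideal.Quotient.eq_zero_iff_mem.2 hx, map_zero, map_zero]
  · intro x
    show ψ (il (Ideal.Quotient.mk P x)) = _
    simp [ψ, il]
  · intro x
    show ψ (ir (Ideal.Quotient.mk Q x)) = _
    simp [ψ, ir]

end Groth.VarietyBC.ProjInter

namespace Groth.VarietyBC.ProjInter

open Groth.Variety2.PSpace

variable {k : Type u} [Field k] {n : ℕ}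

local notation "R" => MvPolynomial (Fin (n + 1)) k
local notation "Pt" => ProjectiveSpectrum (CohB1.polyGrading n k)
local notation "m₀" => RingHom.ker (MvPolynomial.constantCoeff : MvPolynomial (Fin (n + 1)) k →+* k)

theorem dim_add_one_le {P Q : Ideal R} [P.IsPrime] (h : P < Q) :
    ringKrullDim (R ⧸ Q) + 1 ≤ ringKrullDim (R ⧸ P) := by
  obtain ⟨f, hfQ, hfP⟩ := SetLike.exists_of_lt h
  have hne : Ideal.Quotient.mk P f ≠ 0 := fun h0 => hfP (Ideal.Quotient.eq_zero_iff_mem.1 h0)
  refine le_trans (add_le_add ?_ le_rfl)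
    (ringKrullDim_quotient_succ_le_of_nonZeroDivisor (mem_nonZeroDivisors_of_ne_zero hne))
  refine ringKrullDim_le_of_surjective (Ideal.Quotient.lift _ (Ideal.Quotient.factor h.le) ?_) ?_
  · intro a ha
    obtain ⟨c, rfl⟩ := Ideal.mem_span_singleton.1 ha
    rw [map_mul, Ideal.Quotient.factor_mk, Ideal.Quotient.eq_zero_iff_mem.2 hfQ, zero_mul]
  · exact Ideal.Quotient.lift_surjective_of_surjective _ _ (Ideal.Quotient.factor_surjective h.le)

theorem isHomogeneous_of_minimal {J M : Ideal R} (hJ : J.IsHomogeneous (CohB1.polyGrading n k))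
    (hM : M ∈ J.minimalPrimes) : M.IsHomogeneous (CohB1.polyGrading n k) := by
  have h1 : (M.homogeneousCore (CohB1.polyGrading n k)).toIdeal ≤ M :=
    Ideal.toIdeal_homogeneousCore_le _ M
  have hJle : J ≤ (M.homogeneousCore (CohB1.polyGrading n k)).toIdeal := by
    rw [← hJ.toIdeal_homogeneousCore_eq_self]
    exact Ideal.homogeneousCore_mono _ hM.1.2
  have h2 := hM.2 ⟨hM.1.1.homogeneousCore, hJle⟩ h1
  rw [le_antisymm h2 h1]
  exact (M.homogeneousCore _).isHomogeneous

theorem le_constantCoeff (x : Pt) : x.asHomogeneousIdeal.toIdeal ≤ m₀ := by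
  intro f hf
  have hmem := x.asHomogeneousIdeal.isHomogeneous 0 hf
  rw [show ((DirectSum.decompose (CohB1.polyGrading n k) f 0 : CohB1.polyGrading n k 0) : R) =
      homogeneousComponent 0 f from MvPolynomial.decomposition.decompose'_apply f 0,
    homogeneousComponent_zero] at hmem
  rw [RingHom.mem_ker, constantCoeff_eq]
  by_contra h
  exact x.isPrime.ne_top (Ideal.eq_top_of_isUnit_mem _ hmem ((isUnit_iff_ne_zero.2 h).map C))

theorem X_mem_constantCoeff (i : Fin (n + 1)) : (X i : R) ∈ m₀ := by simp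

theorem dim_constantCoeff : ringKrullDim (R ⧸ m₀) = 0 := by
  rw [ringKrullDim_eq_of_ringEquiv (RingHom.quotientKerEquivOfSurjective
    (f := (MvPolynomial.constantCoeff : R →+* k)) fun a => ⟨C a, constantCoeff_C _ a⟩)]
  exact ringKrullDim_eq_zero_of_field k

/-- The cone over a point. -/
theorem dim_cone (h : ℕ) : ∀ x : Pt, ht x = (h : ℕ∞) →
    ringKrullDim (R ⧸ x.asHomogeneousIdeal.toIdeal) = ((h + 1 : ℕ) : WithBot ℕ∞) := by
  induction h using Nat.strong_induction_on with
  | _ h ih =>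
  intro x hx
  haveI := x.isPrime
  obtain ⟨d, hd⟩ := exists_dim_eq k (R ⧸ x.asHomogeneousIdeal.toIdeal)
  rw [hd, Nat.cast_inj]
  obtain ⟨i, hi⟩ := exists_X_notMem x
  refine le_antisymm ?_ ?_
  · -- cut by a coordinate
    haveI : (RingHom.ker (MvPolynomial.constantCoeff : R →+* k)).IsPrime := RingHom.ker_isPrime _
    let π := Ideal.Quotient.mkₐ k x.asHomogeneousIdeal.toIdeal
    have hker : RingHom.ker π ≤ m₀ := by
      rw [show RingHom.ker π = x.asHomogeneousIdeal.toIdeal from Ideal.Quotient.mkₐ_ker k _]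
      exact le_constantCoeff x
    haveI := Ideal.map_isPrime_of_surjective (Ideal.Quotient.mkₐ_surjective k _) hker
    obtain ⟨M', hM', hM'm, hle⟩ := exists_minimal_dim_le k (R ⧸ x.asHomogeneousIdeal.toIdeal)
      {π (X i)} ((m₀).map π) (by
        intro e he
        rw [Finset.mem_singleton] at he
        exact he ▸ Ideal.mem_map_of_mem _ (X_mem_constantCoeff i))
    rw [Finset.coe_singleton] at hM'
    have hmk : Function.Surjective (Ideal.Quotient.mk x.asHomogeneousIdeal.toIdeal) :=
      Ideal.Quotient.mk_surjective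
    let M : Ideal R := M'.asIdeal.comap (Ideal.Quotient.mk x.asHomogeneousIdeal.toIdeal)
    have hM : M ∈ (x.asHomogeneousIdeal.toIdeal ⊔ Ideal.span {X i}).minimalPrimes := by
      have h1 : (Ideal.span {Ideal.Quotient.mk x.asHomogeneousIdeal.toIdeal (X i)}).comap
          (Ideal.Quotient.mk x.asHomogeneousIdeal.toIdeal) =
          x.asHomogeneousIdeal.toIdeal ⊔ Ideal.span {X i} := by
        rw [← Set.image_singleton, ← Ideal.map_span, Ideal.comap_map_of_surjective' _ hmk,
          Ideal.mk_ker, sup_comm]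
      rw [← h1, Ideal.comap_minimalPrimes_eq_of_surjective hmk]
      exact ⟨_, hM', rfl⟩
    have hhom : M.IsHomogeneous (CohB1.polyGrading n k) := by
      refine isHomogeneous_of_minimal ?_ hM
      exact Ideal.IsHomogeneous.sup x.asHomogeneousIdeal.isHomogeneous
        (isHomogeneous_span_singleton (isHomogeneous_X k i))
    have hdimM : ringKrullDim ((R ⧸ x.asHomogeneousIdeal.toIdeal) ⧸ M'.asIdeal) =
        ringKrullDim (R ⧸ M) := by
      refine (ringKrullDim_eq_of_ringEquiv ?_).symm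
      exact (Ideal.quotEquivOfEq (by rw [← RingHom.comap_ker, Ideal.mk_ker])).trans
        (RingHom.quotientKerEquivOfSurjective
          (f := (Ideal.Quotient.mk M'.asIdeal).comp (Ideal.Quotient.mk x.asHomogeneousIdeal.toIdeal))
          (Ideal.Quotient.mk_surjective.comp hmk))
    rw [hdimM, hd, Finset.card_singleton] at hle
    haveI : M.IsPrime := hM.1.1
    by_cases hall : ∀ j, (X j : R) ∈ M
    · have hMm : m₀ ≤ M := by
        intro f hf
        rw [RingHom.mem_ker, constantCoeff_eq] at hf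
        have hspan : f ∈ Ideal.span (X '' (Set.univ : Set (Fin (n + 1)))) := by
          rw [mem_ideal_span_X_image]
          intro e he
          by_contra hcon
          push Not at hcon
          have : e = 0 := Finsupp.ext fun j => hcon j trivial
          rw [mem_support_iff, this] at he
          exact he hf
        exact (Ideal.span_le.2 (by rintro _ ⟨j, -, rfl⟩; exact hall j) : _ ≤ M) hspan
      have h0 : ringKrullDim (R ⧸ M) ≤ 0 :=
        dim_constantCoeff (k := k) (n := n) ▸ ringKrullDim_le_of_surjective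
          (Ideal.Quotient.factor hMm) (Ideal.Quotient.factor_surjective hMm)
      have := hle.trans (add_le_add h0 le_rfl)
      rw [zero_add, Nat.cast_le] at this
      omega
    · push Not at hall
      obtain ⟨j, hj⟩ := hall
      let z : Pt := mkPt M hhom hM.1.1 hj
      have hxz : x ⤳ z := (specializes_iff x z).2 fun f hf => hM.1.2 (Ideal.mem_sup_left hf)
      have hne : z ≠ x := fun he => hi (by
        rw [← he]
        exact hM.1.2 (Ideal.mem_sup_right (Ideal.mem_span_singleton_self _)))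
      obtain ⟨a, ha⟩ := exists_ht_eq z
      have hlt := ht_lt hxz hne
      rw [ha, hx, Nat.cast_lt] at hlt
      have hMd : ringKrullDim (R ⧸ M) = ((a + 1 : ℕ) : WithBot ℕ∞) := ih a hlt z ha
      rw [hMd, ← Nat.cast_add, Nat.cast_le] at hle
      omega
  · rcases Nat.eq_zero_or_pos h with rfl | hpos
    · have hlt : x.asHomogeneousIdeal.toIdeal < m₀ :=
        lt_of_le_of_ne (le_constantCoeff x) fun he => hi (by
          show X i ∈ x.asHomogeneousIdeal.toIdeal
          rw [he]; exact X_mem_constantCoeff i)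
      have := dim_add_one_le hlt
      rw [dim_constantCoeff, zero_add, hd] at this
      exact_mod_cast this
    · obtain ⟨l, hlast, hlen⟩ := Order.exists_series_of_height_eq_coe
        (α := ↥(CohB1.ProjSpace n k)) x hx
      let z : Pt := l ⟨h - 1, by omega⟩
      have hlt : l ⟨h - 1, by omega⟩ < l.last :=
        l.strictMono (show (⟨h - 1, by omega⟩ : Fin (l.length + 1)) < Fin.last _ from
          Fin.mk_lt_mk.2 (by omega))
      rw [hlast] at hlt
      have hlt' := Groth.Variety2.Dim.lt_iff.1 hlt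
      have hzx : x ⤳ z := hlt'.1
      obtain ⟨a, ha⟩ := exists_ht_eq z
      have h1 : ((h - 1 : ℕ) : ℕ∞) ≤ ht z := Order.index_le_height l ⟨h - 1, by omega⟩
      have h2 := ht_lt hzx hlt'.2
      rw [ha, hx, Nat.cast_lt] at h2
      rw [ha, Nat.cast_le] at h1
      have hP : x.asHomogeneousIdeal.toIdeal < z.asHomogeneousIdeal.toIdeal := by
        refine lt_of_le_of_ne ((specializes_iff x z).1 hzx) fun he => ?_
        exact hlt'.2 (ProjectiveSpectrum.ext (HomogeneousIdeal.toIdeal_injective he)).symm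
      have h3 := dim_add_one_le hP
      rw [ih a h2 z ha, hd, show ((a + 1 : ℕ) : WithBot ℕ∞) + 1 = ((a + 1 + 1 : ℕ) : WithBot ℕ∞) by
        push_cast; rfl, Nat.cast_le] at h3
      omega

/-- **Projective intersection theorem** for two points. -/
theorem exists_inter_point (x y : Pt) (a b : ℕ) (hx : ht x = (a : ℕ∞)) (hy : ht y = (b : ℕ∞))
    (hab : n ≤ a + b) : ∃ z : Pt, x ⤳ z ∧ y ⤳ z ∧ ((a + b : ℕ) : ℕ∞) ≤ ht z + (n : ℕ∞) := by
  haveI := x.isPrime
  haveI := y.isPrime
  haveI : (RingHom.ker (MvPolynomial.constantCoeff : R →+* k)).IsPrime := RingHom.ker_isPrime _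
  obtain ⟨M, hM, hMm, hle⟩ := exists_minimalPrimes_inter (k := k) (σ := Fin (n + 1))
    x.asHomogeneousIdeal.toIdeal y.asHomogeneousIdeal.toIdeal m₀ (le_constantCoeff x) (le_constantCoeff y)
  rw [dim_cone a x hx, dim_cone b y hy, Fintype.card_fin] at hle
  have hhom : M.IsHomogeneous (CohB1.polyGrading n k) := isHomogeneous_of_minimal
    (Ideal.IsHomogeneous.sup x.asHomogeneousIdeal.isHomogeneous y.asHomogeneousIdeal.isHomogeneous) hM
  haveI : M.IsPrime := hM.1.1
  by_cases hall : ∀ j, (X j : R) ∈ M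
  · have hMeq : M = m₀ := le_antisymm hMm fun f hf => by
      rw [RingHom.mem_ker, constantCoeff_eq] at hf
      have hspan : f ∈ Ideal.span (X '' (Set.univ : Set (Fin (n + 1)))) := by
        rw [mem_ideal_span_X_image]
        intro e he
        by_contra hcon
        push Not at hcon
        have : e = 0 := Finsupp.ext fun j => hcon j trivial
        rw [mem_support_iff, this] at he
        exact he hf
      exact (Ideal.span_le.2 (by rintro _ ⟨j, -, rfl⟩; exact hall j) : _ ≤ M) hspan
    rw [hMeq, dim_constantCoeff, zero_add, ← Nat.cast_add, Nat.cast_le] at hle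
    omega
  · push Not at hall
    obtain ⟨j, hj⟩ := hall
    let z : Pt := mkPt M hhom hM.1.1 hj
    obtain ⟨c, hc⟩ := exists_ht_eq z
    refine ⟨z, (specializes_iff x z).2 fun f hf => hM.1.2 (Ideal.mem_sup_left hf),
      (specializes_iff y z).2 fun f hf => hM.1.2 (Ideal.mem_sup_right hf), ?_⟩
    have hMd : ringKrullDim (R ⧸ M) = ((c + 1 : ℕ) : WithBot ℕ∞) := dim_cone c z hc
    rw [hMd, ← Nat.cast_add, ← Nat.cast_add, Nat.cast_le] at hle
    rw [hc, ← Nat.cast_add, Nat.cast_le]
    omega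

end Groth.VarietyBC.ProjInter
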