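import Groth.Agent.VarietyBC.AffineUnion
import Groth.Agent.PropsBasic2.SchTop
import Mathlib.AlgebraicGeometry.Morphisms.QuasiSeparated

/-!
# Affine neighbourhoods of finitely many points through a morphism from an affine scheme
-/

set_option autoImplicit false
universe u

open CategoryTheory AlgebraicGeometry TopologicalSpace Opposite Groth.PropsBasic2

namespace Groth.VarietyBC.AffineNhd

variable {T X : Scheme.{u}} (f : T ⟶ X)

theorem exists_lift_gen {t : T} (ht : IsIso (f.stalkMap t)) {z : X} (hz : z ⤳ f t) :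
    ∃ τ, τ ⤳ t ∧ f τ = z := by
  haveI := ht
  obtain ⟨p, hp⟩ : z ∈ Set.range (X.fromSpecStalk (f t)) := by
    rw [Scheme.range_fromSpecStalk]; exact hz
  obtain ⟨q, hq⟩ := (Spec.map (f.stalkMap t)).homeomorph.surjective p
  refine ⟨T.fromSpecStalk t q, ?_, ?_⟩
  · have := Set.mem_range_self (f := T.fromSpecStalk t) q
    rwa [Scheme.range_fromSpecStalk] at this
  · rw [← Scheme.Hom.comp_apply, ← Scheme.SpecMap_stalkMap_fromSpecStalk, Scheme.Hom.comp_apply]
    exact hp ▸ congrArg (X.fromSpecStalk (f t)) hq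

theorem lift_unique {t : T} (ht : IsIso (f.stalkMap t)) {τ τ' : T} (h : τ ⤳ t) (h' : τ' ⤳ t)
    (he : f τ = f τ') : τ = τ' := by
  haveI := ht
  obtain ⟨q, rfl⟩ : τ ∈ Set.range (T.fromSpecStalk t) := by
    rw [Scheme.range_fromSpecStalk]; exact h
  obtain ⟨q', rfl⟩ : τ' ∈ Set.range (T.fromSpecStalk t) := by
    rw [Scheme.range_fromSpecStalk]; exact h'
  congr 1
  refine (Spec.map (f.stalkMap t)).homeomorph.injective ?_
  refine (X.fromSpecStalk (f t)).isEmbedding.injective ?_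
  show X.fromSpecStalk (f t) (Spec.map (f.stalkMap t) q) =
    X.fromSpecStalk (f t) (Spec.map (f.stalkMap t) q')
  rw [← Scheme.Hom.comp_apply, ← Scheme.Hom.comp_apply, Scheme.SpecMap_stalkMap_fromSpecStalk,
    Scheme.Hom.comp_apply, Scheme.Hom.comp_apply]
  exact he

theorem isField_stalk [IsReduced X] {η : X} (hη : ∀ z : X, z ⤳ η → z = η) :
    IsField (X.presheaf.stalk η) := by
  haveI : Ring.KrullDimLE 0 (X.presheaf.stalk η) := by
    rw [Ring.krullDimLE_iff, ringKrullDim_stalk_eq_coheight]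
    have : Order.coheight η = 0 := Order.coheight_eq_zero.2 fun z (hz : η ≤ z) => by
      rw [hη z hz]
    simp [this]
  exact Ring.KrullDimLE.isField_of_isReduced

/-- A quasi-compact open meeting a closed set has only specializations in the closure. -/
theorem exists_specializes_of_mem_closure [QuasiSeparatedSpace X] (V : X.Opens)
    (hV : IsCompact (V : Set X)) (E : Set X) (hE : IsClosed E) {x : X}
    (hx : x ∈ closure ((V : Set X) ∩ E)) : ∃ z ∈ (V : Set X) ∩ E, z ⤳ x := by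
  let i := (Scheme.IdealSheafData.vanishingIdeal ⟨E, hE⟩).subschemeι
  haveI : CompactSpace (i ⁻¹ᵁ V : Scheme.{u}) :=
    isCompact_iff_compactSpace.mp (i.isCompact_preimage hV)
  let g : (i ⁻¹ᵁ V : Scheme.{u}) ⟶ X := (i ⁻¹ᵁ V).ι ≫ i
  haveI : QuasiCompact g := by
    haveI : QuasiCompact (g ≫ Limits.terminal.from X) := by
      rw [Limits.terminal.comp_from, ← compactSpace_iff_quasiCompact]; infer_instance
    haveI : QuasiSeparated (Limits.terminal.from X) :=
      (quasiSeparatedSpace_iff_quasiSeparated X).1 ‹_›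
    exact QuasiCompact.of_comp g (Limits.terminal.from X)
  have hr : Set.range g = (V : Set X) ∩ E := by
    ext z
    constructor
    · rintro ⟨w, rfl⟩
      refine ⟨w.2, ?_⟩
      have := Set.mem_range_self (f := i) w.1
      rw [range_vanishingIdeal_subschemeι] at this
      exact this
    · rintro ⟨hzV, hzE⟩
      have : z ∈ ((⟨E, hE⟩ : Closeds X) : Set X) := hzE
      rw [← range_vanishingIdeal_subschemeι (⟨E, hE⟩ : Closeds X)] at this
      obtain ⟨v, rfl⟩ := this
      exact ⟨⟨v, hzV⟩, rfl⟩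
  rw [← hr] at hx
  obtain ⟨w, hw⟩ := exists_specializes_of_mem_closure_range g hx
  exact ⟨g w, hr ▸ Set.mem_range_self w, hw⟩

/-- An open subscheme with spanning functions having affine nonvanishing loci. -/
theorem isAffineOpen_of_span (W : X.Opens) {ι : Type*} (r : ι → Γ(X, W))
    (hspan : Ideal.span (Set.range r) = ⊤) (h : ∀ i, IsAffineOpen (X.basicOpen (r i))) :
    IsAffineOpen W := by
  refine isAffine_of_isAffineOpen_basicOpen
    ((W.topIso.inv) '' Set.range r) ?_ ?_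
  · rw [← Ideal.map_span, hspan, Ideal.map_top]
  · rintro _ ⟨_, ⟨i, rfl⟩, rfl⟩
    rw [← W.ι.isAffineOpen_iff_of_isOpenImmersion]
    have : W.ι ''ᵁ W.toScheme.basicOpen (W.topIso.inv (r i)) = X.basicOpen (r i) := by
      rw [Scheme.image_basicOpen]
      simp only [Scheme.Opens.topIso_inv, Scheme.Opens.ι_appIso, Iso.refl_inv, Iso.refl_hom]
      erw [CommRingCat.id_apply, Scheme.basicOpen_res_eq]
    rw [this]
    exact h i

variable [IsReduced T] [IsReduced X] [QuasiSeparatedSpace X] [IsAffine T]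
  (hX : (irreducibleComponents (X : Type u)).Finite)
  (hinj : ∀ η η' : T, (∀ z, z ⤳ η → z = η) → (∀ z, z ⤳ η' → z = η') → f η = f η' → η = η')

include hX in
/-- An affine neighbourhood meeting only the components through the point, with a lift. -/
theorem exists_section {t : T} (ht : IsIso (f.stalkMap t)) (a : Γ(T, ⊤)) :
    ∃ (N : X.Opens) (g : Γ(X, N)) (M : T.Opens) (hM : M ≤ f ⁻¹ᵁ N),
      IsAffineOpen N ∧ f t ∈ N ∧ t ∈ M ∧
      (∀ z, (∀ w, w ⤳ z → w = z) → z ∈ N → z ⤳ f t) ∧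
      f.appLE N M hM g = T.presheaf.map (homOfLE (le_top : M ≤ ⊤)).op a := by
  haveI := ht
  obtain ⟨γ, hγ⟩ := (ConcreteCategory.bijective_of_isIso (f.stalkMap t)).2
    (T.presheaf.germ ⊤ t trivial a)
  obtain ⟨N₀, hN₀, g₀, rfl⟩ := X.presheaf.exists_germ_eq γ
  haveI := (hX.subset (fun Z hZ => hZ.1 : {Z | Z ∈ irreducibleComponents (X : Type u) ∧ f t ∉ Z} ⊆
    irreducibleComponents (X : Type u))).to_subtype
  let bad : Set X := ⋃ Z : {Z | Z ∈ irreducibleComponents (X : Type u) ∧ f t ∉ Z}, Z.1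
  have hbad : IsClosed bad :=
    isClosed_iUnion_of_finite fun Z => isClosed_of_mem_irreducibleComponents Z.1 Z.2.1
  obtain ⟨N, hN, htN, hNle⟩ := exists_isAffineOpen_mem_and_subset
    (U := N₀ ⊓ ⟨badᶜ, hbad.isOpen_compl⟩)
    (show f t ∈ N₀ ⊓ ⟨badᶜ, hbad.isOpen_compl⟩ from
      ⟨hN₀, fun h => (Set.mem_iUnion.1 h).elim fun Z hm => Z.2.2 hm⟩)
  have hNN₀ : N ≤ N₀ := fun x hx => (hNle hx).1
  let g := X.presheaf.map (homOfLE hNN₀).op g₀
  have he : T.presheaf.germ (f ⁻¹ᵁ N) t htN (f.app N g) = T.presheaf.germ ⊤ t trivial a := by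
    rw [← hγ, ← Scheme.Hom.germ_stalkMap_apply]
    congr 1
    exact X.presheaf.germ_res_apply _ _ _ _
  obtain ⟨M, htM, i₁, i₂, heq⟩ := T.presheaf.germ_eq t htN (show t ∈ (⊤ : T.Opens) from trivial) _ _ he
  refine ⟨N, g, M, i₁.le, hN, htN, htM, ?_, ?_⟩
  · intro z hz hzN
    have hZ : closure {z} ∈ irreducibleComponents (X : Type u) :=
      (closure_mem_irreducibleComponents_iff z).2 hz
    by_contra hne
    exact (hNle hzN).2 (Set.mem_iUnion.2 ⟨⟨closure {z}, hZ,
      fun h => hne (specializes_iff_mem_closure.2 h)⟩, subset_closure rfl⟩)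
  · rw [Scheme.Hom.appLE, CommRingCat.comp_apply]
    exact heq

include hX hinj in
theorem exists_glue_sections (s : Finset T) (hs : ∀ t ∈ s, IsIso (f.stalkMap t)) (a : Γ(T, ⊤)) :
    ∃ (U : X.Opens) (h : Γ(X, U)) (M : T.Opens) (hM : M ≤ f ⁻¹ᵁ U),
      IsCompact (U : Set X) ∧ (∀ t ∈ s, t ∈ M) ∧
      f.appLE U M hM h = T.presheaf.map (homOfLE (le_top : M ≤ ⊤)).op a := by
  classical
  choose N g M hM hN htN htM hgen hg using fun t : s => exists_section f hX (hs t.1 t.2) a
  have hc : TopCat.Presheaf.IsCompatible X.presheaf N g := by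
    intro k l
    rw [← sub_eq_zero]
    refine eq_zero_of_basicOpen_eq_bot _ (Opens.ext (Set.eq_empty_iff_forall_notMem.2 fun y hy => ?_))
    obtain ⟨z, hz, hzy⟩ := exists_genericPoint_specializes y
    rw [closure_mem_irreducibleComponents_iff] at hz
    have hzD := hzy.mem_open (Scheme.basicOpen _ _).isOpen hy
    have hzN : z ∈ N k ⊓ N l := X.basicOpen_le _ hzD
    obtain ⟨τ, hτt, hτ⟩ := exists_lift_gen f (hs k.1 k.2) (hgen k z hz hzN.1)
    obtain ⟨τ', hτt', hτ'⟩ := exists_lift_gen f (hs l.1 l.2) (hgen l z hz hzN.2)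
    have hmax : ∀ {t : T}, IsIso (f.stalkMap t) → ∀ {σ : T}, σ ⤳ t → f σ = z →
        ∀ w, w ⤳ σ → w = σ := by
      intro t ht σ hσ hσz w hw
      refine lift_unique f ht (hw.trans hσ) hσ ?_
      rw [hσz]
      exact hz _ (hσz ▸ hw.map f.continuous)
    obtain rfl := hinj τ τ' (hmax (hs k.1 k.2) hτt hτ) (hmax (hs l.1 l.2) hτt' hτ')
      (hτ.trans hτ'.symm)
    subst hτ
    have hinj' : Function.Injective (f.stalkMap τ) := by
      letI := (isField_stalk hz).toField
      exact (f.stalkMap τ).hom.injective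
    have key : ∀ j : s, ∀ (hj : f τ ∈ N j), τ ∈ M j →
        f.stalkMap τ (X.presheaf.germ (N j) (f τ) hj (g j)) = T.presheaf.germ ⊤ τ trivial a := by
      intro j hj hτM
      rw [Scheme.Hom.germ_stalkMap_apply,
        ← T.presheaf.germ_res_apply (homOfLE (le_top : M j ≤ ⊤)) τ hτM a, ← hg j,
        Scheme.Hom.appLE, CommRingCat.comp_apply, T.presheaf.germ_res_apply]
    have heq : X.presheaf.germ (N k) (f τ) hzN.1 (g k) = X.presheaf.germ (N l) (f τ) hzN.2 (g l) :=
      hinj' ((key k hzN.1 (hτt.mem_open (M k).isOpen (htM k))).trans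
        (key l hzN.2 (hτt'.mem_open (M l).isOpen (htM l))).symm)
    have hu := (Scheme.mem_basicOpen _ _ _ hzN).1 hzD
    rw [map_sub] at hu
    erw [X.presheaf.germ_res_apply, X.presheaf.germ_res_apply] at hu
    rw [heq, sub_self] at hu
    exact not_isUnit_zero hu
  obtain ⟨h, hh, -⟩ : ∃! h : Γ(X, iSup N), ∀ t, X.presheaf.map (homOfLE (le_iSup N t)).op h = g t :=
    TopCat.Sheaf.existsUnique_gluing' X.sheaf N (iSup N) (fun t => homOfLE (le_iSup N t)) le_rfl g hc
  refine ⟨iSup N, h, iSup M, iSup_le fun t => (hM t).trans ?_, ?_, fun t ht => ?_, ?_⟩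
  · exact f.preimage_mono (le_iSup N t)
  · rw [Opens.coe_iSup]
    exact isCompact_iUnion fun t => (hN t).isCompact
  · exact Opens.mem_iSup.2 ⟨⟨t, ht⟩, htM _⟩
  · refine TopCat.Sheaf.eq_of_locally_eq' T.sheaf M (iSup M)
      (fun t => homOfLE (le_iSup M t)) le_rfl _ _ fun t => ?_
    show (f.appLE (iSup N) (iSup M) _ ≫ T.presheaf.map (homOfLE (le_iSup M t)).op) h =
      (T.presheaf.map (homOfLE (le_top : iSup M ≤ ⊤)).op ≫
        T.presheaf.map (homOfLE (le_iSup M t)).op) a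
    rw [Scheme.Hom.appLE_map, ← Functor.map_comp]
    refine Eq.trans ?_ (hg t)
    rw [← hh t]
    show _ = (X.presheaf.map _ ≫ f.appLE (N t) (M t) (hM t)) h
    rw [Scheme.Hom.map_appLE]

include hX hinj in
/-- **The reduced case.** -/
theorem exists_affineOpen (s : Finset T) (hs : ∀ t ∈ s, IsIso (f.stalkMap t)) :
    ∃ U : X.Opens, IsAffineOpen U ∧ ∀ t ∈ s, f t ∈ U := by
  classical
  have loc : ∀ i : s, ∃ P : X.Opens, IsAffineOpen P ∧ f i.1 ∈ P := fun i => by
    obtain ⟨P, hP, hiP, -⟩ := exists_isAffineOpen_mem_and_subset (U := ⊤)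
      (show f i.1 ∈ (⊤ : X.Opens) from trivial)
    exact ⟨P, hP, hiP⟩
  choose P hP hiP using loc
  have hA : ∀ i : s, ∃ a : Γ(T, ⊤), T.basicOpen a ≤ f ⁻¹ᵁ P i ∧ i.1 ∈ T.basicOpen a := fun i =>
    (isAffineOpen_top T).exists_basicOpen_le ⟨i.1, hiP i⟩ trivial
  choose a haP hia using hA
  choose U₀ h M hM hU₀ hsM hh using fun i : s => exists_glue_sections f hX hinj s hs (a i)
  have hpre : ∀ i : s, M i ⊓ f ⁻¹ᵁ X.basicOpen (h i) = M i ⊓ T.basicOpen (a i) := fun i => by
    rw [← Scheme.basicOpen_appLE f (M i) (U₀ i) (hM i), hh i, Scheme.basicOpen_res]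
  let bad : s → Set X := fun i => closure ((X.basicOpen (h i) : Set X) ∩ (P i : Set X)ᶜ)
  have hbad : ∀ i, ∀ t ∈ s, f t ∉ bad i := by
    intro i t ht hmem
    obtain ⟨z, ⟨hzV, hzP⟩, hz⟩ := exists_specializes_of_mem_closure (X.basicOpen (h i))
      (isCompact_basicOpen X (hU₀ i) (h i)) _ (P i).isOpen.isClosed_compl hmem
    obtain ⟨τ, hτt, rfl⟩ := exists_lift_gen f (hs t ht) hz
    have h1 : τ ∈ M i ⊓ f ⁻¹ᵁ X.basicOpen (h i) :=
      ⟨hτt.mem_open (M i).isOpen (hsM i t ht), hzV⟩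
    rw [hpre i] at h1
    exact hzP (haP i h1.2)
  let Ω : X.Opens := Finset.univ.inf U₀ ⊓ ⟨(⋃ i, bad i)ᶜ,
    (isClosed_iUnion_of_finite fun i => isClosed_closure).isOpen_compl⟩
  have hΩ : ∀ t : s, f t.1 ∈ Ω := by
    intro t
    refine ⟨?_, fun hm => ?_⟩
    · rw [Opens.coe_finset_inf, Finset.inf_set_eq_iInter, Set.mem_iInter₂]
      exact fun i _ => hM i (hsM i t.1 t.2)
    · obtain ⟨i, hi⟩ := Set.mem_iUnion.1 hm
      exact hbad i t.1 t.2 hi
  choose Q hQ htQ hQle using fun t : s => exists_isAffineOpen_mem_and_subset (hΩ t)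
  let U : X.Opens := iSup Q
  have hUc : IsCompact (U : Set X) := by
    rw [Opens.coe_iSup]
    exact isCompact_iUnion fun t => (hQ t).isCompact
  have hUq : IsQuasiSeparated (U : Set X) := IsQuasiSeparated.of_quasiSeparatedSpace _
  have htU : ∀ t : s, f t.1 ∈ U := fun t => Opens.mem_iSup.2 ⟨t, htQ t⟩
  have hUΩ : U ≤ Ω := iSup_le hQle
  have hUle : ∀ i, U ≤ U₀ i := fun i => hUΩ.trans (inf_le_left.trans (Finset.inf_le (Finset.mem_univ i)))
  have he : ∀ i : s, ∃ e : Γ(X, U), IsAffineOpen (X.basicOpen e) ∧ f i.1 ∈ X.basicOpen e := by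
    intro i
    let hU := X.presheaf.map (homOfLE (hUle i)).op (h i)
    have hD : X.basicOpen hU = U ⊓ X.basicOpen (h i) := Scheme.basicOpen_res ..
    have hDP : X.basicOpen hU ≤ P i := by
      intro y hy
      rw [hD] at hy
      by_contra hne
      exact (hUΩ hy.1).2 (Set.mem_iUnion.2 ⟨i, subset_closure ⟨hy.2, hne⟩⟩)
    have hiD : f i.1 ∈ X.basicOpen hU := by
      rw [hD]
      refine ⟨htU i, ?_⟩
      have h1 : i.1 ∈ M i ⊓ T.basicOpen (a i) := ⟨hsM i i.1 i.2, hia i⟩
      rw [← hpre i] at h1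
      exact h1.2
    obtain ⟨b, hb, hib⟩ := (hP i).exists_basicOpen_le ⟨f i.1, hiD⟩ (hiP i)
    obtain ⟨n, y, hy⟩ := exists_eq_pow_mul_of_isCompact_of_isQuasiSeparated X U hUc hUq hU
      (X.presheaf.map (homOfLE hDP).op b)
    refine ⟨y * hU, ?_⟩
    have heq : X.basicOpen (y * hU) = X.basicOpen b := by
      rw [Scheme.basicOpen_mul]
      have h1 := congrArg X.basicOpen hy
      dsimp only [TopCat.Presheaf.restrictOpenCommRingCat_apply] at h1
      rw [Scheme.basicOpen_mul] at h1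
      let r := (homOfLE (X.basicOpen_le hU : X.basicOpen hU ≤ U)).op
      have hyr : X.basicOpen (X.presheaf.map r y) = X.basicOpen hU ⊓ X.basicOpen y :=
        Scheme.basicOpen_res ..
      have hbr : X.basicOpen (X.presheaf.map (homOfLE hDP).op b) = X.basicOpen b :=
        (Scheme.basicOpen_res ..).trans (inf_eq_right.2 hb)
      have hp : X.basicOpen (X.presheaf.map r hU ^ n) = X.basicOpen hU := by
        rcases Nat.eq_zero_or_pos n with rfl | hn
        · rw [pow_zero, Scheme.basicOpen_of_isUnit _ isUnit_one]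
        · exact (Scheme.basicOpen_pow _ _ hn).trans ((Scheme.basicOpen_res ..).trans (inf_idem _))
      rw [inf_comm, ← hyr]
      exact h1.trans ((congrArg₂ (· ⊓ ·) hp hbr).trans (inf_eq_right.2 hb))
    rw [heq]
    exact ⟨(hP i).basicOpen b, hib⟩
  choose e he_aff he_mem using he
  let π : s → Ideal Γ(X, U) := fun t =>
    (IsLocalRing.maximalIdeal _).comap (X.presheaf.germ U (f t.1) (htU t)).hom
  obtain ⟨E, hE, hEp⟩ := AffineUnion.exists_add_notMem (Set.finite_range π)
    (by rintro _ ⟨t, rfl⟩; exact Ideal.IsPrime.comap _) 0 (Ideal.span (Set.range e)) (by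
      rintro _ ⟨t, rfl⟩ hle
      exact (hle (Ideal.subset_span ⟨t, rfl⟩)) ((Scheme.mem_basicOpen _ _ _ (htU t)).1 (he_mem t)))
  refine ⟨X.basicOpen E, ?_, fun t ht => ?_⟩
  · let res := X.presheaf.map (homOfLE (X.basicOpen_le E)).op
    refine isAffineOpen_of_span _ (fun i => res (e i)) ?_ fun i => ?_
    · have h1 : res E ∈ Ideal.span (Set.range fun i => res (e i)) := by
        rw [show (Set.range fun i => res (e i)) = res '' Set.range e from Set.range_comp res e,
          ← Ideal.map_span]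
        exact Ideal.mem_map_of_mem _ hE
      exact Ideal.eq_top_of_isUnit_mem _ h1 (RingedSpace.isUnit_res_basicOpen X.toRingedSpace E)
    · have : X.basicOpen (res (e i)) =
          X.basicOpen (X.presheaf.map (homOfLE (X.basicOpen_le (e i))).op E) := by
        rw [Scheme.basicOpen_res, Scheme.basicOpen_res, inf_comm]
      rw [this]
      exact (he_aff i).basicOpen _
  · have := hEp _ ⟨⟨t, ht⟩, rfl⟩
    rw [zero_add] at this
    exact (Scheme.mem_basicOpen _ _ _ (htU ⟨t, ht⟩)).2 (IsLocalRing.notMem_maximalIdeal.1 this)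

end Groth.VarietyBC.AffineNhd
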