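import Groth.Agent.GlueRings.TwoSemilocal

/-! An element of the Jacobson radical of the normalization has a power in that of the ring. -/

set_option autoImplicit false
universe u

namespace Groth.VarietyBC

variable {K : Type u} [Field K] (B : Subring K) [IsFractionRing B K] [IsNoetherianRing B]
  [Ring.KrullDimLE 1 B]

open Groth.GlueRings in
/-- Extracted from the proof of `Groth.GlueRings.exists_unit_jacobson`. -/
theorem exists_pow_mem_jacobson (x : B) (hx0 : x ≠ 0) (hx : ∀ M : Ideal B, M.IsMaximal → x ∈ M)
    (w : K) (hwI : w ∈ integralClosure B K)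
    (hwM : ∀ Q : Ideal (integralClosure B K), Q.IsMaximal → (⟨w, hwI⟩ : integralClosure B K) ∈ Q) :
    ∃ N : ℕ, ∃ h : w ^ (N + 1) ∈ B, ∀ M : Ideal B, M.IsMaximal → (⟨_, h⟩ : B) ∈ M := by
  have := isDedekindDomain_normalization B
  -- descend to `B`
  let C : Subalgebra B K := Algebra.adjoin B {w}
  have hCle : C ≤ integralClosure B K := Algebra.adjoin_le (Set.singleton_subset_iff.mpr hwI)
  obtain ⟨T, hT⟩ := IsIntegral.fg_adjoin_singleton (R := B) hwI
  obtain ⟨c, hc⟩ := IsLocalization.exist_integer_multiples_of_finset (nonZeroDivisors B) T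
  have hc0 : (c : B) ≠ 0 := nonZeroDivisors.ne_zero c.2
  have hcC : ∀ z ∈ C, ((c : B) : K) * z ∈ B := by
    intro z hz
    have hz' : z ∈ Submodule.span B (T : Set K) := by rw [hT]; exact hz
    clear hz
    induction hz' using Submodule.span_induction with
    | mem y hy =>
      obtain ⟨b, hb⟩ := hc y hy
      have hb' : (b : K) = ((c : B) : K) * y := hb
      exact hb' ▸ b.2
    | zero => simp
    | add p q _ _ hp hq => rw [mul_add]; exact add_mem hp hq
    | smul r y _ hy =>
      rw [show ((c : B) : K) * (r • y) = (r : K) * (((c : B) : K) * y) by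
        show _ * ((r : K) * y) = _; ring]
      exact mul_mem r.2 hy
  let wC : C := ⟨w, Algebra.self_mem_adjoin_singleton B w⟩
  let : Algebra C (integralClosure B K) := (Subalgebra.inclusion hCle).toRingHom.toAlgebra
  have : IsScalarTower B C (integralClosure B K) := IsScalarTower.of_algebraMap_eq fun _ => rfl
  have : Algebra.IsIntegral C (integralClosure B K) := Algebra.IsIntegral.tower_top B
  obtain ⟨N, hN⟩ : wC ∈ (Ideal.span {algebraMap B C c}).radical := by
    rw [Ideal.radical_eq_sInf, Submodule.mem_sInf]
    rintro (P : Ideal C) ⟨hP, hPp⟩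
    obtain ⟨Q, -, hQ, hQP⟩ := Ideal.exists_ideal_over_prime_of_isIntegral
      (S := integralClosure B K) P ⊥ (by
        intro z hz
        have : (z : K) = 0 := congrArg Subtype.val (show Subalgebra.inclusion hCle z = 0 from hz)
        rw [show z = 0 from Subtype.ext this]; exact P.zero_mem)
    have hcQ : algebraMap B (integralClosure B K) c ∈ Q := by
      have : algebraMap B C c ∈ Q.comap (algebraMap C (integralClosure B K)) :=
        hQP ▸ hP (Ideal.mem_span_singleton_self _)
      exact this
    have hQne : Q ≠ ⊥ := fun h => hc0 (by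
      rw [h, Submodule.mem_bot] at hcQ
      exact Subtype.ext (congrArg Subtype.val hcQ :))
    rw [← hQP]
    exact hwM Q (hQ.isMaximal hQne)
  obtain ⟨q, hq⟩ := Ideal.mem_span_singleton.mp hN
  have hwB : w ^ (N + 1) ∈ B := by
    have : w ^ (N + 1) = ((c : B) : K) * ((q : K) * w) := by
      rw [pow_succ, show w ^ N = ((c : B) : K) * q from congrArg Subtype.val hq]
      ring
    rw [this]
    exact hcC _ (mul_mem q.2 (Algebra.self_mem_adjoin_singleton B w))
  refine ⟨N, hwB, fun M hM => ?_⟩
  obtain ⟨Q, -, hQ, hQM⟩ := Ideal.exists_ideal_over_prime_of_isIntegral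
    (S := integralClosure B K) M ⊥ (by
      intro z hz
      have : (z : K) = 0 := congrArg Subtype.val (show algebraMap B (integralClosure B K) z = 0 from hz)
      rw [show z = 0 from Subtype.ext this]; exact M.zero_mem)
  have hQne : Q ≠ ⊥ := fun h => by
    refine hx0 ?_
    have h1 : x ∈ Q.comap (algebraMap B (integralClosure B K)) := hQM.symm ▸ hx M hM
    rw [Ideal.mem_comap, h, Submodule.mem_bot] at h1
    exact Subtype.ext (congrArg Subtype.val h1 :)
  rw [← hQM, Ideal.mem_comap]
  have : algebraMap B (integralClosure B K) ⟨_, hwB⟩ = ⟨w, hwI⟩ ^ (N + 1) := Subtype.ext rfl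
  rw [this]
  exact Q.pow_mem_of_mem (hwM Q (hQ.isMaximal hQne)) _ (Nat.succ_pos _)


/-- An element outside all valuation rings of the normalization: a power of its inverse is in the
Jacobson radical. -/
theorem exists_pow_inv_mem (hdim : ringKrullDim B = 1) [Finite (MaximalSpectrum B)] :
    ∃ (ι : Type u) (_ : Finite ι) (V : ι → ValuationSubring K), (∀ i, IsDiscreteValuationRing (V i)) ∧
      (∀ i, B ≤ (V i).toSubring) ∧
      ∀ w : K, (∀ i, w ∈ (V i).nonunits) →
        ∃ N : ℕ, ∃ h : w ^ (N + 1) ∈ B, ∀ M : Ideal B, M.IsMaximal → (⟨_, h⟩ : B) ∈ M := by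
  classical
  have hnfB : ¬ IsField B := fun h => by
    rw [ringKrullDim_eq_zero_of_isField h] at hdim; exact zero_ne_one hdim
  obtain ⟨x, hx, hx0⟩ := Groth.GlueRings.exists_mem_all_maximal B hnfB
  have := Groth.GlueRings.finite_maximalSpectrum_normalization B x hx0 hx
  have := Groth.GlueRings.isDedekindDomain_normalization B
  have hnf : ¬ IsField (integralClosure B K) := fun h =>
    hnfB (isField_of_isIntegral_of_isField (R := B) (S := integralClosure B K)
      (fun a b hab => Subtype.ext (show (a : K) = (b : K) from congrArg (fun z : integralClosure B K => (z : K)) hab)) h)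
  choose V hdvr hV using Groth.GlueRings.exists_valuationSubring B hnf
  have hBV : ∀ i, ∀ z : integralClosure B K, (z : K) ∈ V i := fun i z => by
    have := i.isMaximal.isPrime
    show (z : K) ∈ (V i).toSubring
    rw [hV i]
    exact Subalgebra.algebraMap_mem _ z
  refine ⟨MaximalSpectrum (integralClosure B K), inferInstance, V, hdvr,
    fun i b hb => hBV i ⟨b, isIntegral_algebraMap (x := (⟨b, hb⟩ : B))⟩, fun w hwV => ?_⟩
  have hwI : w ∈ integralClosure B K := by
    have h : w ∈ (⊥ : Subalgebra (integralClosure B K) K) := by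
      rw [← MaximalSpectrum.iInf_localization_eq_bot (integralClosure B K) K, Algebra.mem_iInf]
      intro i
      have := i.isMaximal.isPrime
      have h : w ∈ (V i).toSubring :=
        (ValuationSubring.mem_nonunits_iff_exists_mem_maximalIdeal.mp (hwV i)).1
      rw [hV i] at h
      exact h
    obtain ⟨z, hz⟩ := Algebra.mem_bot.mp h
    exact hz ▸ z.2
  have hwM : ∀ Q : Ideal (integralClosure B K), Q.IsMaximal → ⟨w, hwI⟩ ∈ Q := by
    intro Q hQ
    by_contra hnot
    let i : MaximalSpectrum (integralClosure B K) := ⟨Q, hQ⟩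
    have := i.isMaximal.isPrime
    obtain ⟨hm, hm'⟩ := ValuationSubring.mem_nonunits_iff_exists_mem_maximalIdeal.mp (hwV i)
    let S := Localization.subalgebra.ofField K i.asIdeal.primeCompl
      i.asIdeal.primeCompl_le_nonZeroDivisors
    have : IsLocalization.AtPrime S i.asIdeal :=
      Localization.subalgebra.isLocalization_ofField K i.asIdeal.primeCompl
        i.asIdeal.primeCompl_le_nonZeroDivisors
    obtain ⟨v, hv⟩ := isUnit_iff_exists_inv.mp
      (IsLocalization.map_units S (⟨⟨w, hwI⟩, hnot⟩ : i.asIdeal.primeCompl))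
    have hvV : (v : K) ∈ V i := by
      show (v : K) ∈ (V i).toSubring
      rw [hV i]; exact v.2
    exact (IsLocalRing.mem_maximalIdeal _).mp hm'
      (IsUnit.of_mul_eq_one (⟨_, hvV⟩ : V i) (Subtype.ext (congrArg Subtype.val hv :)))
  exact exists_pow_mem_jacobson B x hx0 hx w hwI hwM

end Groth.VarietyBC
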