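import Groth.Agent.EulerDeg.Tensor
import Groth.Agent.VarietyBC.NegTwist
import Groth.Agent.VarietyBC.CurveAffine
import Groth.Agent.Chow.VeryAmplePn

/-!
# Ampleness and degree on an integral proper curve
-/

set_option autoImplicit false
set_option linter.style.haveILetI false
set_option backward.isDefEq.respectTransparency.types false
universe u

open CategoryTheory CategoryTheory.Limits AlgebraicGeometry TopologicalSpace Opposite
open Groth.PicAux Groth.PropsBasic.Ample

namespace Groth.VarietyBC.CurveDeg

variable (k : Type u) [Field k] {X : Scheme.{u}} [X.Over (Spec (CommRingCat.of k))]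
  [IsProper (X ↘ Spec (CommRingCat.of k))]

theorem deg_tensorPow (hdim : topologicalKrullDim X ≤ 1) {L : X.Modules}
    (hL : PicF.IsInvertible L) : ∀ n : ℕ,
    Curv2.deg k X (CohB1.tensorPow L n) 1 = n * Curv2.deg k X L 1
  | 0 => by
    change Curv2.deg k X (Coh.structureModule X) 1 = _
    rw [Groth.EulerDeg.deg_structure, Nat.cast_zero, zero_mul]
  | n + 1 => by
    change Curv2.deg k X (CohB1.tensorMod (CohB1.tensorPow L n) L) 1 = _
    rw [Groth.EulerDeg.deg_tensor_invertible k hdim (isInvertible_tensorPow hL n) hL,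
      deg_tensorPow hdim hL n, Nat.cast_succ, add_mul, one_mul]

include k in
/-- An integral proper scheme of positive dimension is not affine. -/
theorem not_isAffineOpen_top [IsIntegral X] (hdim : topologicalKrullDim X = 1) :
    ¬ IsAffineOpen (⊤ : X.Opens) := by
  intro h
  have hcl : IsClosed ({genericPoint X} : Set X) :=
    NegTwist.isClosed_singleton_of_closure_le k h (genericPoint X) fun _ _ => trivial
  have : Subsingleton X := by
    refine ⟨fun a b => ?_⟩
    have ha : a ∈ ({genericPoint X} : Set X) :=
      hcl.closure_eq.le ((genericPoint_spec X).specializes (Set.mem_univ a)).mem_closure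
    have hb : b ∈ ({genericPoint X} : Set X) :=
      hcl.closure_eq.le ((genericPoint_spec X).specializes (Set.mem_univ b)).mem_closure
    exact (Set.mem_singleton_iff.1 ha).trans (Set.mem_singleton_iff.1 hb).symm
  have : DiscreteTopology X := Subsingleton.discreteTopology
  have h0 : topologicalKrullDim X ≤ 0 := topologicalKrullDim_zero_of_discreteTopology X
  rw [hdim] at h0
  exact not_le.2 zero_lt_one h0

omit [Field k] [X.Over (Spec (CommRingCat.of k))] [IsProper (X ↘ Spec (CommRingCat.of k))] in
/-- A nonzero section of an invertible module on an integral scheme generates at the generic point. -/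
theorem genericPoint_mem_gloc [IsIntegral X] {L : X.Modules} (hL : PicF.IsInvertible L)
    (t : Γ(L, ⊤)) (ht : t ≠ 0) : genericPoint X ∈ gloc t := by
  by_contra h
  obtain ⟨U, e, -, -, he, hcov⟩ := PropsBasic.Ample.exists_gen_cover hL
  refine ht (res_ext U (fun _ => le_top) hcov.ge fun i => ?_)
  obtain ⟨c, hc⟩ := (he i).exists_coeff le_rfl (res L le_top t)
  rw [res_self] at hc
  have hbot : X.basicOpen c = ⊥ := by
    refine Opens.ext (Set.eq_empty_iff_forall_notMem.2 fun x hx => h ?_)
    exact ((genericPoint_spec X).specializes (Set.mem_univ x)).mem_open (gloc t).isOpen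
      ((gloc_inf_eq_basicOpen (he i) hc).ge hx).1
  rw [hc, (basicOpen_eq_bot_iff c).1 hbot, zero_smul, res_zero]

/-- On an integral proper curve ample means positive degree. -/
theorem isAmple_iff_deg_pos [IsIntegral X] (hdim : topologicalKrullDim X = 1) {L : X.Modules}
    (hL : PicF.IsInvertible L) : CohB1.IsAmple L ↔ 0 < Curv2.deg k X L 1 := by
  constructor
  · intro h
    obtain ⟨x⟩ := (inferInstance : Nonempty X)
    obtain ⟨n, s, hxs, hs⟩ := h.2.2 x
    have hne : CohB1.genLocus _ s ≠ ⊤ := fun he => not_isAffineOpen_top k hdim (he ▸ hs)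
    obtain ⟨y, hy⟩ : ∃ y, y ∉ CohB1.genLocus _ s := by
      by_contra h
      push_neg at h
      exact hne (top_le_iff.1 fun y _ => h y)
    have hs0 : s ≠ 0 := by
      rintro rfl
      rw [genLocus_eq_gloc] at hxs
      obtain ⟨U, e, hxU, he⟩ := (isInvertible_iff_exists_gen _).1 (isInvertible_tensorPow hL (n + 1)) x
      have hc : res _ (le_top : U ≤ ⊤) (gsec (0 : Coh.structureModule X ⟶ CohB1.tensorPow L (n + 1))) =
          (0 : Γ(X, U)) • e := by
        rw [zero_smul, gsec, Scheme.Modules.Hom.zero_app]
        exact map_zero _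
      have hx0 : x ∈ X.basicOpen (0 : Γ(X, U)) := (gloc_inf_eq_basicOpen he hc).le ⟨hxs, hxU⟩
      rw [Scheme.basicOpen_zero] at hx0
      exact hx0
    have hpos : 0 < Curv2.deg k X (CohB1.tensorPow L (n + 1)) 1 := by
      by_contra hle
      have h2 := (Groth.EulerDeg.deg_le_and_isIso (Groth.EulerDeg.isInvertible_structureModule X)
        (isInvertible_tensorPow hL (n + 1)) hs0 k hdim.le).2
      rw [Groth.EulerDeg.deg_structure] at h2
      have : IsIso s := h2 (not_lt.mp hle)
      refine hy (Opens.mem_sSup.mpr ⟨⊤, ?_, trivial⟩)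
      show IsIso _
      infer_instance
    rw [deg_tensorPow k hdim.le hL] at hpos
    by_contra hle
    exact absurd hpos (not_lt.2 (mul_nonpos_of_nonneg_of_nonpos (Nat.cast_nonneg _) (not_lt.mp hle)))
  · intro hdeg
    let g := Curv2.genus k X
    let n := g + 1
    have hLn := isInvertible_tensorPow hL n
    have hh0 : 0 < Module.finrank k (Coh.HH X (CohB1.tensorPow L n) 0) := by
      have hrr := Groth.EulerDeg.riemannRoch k X hdim.le (CohB1.tensorPow L n)
      rw [deg_tensorPow k hdim.le hL] at hrr
      have : (n : ℤ) ≤ n * Curv2.deg k X L 1 :=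
        le_mul_of_one_le_right (Nat.cast_nonneg _) hdeg
      omega
    obtain ⟨e, -⟩ := NegTwist.exists_h0Equiv k (CohB1.tensorPow L n)
    have := Module.nontrivial_of_finrank_pos hh0
    obtain ⟨z, hz⟩ := exists_ne (0 : Coh.HH X (CohB1.tensorPow L n) 0)
    have ht : e z ≠ 0 := fun h => hz ((map_eq_zero_iff e e.injective).1 h)
    have hη := genericPoint_mem_gloc hLn (e z) ht
    refine Groth.Chow.isAmple_of_tensorPow hL g.succ_pos
      (CurveAffine.isAmple_of_section k hdim.le hLn (e z) hη fun htop => ?_)
    have hg : Gen (CohB1.tensorPow L n) ⊤ (e z) := by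
      have := gen_gloc (e z) (V := ⊤) htop.ge
      rwa [res_self] at this
    obtain ⟨i⟩ := nonempty_iso_structure_iff.2 ⟨_, hg⟩
    have h0 := Groth.EulerDeg.deg_congr k i 1
    rw [Groth.EulerDeg.deg_structure, deg_tensorPow k hdim.le hL] at h0
    exact absurd h0 (mul_pos (Nat.cast_pos.2 g.succ_pos) hdeg).ne'

end Groth.VarietyBC.CurveDeg
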