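import Groth.Agent.VarietyBC.NormDimOne
import Groth.Prelude.Def_Brnch
import Mathlib.FieldTheory.SeparableDegree
import Mathlib.Topology.Algebra.InfiniteSum.Basic
import Mathlib.Topology.Instances.ENat
import Mathlib.RingTheory.Localization.Integral

/-!
# Branches at a point of an integral scheme and points of the normalization
-/

set_option autoImplicit false
universe u

open CategoryTheory AlgebraicGeometry

namespace Groth.VarietyBC.BranchPoints

/-- `card (Σ a, β a) = ∑' a, card (β a)` in `ℕ∞`. -/
theorem card_sigma_eq_tsum {α : Type u} (β : α → Type u) :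
    ENat.card (Σ a, β a) = ∑' a, ENat.card (β a) := by
  classical
  have hsum : HasSum (fun a => ENat.card (β a)) (⨆ s : Finset α, ∑ a ∈ s, ENat.card (β a)) :=
    tendsto_atTop_iSup fun s t h => Finset.sum_le_sum_of_subset h
  rw [hsum.tsum_eq]
  have key : ∀ s : Finset α, ENat.card (Σ a : s, β a.1) = ∑ a ∈ s, ENat.card (β a) := by
    intro s
    induction s using Finset.induction with
    | empty =>
      haveI : IsEmpty (Σ a : (∅ : Finset α), β a.1) :=
        ⟨fun p => Finset.notMem_empty _ p.1.2⟩
      rw [(ENat.card_eq_zero_iff_empty _).2 this, Finset.sum_empty]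
    | insert a s ha ih =>
      rw [Finset.sum_insert ha, ← ih, ← ENat.card_sum]
      refine ENat.card_congr
        { toFun := fun p => if h : p.1.1 = a then Sum.inl (h ▸ p.2)
            else Sum.inr ⟨⟨p.1.1, (Finset.mem_insert.1 p.1.2).resolve_left h⟩, p.2⟩
          invFun := Sum.elim (fun b => ⟨⟨a, Finset.mem_insert_self a s⟩, b⟩)
            (fun p => ⟨⟨p.1.1, Finset.mem_insert_of_mem p.1.2⟩, p.2⟩)
          left_inv := ?_
          right_inv := ?_ }
      · rintro ⟨⟨b, hb⟩, c⟩
        dsimp only
        split_ifs with h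
        · subst h; rfl
        · rfl
      · rintro (b | ⟨⟨b, hb⟩, c⟩)
        · simp
        · dsimp only [Sum.elim_inr]
          rw [dif_neg (fun (h : b = a) => ha (h ▸ hb))]
  refine le_antisymm ?_ (iSup_le fun s => ?_)
  · by_contra hlt
    rw [not_le] at hlt
    obtain ⟨N, hN⟩ := ENat.ne_top_iff_exists.1 hlt.ne_top
    rw [← hN] at hlt
    have h1 : ((N + 1 : ℕ) : ℕ∞) ≤ (Set.univ : Set (Σ a, β a)).encard := by
      rw [Set.encard_univ, Nat.cast_add, Nat.cast_one]
      exact ENat.add_one_le_iff (ENat.natCast_ne_top N) |>.2 hlt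
    obtain ⟨F, -, hF⟩ := Set.exists_subset_encard_eq h1
    have hfin : F.Finite := Set.finite_of_encard_eq_coe hF
    have h2 : F.encard ≤ ENat.card (Σ a : hfin.toFinset.image Sigma.fst, β a.1) := by
      rw [← ENat.card_coe_set_eq]
      refine ENat.card_le_card_of_injective (f := fun p : F =>
        (⟨⟨p.1.1, Finset.mem_image_of_mem _ (hfin.mem_toFinset.2 p.2)⟩, p.1.2⟩ :
          Σ a : hfin.toFinset.image Sigma.fst, β a.1)) ?_
      intro p q h
      exact Subtype.ext (congrArg
        (fun z : Σ a : hfin.toFinset.image Sigma.fst, β a.1 => (⟨z.1.1, z.2⟩ : Σ a, β a)) h)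
    rw [key, hF] at h2
    have h3 := h2.trans (le_iSup (fun s : Finset α => ∑ a ∈ s, ENat.card (β a)) _)
    rw [← hN, Nat.cast_le] at h3
    omega
  · rw [← key]
    refine ENat.card_le_card_of_injective (f := fun p : Σ a : s, β a.1 => (⟨p.1.1, p.2⟩ : Σ a, β a)) ?_
    rintro ⟨⟨a, ha⟩, b⟩ ⟨⟨a', ha'⟩, b'⟩ h
    cases h
    rfl

section Ring

variable (A K : Type u) [CommRing A] [IsLocalRing A] [IsDomain A] [Field K] [Algebra A K]
  [IsFractionRing A K]

/-- The embeddings of a residue ring of the integral closure. -/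
def EmbC (M : MaximalSpectrum (integralClosure A K)) : Type u :=
  {σ : integralClosure A K ⧸ M.asIdeal →+* AlgebraicClosure (IsLocalRing.ResidueField A) //
    σ.comp ((Ideal.Quotient.mk M.asIdeal).comp (algebraMap A _)) = Brnch.toClosure A}

theorem exists_normRedEquiv : ∃ e : CAlg2.normRed A ≃+* integralClosure A K,
    ∀ a, e (algebraMap (CAlg2.red A) _ (Ideal.Quotient.mk _ a)) = algebraMap A _ a := by
  have h0 : nilradical A = ⊥ := nilradical_eq_zero A
  let r : CAlg2.red A ≃+* A := (Ideal.quotEquivOfEq h0).trans (RingEquiv.quotientBot A)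
  have hr : ∀ a, r (Ideal.Quotient.mk _ a) = a := fun a => by simp [r]
  haveI : IsDomain (CAlg2.red A) := r.toMulEquiv.isDomain_iff.2 inferInstance
  let E : FractionRing (CAlg2.red A) ≃+* K := IsFractionRing.ringEquivOfRingEquiv r
  have hE : ∀ a : CAlg2.red A, E (algebraMap _ _ a) = algebraMap A K (r a) :=
    IsFractionRing.ringEquivOfRingEquiv_algebraMap r
  have hc : (algebraMap A K).comp r.toRingHom = E.toRingHom.comp (algebraMap (CAlg2.red A) _) :=
    RingHom.ext fun a => (hE a).symm
  have hc' : (algebraMap (CAlg2.red A) (FractionRing (CAlg2.red A))).comp r.symm.toRingHom =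
      E.symm.toRingHom.comp (algebraMap A K) := RingHom.ext fun a => by
    refine (E.eq_symm_apply).2 ?_
    show E (algebraMap _ _ (r.symm a)) = _
    rw [hE, r.apply_symm_apply]
  refine ⟨{ toFun := fun c => ⟨E c.1, c.2.map_of_comp_eq r.toRingHom E.toRingHom hc⟩
            invFun := fun c => ⟨E.symm c.1, c.2.map_of_comp_eq r.symm.toRingHom E.symm.toRingHom hc'⟩
            left_inv := fun c => Subtype.ext (E.symm_apply_apply _)
            right_inv := fun c => Subtype.ext (E.apply_symm_apply _)
            map_mul' := fun a b => Subtype.ext (map_mul E _ _)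
            map_add' := fun a b => Subtype.ext (map_add E _ _) }, fun a => Subtype.ext ?_⟩
  exact (hE _).trans (by rw [hr]; rfl)

theorem branches_eq : Brnch.numBranches A = ENat.card (MaximalSpectrum (integralClosure A K)) ∧
    Brnch.numGeomBranches A = ENat.card (Σ M, EmbC A K M) := by
  have hfin : (minimalPrimes A).Finite := by
    rw [IsDomain.minimalPrimes_eq_singleton_bot]; exact Set.finite_singleton ⊥
  obtain ⟨e, he⟩ := exists_normRedEquiv A K
  let Φ : MaximalSpectrum (CAlg2.normRed A) ≃ MaximalSpectrum (integralClosure A K) :=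
    { toFun := fun m => ⟨m.asIdeal.map e.toRingHom, Ideal.map_isMaximal_of_equiv e⟩
      invFun := fun m => ⟨m.asIdeal.map e.symm.toRingHom, Ideal.map_isMaximal_of_equiv e.symm⟩
      left_inv := fun m => MaximalSpectrum.ext (by simp [Ideal.map_map])
      right_inv := fun m => MaximalSpectrum.ext (by simp [Ideal.map_map]) }
  refine ⟨?_, ?_⟩
  · rw [Brnch.numBranches, if_pos hfin]
    exact ENat.card_congr Φ
  · rw [Brnch.numGeomBranches, if_pos hfin]
    refine ENat.card_congr (Equiv.sigmaCongr Φ fun m => ?_)
    let q : CAlg2.normRed A ⧸ m.asIdeal ≃+* integralClosure A K ⧸ (Φ m).asIdeal :=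
      Ideal.quotientEquiv _ _ e rfl
    have hq : q.toRingHom.comp (Brnch.toResidue A m) =
        (Ideal.Quotient.mk (Φ m).asIdeal).comp (algebraMap A _) :=
      RingHom.ext fun a => by
        show q (Ideal.Quotient.mk _ _) = _
        show Ideal.Quotient.mk _ (e (algebraMap (CAlg2.red A) _ (Ideal.Quotient.mk (nilradical A) a))) = _
        rw [he]
        rfl
    exact
      { toFun := fun σ => ⟨σ.1.comp q.symm.toRingHom, RingHom.ext fun a => by
          have := congr($(σ.2) a)
          rw [← this]
          show σ.1 (q.symm _) = σ.1 _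
          congr 1
          exact q.symm_apply_eq.2 congr($hq a).symm⟩
        invFun := fun σ => ⟨σ.1.comp q.toRingHom, by rw [RingHom.comp_assoc, hq]; exact σ.2⟩
        left_inv := fun σ => Subtype.ext (RingHom.ext fun z => congrArg σ.1 (q.symm_apply_apply z))
        right_inv := fun σ => Subtype.ext (RingHom.ext fun z => congrArg σ.1 (q.apply_symm_apply z)) }

end Ring

variable (X : Scheme.{u}) [IsIntegral X] [QuasiCompact (X.fromSpecStalk (genericPoint X))]
  [QuasiSeparated (X.fromSpecStalk (genericPoint X))]

open Curv2 in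
/-- The points of the normalization over `x` and the maximal ideals of the integral closure of the
local ring, with residue fields. -/
theorem exists_fibre_equiv (x : X) :
    ∃ Φ : {x' : ↥(normalization X) // (normalizationι X).base x' = x} ≃
        MaximalSpectrum (integralClosure (X.presheaf.stalk x) X.functionField),
      ∀ x', Nonempty (EmbC (X.presheaf.stalk x) X.functionField (Φ x') ≃
        (letI := ((normalizationι X).residueFieldMap x'.1).hom.toAlgebra
         Field.Emb (X.residueField ((normalizationι X).base x'.1))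
           ((normalization X).residueField x'.1))) := by
  haveI hint : IsIntegralHom (normalizationι X) :=
    inferInstanceAs (IsIntegralHom (X.fromSpecStalk (genericPoint X)).fromNormalization)
  obtain ⟨_, ⟨U, hU, rfl⟩, hxU, -⟩ := X.isBasis_affineOpens.exists_subset_of_mem_open
    (Set.mem_univ x) isOpen_univ
  haveI : Nonempty (Scheme.Opens.toScheme (X := X) U) := ⟨⟨x, hxU⟩⟩
  haveI : Nonempty U := ⟨⟨x, hxU⟩⟩
  obtain ⟨e, he⟩ := exists_algEquiv_normalization X U hU
  let A := X.presheaf.stalk x
  let K := X.functionField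
  let C := integralClosure A K
  let p := hU.primeIdealOf ⟨x, hxU⟩
  letI : Algebra Γ(X, U) A := TopCat.Presheaf.algebra_section_stalk X.presheaf (⟨x, hxU⟩ : U)
  haveI : IsLocalization.AtPrime A p.asIdeal := hU.isLocalization_stalk ⟨x, hxU⟩
  haveI : IsScalarTower Γ(X, U) A K := functionField_isScalarTower X U ⟨x, hxU⟩
  let S := p.asIdeal.primeCompl
  haveI : IsLocalization (Algebra.algebraMapSubmonoid K S) K := by
    refine IsLocalization.self fun z hz => ?_
    obtain ⟨s, hs, rfl⟩ := hz
    rw [IsScalarTower.algebraMap_apply Γ(X, U) A K]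
    exact (IsLocalization.map_units A (⟨s, hs⟩ : S)).map (algebraMap A K)
  let incl : integralClosure Γ(X, U) K →+* C :=
    { toFun := fun c => ⟨c.1, c.2.tower_top⟩
      map_one' := rfl
      map_mul' := fun _ _ => rfl
      map_zero' := rfl
      map_add' := fun _ _ => rfl }
  letI : Algebra (integralClosure Γ(X, U) K) C := incl.toAlgebra
  haveI : IsScalarTower (integralClosure Γ(X, U) K) C K := IsScalarTower.of_algebraMap_eq fun _ => rfl
  haveI : IsScalarTower Γ(X, U) (integralClosure Γ(X, U) K) C :=
    IsScalarTower.of_algebraMap_eq fun c => Subtype.ext rfl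
  have hloc : IsLocalization (Algebra.algebraMapSubmonoid (integralClosure Γ(X, U) K) S) C :=
    IsLocalization.integralClosure (R := Γ(X, U)) (S := K) (Rf := A) (Sf := K) S
  let D := Γ(normalization X, normalizationι X ⁻¹ᵁ U)
  let νU : Γ(X, U) →+* D := ((normalizationι X).app U).hom
  letI algDC : Algebra D C := (incl.comp e.toRingHom).toAlgebra
  haveI hlocD : IsLocalization (S.map νU) C := by
    have h := IsLocalization.isLocalization_of_base_ringEquiv
      (Algebra.algebraMapSubmonoid (integralClosure Γ(X, U) K) S) C e.symm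
    have hset : S.map νU = (Algebra.algebraMapSubmonoid (integralClosure Γ(X, U) K) S).map
        (e.symm : integralClosure Γ(X, U) K →* D) := by
      rw [Algebra.algebraMapSubmonoid]
      ext d
      simp only [Submonoid.mem_map]
      constructor
      · rintro ⟨s, hs, rfl⟩
        exact ⟨_, ⟨s, hs, rfl⟩, e.symm_apply_eq.2 (he s).symm⟩
      · rintro ⟨_, ⟨s, hs, rfl⟩, rfl⟩
        exact ⟨s, hs, e.eq_symm_apply.2 (he s)⟩
    rw [hset]
    exact h
  have hAC : ∀ b : Γ(X, U), algebraMap D C (νU b) = algebraMap A C (algebraMap Γ(X, U) A b) :=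
    fun b => by
      show incl (e ((normalizationι X).app U b)) = _
      rw [he]
      refine Subtype.ext ?_
      show algebraMap Γ(X, U) K b = algebraMap A K (algebraMap Γ(X, U) A b)
      exact IsScalarTower.algebraMap_apply Γ(X, U) A K b
  have hV : IsAffineOpen (normalizationι X ⁻¹ᵁ U) := hU.preimage _
  have hmem : ∀ x' : {x' : ↥(normalization X) // (normalizationι X).base x' = x},
      x'.1 ∈ normalizationι X ⁻¹ᵁ U := fun x' => by
    show (normalizationι X).base x'.1 ∈ U
    rw [x'.2]; exact hxU
  have hunit : ∀ (x' : {x' : ↥(normalization X) // (normalizationι X).base x' = x})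
      (s : S.map νU), IsUnit (((normalization X).evaluation _ x'.1 (hmem x')).hom (s : D)) := by
    rintro ⟨x', hx'⟩ ⟨_, s, hs, rfl⟩
    rw [isUnit_iff_ne_zero]
    intro h0
    erw [← Scheme.evaluation_naturality_apply (normalizationι X) x' (hmem ⟨x', hx'⟩) s] at h0
    rw [map_eq_zero] at h0
    refine hs ?_
    subst hx'
    replace h0 := (Scheme.evaluation_eq_zero_iff_notMem_basicOpen (X := X) (U := U) _ hxU s).1 h0
    rw [show (normalizationι X).base x' = hU.fromSpec (hU.primeIdealOf ⟨_, hxU⟩) from
      (hU.fromSpec_primeIdealOf ⟨_, hxU⟩).symm] at h0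
    by_contra hsp
    refine h0 ?_
    have : hU.primeIdealOf ⟨_, hxU⟩ ∈ hU.fromSpec ⁻¹ᵁ X.basicOpen s := by
      rw [hU.fromSpec_preimage_basicOpen]; exact hsp
    exact this
  let ψ : ∀ x' : {x' : ↥(normalization X) // (normalizationι X).base x' = x},
      C →+* (normalization X).residueField x'.1 :=
    fun x' => IsLocalization.lift (M := S.map νU) (hunit x')
  have hψ : ∀ x' (d : D), ψ x' (algebraMap D C d) =
      ((normalization X).evaluation _ x'.1 (hmem x')).hom d :=
    fun x' d => IsLocalization.lift_eq _ d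
  -- the composite from the local ring
  have hψA : ∀ (y : ↥(normalization X)) (hy : (normalizationι X).base y = x) (a : A),
      ψ ⟨y, hy⟩ (algebraMap A C a) =
        (normalizationι X).residueFieldMap y (X.residue _ (X.presheaf.stalkSpecializes
          (specializes_of_eq hy) a)) := by
    intro y hy
    subst hy
    have h : ((ψ ⟨y, rfl⟩).comp (algebraMap A C)) =
        ((normalizationι X).residueFieldMap y).hom.comp
          ((X.residue ((normalizationι X).base y)).hom.comp
            (X.presheaf.stalkSpecializes (specializes_of_eq rfl)).hom) := by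
      refine IsLocalization.ringHom_ext S (RingHom.ext fun b => ?_)
      simp only [RingHom.comp_apply]
      rw [← hAC, hψ]
      erw [← Scheme.evaluation_naturality_apply (normalizationι X) y hxU b]
      rw [TopCat.Presheaf.stalkSpecializes_refl]
      rfl
    exact fun a => congr($h a)
  have hmax : ∀ x', (RingHom.ker (ψ x')).IsMaximal := by
    rintro ⟨y, hy⟩
    haveI : (RingHom.ker (ψ ⟨y, hy⟩)).IsPrime := RingHom.ker_isPrime _
    refine Ideal.isMaximal_of_isIntegral_of_isMaximal_comap (R := A) _ ?_
    have : (RingHom.ker (ψ ⟨y, hy⟩)).comap (algebraMap A C) = IsLocalRing.maximalIdeal A := by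
      ext a
      rw [Ideal.mem_comap, RingHom.mem_ker, hψA y hy, map_eq_zero]
      subst hy
      rw [TopCat.Presheaf.stalkSpecializes_refl]
      exact IsLocalRing.residue_eq_zero_iff _
    rw [this]; infer_instance
  let Φ₀ : {x' : ↥(normalization X) // (normalizationι X).base x' = x} → MaximalSpectrum C :=
    fun x' => ⟨RingHom.ker (ψ x'), hmax x'⟩
  have hcomap : ∀ x', (RingHom.ker (ψ x')).comap (algebraMap D C) =
      (hV.primeIdealOf ⟨x'.1, hmem x'⟩).asIdeal := by
    intro x'
    ext d
    have hne : d ∉ (hV.primeIdealOf ⟨x'.1, hmem x'⟩).asIdeal ↔ x'.1 ∈ (normalization X).basicOpen d := by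
      rw [← PrimeSpectrum.mem_basicOpen, ← hV.fromSpec_preimage_basicOpen d]
      erw [Scheme.Hom.mem_preimage, hV.fromSpec_primeIdealOf]
    rw [Ideal.mem_comap, RingHom.mem_ker, hψ, Scheme.evaluation_eq_zero_iff_notMem_basicOpen, ← hne,
      not_not]
  have hbij : Function.Bijective Φ₀ := by
    constructor
    · intro a b hab
      have h := congrArg (fun M : MaximalSpectrum C => M.asIdeal.comap (algebraMap D C)) hab
      simp only [Φ₀, hcomap] at h
      have h' := congrArg hV.fromSpec (PrimeSpectrum.ext h : hV.primeIdealOf ⟨a.1, hmem a⟩ = _)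
      rw [hV.fromSpec_primeIdealOf, hV.fromSpec_primeIdealOf] at h'
      exact Subtype.ext h'
    · intro M
      haveI := M.isMaximal
      let q : PrimeSpectrum D := ⟨M.asIdeal.comap (algebraMap D C), inferInstance⟩
      let y : ↥(normalization X) := hV.fromSpec q
      have hyV : y ∈ normalizationι X ⁻¹ᵁ U := hV.range_fromSpec.subset ⟨q, rfl⟩
      haveI := hV.isOpenImmersion_fromSpec
      have hprime : hV.primeIdealOf ⟨y, hyV⟩ = q :=
        hV.fromSpec.isOpenEmbedding.injective (hV.fromSpec_primeIdealOf ⟨y, hyV⟩)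
      have hy : (normalizationι X).base y = x := by
        have h1 := IsAffineOpen.comap_primeIdealOf_appLE U hU (normalizationι X ⁻¹ᵁ U) hV le_rfl hyV
        rw [← Scheme.Hom.app_eq_appLE, hprime] at h1
        have h2 : PrimeSpectrum.comap νU q = p := by
          refine PrimeSpectrum.ext ?_
          show (M.asIdeal.comap (algebraMap D C)).comap νU = p.asIdeal
          haveI : (M.asIdeal.comap (algebraMap A C)).IsMaximal :=
            Ideal.isMaximal_comap_of_isIntegral_of_isMaximal M.asIdeal
          rw [Ideal.comap_comap, show (algebraMap D C).comp νU =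
            (algebraMap A C).comp (algebraMap Γ(X, U) A) from RingHom.ext hAC, ← Ideal.comap_comap,
            IsLocalRing.eq_maximalIdeal ‹(M.asIdeal.comap (algebraMap A C)).IsMaximal›]
          exact IsLocalization.AtPrime.comap_maximalIdeal A p.asIdeal
        have h3 : hU.primeIdealOf ⟨(normalizationι X).base y, hyV⟩ = p := h1.symm.trans h2
        have h4 := congrArg hU.fromSpec h3
        rwa [hU.fromSpec_primeIdealOf, show hU.fromSpec p = x from hU.fromSpec_primeIdealOf ⟨x, hxU⟩] at h4
      refine ⟨⟨y, hy⟩, MaximalSpectrum.ext ?_⟩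
      show RingHom.ker (ψ ⟨y, hy⟩) = M.asIdeal
      have h5 := IsLocalization.map_comap (S.map νU) C (RingHom.ker (ψ ⟨y, hy⟩))
      have h6 := IsLocalization.map_comap (S.map νU) C M.asIdeal
      change Ideal.map (algebraMap D C) ((RingHom.ker (ψ ⟨y, hy⟩)).comap (algebraMap D C)) = _ at h5
      change Ideal.map (algebraMap D C) (M.asIdeal.comap (algebraMap D C)) = _ at h6
      rw [← h5, ← h6, hcomap]
      exact congrArg _ (congrArg PrimeSpectrum.asIdeal hprime)
  refine ⟨Equiv.ofBijective Φ₀ hbij, ?_⟩
  rintro ⟨y, hy⟩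
  have hsurj : Function.Surjective (ψ ⟨y, hy⟩) := by
    haveI := hmax ⟨y, hy⟩
    letI := Ideal.Quotient.field (RingHom.ker (ψ ⟨y, hy⟩))
    let ψ' := RingHom.kerLift (ψ ⟨y, hy⟩)
    intro z
    obtain ⟨t, rfl⟩ := IsLocalRing.residue_surjective z
    letI := TopCat.Presheaf.algebra_section_stalk (normalization X).presheaf
      (⟨y, hmem ⟨y, hy⟩⟩ : (normalizationι X ⁻¹ᵁ U : (normalization X).Opens))
    haveI := hV.isLocalization_stalk ⟨y, hmem ⟨y, hy⟩⟩
    obtain ⟨a, s, rfl⟩ := IsLocalization.exists_mk'_eq
      (hV.primeIdealOf ⟨y, hmem ⟨y, hy⟩⟩).asIdeal.primeCompl t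
    obtain ⟨w, hw⟩ := Ideal.Quotient.mk_surjective
      ((Ideal.Quotient.mk _ (algebraMap D C a) : C ⧸ RingHom.ker (ψ ⟨y, hy⟩)) /
        Ideal.Quotient.mk _ (algebraMap D C (s : D)))
    refine ⟨w, ?_⟩
    have h := congrArg ψ' hw
    rw [map_div₀] at h
    change ψ ⟨y, hy⟩ w = ψ ⟨y, hy⟩ (algebraMap D C a) / ψ ⟨y, hy⟩ (algebraMap D C s) at h
    rw [h, hψ, hψ]
    have hs0 : ((normalization X).evaluation _ y (hmem ⟨y, hy⟩)).hom (s : D) ≠ 0 := by
      intro h0
      apply s.2
      refine (hcomap ⟨y, hy⟩).le ?_
      rw [Ideal.mem_comap, RingHom.mem_ker, hψ]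
      exact h0
    refine (div_eq_iff hs0).2 ?_
    show (normalization X).residue y ((normalization X).presheaf.germ _ y (hmem ⟨y, hy⟩) a) =
      (normalization X).residue y _ *
        (normalization X).residue y ((normalization X).presheaf.germ _ y (hmem ⟨y, hy⟩) (s : D))
    rw [← map_mul]
    congr 1
    exact (IsLocalization.mk'_spec ((normalization X).presheaf.stalk y) a s).symm
  subst hy
  letI := ((normalizationι X).residueFieldMap y).hom.toAlgebra
  let E : (C ⧸ RingHom.ker (ψ ⟨y, rfl⟩)) ≃+* (normalization X).residueField y :=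
    RingHom.quotientKerEquivOfSurjective hsurj
  have hE : ∀ a, E (Ideal.Quotient.mk _ (algebraMap A C a)) =
      algebraMap (X.residueField ((normalizationι X).base y)) _ (X.residue _ a) := fun a => by
    show ψ ⟨y, rfl⟩ (algebraMap A C a) = _
    rw [hψA y rfl, TopCat.Presheaf.stalkSpecializes_refl]
    rfl
  haveI : Algebra.IsAlgebraic (X.residueField ((normalizationι X).base y))
      ((normalization X).residueField y) := by
    refine @Algebra.IsIntegral.isAlgebraic _ _ _ _ _ _ ⟨fun z => ?_⟩
    obtain ⟨c, rfl⟩ := hsurj z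
    have hc : IsIntegral A c := isIntegral_algHom_iff (integralClosure A K).val Subtype.val_injective |>.1 c.2
    exact hc.map_of_comp_eq (X.residue _).hom (ψ ⟨y, rfl⟩) (RingHom.ext fun a => by
      show algebraMap _ _ (X.residue _ a) = ψ ⟨y, rfl⟩ (algebraMap A C a)
      rw [← hE]; rfl)
  refine ⟨Equiv.trans ?_ (Field.embEquivOfIsAlgClosed (X.residueField ((normalizationι X).base y))
    ((normalization X).residueField y)
    (AlgebraicClosure (X.residueField ((normalizationι X).base y)))).symm⟩
  exact
    { toFun := fun σ =>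
        { toRingHom := σ.1.comp E.symm.toRingHom
          commutes' := fun c => by
            obtain ⟨a, rfl⟩ := IsLocalRing.residue_surjective c
            show σ.1 (E.symm _) = _
            rw [show (algebraMap (X.residueField ((normalizationι X).base y))
              ((normalization X).residueField y)) ((IsLocalRing.residue A) a) =
                E (Ideal.Quotient.mk _ (algebraMap A C a)) from (hE a).symm, E.symm_apply_apply]
            exact congr($(σ.2) a) }
      invFun := fun τ => ⟨τ.toRingHom.comp E.toRingHom, RingHom.ext fun a => by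
        show τ (E (Ideal.Quotient.mk _ (algebraMap A C a))) = _
        rw [hE, τ.commutes]
        rfl⟩
      left_inv := fun σ => Subtype.ext (RingHom.ext fun z => congrArg σ.1 (E.symm_apply_apply z))
      right_inv := fun τ => AlgHom.ext fun z => congrArg τ (E.apply_symm_apply z) }

end Groth.VarietyBC.BranchPoints
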