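/-
Galois action on components of `X_K`, and components over a component of `X`.
-/
import Groth.Agent.VarietyBC.Components
import Mathlib.AlgebraicGeometry.Noetherian

open CategoryTheory CategoryTheory.Limits AlgebraicGeometry TensorProduct Topology Set

universe u

set_option backward.isDefEq.respectTransparency false

namespace Groth.VarietyBC

attribute [local instance] Curv2.resAlgebra

variable {k : Type u} [Field k] {X : Scheme.{u}} [X.Over (Spec (CommRingCat.of k))]
  {K : Type u} [Field K] [Algebra k K]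

theorem bcFst_image_galAct (σ : K ≃ₐ[k] K) (Z : Set (Curv2.bc k X K)) :
    (Curv2.bcFst k X K) '' ((Curv2.galAct k X K σ) '' Z) = (Curv2.bcFst k X K) '' Z := by
  rw [← image_comp]
  exact image_congr fun y _ => galAct_fst_apply σ y

theorem galAct_image_connectedComponent (σ : K ≃ₐ[k] K) (y : Curv2.bc k X K) :
    (Curv2.galAct k X K σ) '' connectedComponent y = connectedComponent (Curv2.galAct k X K σ y) := by
  have := (galHomeo (X := X) σ).image_connectedComponentIn (s := univ) (x := y) (mem_univ y)
  rw [image_univ, (galHomeo (X := X) σ).surjective.range_eq, connectedComponentIn_univ,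
    connectedComponentIn_univ] at this
  exact this

theorem galAct_mem_irreducibleComponents (σ : K ≃ₐ[k] K) {Z : Set (Curv2.bc k X K)}
    (hZ : Z ∈ irreducibleComponents (Curv2.bc k X K)) :
    (Curv2.galAct k X K σ) '' Z ∈ irreducibleComponents (Curv2.bc k X K) :=
  image_mem_irreducibleComponents_of_isPreirreducible_fiber _ (galHomeo σ).continuous
    (galHomeo σ).isOpenMap (fun _ => ((subsingleton_singleton.preimage (galHomeo σ).injective)).isPreirreducible)
    (galHomeo σ).surjective hZ

/-- Translates of connected components cover everything over the component below. -/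
theorem exists_galAct_mem_connectedComponent [IsGalois k K] (t z : Curv2.bc k X K)
    (h : Curv2.bcFst k X K z ∈ connectedComponent (Curv2.bcFst k X K t)) :
    ∃ σ : K ≃ₐ[k] K, z ∈ (Curv2.galAct k X K σ) '' connectedComponent t := by
  rw [← image_connectedComponent_of_algebraic] at h
  obtain ⟨c, hc, he⟩ := h
  obtain ⟨σ, rfl⟩ := exists_galAct_eq c z he
  exact ⟨σ, c, hc, rfl⟩

theorem isClosed_bcFst_image [Algebra.IsAlgebraic k K] {Z : Set (Curv2.bc k X K)} (hZ : IsClosed Z) :
    IsClosed ((Curv2.bcFst k X K) '' Z) := isClosedMap_bcFst Z hZ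

/-- A Galois stable closed subset is the preimage of its image. -/
theorem preimage_image_of_galAct [Normal k K] {Z : Set (Curv2.bc k X K)}
    (hinv : ∀ σ : K ≃ₐ[k] K, (Curv2.galAct k X K σ) '' Z = Z) :
    (Curv2.bcFst k X K) ⁻¹' ((Curv2.bcFst k X K) '' Z) = Z := by
  refine Subset.antisymm ?_ (subset_preimage_image _ _)
  rintro z ⟨c, hc, he⟩
  obtain ⟨σ, rfl⟩ := exists_galAct_eq c z he
  exact (hinv σ).le ⟨c, hc, rfl⟩

theorem isGenericPoint_bcFst [Algebra.IsAlgebraic k K] {Z : Set (Curv2.bc k X K)} {η : Curv2.bc k X K}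
    (hη : IsGenericPoint η Z) : IsGenericPoint (Curv2.bcFst k X K η) ((Curv2.bcFst k X K) '' Z) := by
  have := hη.image (Curv2.bcFst k X K).continuous
  rwa [(isClosed_bcFst_image hη.isClosed).closure_eq] at this

/-- Above a component of `X` lies a component of `X_K`, dominating it; the generic point of a component
of `X_K` lies over that of a component of `X`. -/
theorem bcFst_image_mem_irreducibleComponents [Algebra.IsAlgebraic k K] {Z : Set (Curv2.bc k X K)}
    (hZ : Z ∈ irreducibleComponents (Curv2.bc k X K)) :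
    (Curv2.bcFst k X K) '' Z ∈ irreducibleComponents X := by
  refine ⟨hZ.1.image _ (Curv2.bcFst k X K).continuous.continuousOn, fun T hT hle => ?_⟩
  obtain ⟨η, hη⟩ := QuasiSober.sober hZ.1 (isClosed_of_mem_irreducibleComponents Z hZ)
  obtain ⟨ξ, hξ⟩ := QuasiSober.sober hT.closure isClosed_closure
  have hsp : ξ ⤳ Curv2.bcFst k X K η :=
    hξ.specializes (subset_closure (hle ⟨η, hη.mem, rfl⟩))
  obtain ⟨η', h1, h2⟩ := Flat.generalizingMap (Curv2.bcFst k X K) hsp
  have hcl : closure {η'} ⊆ Z := hZ.2 isIrreducible_singleton.closure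
    (hη.def ▸ h1.closure_subset)
  exact subset_closure.trans (hξ.def.ge.trans (closure_minimal
    (singleton_subset_iff.2 (h2 ▸ ⟨η', hcl (subset_closure rfl), rfl⟩))
    (isClosed_bcFst_image (isClosed_of_mem_irreducibleComponents Z hZ))))

theorem closure_mem_irreducibleComponents_of_fibre [Algebra.IsAlgebraic k K] {T : Set X} {ξ : X}
    (hT : T ∈ irreducibleComponents X) (hξ : IsGenericPoint ξ T) (z : Curv2.bc k X K)
    (hz : Curv2.bcFst k X K z = ξ) :
    closure {z} ∈ irreducibleComponents (Curv2.bc k X K) := by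
  refine ⟨isIrreducible_singleton.closure, fun C hC hle => ?_⟩
  obtain ⟨c, hc⟩ := QuasiSober.sober hC.closure isClosed_closure
  have hcz : c ⤳ z := hc.specializes (subset_closure (hle (subset_closure rfl)))
  have hcξ : Curv2.bcFst k X K c = ξ := by
    have h1 := hcz.map (Curv2.bcFst k X K).continuous
    rw [hz] at h1
    have h2 : closure {Curv2.bcFst k X K c} ⊆ T :=
      hT.2 isIrreducible_singleton.closure (hξ.def ▸ h1.closure_subset)
    exact ((hξ.specializes (h2 (subset_closure rfl))).antisymm h1).eq.symm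
  have := isIntegralHom_bcFst (k := k) (X := X) (K := K)
  -- no specializations inside a fibre of an integral morphism
  have hzc : z ⤳ c := by
    have hF : ∀ a ∈ (Curv2.bcFst k X K) ⁻¹' {ξ}, ∀ b ∈ (Curv2.bcFst k X K) ⁻¹' {ξ}, a ⤳ b → b ⤳ a := by
      rw [← range_fibreMap]
      rintro _ ⟨P, rfl⟩ _ ⟨Q, rfl⟩ h
      refine Specializes.map ?_ (fibreMap K ξ).continuous
      have hPQ : P.asIdeal ≤ Q.asIdeal :=
        (PrimeSpectrum.le_iff_specializes P Q).2 ((isEmbedding_fibreMap K ξ).isInducing.specializes_iff.1 h)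
      have : Algebra.IsIntegral (X.residueField ξ) (X.residueField ξ ⊗[k] K) := inferInstance
      have hmax : P.asIdeal.IsMaximal :=
        Ideal.isMaximal_of_isIntegral_of_isMaximal_comap P.asIdeal
          ((Ideal.eq_bot_of_prime (P.asIdeal.comap (algebraMap (X.residueField ξ) _))).symm ▸ Ideal.bot_isMaximal)
      have : P = Q := PrimeSpectrum.ext (hmax.eq_of_le Q.isPrime.ne_top hPQ)
      rw [this]
    exact hF c hcξ z hz hcz
  exact subset_closure.trans (hc.def.ge.trans hzc.closure_subset)

theorem preimage_eq_sUnion [Algebra.IsAlgebraic k K] {T : Set X} (hT : T ∈ irreducibleComponents X) :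
    (Curv2.bcFst k X K) ⁻¹' T = ⋃₀ {Z | Z ∈ irreducibleComponents (Curv2.bc k X K) ∧
      (Curv2.bcFst k X K) '' Z ⊆ T} := by
  obtain ⟨ξ, hξ⟩ := QuasiSober.sober hT.1 (isClosed_of_mem_irreducibleComponents T hT)
  refine Subset.antisymm (fun y hy => ?_) (sUnion_subset fun Z hZ => image_subset_iff.1 hZ.2)
  obtain ⟨z, hz, hzξ⟩ := Flat.generalizingMap (Curv2.bcFst k X K) (hξ.specializes hy)
  exact ⟨closure {z}, ⟨closure_mem_irreducibleComponents_of_fibre hT hξ z hzξ,
    image_subset_iff.2 (closure_minimal (singleton_subset_iff.2 (mem_preimage.2 (hzξ ▸ hξ.mem)))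
      ((isClosed_of_mem_irreducibleComponents T hT).preimage (Curv2.bcFst k X K).continuous))⟩,
    specializes_iff_mem_closure.1 hz⟩

theorem exists_galAct_image_eq [Normal k K] {Z Z' : Set (Curv2.bc k X K)}
    (hZ : Z ∈ irreducibleComponents (Curv2.bc k X K)) (hZ' : Z' ∈ irreducibleComponents (Curv2.bc k X K))
    (h : (Curv2.bcFst k X K) '' Z = (Curv2.bcFst k X K) '' Z') :
    ∃ σ : K ≃ₐ[k] K, (Curv2.galAct k X K σ) '' Z = Z' := by
  obtain ⟨η, hη⟩ := QuasiSober.sober hZ.1 (isClosed_of_mem_irreducibleComponents Z hZ)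
  obtain ⟨η', hη'⟩ := QuasiSober.sober hZ'.1 (isClosed_of_mem_irreducibleComponents Z' hZ')
  obtain ⟨σ, hσ⟩ := exists_galAct_eq η η'
    ((isGenericPoint_bcFst hη).eq (h ▸ isGenericPoint_bcFst hη'))
  refine ⟨σ, ?_⟩
  rw [← hη'.def, ← hσ, ← hη.def]
  exact ((galHomeo σ).image_closure _).trans (by rw [image_singleton]; rfl)

/-- A component of `X_S` stable under Galois is the geometrically irreducible preimage of a component. -/
theorem isIrreducible_preimage_of_stable {S : Type u} [Field S] [Algebra k S] [IsGalois k S]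
    [IsSepClosed S] {Z : Set (Curv2.bc k X S)} (hZ : Z ∈ irreducibleComponents (Curv2.bc k X S))
    (hinv : ∀ σ : S ≃ₐ[k] S, (Curv2.galAct k X S σ) '' Z = Z) (L : Type u) [Field L] [Algebra k L] :
    IsIrreducible ((Curv2.bcFst k X L) ⁻¹' ((Curv2.bcFst k X S) '' Z)) := by
  obtain ⟨η, hη⟩ := QuasiSober.sober hZ.1 (isClosed_of_mem_irreducibleComponents Z hZ)
  have hξ := isGenericPoint_bcFst hη
  set ξ := Curv2.bcFst k X S η
  have hfib : (Curv2.bcFst k X S) ⁻¹' {ξ} = {η} := by
    refine Subset.antisymm (fun z hz => ?_) (singleton_subset_iff.2 rfl)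
    obtain ⟨σ, rfl⟩ := exists_galAct_eq η z hz.symm
    have : IsGenericPoint (Curv2.galAct k X S σ η) Z := by
      have h := hη.image (galHomeo (X := X) σ).continuous
      rw [show (galHomeo (X := X) σ) '' Z = Z from hinv σ, (isClosed_of_mem_irreducibleComponents Z hZ).closure_eq] at h
      exact h
    exact this.eq hη
  have hsc : SepClosedAt k X ξ :=
    sepClosedIn_of_nilradical_isPrime S (fun E => nonempty_algHom_of_isSepClosed S E)
      ((isIrreducible_preimage_iff S ξ).1 (hfib ▸ isIrreducible_singleton))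
  rw [← hξ.def, (isOpenMap_bcFst L).preimage_closure_eq_closure_preimage (Curv2.bcFst k X L).continuous]
  exact (isIrreducible_preimage_of_sepClosedAt L hsc).closure

end Groth.VarietyBC
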