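/-
Irreducible components of `X_K` over those of `X`, for an arbitrary field extension.
-/
import Groth.Agent.VarietyBC.Galois
import Mathlib.RingTheory.AlgebraicIndependent.Adjoin
import Mathlib.RingTheory.AlgebraicIndependent.TranscendenceBasis
import Mathlib.RingTheory.Polynomial.UniqueFactorization

open CategoryTheory CategoryTheory.Limits AlgebraicGeometry TensorProduct Topology Set

universe u v

set_option backward.isDefEq.respectTransparency false

namespace Groth.VarietyBC

/-- A polynomial algebraic over the base field is constant. -/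
theorem mvPolynomial_mem_range_of_isIntegral {k : Type u} [Field k] {σ : Type v}
    (p : MvPolynomial σ k) (hp : IsIntegral k p) :
    p ∈ Set.range (algebraMap k (MvPolynomial σ k)) := by
  classical
  let Ω := AlgebraicClosure k
  let f : MvPolynomial σ k →+* MvPolynomial σ Ω := MvPolynomial.map (algebraMap k Ω)
  have hint : IsIntegral Ω (f p) := by
    obtain ⟨q, hq, hq0⟩ := hp
    refine ⟨q.map (algebraMap k Ω), hq.map _, ?_⟩
    have hc : (algebraMap Ω (MvPolynomial σ Ω)).comp (algebraMap k Ω) =
        f.comp (algebraMap k (MvPolynomial σ k)) := RingHom.ext fun c => by simp [f, MvPolynomial.algebraMap_eq]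
    rw [Polynomial.eval₂_map, hc, ← Polynomial.hom_eval₂, hq0, map_zero]
  obtain ⟨r, hr⟩ : f p ∈ Set.range (algebraMap Ω (MvPolynomial σ Ω)) :=
    minpoly.natDegree_eq_one_iff.1 (Polynomial.natDegree_eq_of_degree_eq_some
      (IsAlgClosed.degree_eq_one_of_irreducible Ω (minpoly.irreducible hint)))
  refine ⟨p.coeff 0, MvPolynomial.ext _ _ fun m => ?_⟩
  rw [MvPolynomial.algebraMap_eq, MvPolynomial.coeff_C]
  split_ifs with h
  · rw [h]
  · refine ((algebraMap k Ω).injective ?_).symm
    rw [← MvPolynomial.coeff_map, map_zero]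
    change (f p).coeff m = 0
    rw [← hr, MvPolynomial.algebraMap_eq, MvPolynomial.coeff_C, if_neg h]

/-- A base field is algebraically closed in a purely transcendental extension. -/
theorem mem_range_of_isIntegral_adjoin {k K : Type u} [Field k] [Field K] [Algebra k K] {ι : Type v}
    {x : ι → K} (hx : AlgebraicIndependent k x) (a : IntermediateField.adjoin k (Set.range x))
    (ha : IsIntegral k a) : a ∈ Set.range (algebraMap k (IntermediateField.adjoin k (Set.range x))) := by
  set b := hx.aevalEquivField.symm a with hb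
  have hbi : IsIntegral k b := ha.map hx.aevalEquivField.symm.toAlgHom
  obtain ⟨p, hp⟩ := IsIntegrallyClosed.isIntegral_iff.1
    (hbi.tower_top (A := MvPolynomial ι k))
  have hpi : IsIntegral k p := (isIntegral_algHom_iff
    (IsScalarTower.toAlgHom k (MvPolynomial ι k) (FractionRing (MvPolynomial ι k)))
    (FaithfulSMul.algebraMap_injective _ _)).1 (hp ▸ hbi)
  obtain ⟨c, hc⟩ := mvPolynomial_mem_range_of_isIntegral p hpi
  refine ⟨c, ?_⟩
  rw [← hx.aevalEquivField.apply_symm_apply a, ← hb, ← hp, ← hc,
    ← IsScalarTower.algebraMap_apply, AlgEquiv.commutes]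

attribute [local instance] Curv2.resAlgebra

variable {k : Type u} [Field k] {X : Scheme.{u}} [X.Over (Spec (CommRingCat.of k))]

/-- Fibres of `X_F → X` are irreducible when `k` is separably closed in `F`. -/
theorem isIrreducible_fibre_of_sepClosedIn (F : Type u) [Field F] [Algebra k F]
    (hF : ∀ a : F, IsSeparable k a → a ∈ Set.range (algebraMap k F)) (x : X) :
    IsIrreducible ((Curv2.bcFst k X F) ⁻¹' ({x} : Set X)) :=
  (isIrreducible_preimage_iff F x).2 (nilradical_isPrime_of_injective
    (Algebra.TensorProduct.comm k (X.residueField x) F).toRingHom (AlgEquiv.injective _)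
    (nilradical_isPrime_tensor_of_sepClosedIn hF (X.residueField x)))

/-- **The image of a component of `X_K` is a component of `X`.** -/
theorem image_mem_irreducibleComponents_bcFst (K : Type u) [Field K] [Algebra k K]
    {Z : Set (Curv2.bc k X K)} (hZ : Z ∈ irreducibleComponents (Curv2.bc k X K)) :
    (Curv2.bcFst k X K) '' Z ∈ irreducibleComponents X := by
  obtain ⟨s, hs⟩ := exists_isTranscendenceBasis k K
  let F := IntermediateField.adjoin k (Set.range ((↑) : s → K))
  have : Algebra.IsAlgebraic F K := hs.isAlgebraic_field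
  let : (Curv2.bc k X F).Over (Spec (CommRingCat.of F)) := ⟨Curv2.bcSnd k X F⟩
  let e := towerIso (k := k) (X := X) (K := F) (L := K)
  let h : Curv2.bc F (Curv2.bc k X F) K ≃ₜ Curv2.bc k X K := e.hom.homeomorph
  have hZ' : h ⁻¹' Z ∈ irreducibleComponents (Curv2.bc F (Curv2.bc k X F) K) :=
    preimage_mem_irreducibleComponents hZ h.isOpenEmbedding (by
      rw [h.surjective.range_eq, inter_univ]; exact hZ.1.nonempty)
  have h1 := bcFst_image_mem_irreducibleComponents (k := F) (X := Curv2.bc k X F) hZ'
  have h2 := image_mem_irreducibleComponents_of_isPreirreducible_fiber _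
    (Curv2.bcFst k X F).continuous (isOpenMap_bcFst F)
    (fun x => (isIrreducible_fibre_of_sepClosedIn F
      (fun a ha => mem_range_of_isIntegral_adjoin hs.1 a ha.isIntegral) x).2)
    (surjective_bcFst F) h1
  have he : (Curv2.bcFst k X F) '' ((Curv2.bcFst F (Curv2.bc k X F) K) '' (h ⁻¹' Z)) =
      (Curv2.bcFst k X K) '' Z := by
    rw [← image_comp]
    conv_rhs => rw [← Set.image_preimage_eq Z h.surjective, ← image_comp]
    refine image_congr fun w _ => ?_
    exact congr($(towerIso_hom_fst (k := k) (X := X) (K := F) (L := K)) w).symm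
  rwa [he] at h2

theorem exists_component_over_of_isGenericPoint (K : Type u) [Field K] [Algebra k K] {T : Set X}
    (hT : T ∈ irreducibleComponents X) {y : Curv2.bc k X K} (hy : Curv2.bcFst k X K y ∈ T) :
    ∃ Z ∈ irreducibleComponents (Curv2.bc k X K), y ∈ Z ∧ (Curv2.bcFst k X K) '' Z = T := by
  obtain ⟨ξ, hξ⟩ := QuasiSober.sober hT.1 (isClosed_of_mem_irreducibleComponents T hT)
  obtain ⟨z, hz, hzξ⟩ := Flat.generalizingMap (Curv2.bcFst k X K) (hξ.specializes hy)
  have hmem := irreducibleComponent_mem_irreducibleComponents z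
  refine ⟨irreducibleComponent z, hmem,
    hz.mem_closed (isClosed_of_mem_irreducibleComponents _ hmem) mem_irreducibleComponent, ?_⟩
  have himg := image_mem_irreducibleComponents_bcFst K hmem
  have hle : T ⊆ (Curv2.bcFst k X K) '' irreducibleComponent z := by
    rw [← hξ.def]
    exact closure_minimal (singleton_subset_iff.2 ⟨z, mem_irreducibleComponent, hzξ⟩)
      (isClosed_of_mem_irreducibleComponents _ himg)
  exact (hT.2 himg.1 hle).antisymm hle

end Groth.VarietyBC
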