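import Groth.Agent.VarietyBC.InterPoly
import Groth.Agent.Inter.Length
import Groth.Agent.Inter.Push
import Groth.Agent.Inter.Cartier
import Groth.Agent.RefRank.Stalk
import Groth.Agent.PicAux.PullTensor
import Groth.Agent.DivisorLength.Main
import Groth.Agent.HilbStab.Poly
import Groth.Agent.QCohMod.Coherent
import Groth.Prelude.Def_FGA

/-!
# Euler characteristics of twists through the components of the support
-/

set_option autoImplicit false
set_option linter.style.haveILetI false
universe u

open CategoryTheory CategoryTheory.Limits AlgebraicGeometry TopologicalSpace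

namespace Groth.VarietyBC.InterComp

open Groth.Inter

variable {X : Scheme.{u}}

theorem tensorPows_push {Z : Scheme.{u}} (i : Z ⟶ X) [IsClosedImmersion i] :
    ∀ (r : ℕ) (L : Fin r → X.Modules), (∀ j, PicF.IsInvertible (L j)) → ∀ n : Fin r → ℕ,
    Nonempty (Curv2.tensorPows ((Coh.push i).obj (Coh.structureModule Z)) r L n ≅
      (Coh.push i).obj (Curv2.tensorPows (Coh.structureModule Z) r
        (fun j => (Scheme.Modules.pullback i).obj (L j)) n))
  | 0, L, _, n => ⟨Iso.refl _⟩
  | r + 1, L, hL, n => by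
    obtain ⟨e⟩ := tensorPows_push i r (fun j => L j.castSucc) (fun j => hL _) (fun j => n j.castSucc)
    let T := Curv2.tensorPows (Coh.structureModule Z) r
      (fun j => (Scheme.Modules.pullback i).obj (L j.castSucc)) (fun j => n j.castSucc)
    obtain ⟨p⟩ := tensor_push i (PicAux.isInvertible_tensorPow (hL (Fin.last r)) (n (Fin.last r))) T
    obtain ⟨q⟩ := PicAux.pullback_tensorPow i (L (Fin.last r)) (n (Fin.last r))
    exact ⟨PicGrp.tensorModIso e (Iso.refl _) ≪≫ (tensor_comm _ _).some ≪≫ p ≪≫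
      (Coh.push i).mapIso (PicGrp.tensorModIso q (Iso.refl T) ≪≫ (tensor_comm _ _).some)⟩

/-- A weakly associated point of the structure module avoids effective Cartier divisors. -/
theorem notMem_support_of_weakAss {D : X.IdealSheafData} (hD : BlowUp.IsEffCartierIdeal D) {x : X}
    (hx : x ∈ D.support) : ¬ Curv2.IsWeakAssPoint (Coh.structureModule X) x := by
  intro h
  obtain ⟨W, hxW, -, g, hg, hI⟩ := Groth.Divisors.exists_generator hD x ⊤ trivial
  have hnu := (Groth.Divisors.mem_support_iff_not_isUnit hI hxW).1 hx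
  obtain ⟨z, h1, h2⟩ := Groth.Divisors.isWeakAssPoint_iff.1 h
  obtain ⟨n, hn⟩ := h2 _ hnu
  obtain ⟨a, rfl⟩ := (Groth.RefRank.oneEquiv x).surjective z
  rw [← map_smul, LinearEquiv.map_eq_zero_iff, smul_eq_mul] at hn
  have hnzd : X.presheaf.germ W.1 x hxW g ∈ nonZeroDivisors (X.presheaf.stalk x) := hg x hxW
  have ha : a = 0 := (mul_left_mem_nonZeroDivisors_eq_zero_iff (pow_mem hnzd n)).1 hn
  exact h1 1 (by rw [ha, map_zero, smul_zero]) isUnit_one

/-- A point whose closure has maximal dimension in the support. -/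
theorem exists_topPoints [IsNoetherian X] {F : X.Modules} (hF : Coh.IsCoh F) (d : ℕ)
    (hdim : topologicalKrullDim (CohB1.support F) ≤ d) :
    ∃ s : Finset X, ∀ ξ : X, ξ ∈ s ↔ ξ ∈ CohB1.support F ∧
      topologicalKrullDim (closure ({ξ} : Set X)) = (d : ℕ) := by
  have hcl := CohTwo.isClosed_support F hF
  have hle : ∀ x, x ∈ CohB1.support F → topologicalKrullDim (closure ({x} : Set X)) ≤ (d : ℕ) :=
    fun x hx => (LocCohTransform.topologicalKrullDim_mono
      (closure_minimal (Set.singleton_subset_iff.2 hx) hcl)).trans hdim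
  have hT : {x | x ∈ CohB1.support F ∧
      topologicalKrullDim (closure ({x} : Set X)) = (d : ℕ)}.Finite :=
    (DivisorLength.finite_maximal_points hcl).subset fun x hx =>
      ⟨hx.1, fun w hw hwx => (eq_of_dim_closure hwx.mem_closure (hle w hw) hx.2.ge).symm⟩
  exact ⟨hT.toFinset, fun x => hT.mem_toFinset⟩

/-- The finsum over points with `d`-dimensional closure reduces to the top points of the support. -/
theorem finsum_eq_sum {F : X.Modules} {d : ℕ} (s : Finset X)
    (hs : ∀ ξ : X, ξ ∈ s ↔ ξ ∈ CohB1.support F ∧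
      topologicalKrullDim (closure ({ξ} : Set X)) = (d : ℕ)) (g : X → ℚ) :
    (∑ᶠ ξ : X, if topologicalKrullDim (closure ({ξ} : Set X)) = (d : WithBot ℕ∞) then
        ((Module.length (X.presheaf.stalk ξ) (F.presheaf.stalk ξ)).toNat : ℚ) * g ξ else 0) =
      ∑ ξ ∈ s, ((Module.length (X.presheaf.stalk ξ) (F.presheaf.stalk ξ)).toNat : ℚ) * g ξ := by
  rw [finsum_eq_sum_of_support_subset (s := s)]
  · exact Finset.sum_congr rfl fun ξ hξ => if_pos ((hs ξ).1 hξ).2
  · intro ξ hξ
    simp only [Function.mem_support, ne_eq, ite_eq_right_iff, not_forall] at hξ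
    obtain ⟨hd, hne⟩ := hξ
    refine Finset.mem_coe.2 ((hs ξ).2 ⟨fun hsub => hne ?_, hd⟩)
    have := hsub
    rw [Module.length_eq_zero, ENat.toNat_zero, Nat.cast_zero, zero_mul]

variable (k : Type u) [Field k] [X.Over (Spec (CommRingCat.of k))]
  [IsProper (X ↘ Spec (CommRingCat.of k))]

omit [IsProper (X ↘ Spec (CommRingCat.of k))] in
/-- Euler characteristics of twists of the structure sheaf of a closed subscheme. -/
theorem euler_tensorPows_quotMod (I : X.IdealSheafData) {r : ℕ} (L : Fin r → X.Modules)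
    (hL : ∀ j, PicF.IsInvertible (L j)) (n : Fin r → ℕ) :
    letI : I.subscheme.Over (Spec (CommRingCat.of k)) :=
      ⟨I.subschemeι ≫ (X ↘ Spec (CommRingCat.of k))⟩
    Curv2.euler k X (Curv2.tensorPows (ClSub.quotMod I) r L n) =
      Curv2.euler k I.subscheme (Curv2.tensorPows (Coh.structureModule I.subscheme) r
        (fun j => (Scheme.Modules.pullback I.subschemeι).obj (L j)) n) := by
  letI : I.subscheme.Over (Spec (CommRingCat.of k)) :=
    ⟨I.subschemeι ≫ (X ↘ Spec (CommRingCat.of k))⟩
  exact (Groth.EulerDeg.euler_congr k (tensorPows_push I.subschemeι r L hL n).some).trans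
    (euler_push k _ rfl _)

/-- Intersection coefficients decompose along the top components of the support. -/
theorem coeff_eq_sum_length {d : ℕ} (L : Fin d → X.Modules) (hL : ∀ i, PicF.IsInvertible (L i))
    {F : X.Modules} (hF : Coh.IsCoh F) (hdim : topologicalKrullDim (CohB1.support F) ≤ d)
    (P : MvPolynomial (Fin d) ℚ)
    (hP : ∀ n : Fin d → ℕ, (Curv2.euler k X (Curv2.tensorPows F d L n) : ℚ) =
      MvPolynomial.eval (fun i => (n i : ℚ)) P)
    (Q : X → MvPolynomial (Fin d) ℚ)
    (hQ : ∀ ξ : X, topologicalKrullDim (closure ({ξ} : Set X)) = (d : WithBot ℕ∞) →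
      ∀ n : Fin d → ℕ, (Curv2.euler k X (Curv2.tensorPows (Cyc.closureStructureSheaf ξ) d L n) : ℚ) =
        MvPolynomial.eval (fun i => (n i : ℚ)) (Q ξ)) :
    MvPolynomial.coeff (Finsupp.equivFunOnFinite.symm fun _ : Fin d => 1) P =
      ∑ᶠ ξ : X, (if topologicalKrullDim (closure ({ξ} : Set X)) = (d : WithBot ℕ∞) then
        ((Module.length (X.presheaf.stalk ξ) (F.presheaf.stalk ξ)).toNat : ℚ) *
          MvPolynomial.coeff (Finsupp.equivFunOnFinite.symm fun _ : Fin d => 1) (Q ξ) else 0) := by
  have hN : IsNoetherian X := isNoetherian k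
  obtain ⟨s, hs⟩ := exists_topPoints hF d hdim
  have hl : ∀ M ∈ List.ofFn L, PicF.IsInvertible M := fun M hM => by
    obtain ⟨i, rfl⟩ := List.mem_ofFn.1 hM
    exact hL i
  rw [finsum_eq_sum s hs, InterPoly.coeff_eq_delta k L hL hF hdim P hP,
    delta_eq_sum_length k hl hF (by rwa [List.length_ofFn]) s (by simpa using hs),
    Finset.mul_sum, Int.cast_sum]
  refine Finset.sum_congr rfl fun ξ hξ => ?_
  have hd := ((hs ξ).1 hξ).2
  rw [InterPoly.coeff_eq_delta k L hL (KTheory.Devissage.isCoh_closureStructureSheaf ξ)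
    ((LocCohTransform.topologicalKrullDim_mono
      (KTheory.Devissage.support_closureStructureSheaf_subset ξ)).trans hd.le) (Q ξ) (hQ ξ hd)]
  push_cast
  ring

/-- The functions on exponents given by polynomials of total degree less than `d`. -/
def lowDegree (r d : ℕ) : Submodule ℚ ((Fin r → ℕ) → ℚ) where
  carrier := {f | ∃ P : MvPolynomial (Fin r) ℚ, (∀ m ∈ P.support, (m.sum fun _ e => e) < d) ∧
    ∀ n, f n = MvPolynomial.eval (fun i => (n i : ℚ)) P}
  add_mem' := by
    classical
    rintro f g ⟨P, hP, hf⟩ ⟨Q, hQ, hg⟩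
    refine ⟨P + Q, fun m hm => ?_, fun n => by rw [Pi.add_apply, hf, hg, map_add]⟩
    rcases Finset.mem_union.1 (MvPolynomial.support_add hm) with h | h
    · exact hP m h
    · exact hQ m h
  zero_mem' := ⟨0, by simp, fun n => by simp⟩
  smul_mem' := by
    rintro c f ⟨P, hP, hf⟩
    exact ⟨c • P, fun m hm => hP m (MvPolynomial.support_smul hm), fun n => by
      rw [Pi.smul_apply, hf, MvPolynomial.smul_eval, smul_eq_mul]⟩

/-- Modulo polynomials of lower degree the Euler characteristics of twists decompose along the top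
components of the support. -/
theorem euler_sub_components_mem (d : ℕ) {r : ℕ} (L : Fin r → X.Modules)
    (hL : ∀ i, PicF.IsInvertible (L i)) {F : X.Modules} (hF : Coh.IsCoh F)
    (hdim : topologicalKrullDim (CohB1.support F) ≤ d) (s : Finset X)
    (hs : ∀ ξ : X, ξ ∈ s ↔ ξ ∈ CohB1.support F ∧
      topologicalKrullDim (closure ({ξ} : Set X)) = (d : ℕ)) :
    (fun n : Fin r → ℕ => (Curv2.euler k X (Curv2.tensorPows F r L n) : ℚ) -
      ∑ ξ ∈ s, ((Module.length (X.presheaf.stalk ξ) (F.presheaf.stalk ξ)).toNat : ℚ) *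
        (Curv2.euler k X (Curv2.tensorPows (Cyc.closureStructureSheaf ξ) r L n) : ℚ)) ∈
      lowDegree r d := by
  classical
  have hN : IsNoetherian X := isNoetherian k
  let χ : X.Modules → (Fin r → ℕ) → ℚ := fun G n => (Curv2.euler k X (Curv2.tensorPows G r L n) : ℚ)
  let len : X.Modules → X → ℚ := fun G ξ =>
    ((Module.length (X.presheaf.stalk ξ) (G.presheaf.stalk ξ)).toNat : ℚ)
  suffices h : (Submodule.Quotient.mk (χ F - ∑ ξ ∈ s, len F ξ • χ (Cyc.closureStructureSheaf ξ)) :
      ((Fin r → ℕ) → ℚ) ⧸ lowDegree r d) = 0 by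
    have h' := (Submodule.Quotient.mk_eq_zero _).1 h
    convert h' using 1
    funext n
    simp [χ, len, Finset.sum_apply]
  refine additive_eq_zero_of_support
    (fun G => (Submodule.Quotient.mk (χ G - ∑ ξ ∈ s, len G ξ • χ (Cyc.closureStructureSheaf ξ)) :
      ((Fin r → ℕ) → ℚ) ⧸ lowDegree r d))
    (CohTwo.isClosed_support F hF) (fun S hS c₁ c₂ c₃ s₁ _ s₃ => ?_) (fun y hy => ?_) hF subset_rfl
  · rw [← Submodule.Quotient.mk_add]
    congr 1
    have hmax : ∀ ξ ∈ s, ∀ G : X.Modules, Coh.IsCoh G → CohB1.support G ⊆ CohB1.support F →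
        Module.length (X.presheaf.stalk ξ) (G.presheaf.stalk ξ) ≠ ⊤ := by
      intro ξ hξ G hG hGF
      refine KTheory.Devissage.length_stalk_ne_top hG ξ fun z hz hzξ => ?_
      exact (eq_of_dim_closure (specializes_iff_mem_closure.1 hzξ)
        ((LocCohTransform.topologicalKrullDim_mono (closure_minimal
          (Set.singleton_subset_iff.2 (hGF hz)) (CohTwo.isClosed_support F hF))).trans hdim)
        ((hs ξ).1 hξ).2.ge).symm
    have hχ : χ S.X₂ = χ S.X₁ + χ S.X₃ := funext fun n => by
      have hMT := isInvertible_multiTwist hL n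
      obtain ⟨S', hS', ⟨e₁⟩, ⟨e₂⟩, ⟨e₃⟩⟩ := exists_shortExact_twist hMT hS
      have e : ∀ G : X.Modules, Curv2.euler k X (Curv2.tensorPows G r L n) =
          Curv2.euler k X (CohB1.tensorMod (FGA.multiTwist L n) G) :=
        fun G => EulerDeg.euler_congr k (InterPoly.tensorPows_iso r L n G).some
      simp only [χ, Pi.add_apply]
      rw [e, e, e, ← EulerDeg.euler_congr k e₁, ← EulerDeg.euler_congr k e₂,
        ← EulerDeg.euler_congr k e₃, euler_add k hS'
          (QCohMod.isCoh_of_iso e₁.symm (isCoh_twist hMT c₁))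
          (QCohMod.isCoh_of_iso e₃.symm (isCoh_twist hMT c₃))]
      push_cast
      rfl
    have hlen : ∀ ξ ∈ s, len S.X₂ ξ = len S.X₁ ξ + len S.X₃ ξ := fun ξ hξ => by
      simp only [len]
      rw [length_stalk_add hS ξ, ENat.toNat_add (hmax ξ hξ _ c₁ s₁) (hmax ξ hξ _ c₃ s₃)]
      push_cast
      rfl
    rw [hχ, Finset.sum_congr rfl fun ξ hξ => by rw [hlen ξ hξ, add_smul], Finset.sum_add_distrib]
    abel
  · refine (Submodule.Quotient.mk_eq_zero _).2 ?_
    have hd : topologicalKrullDim (closure ({y} : Set X)) ≤ (d : ℕ) :=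
      (LocCohTransform.topologicalKrullDim_mono hy).trans hdim
    have hsy := KTheory.Devissage.support_closureStructureSheaf_subset y
    have hne : ∀ ξ ∈ s, ξ ≠ y →
        len (Cyc.closureStructureSheaf y) ξ • χ (Cyc.closureStructureSheaf ξ) = 0 := fun ξ hξ hne => by
      have hnot : ξ ∉ CohB1.support (Cyc.closureStructureSheaf y) := fun h =>
        hne (eq_of_dim_closure (hsy h) hd ((hs ξ).1 hξ).2.ge)
      simp only [CohB1.support, Set.mem_ofPred_eq, not_not] at hnot
      simp [len, Module.length_eq_zero_iff.2 hnot]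
    by_cases hys : y ∈ s
    · rw [Finset.sum_eq_single y hne (fun h => absurd hys h)]
      simp only [len, KTheory.Devissage.length_closureStructureSheaf y]
      simp
    · rw [Finset.sum_eq_zero fun ξ hξ => hne ξ hξ fun e => hys (e ▸ hξ), sub_zero]
      obtain hd0 | ⟨e, he⟩ : d = 0 ∨ ∃ e, d = e + 1 := by
        rcases d with _ | e
        · exact Or.inl rfl
        · exact Or.inr ⟨e, rfl⟩
      · exfalso
        subst hd0
        refine hys ((hs y).2 ⟨hy (subset_closure rfl), le_antisymm hd ?_⟩)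
        exact HilbStab.le_topologicalKrullDim_of_chainAt isClosed_closure
          (show HilbStab.ChainAt _ y 0 from subset_closure rfl)
      · subst he
        have hlt : topologicalKrullDim (closure ({y} : Set X)) < ((e + 1 : ℕ) : WithBot ℕ∞) :=
          lt_of_le_of_ne hd fun h => hys ((hs y).2 ⟨hy (subset_closure rfl), h⟩)
        obtain ⟨P, hP, hPe⟩ := InterPoly.exists_eulerPoly k L hL
          (KTheory.Devissage.isCoh_closureStructureSheaf y) e
          ((LocCohTransform.topologicalKrullDim_mono hsy).trans (lt_natCast_succ_iff.1 hlt))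
        exact ⟨P, fun m hm => Nat.lt_succ_of_le ((MvPolynomial.le_totalDegree hm).trans hP), hPe⟩

end Groth.VarietyBC.InterComp
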