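import Groth.Prelude.Def_Curv2
import Groth.Agent.Inter.Snapper
import Groth.Agent.Inter.Devissage
import Groth.Agent.KTheory.ClosureSheaf
import Groth.Agent.EulerDeg.CartierDegree
import Mathlib.Algebra.MvPolynomial.Funext

/-!
# Euler characteristics of multiple twists as polynomials; intersection coefficients
-/

set_option autoImplicit false
set_option linter.style.haveILetI false
universe u

open CategoryTheory CategoryTheory.Limits AlgebraicGeometry TopologicalSpace

namespace Groth.VarietyBC.InterPoly

open Groth.Inter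

variable {X : Scheme.{u}}

theorem multiTwist_succ_last {r : ℕ} (L : Fin (r + 1) → X.Modules) (n : Fin (r + 1) → ℕ) :
    Nonempty (FGA.multiTwist L n ≅ CohB1.tensorMod (CohB1.tensorPow (L (Fin.last r)) (n (Fin.last r)))
      (FGA.multiTwist (fun i => L i.castSucc) fun i => n i.castSucc)) := by
  have hp : ((List.finRange (r + 1)).map fun i => CohB1.tensorPow (L i) (n i)).Perm
      (CohB1.tensorPow (L (Fin.last r)) (n (Fin.last r)) ::
        (List.finRange r).map fun i => CohB1.tensorPow (L i.castSucc) (n i.castSucc)) := by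
    rw [List.finRange_succ_last, List.map_append, List.map_map]
    exact List.perm_append_singleton _ _
  exact tensorList_perm hp

theorem tensorPows_iso : ∀ (r : ℕ) (L : Fin r → X.Modules) (n : Fin r → ℕ) (F : X.Modules),
    Nonempty (Curv2.tensorPows F r L n ≅ CohB1.tensorMod (FGA.multiTwist L n) F)
  | 0, L, n, F => ⟨(tensor_one F).some.symm⟩
  | r + 1, L, n, F => by
    obtain ⟨e⟩ := tensorPows_iso r (fun i => L i.castSucc) (fun i => n i.castSucc) F
    obtain ⟨m⟩ := multiTwist_succ_last L n
    exact ⟨PicGrp.tensorModIso e (Iso.refl _) ≪≫ (tensor_comm _ _).some ≪≫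
      (tensor_assoc _ _ _).some.symm ≪≫ PicGrp.tensorModIso m.symm (Iso.refl F)⟩

theorem exists_iso_indicator {r : ℕ} (L : Fin r → X.Modules) (I : Finset (Fin r)) :
    Nonempty (FGA.multiTwist L (fun i => if i ∈ I then 1 else 0) ≅
      FGA.tensorList (I.toList.map L)) := by
  classical
  have key : ∀ l : List (Fin r), Nonempty (FGA.tensorList
      (l.map fun i => CohB1.tensorPow (L i) (if i ∈ I then 1 else 0)) ≅
        FGA.tensorList ((l.filter fun i => decide (i ∈ I)).map L)) := by
    intro l
    induction l with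
    | nil => exact ⟨Iso.refl _⟩
    | cons a l ih =>
      obtain ⟨e⟩ := ih
      by_cases ha : a ∈ I
      · rw [List.filter_cons_of_pos (by simpa using ha), List.map_cons, List.map_cons, if_pos ha]
        exact ⟨PicGrp.tensorModIso (PicAux.tensorPow_one (L a)).some e⟩
      · rw [List.filter_cons_of_neg (by simpa using ha), List.map_cons, if_neg ha]
        exact ⟨(tensor_one _).some ≪≫ e⟩
  obtain ⟨e⟩ := key (List.finRange r)
  refine ⟨e ≪≫ (tensorList_perm (List.Perm.map L ?_)).some⟩
  rw [List.perm_ext_iff_of_nodup ((List.nodup_finRange r).filter _) I.nodup_toList]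
  intro a
  simp

variable (k : Type u) [Field k] [X.Over (Spec (CommRingCat.of k))]
  [IsProper (X ↘ Spec (CommRingCat.of k))]

/-- Snapper's theorem for `tensorPows`. -/
theorem exists_eulerPoly {r : ℕ} (L : Fin r → X.Modules) (hL : ∀ i, PicF.IsInvertible (L i))
    {F : X.Modules} (hF : Coh.IsCoh F) (d : ℕ)
    (hdim : topologicalKrullDim (CohB1.support F) ≤ d) :
    ∃ P : MvPolynomial (Fin r) ℚ, P.totalDegree ≤ d ∧ ∀ n : Fin r → ℕ,
      (Curv2.euler k X (Curv2.tensorPows F r L n) : ℚ) =
        MvPolynomial.eval (fun i => (n i : ℚ)) P := by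
  obtain ⟨P, hP, hPe⟩ := exists_poly k d r L hL [] (by simp) (Nat.zero_le _) F hF hdim
  refine ⟨P, by simpa using hP, fun n => ?_⟩
  rw [← hPe n, delta_nil, EulerDeg.euler_congr k (tensorPows_iso r L n F).some]

omit [Field k] [X.Over (Spec (CommRingCat.of k))] [IsProper (X ↘ Spec (CommRingCat.of k))] in
/-- A rational polynomial is determined by its values at natural numbers. -/
theorem eq_of_eval_nat {σ : Type*} {P Q : MvPolynomial σ ℚ}
    (h : ∀ n : σ → ℕ, MvPolynomial.eval (fun i => (n i : ℚ)) P =
      MvPolynomial.eval (fun i => (n i : ℚ)) Q) : P = Q :=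
  MvPolynomial.funext_set (fun _ => Set.range (Nat.cast : ℕ → ℚ))
    (fun _ => Set.infinite_range_of_injective Nat.cast_injective) fun x hx => by
      choose n hn using fun i => hx i (Set.mem_univ i)
      rw [← funext hn]
      exact h n

omit [Field k] [X.Over (Spec (CommRingCat.of k))] [IsProper (X ↘ Spec (CommRingCat.of k))] in
/-- The coefficient of `X₁⋯X_d` of a polynomial of total degree at most `d` as an iterated
difference of its values. -/
theorem coeff_ones_eq {d : ℕ} (P : MvPolynomial (Fin d) ℚ) (hP : P.totalDegree ≤ d) :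
    MvPolynomial.coeff (Finsupp.equivFunOnFinite.symm fun _ : Fin d => 1) P =
      ∑ t ∈ (Finset.univ : Finset (Fin d)).powerset,
        (-1 : ℚ) ^ t.card * MvPolynomial.eval (fun i => if i ∈ t then (0 : ℚ) else 1) P := by
  classical
  set o : Fin d →₀ ℕ := Finsupp.equivFunOnFinite.symm fun _ : Fin d => 1 with ho
  have hmon : ∀ m : Fin d →₀ ℕ, m ∈ P.support →
      ∑ t ∈ (Finset.univ : Finset (Fin d)).powerset,
        (-1 : ℚ) ^ t.card * ∏ i, (if i ∈ t then (0 : ℚ) else 1) ^ m i =
      if m = o then 1 else 0 := by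
    intro m hm
    have e : ∏ i : Fin d, ((1 : ℚ) ^ m i - (0 : ℚ) ^ m i) =
        ∑ t ∈ (Finset.univ : Finset (Fin d)).powerset,
          (-1 : ℚ) ^ t.card * ∏ i, (if i ∈ t then (0 : ℚ) else 1) ^ m i := by
      rw [Finset.prod_sub]
      refine Finset.sum_congr rfl fun t ht => ?_
      rw [mul_assoc]
      congr 1
      rw [← Finset.prod_sdiff (Finset.subset_univ t) (f := fun i =>
        (if i ∈ t then (0 : ℚ) else 1) ^ m i)]
      refine congrArg₂ (· * ·) (Finset.prod_congr rfl fun i hi => ?_)
        (Finset.prod_congr rfl fun i hi => ?_)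
      · rw [if_neg (Finset.mem_sdiff.1 hi).2]
      · rw [if_pos hi]
    rw [← e]
    by_cases hmo : m = o
    · rw [if_pos hmo, hmo, ho]
      simp
    · rw [if_neg hmo]
      obtain ⟨i, hi⟩ : ∃ i, m i = 0 := by
        by_contra hne
        push_neg at hne
        refine hmo (Finsupp.ext fun i => ?_)
        have hle : (m.sum fun _ e => e) ≤ d := (MvPolynomial.le_totalDegree hm).trans hP
        rw [Finsupp.sum_fintype _ _ (fun _ => rfl)] at hle
        have h1 : ∀ j, 1 ≤ m j := fun j => Nat.one_le_iff_ne_zero.2 (hne j)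
        have h2 : ∑ j : Fin d, (1 : ℕ) = ∑ j, m j := le_antisymm
          (Finset.sum_le_sum fun j _ => h1 j) (by simpa using hle)
        have := (Finset.sum_eq_sum_iff_of_le fun j _ => h1 j).1 h2 i (Finset.mem_univ i)
        simpa [ho] using this.symm
      exact Finset.prod_eq_zero (Finset.mem_univ i) (by rw [hi, pow_zero, pow_zero, sub_self])
  simp only [MvPolynomial.eval_eq', Finset.mul_sum]
  rw [Finset.sum_comm]
  simp only [mul_left_comm ((-1 : ℚ) ^ _), ← Finset.mul_sum]
  rw [Finset.sum_congr rfl fun m hm => by rw [hmon m hm]]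
  simp only [mul_ite, mul_one, mul_zero, Finset.sum_ite_eq']
  by_cases h : o ∈ P.support
  · rw [if_pos h]
  · rw [if_neg h, MvPolynomial.notMem_support_iff.1 h]

/-- The intersection coefficient is an iterated difference of Euler characteristics. -/
theorem coeff_eq_delta {d : ℕ} (L : Fin d → X.Modules) (hL : ∀ i, PicF.IsInvertible (L i))
    {F : X.Modules} (hF : Coh.IsCoh F) (hdim : topologicalKrullDim (CohB1.support F) ≤ d)
    (P : MvPolynomial (Fin d) ℚ)
    (hP : ∀ n : Fin d → ℕ, (Curv2.euler k X (Curv2.tensorPows F d L n) : ℚ) =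
      MvPolynomial.eval (fun i => (n i : ℚ)) P) :
    MvPolynomial.coeff (Finsupp.equivFunOnFinite.symm fun _ : Fin d => 1) P =
      ((-1) ^ d * delta k (List.ofFn L) F : ℤ) := by
  classical
  obtain ⟨P', hdeg, hP'⟩ := exists_eulerPoly k L hL hF d hdim
  obtain rfl : P = P' := eq_of_eval_nat fun n => (hP n).symm.trans (hP' n)
  rw [coeff_ones_eq P hdeg]
  have hd : delta k (List.ofFn L) F = delta k ((Finset.univ : Finset (Fin d)).toList.map L) F := by
    refine delta_perm k ?_ F
    rw [List.ofFn_eq_map]
    refine List.Perm.map L ((List.perm_ext_iff_of_nodup (List.nodup_finRange d)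
      (Finset.nodup_toList _)).2 fun a => by simp)
  rw [hd, ← sum_powerset_eq_delta, Finset.mul_sum, Int.cast_sum]
  refine Finset.sum_nbij' (fun t => tᶜ) (fun t => tᶜ) (fun t _ => by simp) (fun t _ => by simp)
    (fun t _ => compl_compl t) (fun t _ => compl_compl t) fun t _ => ?_
  have e : MvPolynomial.eval (fun i => if i ∈ t then (0 : ℚ) else 1) P =
      (Curv2.euler k X (CohB1.tensorMod (FGA.tensorList (tᶜ.toList.map L)) F) : ℚ) := by
    rw [show (fun i : Fin d => if i ∈ t then (0 : ℚ) else 1) =
        fun i => (((if i ∈ tᶜ then 1 else 0) : ℕ) : ℚ) from funext fun i => by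
          by_cases h : i ∈ t <;> simp [h], ← hP, EulerDeg.euler_congr k
      ((tensorPows_iso d L _ F).some ≪≫
        PicGrp.tensorModIso (exists_iso_indicator L tᶜ).some (Iso.refl F))]
  rw [e, Finset.card_compl, Fintype.card_fin]
  push_cast
  rw [← mul_assoc, ← pow_add]
  congr 1
  have hle : t.card ≤ d := by simpa using t.card_le_univ
  rw [show d + (d - t.card) = t.card + 2 * (d - t.card) by omega, pow_add, pow_mul, neg_one_sq,
    one_pow, mul_one]

/-- Replacing the modules by inverses changes the sign. -/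
theorem delta_inverse : ∀ (l : List (X.Modules × X.Modules)),
    (∀ p ∈ l, PicF.IsInvertible p.1 ∧ ClSub.IsInverseOf p.1 p.2) →
    ∀ (F : X.Modules), Coh.IsCoh F → topologicalKrullDim (CohB1.support F) ≤ (l.length : ℕ) →
    delta k (l.map Prod.fst) F = (-1) ^ l.length * delta k (l.map Prod.snd) F
  | [], _, F, _, _ => by simp
  | (A, B) :: l, hl, F, hF, hdim => by
    obtain ⟨hA, hAB⟩ := hl (A, B) List.mem_cons_self
    have hB := PicAux.isInvertible_of_isInverseOf hA hAB
    have hl' : ∀ p ∈ l, PicF.IsInvertible p.1 ∧ ClSub.IsInverseOf p.1 p.2 := fun p hp =>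
      hl p (List.mem_cons_of_mem _ hp)
    have hl2 : ∀ M ∈ l.map Prod.snd, PicF.IsInvertible M := fun M hM => by
      obtain ⟨p, hp, rfl⟩ := List.mem_map.1 hM
      exact PicAux.isInvertible_of_isInverseOf (hl' p hp).1 (hl' p hp).2
    have hl1 : ∀ M ∈ l.map Prod.fst, PicF.IsInvertible M := fun M hM => by
      obtain ⟨p, hp, rfl⟩ := List.mem_map.1 hM
      exact (hl' p hp).1
    simp only [List.length_cons] at hdim
    have key : ∀ G, Coh.IsCoh G → topologicalKrullDim (CohB1.support G) ≤ (l.length : ℕ) →
        delta k (l.map Prod.fst) G = (-1) ^ l.length * delta k (l.map Prod.snd) G :=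
      fun G hG hd => delta_inverse l hl' G hG hd
    have hN : IsNoetherian X := isNoetherian k
    -- the differences along `A` agree up to the inverse rule
    have hz : delta k (A :: l.map Prod.fst) F = (-1) ^ l.length * delta k (A :: l.map Prod.snd) F := by
      rw [← sub_eq_zero]
      have := Groth.Inter.additive_eq_zero
        (fun G => delta k (A :: l.map Prod.fst) G - (-1) ^ l.length * delta k (A :: l.map Prod.snd) G)
        (fun S hS c₁ _ c₃ => by
          try simp only
          rw [delta_add k (List.forall_mem_cons.2 ⟨hA, hl1⟩) hS c₁ c₃,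
            delta_add k (List.forall_mem_cons.2 ⟨hA, hl2⟩) hS c₁ c₃]
          ring)
        (X' := CohB1.support F) (CohTwo.isClosed_support F hF) ?_ hF subset_rfl
      · exact this
      intro y hy
      have hdimy : topologicalKrullDim (closure ({y} : Set X)) ≤ (l.length + 1 : ℕ) :=
        (LocCohTransform.topologicalKrullDim_mono hy).trans hdim
      obtain ⟨Q₁, Q₂, h1, h2, d1, -, d2, -, e⟩ := exists_delta_eq_sub k hA
        (Y := ⟨closure {y}, isClosed_closure⟩) rfl hdimy
        (KTheory.Devissage.isCoh_closureStructureSheaf y)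
        (KTheory.Devissage.support_closureStructureSheaf_subset y)
      rw [e _ hl1, e _ hl2, key Q₁ h1 (lt_natCast_succ_iff.1 d1), key Q₂ h2 (lt_natCast_succ_iff.1 d2)]
      ring
    have hO : delta k (Coh.structureModule X :: l.map Prod.snd) F = 0 := by
      rw [delta_cons, delta_congr k _ (tensor_one F), sub_self]
    have ht := delta_tensor k hA hB hl2 hF (by rw [List.length_map]; exact hdim)
    rw [delta_congr_list k (List.Forall₂.cons hAB (List.forall₂_same.2 fun M _ => ⟨Iso.refl M⟩)) F,
      hO] at ht
    simp only [List.map_cons, List.length_cons]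
    rw [hz, pow_succ]
    linear_combination (-(-1 : ℤ) ^ l.length) * ht

end Groth.VarietyBC.InterPoly
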