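import Groth.Agent.VarietyBC.NegTwistH1
import Groth.Agent.VarietyBC.GlobalField
import Groth.Agent.EulerDeg.LineBundle
import Groth.Agent.PicAux.EffCartierSection
import Groth.Agent.RefRank.Stalk
import Groth.Agent.DualCore.CM

/-!
# The zero scheme of a regular section of an ample module is connected in depth two
-/

set_option autoImplicit false
set_option linter.style.haveILetI false
set_option backward.isDefEq.respectTransparency.types false
universe u

open CategoryTheory CategoryTheory.Limits AlgebraicGeometry TopologicalSpace Opposite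
open Groth.PicAux Groth.PropsBasic.Ample
open scoped TensorProduct

namespace Groth.VarietyBC.ZeroConnected

variable {X : Scheme.{u}}

theorem depth_stalk_structureModule (x : X) :
    LocCoh.depth (X.presheaf.stalk x) ((Coh.structureModule X).presheaf.stalk x) =
      LocCoh.depth (X.presheaf.stalk x) (X.presheaf.stalk x) :=
  (Groth.DualCore.depth_congr (Groth.RefRank.oneEquiv x)).symm

/-- A regular section generates at every weakly associated point. -/
theorem mem_gloc_of_mono {L : X.Modules} (hL : PicF.IsInvertible L)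
    (s : Coh.structureModule X ⟶ L) [Mono s] {x : X}
    (h : Curv2.IsWeakAssPoint (Coh.structureModule X) x) : x ∈ gloc (gsec s) := by
  by_contra hx
  obtain ⟨U, e, hxU, he⟩ := (isInvertible_iff_exists_gen L).1 hL x
  obtain ⟨c, hc⟩ := he.exists_coeff le_rfl (res L (le_top : U ≤ ⊤) (gsec s))
  rw [res_self] at hc
  have hcnu : ¬ IsUnit (X.presheaf.germ U x hxU c) := fun hu =>
    hx ((gloc_inf_eq_basicOpen he hc).ge ((Scheme.mem_basicOpen _ _ _ hxU).2 hu)).1
  have hc0 : ∀ v : (Coh.structureModule X).presheaf.stalk x,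
      X.presheaf.germ U x hxU c • v = 0 → v = 0 := by
    intro v hv
    obtain ⟨W, hxW, w, rfl⟩ := TopCat.Presheaf.exists_germ_eq (Coh.structureModule X).presheaf v
    have hxV : x ∈ W ⊓ U := ⟨hxW, hxU⟩
    rw [← (Coh.structureModule X).presheaf.germ_res_apply (homOfLE (inf_le_left : W ⊓ U ≤ W)) x hxV,
      ← X.presheaf.germ_res_apply (homOfLE (inf_le_right : W ⊓ U ≤ U)) x hxV,
      ← Groth.Divisors.germ_smul_mod] at hv
    obtain ⟨V, hxV', i₁, i₂, hV⟩ := TopCat.Presheaf.germ_eq (Coh.structureModule X).presheaf x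
      hxV hxV _ 0 (hv.trans (map_zero _).symm)
    have h2 : resX X (i₁.le.trans inf_le_right) c • res _ (i₁.le.trans inf_le_left) w = 0 := by
      rw [← resX_resX (inf_le_right : W ⊓ U ≤ U) i₁.le, ← res_res (inf_le_left : W ⊓ U ≤ W) i₁.le,
        ← res_smul]
      exact hV.trans (map_zero _)
    have hsV : s.app V (oneSec X V) =
        resX X (i₁.le.trans inf_le_right) c • res L (i₁.le.trans inf_le_right) e := by
      rw [← res_smul, ← hc, res_res, gsec, ← app_res, res_oneSec]
    have h3 : s.app V (res _ (i₁.le.trans inf_le_left) w) = 0 := by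
      rw [eq_toFun_smul_oneSec (res _ (i₁.le.trans inf_le_left) w), Scheme.Modules.Hom.app_smul,
        hsV, smul_smul, mul_comm, ← toFun_smul, h2]
      show (0 : Γ(X, V)) • _ = 0
      exact zero_smul _ _
    have h4 : res (Coh.structureModule X) (i₁.le.trans inf_le_left) w = 0 :=
      ((Groth.CohTwo.mono_iff_app_injective s).1 inferInstance V) (h3.trans (map_zero _).symm)
    rw [← (Coh.structureModule X).presheaf.germ_res_apply (homOfLE (i₁.le.trans inf_le_left)) x hxV']
    exact (congrArg _ h4).trans (map_zero _)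
  obtain ⟨z, h1, h2⟩ := (Groth.Divisors.isWeakAssPoint_iff).1 h
  obtain ⟨n, hn⟩ := h2 _ hcnu
  have hz : z ≠ 0 := fun hz => h1 1 (by rw [hz, smul_zero]) isUnit_one
  refine hz ?_
  clear h1 h2 hz
  induction n with
  | zero => rwa [pow_zero, one_smul] at hn
  | succ n ih =>
    rw [pow_succ', mul_smul] at hn
    exact ih (hc0 _ hn)

variable (k : Type u) [Field k] [X.Over (Spec (CommRingCat.of k))]
  [IsProper (X ↘ Spec (CommRingCat.of k))]

include k in
/-- On a connected proper scheme a global function is nilpotent or a unit. -/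
theorem isNilpotent_or_isUnit [PreconnectedSpace X] (f : Γ(X, ⊤)) : IsNilpotent f ∨ IsUnit f := by
  letI : Algebra k Γ(X, ⊤) := (NegTwist.const k X).toAlgebra
  have hO : Coh.IsCoh (Coh.structureModule X) :=
    CurveGG.isCoh_of_isInvertible (Groth.EulerDeg.isInvertible_structureModule X)
  have := Groth.EulerDeg.finite_HH k X hO 0
  obtain ⟨e, he⟩ := NegTwist.exists_h0Equiv k (Coh.structureModule X)
  let φ : Coh.HH X (Coh.structureModule X) 0 →ₗ[k] Γ(X, ⊤) :=
    { toFun := fun x => (e x : Γ(X, ⊤))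
      map_add' := e.map_add
      map_smul' := fun c x => he c x }
  have : Module.Finite k Γ(X, ⊤) := Module.Finite.of_surjective φ e.surjective
  have : IsArtinianRing Γ(X, ⊤) := IsArtinianRing.of_finite k Γ(X, ⊤)
  obtain ⟨n, y, hy⟩ := IsArtinian.exists_pow_succ_smul_dvd f (1 : Γ(X, ⊤))
  simp only [smul_eq_mul, mul_one] at hy
  have hpow : ∀ j, f ^ n = f ^ (n + j) * y ^ j := by
    intro j
    induction j with
    | zero => simp
    | succ j ih =>
      calc f ^ n = f ^ (n + j) * y ^ j := ih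
        _ = f ^ j * f ^ n * y ^ j := by rw [pow_add]; ring
        _ = f ^ j * (f ^ (n + 1) * y) * y ^ j := by rw [hy]
        _ = f ^ (n + (j + 1)) * y ^ (j + 1) := by ring
  have he2 : f ^ n * y ^ n * (f ^ n * y ^ n) = f ^ n * y ^ n := by
    conv_rhs => rw [hpow n]
    ring
  rcases GlobalField.eq_zero_or_one_of_idem _ he2 with h | h
  · refine Or.inl ⟨n, ?_⟩
    rw [hpow n, pow_add, mul_assoc, h, mul_zero]
  · rcases n.eq_zero_or_pos with rfl | hn
    · refine Or.inr (IsUnit.of_mul_eq_one y ?_)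
      simpa using hy
    · refine Or.inr ((isUnit_pow_iff hn.ne').1 (IsUnit.of_mul_eq_one _ h))

include k in
/-- The zero locus of a regular section of an ample module is connected in depth two. -/
theorem isConnected_compl_gloc [ConnectedSpace X] {L : X.Modules} (hL : CohB1.IsAmple L)
    (s : Coh.structureModule X ⟶ L) [Mono s]
    (hdepth : ∀ x : X, IsClosed ({x} : Set X) →
      2 ≤ LocCoh.depth (X.presheaf.stalk x) (X.presheaf.stalk x)) :
    IsConnected ((gloc (gsec s) : Set X))ᶜ := by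
  classical
  have := hL.2.1
  have := Groth.EulerDeg.isNoetherian_of_proper k (X := X)
  have hLi := hL.1
  obtain ⟨M, hMi, hM⟩ := exists_isInverseOf hLi
  let O := Coh.structureModule X
  have hO : Coh.IsCoh O :=
    CurveGG.isCoh_of_isInvertible (Groth.EulerDeg.isInvertible_structureModule X)
  have hd : ∀ x : X, IsClosed ({x} : Set X) →
      2 ≤ LocCoh.depth (X.presheaf.stalk x) (O.presheaf.stalk x) := fun x hx =>
    (hdepth x hx).trans_eq (depth_stalk_structureModule x).symm
  refine ⟨Set.nonempty_compl.2 fun htop => ?_, isPreconnected_closed_iff.2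
    fun A B hA hB hcov ⟨z₁, hz₁, hz₁A⟩ ⟨z₂, hz₂, hz₂B⟩ => ?_⟩
  · -- an ample trivial module forces a point of depth zero
    have hg : Gen L ⊤ (gsec s) := by
      have := gen_gloc (gsec s) (V := ⊤) (fun x _ => (Set.eq_univ_iff_forall.1 htop x :))
      rwa [res_self] at this
    obtain ⟨eL⟩ := nonempty_iso_structure_iff.2 ⟨_, hg⟩
    have hass : ∀ x : X, IsClosed ({x} : Set X) → ¬ Curv2.IsAssPoint O x := by
      intro x hx h
      have : O.IsQuasicoherent := hO.1
      have := Groth.QCohMod.finite_stalk O hO.2 x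
      have h1 : (1 : ℕ∞) ≤ LocCoh.idealDepth (IsLocalRing.maximalIdeal (X.presheaf.stalk x))
          (O.presheaf.stalk x) := le_trans (by norm_num) (hd x hx)
      exact (Groth.LocCohBase.one_le_idealDepth_iff _ _).1 h1 _ h le_rfl
    obtain ⟨n, hn⟩ := NegTwist.exists_bound k L hL M hM O hO hass
    have h0 := hn n le_rfl
    obtain ⟨eLn⟩ : Nonempty (CohB1.tensorPow L n ≅ O) :=
      ⟨(nonempty_tensorPow_iso eL n).some ≪≫ (tensorPow_structure n).some⟩
    obtain ⟨eMn⟩ : Nonempty (CohB1.tensorPow M n ≅ O) :=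
      isInverseOf_unique (isInverseOf_tensorPow hM n) ⟨SecTwist.unitorR _ ≪≫ eLn⟩
    have h1 : Subsingleton (Coh.HH X O 0) :=
      (Groth.EulerDeg.hEquiv k (PicGrp.tensorModIso (Iso.refl O) eMn ≪≫ SecTwist.unitorR O)
        0).symm.toEquiv.subsingleton
    obtain ⟨e, -⟩ := NegTwist.exists_h0Equiv k O
    have h2 : Subsingleton Γ(O, ⊤) := e.symm.toEquiv.subsingleton
    have h3 : (1 : Γ(X, ⊤)) = 0 := h2.elim (oneSec X ⊤) (0 : Γ(O, ⊤))
    obtain ⟨x⟩ := (inferInstance : Nonempty X)
    have h4 := congrArg (X.presheaf.germ ⊤ x trivial) h3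
    rw [map_one, map_zero] at h4
    exact one_ne_zero h4
  by_contra hAB
  obtain ⟨m₀, hm₀⟩ := NegTwistH1.exists_bound k L hL M hM O hO hd
  let n := m₀ + 1
  have hH1 := hm₀ n m₀.le_succ
  let χ := (isInverseOf_tensorPow (isInverseOf_symm hM) n).some
  let T := powSec (gsec s) n
  have hgT : gloc T = gloc (gsec s) := gloc_powSec hLi _ m₀.succ_pos
  have hMn := isInvertible_tensorPow hMi n
  let μ := NegTwistH1.mulTo O χ T
  have hmono : Mono μ := NegTwistH1.mono_mulTo hO.1 hMn χ T fun x hx =>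
    hgT.ge (mem_gloc_of_mono hLi s hx)
  let G := cokernel μ
  let π : O ⟶ G := cokernel.π μ
  have hses : (ShortComplex.mk μ π (cokernel.condition μ)).ShortExact :=
    { exact := ShortComplex.exact_of_g_is_cokernel _ (cokernelIsCokernel μ)
      mono_f := inferInstanceAs (Mono μ)
      epi_g := inferInstanceAs (Epi π) }
  have hep : ∀ (z : X) (v : (Groth.QCohMod.stalk z).obj G), ∃ (W : X.Opens) (hzW : z ∈ W)
      (w : Γ(O, W)), Groth.QCohMod.germ G z hzW (π.app W w) = v := by
    intro z v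
    obtain ⟨u, rfl⟩ := (Groth.QCohMod.epi_iff_stalk π).1 inferInstance z v
    obtain ⟨W, hzW, w, rfl⟩ := Groth.QCohMod.exists_germ _ z u
    exact ⟨W, hzW, w, (Groth.QCohMod.stalk_map_germ π z hzW w).symm⟩
  have hzero : ∀ z ∈ gloc (gsec s), ∀ v : (Groth.QCohMod.stalk z).obj G, v = 0 := by
    intro z hz v
    obtain ⟨W, hzW, w, rfl⟩ := hep z v
    obtain ⟨U, e, hzU, he⟩ := (isInvertible_iff_exists_gen _).1 hMn z
    let V : X.Opens := W ⊓ (U ⊓ gloc T)
    have hVU : V ≤ U := inf_le_right.trans inf_le_left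
    have hVT : V ≤ gloc T := inf_le_right.trans inf_le_right
    have hzV : z ∈ V := ⟨hzW, hzU, hgT.ge hz⟩
    have hg : Gen O V (χ.hom.app V (tmulSec (res _ hVU e) (res _ le_top T))) :=
      ((he.res hVU).tensor (gen_gloc T hVT)).map χ.hom
    obtain ⟨r, hr⟩ := hg.exists_coeff le_rfl (oneSec X V)
    rw [res_self] at hr
    have hunit : r * toFun (χ.hom.app V (tmulSec (res _ hVU e) (res _ le_top T))) = 1 := hr.symm
    have h1 : res O (inf_le_left : V ≤ W) w =
        μ.app V (tmulSec (r • res O (inf_le_left : V ≤ W) w) (res _ hVU e)) := by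
      rw [NegTwistH1.mulTo_tmul, smul_smul, mul_comm, hunit, one_smul]
    have h2 : π.app V (res O (inf_le_left : V ≤ W) w) = 0 := by
      rw [h1]
      exact congr(($(cokernel.condition μ)).app V (tmulSec (r • res O _ w) (res _ hVU e)))
    rw [← Groth.QCohMod.germ_res G (inf_le_left : V ≤ W) z hzV]
    refine (congrArg _ ?_).trans (map_zero _)
    exact (app_res π (inf_le_left : V ≤ W) w).symm.trans h2
  -- the section of the cokernel which is `1` near `A`
  let Z : Set X := ((gloc (gsec s) : Set X))ᶜ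
  have hZcl : IsClosed Z := (gloc (gsec s)).isOpen.isClosed_compl
  let U₁ : X.Opens := ⟨(B ∩ Z)ᶜ, (hB.inter hZcl).isOpen_compl⟩
  let U₂ : X.Opens := ⟨(A ∩ Z)ᶜ, (hA.inter hZcl).isOpen_compl⟩
  have hov : ∀ z, z ∈ U₁ ⊓ U₂ → z ∈ gloc (gsec s) := fun z hz => by
    by_contra h
    rcases hcov h with hzA | hzB
    · exact hz.2 ⟨hzA, h⟩
    · exact hz.1 ⟨hzB, h⟩
  have hdisj : ∀ z, z ∈ A → z ∈ B → z ∉ Z := fun z ha hb hz => hAB ⟨z, hz, ha, hb⟩
  let σ : Γ(G, U₁) := π.app U₁ (oneSec X U₁)
  have hσ0 : res G (inf_le_left : U₁ ⊓ U₂ ≤ U₁) σ = 0 :=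
    TopCat.Presheaf.section_ext (X := X.toTopCat) (Coh.toAb G) _ _ _ fun z hz =>
      (hzero z (hov z hz) _).trans (map_zero _).symm
  obtain ⟨q, hq, -⟩ := res_glue (M := G) (U := ⊤) (fun b : Bool => if b then U₁ else U₂)
    (fun _ => le_top)
    (fun z _ => by
      by_cases hz : z ∈ B ∩ Z
      · exact Opens.mem_iSup.2 ⟨false, fun h => hdisj z h.1 hz.1 hz.2⟩
      · exact Opens.mem_iSup.2 ⟨true, hz⟩)
    (fun b => match b with
      | true => σ
      | false => 0)
    (fun a b => by
      cases a <;> cases b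
      · rfl
      · refine (map_zero _).trans ?_
        have h := congrArg (res G (le_of_eq (inf_comm U₂ U₁))) hσ0
        rw [res_res] at h
        exact (h.trans (map_zero _)).symm
      · exact hσ0.trans (map_zero _).symm
      · rfl)
  obtain ⟨f, hf⟩ : ∃ f : Γ(O, ⊤), π.app ⊤ f = q := by
    have h1 : Groth.EulerDeg.hDelta k hses 0 ((Sheaf.H.equiv₀ (Coh.toAb G) isTerminalTop).symm q) = 0 :=
      @Subsingleton.elim _ hH1 _ _
    obtain ⟨t, ht⟩ := ((Groth.EulerDeg.exact_right k hses 0) _).1 h1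
    refine ⟨Sheaf.H.equiv₀ (Coh.toAb O) isTerminalTop t, ?_⟩
    have h2 := Sheaf.H.equiv₀_naturality isTerminalTop ((Groth.CohBase.toAbF X).map π) t
    exact h2.trans ((congrArg _ ht).trans (AddEquiv.apply_symm_apply _ _))
  -- a function vanishing in the cokernel near a zero of `s` vanishes at that point
  have hker : ∀ (z : X) (W : X.Opens) (hzW : z ∈ W) (w : Γ(O, W)), z ∈ Z → π.app W w = 0 →
      X.presheaf.germ W z hzW (toFun w) ∈ IsLocalRing.maximalIdeal (X.presheaf.stalk z) := by
    intro z W hzW w hzZ hw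
    obtain ⟨b, hb⟩ := (ShortComplex.ab_exact_iff _).1
      ((Groth.QCohMod.exact_iff_stalk _).1 hses.exact z) (Groth.QCohMod.germ O z hzW w)
      ((Groth.QCohMod.stalk_map_germ π z hzW w).trans ((congrArg _ hw).trans (map_zero _)))
    obtain ⟨V, hzV, e', a, he', rfl⟩ := NegTwistH1.exists_germ_tmul hMn b
    have hgerm : O.presheaf.germ V z hzV (toFun (χ.hom.app V (tmulSec e' (res _ le_top T))) • a) =
        O.presheaf.germ W z hzW w := by
      rw [← NegTwistH1.mulTo_tmul]
      exact (Groth.QCohMod.stalk_map_germ μ z hzV _).symm.trans hb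
    obtain ⟨V', hzV', i₁, i₂, hV⟩ := TopCat.Presheaf.germ_eq O.presheaf z hzV hzW _ _ hgerm
    have hV' : resX X i₁.le (toFun (χ.hom.app V (tmulSec e' (res _ le_top T)))) • res O i₁.le a =
        res O i₂.le w := (res_smul _ _ _).symm.trans hV
    rw [← X.presheaf.germ_res_apply i₂ z hzV']
    change X.presheaf.germ V' z hzV' (resX X i₂.le (toFun w)) ∈ _
    rw [← toFun_res, ← hV', toFun_smul, map_mul]
    refine Ideal.mul_mem_right _ _ ?_
    rw [IsLocalRing.mem_maximalIdeal]
    intro hu
    rw [resX, X.presheaf.germ_res_apply] at hu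
    refine hzZ ?_
    obtain ⟨U, e'', hzU, he''⟩ := (isInvertible_iff_exists_gen L).1 hLi z
    obtain ⟨c, hc⟩ := he''.exists_coeff le_rfl (res L (le_top : U ≤ ⊤) (gsec s))
    rw [res_self] at hc
    let W' : X.Opens := V ⊓ U
    have hzW' : z ∈ W' := ⟨hzV, hzU⟩
    have hTc : res _ (le_top : W' ≤ ⊤) T =
        (resX X (inf_le_right : W' ≤ U) c) ^ n • powSec (res L (inf_le_right : W' ≤ U) e'') n := by
      rw [res_powSec, ← res_res (le_top : U ≤ ⊤) (inf_le_right : W' ≤ U), hc, res_smul, powSec_smul]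
    have h1 : resX X (inf_le_left : W' ≤ V) (toFun (χ.hom.app V (tmulSec e' (res _ le_top T)))) =
        (resX X (inf_le_right : W' ≤ U) c) ^ n * toFun (χ.hom.app W'
          (tmulSec (res _ inf_le_left e') (powSec (res L (inf_le_right : W' ≤ U) e'') n))) := by
      rw [← toFun_res, ← app_res, res_tmulSec, res_res, hTc, tmulSec_smul_right,
        Scheme.Modules.Hom.app_smul, toFun_smul]
    rw [← X.presheaf.germ_res_apply (homOfLE (inf_le_left : W' ≤ V)) z hzW'] at hu
    change IsUnit (X.presheaf.germ W' z hzW' (resX X _ _)) at hu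
    rw [h1, map_mul, map_pow] at hu
    have hu' := (isUnit_pow_iff m₀.succ_ne_zero).1 (isUnit_of_mul_isUnit_left hu)
    rw [resX, X.presheaf.germ_res_apply] at hu'
    exact ((gloc_inf_eq_basicOpen he'' hc).ge ((Scheme.mem_basicOpen _ _ _ hzU).2 hu')).1
  have hf₁ : X.presheaf.germ ⊤ z₁ trivial (toFun f) - 1 ∈
      IsLocalRing.maximalIdeal (X.presheaf.stalk z₁) := by
    have hz₁U : z₁ ∈ U₁ := fun h => hdisj z₁ hz₁A h.1 hz₁
    have h := hker z₁ U₁ hz₁U (res O le_top f - oneSec X U₁) hz₁ (by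
      rw [map_sub, sub_eq_zero, app_res, hf]
      exact hq true)
    rw [show toFun (res O le_top f - oneSec X U₁) = resX X le_top (toFun f) - 1 from rfl, map_sub,
      map_one, resX, X.presheaf.germ_res_apply] at h
    exact h
  have hf₂ : X.presheaf.germ ⊤ z₂ trivial (toFun f) ∈
      IsLocalRing.maximalIdeal (X.presheaf.stalk z₂) := by
    have hz₂U : z₂ ∈ U₂ := fun h => hdisj z₂ h.1 hz₂B hz₂
    have h := hker z₂ U₂ hz₂U (res O le_top f) hz₂ (by
      rw [app_res, hf]
      exact hq false)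
    rw [toFun_res, resX, X.presheaf.germ_res_apply] at h
    exact h
  rcases isNilpotent_or_isUnit k (toFun f) with hnil | hu
  · have h := (hnil.map (X.presheaf.germ ⊤ z₁ trivial).hom).isUnit_sub_one
    exact (IsLocalRing.mem_maximalIdeal _).1 hf₁ h
  · exact (IsLocalRing.mem_maximalIdeal _).1 hf₂ (hu.map _)

end Groth.VarietyBC.ZeroConnected
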