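import Groth.Agent.Ega2Proj.MapCharts
import Groth.Agent.Ega2Proj.TwistMap
import Groth.Agent.Ega2Proj.TildeQCoh
import Groth.Agent.Variety2.ZeroScheme
import Groth.Agent.Variety2.ProjDim
import Mathlib.RingTheory.MvPolynomial.Homogeneous

/-!
# Hyperplanes in projective space
-/

set_option autoImplicit false
universe u

open CategoryTheory AlgebraicGeometry MvPolynomial TopologicalSpace Opposite
open Groth.PicAux Groth.Ega2Proj

namespace Groth.VarietyBC.Hyperplane

variable {k : Type u} [Field k]

local notation "𝒫" N => CohB1.polyGrading N k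

theorem X_mem {N : ℕ} (i : Fin (N + 1)) :
    (X i : MvPolynomial (Fin (N + 1)) k) ∈ CohB1.polyGrading N k 1 :=
  (mem_homogeneousSubmodule _ _).2 (isHomogeneous_X k i)

theorem bot_isHomogeneous {N : ℕ} :
    (⊥ : Ideal (MvPolynomial (Fin (N + 1)) k)).IsHomogeneous (CohB1.polyGrading N k) :=
  Ideal.IsHomogeneous.bot _

theorem not_irrelevant_le_bot {N : ℕ} :
    ¬ HomogeneousIdeal.irrelevant (CohB1.polyGrading N k) ≤
      (⟨⊥, bot_isHomogeneous⟩ : HomogeneousIdeal (CohB1.polyGrading N k)) := fun h =>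
  X_ne_zero (0 : Fin (N + 1)) ((Submodule.mem_bot _).1
    (h (HomogeneousIdeal.mem_irrelevant_of_mem _ one_pos (X_mem 0))))

/-- The generic point of projective space. -/
noncomputable def genPt (N : ℕ) : ProjectiveSpectrum (CohB1.polyGrading N k) :=
  ⟨⟨⊥, bot_isHomogeneous⟩, Ideal.isPrime_bot, not_irrelevant_le_bot⟩

theorem notMem_genPt {N : ℕ} {f : MvPolynomial (Fin (N + 1)) k} (h : f ≠ 0) :
    f ∉ (genPt (k := k) N).asHomogeneousIdeal := fun hm => h ((Submodule.mem_bot _).1 hm)

theorem lfrac_eq_lfrac {N : ℕ} (x : ProjectiveSpectrum (CohB1.polyGrading N k))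
    {a b a' b' : MvPolynomial (Fin (N + 1)) k} (hb : b ∉ x.asHomogeneousIdeal)
    (hb' : b' ∉ x.asHomogeneousIdeal) :
    lfrac (CohB1.polyGrading N k) x a hb = lfrac (CohB1.polyGrading N k) x a' hb' ↔
      a * b' = a' * b := by
  rw [lfrac, lfrac, Localization.mk_eq_mk_iff, Localization.r_iff_exists]
  constructor
  · rintro ⟨c, hc⟩
    have hc0 : (c : MvPolynomial (Fin (N + 1)) k) ≠ 0 := fun h =>
      c.2 (show (c : MvPolynomial (Fin (N + 1)) k) ∈ x.asHomogeneousIdeal.toIdeal by
        rw [h]; exact zero_mem _)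
    have := mul_left_cancel₀ hc0 hc
    simp only at this
    linear_combination this
  · intro h
    refine ⟨1, ?_⟩
    simp only [Submonoid.coe_one, one_mul]
    linear_combination h

/-- Global sections of `O(1)` are linear forms. -/
theorem exists_linearForm {N : ℕ} (hN : 1 ≤ N)
    (v : Γ(Twist.twist (CohB1.polyGrading N k) 1, ⊤)) :
    ∃ l, ∃ hl : l ∈ CohB1.polyGrading N k 1, ∀ x hx,
      wval v x hx = lfrac (CohB1.polyGrading N k) x l
        (h := 1) (fun h => x.isPrime.ne_top ((Ideal.eq_top_iff_one _).2 h)) := by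
  classical
  have rep : ∀ i : Fin (N + 1), ∃ (e : ℕ) (m : MvPolynomial (Fin (N + 1)) k),
      m ∈ CohB1.polyGrading N k (e + 1) ∧
      ∀ x (hx : X i ∉ x.asHomogeneousIdeal), wval v x trivial =
        lfrac (CohB1.polyGrading N k) x m (h := X i ^ e)
          (fun h => hx (x.isPrime.mem_of_pow_mem e h)) := by
    intro i
    obtain ⟨e, d, ⟨m, hm⟩, hd, hval⟩ := Tilde.exists_frac (CohB1.polyGrading N k)
      (CohB1.polyGrading N k) 1 one_pos (X_mem i)
      (res (Twist.twist (CohB1.polyGrading N k) 1)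
        (le_top : Proj.basicOpen (CohB1.polyGrading N k) (X i) ≤ ⊤) v)
    obtain rfl : d = e + 1 := by omega
    exact ⟨e, m, hm, fun x hx => hval ⟨x, hx⟩⟩
  choose e m hm hval using rep
  have heq : ∀ i j, m i * X j ^ e j = m j * X i ^ e i := by
    intro i j
    have hi := hval i (genPt N) (notMem_genPt (X_ne_zero i))
    rw [hval j (genPt N) (notMem_genPt (X_ne_zero j))] at hi
    exact ((lfrac_eq_lfrac _ _ _).1 hi).symm
  let j₁ : Fin (N + 1) := ⟨1, by omega⟩
  have hj₁ : (0 : Fin (N + 1)) ≠ j₁ := by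
    intro h; have := congrArg Fin.val h; simp [j₁] at this
  have hprime : Prime (X 0 : MvPolynomial (Fin (N + 1)) k) := X_prime
  have hdvd : (X 0 : MvPolynomial (Fin (N + 1)) k) ^ e 0 ∣ m 0 := by
    have h1 : (X 0 : MvPolynomial (Fin (N + 1)) k) ^ e 0 ∣ X j₁ ^ e j₁ * m 0 :=
      ⟨m j₁, by rw [mul_comm, heq 0 j₁, mul_comm]⟩
    refine hprime.pow_dvd_of_dvd_mul_left _ ?_ h1
    intro h
    have h2 := hprime.dvd_of_dvd_pow h
    rw [X_dvd_X] at h2
    exact hj₁ (by simpa using h2)
  obtain ⟨l, hl⟩ := hdvd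
  have hall : ∀ i, m i = l * X i ^ e i := fun i => by
    have h1 := heq 0 i
    rw [hl] at h1
    exact mul_right_cancel₀ (pow_ne_zero (e 0) (X_ne_zero (0 : Fin (N + 1)))) (by linear_combination -h1)
  have hl1 : l ∈ CohB1.polyGrading N k 1 := by
    by_cases hl0 : l = 0
    · rw [hl0]; exact zero_mem _
    have hm0 := (mem_homogeneousSubmodule _ _).1 (hm 0)
    rw [hall 0] at hm0
    rw [mem_homogeneousSubmodule]
    intro b hb
    have h1 : coeff (b + Finsupp.single 0 (e 0)) (l * X 0 ^ e 0) ≠ 0 := by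
      rw [X_pow_eq_monomial, coeff_mul_monomial, mul_one]; exact hb
    have h2 := hm0 h1
    rw [map_add, Finsupp.weight_single] at h2
    simp only [Pi.one_apply, smul_eq_mul, mul_one] at h2
    omega
  refine ⟨l, hl1, fun x hx => ?_⟩
  obtain ⟨i, hi⟩ := Groth.Variety2.PSpace.exists_X_notMem x
  rw [hval i x hi, lfrac_eq_lfrac, hall i, mul_one]

variable (n : ℕ) (c : Fin (n + 1 + 1) → k) (p : Fin (n + 1 + 1))

/-- The elimination of the variable `p`. -/
noncomputable def elim : MvPolynomial (Fin (n + 1 + 1)) k →ₐ[k] MvPolynomial (Fin (n + 1)) k :=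
  aeval (p.insertNth (C (-(c p)⁻¹) * ∑ j, C (c (p.succAbove j)) * X j) X)

theorem elim_X_succAbove (j : Fin (n + 1)) : elim n c p (X (p.succAbove j)) = X j := by
  simp [elim]

theorem elim_isHomogeneous {i : ℕ} {f : MvPolynomial (Fin (n + 1 + 1)) k} (hf : f.IsHomogeneous i) :
    (elim n c p f).IsHomogeneous i := by
  have := hf.aeval (S := k) (p.insertNth (C (-(c p)⁻¹) * ∑ j, C (c (p.succAbove j)) * X j) X)
    (n := 1) (fun j => by
      rcases Fin.eq_self_or_eq_succAbove p j with rfl | ⟨j, rfl⟩
      · rw [Fin.insertNth_apply_same]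
        exact (IsHomogeneous.sum _ _ _ fun j _ => (isHomogeneous_X k j).C_mul _).C_mul _
      · rw [Fin.insertNth_apply_succAbove]
        exact isHomogeneous_X k j)
  simpa [elim] using this

/-- The linear form. -/
noncomputable def form : MvPolynomial (Fin (n + 1 + 1)) k := ∑ j, C (c j) * X j

theorem form_mem : form n c ∈ CohB1.polyGrading (n + 1) k 1 :=
  (mem_homogeneousSubmodule _ _).2 (IsHomogeneous.sum _ _ _ fun j _ => (isHomogeneous_X k j).C_mul _)

theorem exists_coeff {l : MvPolynomial (Fin (n + 1 + 1)) k}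
    (hl : l ∈ CohB1.polyGrading (n + 1) k 1) : ∃ c, l = form n c := by
  classical
  rw [mem_homogeneousSubmodule] at hl
  refine ⟨fun j => coeff (Finsupp.single j 1) l, ?_⟩
  ext b
  simp only [form, coeff_sum, coeff_C_mul, coeff_X]
  by_cases hb : coeff b l = 0
  · rw [hb, Finset.sum_eq_zero]
    intro j _
    by_cases h : Finsupp.single j 1 = b
    · subst h
      rw [if_pos rfl, mul_one]
      exact hb
    · rw [if_neg h, mul_zero]
  · have hdeg := hl hb
    obtain ⟨j, rfl⟩ : ∃ j, b = Finsupp.single j 1 := by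
      rw [Finsupp.weight_apply, Finsupp.sum_fintype _ _ (by simp)] at hdeg
      simp only [Pi.one_apply, smul_eq_mul, mul_one] at hdeg
      obtain ⟨j, hj⟩ : ∃ j, b j ≠ 0 := by
        by_contra h
        push Not at h
        simp [h] at hdeg
      refine ⟨j, Finsupp.ext fun i => ?_⟩
      have hle := Finset.add_sum_erase Finset.univ (fun i => b i) (Finset.mem_univ j)
      by_cases hij : i = j
      · subst hij; simp; omega
      · have := Finset.single_le_sum (f := fun i => b i) (fun _ _ => Nat.zero_le _)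
          (show i ∈ Finset.univ.erase j by simp [hij])
        rw [Finsupp.single_eq_of_ne hij]
        omega
    rw [Finset.sum_eq_single j]
    · simp
    · intro i _ hij
      rw [if_neg, mul_zero]
      exact fun h => hij ((Finsupp.single_left_injective one_ne_zero) h)
    · simp

variable (hp : c p ≠ 0)

include hp in
theorem elim_form : elim n c p (form n c) = 0 := by
  have h : (form n c) = C (c p) * X p + ∑ j, C (c (p.succAbove j)) * X (p.succAbove j) :=
    Fin.sum_univ_succAbove _ p
  rw [h, map_add, map_mul, map_sum]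
  simp only [map_mul, elim_X_succAbove]
  simp only [elim, aeval_X, Fin.insertNth_apply_same, aeval_C, algebraMap_eq]
  rw [← mul_assoc, ← map_mul, mul_neg, mul_inv_cancel₀ hp, map_neg, map_one, neg_one_mul,
    neg_add_cancel]

include hp in
theorem elim_eq_zero_iff (f : MvPolynomial (Fin (n + 1 + 1)) k) :
    elim n c p f = 0 ↔ form n c ∣ f := by
  refine ⟨fun h => ?_, fun ⟨g, hg⟩ => by rw [hg, map_mul, elim_form n c p hp, zero_mul]⟩
  let q := Ideal.Quotient.mkₐ k (Ideal.span {form n c})
  have key : q.comp ((rename p.succAbove).comp (elim n c p)) = q := by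
    refine MvPolynomial.algHom_ext fun j => ?_
    rcases Fin.eq_self_or_eq_succAbove p j with rfl | ⟨j, rfl⟩
    · simp only [AlgHom.comp_apply, elim, aeval_X, Fin.insertNth_apply_same, map_mul, map_sum,
        rename_C, rename_X]
      have hsplit : form n c = C (c j) * X j + ∑ i, C (c (j.succAbove i)) * X (j.succAbove i) :=
        Fin.sum_univ_succAbove _ j
      have h0 : q (form n c) = 0 :=
        Ideal.Quotient.eq_zero_iff_mem.2 (Ideal.mem_span_singleton_self _)
      rw [congrArg q hsplit] at h0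
      simp only [map_add, map_mul, map_sum] at h0
      have h1 : q (C (-(c j)⁻¹)) * q (C (c j)) = -1 := by
        rw [← map_mul, ← map_mul, neg_mul, inv_mul_cancel₀ hp, map_neg, map_neg, map_one, map_one]
      linear_combination q (C (-(c j)⁻¹)) * h0 - q (X j) * h1
    · simp [elim_X_succAbove]
  have := DFunLike.congr_fun key f
  simp only [AlgHom.comp_apply, h, map_zero] at this
  exact Ideal.mem_span_singleton.1 (Ideal.Quotient.eq_zero_iff_mem.1 this.symm)

/-- The graded elimination map. -/
noncomputable def elimHom : CohB1.polyGrading (n + 1) k →+*ᵍ CohB1.polyGrading n k :=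
  { (elim n c p).toRingHom with
    map_mem := fun hf => (mem_homogeneousSubmodule _ _).2
      (elim_isHomogeneous n c p ((mem_homogeneousSubmodule _ _).1 hf)) }

@[simp] theorem elimHom_apply (f : MvPolynomial (Fin (n + 1 + 1)) k) :
    elimHom n c p f = elim n c p f := rfl

theorem elimHom_surjective : Function.Surjective (elimHom n c p) := fun g => by
  refine ⟨rename p.succAbove g, ?_⟩
  rw [elimHom_apply, ← AlgHom.comp_apply]
  conv_rhs => rw [← AlgHom.id_apply (R := k) g]
  congr 1
  refine MvPolynomial.algHom_ext fun j => ?_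
  simp [elim_X_succAbove]

theorem irrelevant_le : HomogeneousIdeal.irrelevant (CohB1.polyGrading n k) ≤
    (HomogeneousIdeal.irrelevant (CohB1.polyGrading (n + 1) k)).map (elimHom n c p) := by
  classical
  intro b hb
  obtain ⟨a, rfl⟩ := elimHom_surjective n c p b
  have h0 : (DirectSum.decompose (CohB1.polyGrading n k) (elimHom n c p a) 0 :
      MvPolynomial (Fin (n + 1)) k) = 0 := hb
  rw [← GradedRingHom.map_directSumDecompose] at h0
  have hmem : a - (DirectSum.decompose (CohB1.polyGrading (n + 1) k) a 0 :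
      MvPolynomial (Fin (n + 1 + 1)) k) ∈
      HomogeneousIdeal.irrelevant (CohB1.polyGrading (n + 1) k) := by
    rw [HomogeneousIdeal.mem_irrelevant_iff, GradedRing.proj_apply, DirectSum.decompose_sub,
      DirectSum.decompose_coe]
    simp
  have := Ideal.mem_map_of_mem (elimHom n c p) hmem
  rw [map_sub, h0, sub_zero] at this
  exact this

/-- The embedding of the hyperplane. -/
noncomputable def emb : Proj (CohB1.polyGrading n k) ⟶ Proj (CohB1.polyGrading (n + 1) k) :=
  Proj.map (elimHom n c p) (irrelevant_le n c p)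

instance : IsClosedImmersion (emb n c p) :=
  proj_map_isClosedImmersion_of_surjective _ _ (elimHom_surjective n c p)

theorem iSup_basicOpen :
    ⨆ i : Fin (n + 1 + 1), Proj.basicOpen (CohB1.polyGrading (n + 1) k) (X i) = ⊤ := by
  refine top_le_iff.1 fun x _ => Opens.mem_iSup.2 ?_
  exact Groth.Variety2.PSpace.exists_X_notMem x

theorem isInvertible : PicF.IsInvertible (Twist.twist (CohB1.polyGrading (n + 1) k) 1) :=
  isInvertible_of_gen_cover _ (iSup_basicOpen n)
    (fun i => fracGen (X_mem i) SetLike.GradedOne.one_mem rfl _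
      (fun x _ h => x.isPrime.ne_top ((Ideal.eq_top_iff_one _).2 h)))
    (fun i => gen_fracGen _ _ _ _ _ fun _ hx => hx)

/-- A degree zero fraction as a function. -/
theorem exists_fracFun {N e : ℕ} {a b : MvPolynomial (Fin (N + 1)) k}
    (ha : a ∈ CohB1.polyGrading N k e) (hb : b ∈ CohB1.polyGrading N k e)
    (U : (Proj (CohB1.polyGrading N k)).Opens)
    (hU : ∀ x : ProjectiveSpectrum (CohB1.polyGrading N k), x ∈ U → b ∉ x.asHomogeneousIdeal) :
    ∃ r : Γ(Proj (CohB1.polyGrading N k), U), ∀ x hx,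
      (r.1 ⟨x, hx⟩).val = lfrac (CohB1.polyGrading N k) x a (hU x hx) := by
  obtain ⟨r, hr⟩ := exists_fun_eq_wval (fracGen ha hb (n := 0) (by simp) U hU)
  exact ⟨r, fun x hx => (hr x hx).trans (wval_fracGen ..)⟩

theorem fun_eq_mul {N : ℕ} {U : (Proj (CohB1.polyGrading N k)).Opens}
    {r s t : Γ(Proj (CohB1.polyGrading N k), U)}
    (h : ∀ x hx, (s.1 ⟨x, hx⟩).val * (t.1 ⟨x, hx⟩).val = (r.1 ⟨x, hx⟩).val) : s * t = r :=
  fun_ext fun x hx => (HomogeneousLocalization.val_mul _ _).trans (h x hx)

theorem lfrac_zero {N : ℕ} (x : ProjectiveSpectrum (CohB1.polyGrading N k))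
    {h : MvPolynomial (Fin (N + 1)) k} (hx : h ∉ x.asHomogeneousIdeal) :
    lfrac (CohB1.polyGrading N k) x 0 hx = 0 := Localization.mk_zero _

include hp in
theorem form_ne_zero : form n c ≠ 0 := by
  classical
  intro h
  have hco := congrArg (coeff (Finsupp.single p 1)) h
  simp only [form, coeff_sum, coeff_C_mul, coeff_X, coeff_zero] at hco
  rw [Finset.sum_eq_single p (fun j _ hj => by
    rw [if_neg (fun h => hj (Finsupp.single_left_injective one_ne_zero h)), mul_zero])
    (by simp)] at hco
  simp [hp] at hco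

include hp in
/-- The cofactor of the linear form. -/
theorem isHomogeneous_cofactor {e : ℕ} {g : MvPolynomial (Fin (n + 1 + 1)) k}
    (h : (form n c * g).IsHomogeneous (e + 1)) : g.IsHomogeneous e := by
  classical
  have hf1 := (mem_homogeneousSubmodule _ _).1 (form_mem n c)
  intro b hb
  set j := Finsupp.weight (1 : Fin (n + 1 + 1) → ℕ) b with hj
  have hne : homogeneousComponent j g ≠ 0 := fun h0 => hb (by
    have h3 := congrArg (coeff b) h0
    rwa [coeff_homogeneousComponent, if_pos (by rw [Finsupp.degree_eq_weight_one]; rfl), coeff_zero] at h3)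
  by_contra hje
  have h2 : homogeneousComponent (j + 1) (form n c * g) =
      form n c * homogeneousComponent j g := by
    conv_lhs => rw [← sum_homogeneousComponent g, Finset.mul_sum, map_sum]
    rw [Finset.sum_eq_single j]
    · rw [homogeneousComponent_of_mem ((mem_homogeneousSubmodule _ _).2
        (hf1.mul (homogeneousComponent_isHomogeneous j g))), if_pos (add_comm 1 j).symm]
    · intro j' _ hj'
      rw [homogeneousComponent_of_mem ((mem_homogeneousSubmodule _ _).2
        (hf1.mul (homogeneousComponent_isHomogeneous j' g))), if_neg (by omega)]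
    · intro hnot
      exfalso
      exact hne (homogeneousComponent_eq_zero j g (by simpa using hnot))
  rw [homogeneousComponent_of_mem ((mem_homogeneousSubmodule _ _).2 h), if_neg (by omega)] at h2
  exact (mul_ne_zero (form_ne_zero n c p hp) hne) h2.symm

include hp in
theorem app_eq_zero_iff (i : Fin (n + 1 + 1))
    {r₀ : Γ(Proj (CohB1.polyGrading (n + 1) k), Proj.basicOpen (CohB1.polyGrading (n + 1) k) (X i))}
    (hr₀ : ∀ x hx, (r₀.1 ⟨x, hx⟩).val =
      lfrac (CohB1.polyGrading (n + 1) k) x (form n c) (h := X i) hx)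
    (r : Γ(Proj (CohB1.polyGrading (n + 1) k), Proj.basicOpen (CohB1.polyGrading (n + 1) k) (X i))) :
    (emb n c p).app _ r = 0 ↔ r ∈ Ideal.span {r₀} := by
  have hval : ∀ (r : Γ(Proj (CohB1.polyGrading (n + 1) k),
      Proj.basicOpen (CohB1.polyGrading (n + 1) k) (X i))) y
      (hy : y ∈ emb n c p ⁻¹ᵁ Proj.basicOpen (CohB1.polyGrading (n + 1) k) (X i)),
      (((emb n c p).app _ r).1 ⟨y, hy⟩).val =
      locMap (elimHom n c p) (x := imgPt _ (irrelevant_le n c p) y) rfl
        (r.1 ⟨imgPt _ (irrelevant_le n c p) y, hy⟩).val :=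
    fun r y hy => map_app_val _ _ r y hy
  constructor
  · intro hr
    obtain ⟨e, a, ha, hra⟩ := exists_fun_eq_frac _ (d := 1) one_pos (X_mem i) r
    have hdvd : form n c ∣ a * X i := by
      rw [← elim_eq_zero_iff n c p hp, map_mul]
      by_cases hX : elim n c p (X i) = 0
      · rw [hX, mul_zero]
      have hgp : imgPt _ (irrelevant_le n c p) (genPt n) ∈
          Proj.basicOpen (CohB1.polyGrading (n + 1) k) (X i) := fun h => notMem_genPt hX h
      have h1 := hval r (genPt n) hgp
      rw [hr, hra _ hgp] at h1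
      have h2 : lfrac (CohB1.polyGrading n k) (genPt n) (elimHom n c p a)
          (notMem_of_comap (elimHom n c p) (x := imgPt _ (irrelevant_le n c p) (genPt n)) rfl
            (h := X i ^ e) fun h => hgp (ProjectiveSpectrum.isPrime _ |>.mem_of_pow_mem e h)) = 0 :=
        (locMap_lfrac _ _ a _).symm.trans (h1.symm.trans HomogeneousLocalization.val_zero)
      rw [← lfrac_zero (genPt n) (notMem_genPt (one_ne_zero)), lfrac_eq_lfrac] at h2
      simp only [elimHom_apply, mul_one, zero_mul] at h2
      rw [h2, zero_mul]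
    obtain ⟨g, hg⟩ := hdvd
    have hgh : g ∈ CohB1.polyGrading (n + 1) k e := by
      rw [mem_homogeneousSubmodule]
      refine isHomogeneous_cofactor n c p hp ?_
      rw [← hg]
      have := ((mem_homogeneousSubmodule _ _).1 ha).mul (isHomogeneous_X k i)
      rwa [mul_one] at this
    have hXp : X i ^ e ∈ CohB1.polyGrading (n + 1) k e := by
      simpa using SetLike.pow_mem_graded e (X_mem (k := k) i)
    obtain ⟨b, hb⟩ := exists_fracFun hgh hXp (Proj.basicOpen (CohB1.polyGrading (n + 1) k) (X i))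
      fun x hx h => hx (x.isPrime.mem_of_pow_mem _ h)
    refine Ideal.mem_span_singleton'.2 ⟨b, fun_eq_mul fun x hx => ?_⟩
    rw [hb, hr₀]
    refine (lfrac_mul_lfrac _ x _ _ (fun h => (x.isPrime.mem_or_mem h).elim
      (fun h => hx (x.isPrime.mem_of_pow_mem _ h)) hx)).trans ?_
    refine Eq.trans ?_ (hra x hx).symm
    refine (lfrac_eq_lfrac x _ (fun h => hx (x.isPrime.mem_of_pow_mem e h))).2 ?_
    linear_combination -(X i ^ e) * hg
  · intro hr
    obtain ⟨b, rfl⟩ := Ideal.mem_span_singleton'.1 hr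
    have h0 : (emb n c p).app _ r₀ = 0 := by
      refine fun_ext fun y hy => ?_
      rw [hval r₀ y hy]
      erw [hr₀, locMap_lfrac]
      simp only [elimHom_apply, elim_form n c p hp]
      exact (Localization.mk_zero _).trans HomogeneousLocalization.val_zero.symm
    rw [map_mul, h0, mul_zero]

include hp in
/-- The kernel of the embedding is the zero scheme of the linear form. -/
theorem ker_emb
    (s : Coh.structureModule (Proj (CohB1.polyGrading (n + 1) k)) ⟶
      Twist.twist (CohB1.polyGrading (n + 1) k) 1)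
    (hs : ∀ x, wval (Groth.Variety2.Zero.val _ s ⊤) x trivial =
      lfrac (CohB1.polyGrading (n + 1) k) x (form n c) (h := 1)
        (fun h => x.isPrime.ne_top ((Ideal.eq_top_iff_one _).2 h))) :
    (emb n c p).ker = PicF2.zeroScheme _ s := by
  refine Scheme.IdealSheafData.ext_of_iSup_eq_top
    (fun i => (⟨Proj.basicOpen (CohB1.polyGrading (n + 1) k) (X i),
      Proj.isAffineOpen_basicOpen _ _ (X_mem i) one_pos⟩ :
      (Proj (CohB1.polyGrading (n + 1) k)).affineOpens)) (iSup_basicOpen n) fun i => ?_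
  obtain ⟨r₀, hr₀⟩ := exists_fracFun (form_mem n c) (X_mem i)
    (Proj.basicOpen (CohB1.polyGrading (n + 1) k) (X i)) fun x hx => hx
  have hgen := gen_fracGen (𝒜 := CohB1.polyGrading (n + 1) k) (X_mem (k := k) i)
    SetLike.GradedOne.one_mem (n := 1) rfl (Proj.basicOpen (CohB1.polyGrading (n + 1) k) (X i))
    (fun x _ h => x.isPrime.ne_top ((Ideal.eq_top_iff_one _).2 h)) fun _ hx => hx
  rw [Groth.Variety2.Zero.zeroScheme_ideal_eq_span (isInvertible n) s _ hgen (c := r₀) ?_,
    Scheme.Hom.ker_apply]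
  · exact Ideal.ext fun r => app_eq_zero_iff n c p hp i hr₀ r
  refine wval_ext fun x hx => ?_
  rw [← Groth.Variety2.Zero.res_val _ s le_top]
  refine (hs x).trans ?_
  refine Eq.trans ?_ (wval_smul _ _ x hx).symm
  erw [hr₀]
  refine Eq.trans ?_ (lfrac_mul_lfrac _ _ _ _ (fun h => (x.isPrime.mem_or_mem h).elim hx
    fun h => x.isPrime.ne_top ((Ideal.eq_top_iff_one _).2 h))).symm
  refine (lfrac_eq_lfrac _ _ _).2 ?_
  ring

theorem bijective_of_gen {Y : Scheme.{u}} {L M : Y.Modules} (φ : L ⟶ M) {U V : Y.Opens} (h : V ≤ U)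
    {s : Γ(L, U)} (hs : Gen L U s) (ht : Gen M U (φ.app U s)) : Function.Bijective (φ.app V) := by
  have e1 : (φ.app V : Γ(L, V) → Γ(M, V)) ∘ (fun r : Γ(Y, V) => r • res L h s) =
      fun r => r • res M h (φ.app U s) := by
    funext r
    simp [app_res]
  have h2 := ht V h
  rw [← e1] at h2
  exact (Function.Bijective.of_comp_iff _ (hs V h)).1 h2

/-- The pullback of `O(1)`. -/
theorem isIso_mu :
    IsIso (mu (elimHom n c p) (irrelevant_le n c p) 1) := by
  have hcov : ⨆ i, emb n c p ⁻¹ᵁ Proj.basicOpen (CohB1.polyGrading (n + 1) k) (X i) = ⊤ := by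
    rw [← Scheme.Hom.preimage_iSup, iSup_basicOpen]
    rfl
  refine isIso_of_cover hcov _ fun i V hV => ?_
  have hgen : Gen (Twist.twist (CohB1.polyGrading (n + 1) k) 1)
      (Proj.basicOpen (CohB1.polyGrading (n + 1) k) (X i))
      (fracGen (X_mem i) SetLike.GradedOne.one_mem rfl _
        (fun x _ h => x.isPrime.ne_top ((Ideal.eq_top_iff_one _).2 h))) :=
    gen_fracGen _ _ _ _ _ fun _ hx => hx
  have hpull := hgen.pull (emb n c p)
  have himg : Gen (Twist.twist (CohB1.polyGrading n k) 1)
      (emb n c p ⁻¹ᵁ Proj.basicOpen (CohB1.polyGrading (n + 1) k) (X i))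
      ((mu (elimHom n c p) (irrelevant_le n c p) 1).app _
        (pullSec (emb n c p) _ (fracGen (X_mem i) SetLike.GradedOne.one_mem rfl _
          (fun x _ h => x.isPrime.ne_top ((Ideal.eq_top_iff_one _).2 h))))) := by
    refine (congrArg (Gen _ _) (mu_pullSec (elimHom n c p) (irrelevant_le n c p) 1
      (Proj.basicOpen (CohB1.polyGrading (n + 1) k) (X i)) _)).mpr ?_
    have hg := gen_fracGen (𝒜 := CohB1.polyGrading n k)
      ((elimHom n c p).2 (X_mem (k := k) i)) (SetLike.GradedOne.one_mem) (n := 1) (by simp)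
      (emb n c p ⁻¹ᵁ Proj.basicOpen (CohB1.polyGrading (n + 1) k) (X i))
      (fun x _ h => x.isPrime.ne_top ((Ideal.eq_top_iff_one _).2 h)) (fun y hy => hy)
    refine (congrArg (Gen _ _) ?_).mp hg
    refine wval_ext fun y hy => ?_
    refine Eq.trans ?_ (wval_nuFun _ _ _ _ _ y hy).symm
    refine Eq.trans ?_ (locMap_lfrac _ _ _ _).symm
    exact (lfrac_eq_lfrac _ _ _).2 (by simp)
  exact bijective_of_gen (mu (elimHom n c p) (irrelevant_le n c p) 1) hV hpull himg

end Groth.VarietyBC.Hyperplane
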