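import Groth.Agent.RefRank.Algebra
import Mathlib.AlgebraicGeometry.Noetherian
import Mathlib.AlgebraicGeometry.FunctionField
import Mathlib.AlgebraicGeometry.Morphisms.UniversallyInjective
import Mathlib.AlgebraicGeometry.AlgClosed.Basic
import Mathlib.AlgebraicGeometry.Morphisms.Separated
import Mathlib.RingTheory.DiscreteValuationRing.TFAE
import Mathlib.RingTheory.Adjoin.Tower
import Mathlib.RingTheory.LocalProperties.IntegrallyClosed

/-!
# Global functions along a radicial surjection onto a normal variety
-/

set_option autoImplicit false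

universe u

open CategoryTheory CategoryTheory.Limits AlgebraicGeometry TopologicalSpace IsLocalRing

namespace Groth.VarietyBC.RadicialSections

/-- A morphism of varieties over an algebraically closed field which is injective is radicial. -/
theorem universallyInjective_of_injective {k : Type u} [Field k] [IsAlgClosed k] {X Y : Scheme.{u}}
    (π : Y ⟶ X) (sX : X ⟶ Spec (CommRingCat.of k)) (sY : Y ⟶ Spec (CommRingCat.of k))
    (hw : π ≫ sX = sY) [LocallyOfFiniteType sY] [IsSeparated sY] (hπ : Function.Injective π) :
    UniversallyInjective π := by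
  haveI : LocallyOfFiniteType π := by
    subst hw; exact locallyOfFiniteType_of_comp π sX
  haveI : IsSeparated π := by
    subst hw; exact IsSeparated.of_comp π sX
  rw [UniversallyInjective.iff_diagonal]
  let Δ := pullback.diagonal π
  let sW := pullback.fst π π ≫ sY
  haveI : LocallyOfFiniteType sW := inferInstance
  haveI : JacobsonSpace (pullback π π : Scheme.{u}) := LocallyOfFiniteType.jacobsonSpace sW
  constructor
  have hcl : closedPoints (pullback π π : Scheme.{u}) ⊆ Set.range Δ := fun w hw' => by
    let s := pointOfClosedPoint sW w hw'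
    have hs : s (closedPoint k) = w := pointOfClosedPoint_apply sW w hw' _
    have h1 : (s ≫ pullback.fst π π) ≫ sY = 𝟙 _ := by
      rw [Category.assoc]; exact pointOfClosedPoint_comp sW w hw'
    have h2 : (s ≫ pullback.snd π π) ≫ sY = 𝟙 _ := by
      rw [← h1, ← hw]; simp only [Category.assoc]; rw [pullback.condition_assoc]
    have heq : s ≫ pullback.fst π π = s ≫ pullback.snd π π := by
      refine ext_of_apply_closedPoint_eq sY h1 h2 (hπ ?_)
      rw [← Scheme.Hom.comp_apply, ← Scheme.Hom.comp_apply, Category.assoc, Category.assoc,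
        pullback.condition]
    have hd : (s ≫ pullback.fst π π) ≫ Δ = s := by
      apply pullback.hom_ext
      · rw [Category.assoc, pullback.diagonal_fst, Category.comp_id]
      · rw [Category.assoc, pullback.diagonal_snd, Category.comp_id, heq]
    exact ⟨(s ≫ pullback.fst π π) (closedPoint k), by rw [← Scheme.Hom.comp_apply, hd, hs]⟩
  have hu : Set.range Δ = Set.univ := by
    refine Set.eq_univ_of_univ_subset ?_
    rw [← closure_closedPoints]
    exact closure_minimal hcl Δ.isClosedEmbedding.isClosed_range
  exact Set.range_eq_univ.1 hu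

variable {X Y : Scheme.{u}} [IsIntegral X] [IsIntegral Y] (π : Y ⟶ X) [Surjective π]

theorem apply_genericPoint : π (genericPoint Y) = genericPoint X := by
  refine ((genericPoint_spec X).eq ?_).symm
  rw [isGenericPoint_iff_specializes]
  intro x
  obtain ⟨y, rfl⟩ := π.surjective x
  exact iff_of_true (((genericPoint_spec Y).specializes trivial).map π.continuous) trivial

/-- The induced map of function fields. -/
noncomputable def fieldMap : X.functionField ⟶ Y.functionField :=
  X.presheaf.stalkSpecializes (specializes_of_eq (apply_genericPoint π)) ≫ π.stalkMap (genericPoint Y)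

theorem fieldMap_germ (U : X.Opens) [Nonempty U] [Nonempty (π ⁻¹ᵁ U)] (a : Γ(X, U)) :
    fieldMap π (X.germToFunctionField U a) = Y.germToFunctionField (π ⁻¹ᵁ U) (π.app U a) := by
  rw [fieldMap, CommRingCat.comp_apply, Scheme.germToFunctionField,
    TopCat.Presheaf.germ_stalkSpecializes_apply, Scheme.Hom.germ_stalkMap_apply]

theorem fieldMap_algebraMap (y : Y) (c : X.presheaf.stalk (π y)) :
    fieldMap π (algebraMap (X.presheaf.stalk (π y)) X.functionField c) =
      algebraMap (Y.presheaf.stalk y) Y.functionField (π.stalkMap y c) := by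
  obtain ⟨W, hW, a, rfl⟩ := X.presheaf.exists_germ_eq c
  haveI : Nonempty W := ⟨⟨_, hW⟩⟩
  haveI : Nonempty (π ⁻¹ᵁ W) := ⟨⟨y, hW⟩⟩
  rw [Scheme.algebraMap_germ_eq_germToFunctionField, fieldMap_germ, Scheme.Hom.germ_stalkMap_apply,
    Scheme.algebraMap_germ_eq_germToFunctionField]

/-- A rational function whose pullback is regular lies in the valuation ring of a codimension one point. -/
theorem mem_range_stalk (y : Y) [IsDomain (X.presheaf.stalk (π y))]
    [ValuationRing (X.presheaf.stalk (π y))] (z : X.functionField) (G : Y.presheaf.stalk y)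
    (hz : fieldMap π z = algebraMap (Y.presheaf.stalk y) Y.functionField G) :
    z ∈ Set.range (algebraMap (X.presheaf.stalk (π y)) X.functionField) := by
  rcases ValuationRing.isInteger_or_isInteger (X.presheaf.stalk (π y)) z with h | h
  · exact h
  · obtain ⟨c, hc⟩ := h
    rcases eq_or_ne z 0 with rfl | hz0
    · exact ⟨0, map_zero _⟩
    by_cases hu : IsUnit c
    · obtain ⟨v, rfl⟩ := hu
      refine ⟨↑v⁻¹, ?_⟩
      rw [map_units_inv, hc, inv_inv]
    · exfalso
      refine hu ((isUnit_map_iff (π.stalkMap y).hom c).1 (IsUnit.of_mul_eq_one G ?_))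
      apply IsFractionRing.injective (Y.presheaf.stalk y) Y.functionField
      rw [map_mul, map_one, ← fieldMap_algebraMap, ← hz, ← map_mul, hc, inv_mul_cancel₀ hz0, map_one]

variable [IsLocallyNoetherian X] (hX : ∀ x : X, IsIntegrallyClosed (X.presheaf.stalk x))
include hX

/-- Rational functions whose pullback is regular are regular. -/
theorem exists_section [Nonempty (⊤ : Y.Opens)] (z : X.functionField) (F : Γ(Y, ⊤))
    (hz : fieldMap π z = Y.germToFunctionField ⊤ F) : ∃ g : Γ(X, ⊤), π.appTop g = F := by
  haveI hne : Nonempty (π ⁻¹ᵁ (⊤ : X.Opens)) := ⟨⟨genericPoint Y, trivial⟩⟩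
  have hloc : ∀ x : X, ∃ U : X.Opens, ∃ (_ : Nonempty U) (a : Γ(X, U)), x ∈ U ∧
      X.germToFunctionField U a = z := by
    intro x
    obtain ⟨U, hU, hxU, -⟩ := exists_isAffineOpen_mem_and_subset (x := x) (U := (⊤ : X.Opens)) trivial
    haveI : Nonempty U := ⟨⟨x, hxU⟩⟩
    refine ⟨U, inferInstance, ?_⟩
    haveI : IsFractionRing Γ(X, U) X.functionField := functionField_isFractionRing_of_isAffineOpen X U hU
    haveI : IsNoetherianRing Γ(X, U) := IsLocallyNoetherian.component_noetherian ⟨U, hU⟩
    haveI : IsIntegrallyClosed Γ(X, U) := by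
      refine IsIntegrallyClosed.of_localization_maximal fun p _ hp => ?_
      let pt : PrimeSpectrum Γ(X, U) := ⟨p, hp.isPrime⟩
      have hq : hU.fromSpec pt ∈ U := by
        have : hU.fromSpec pt ∈ hU.fromSpec.opensRange := ⟨pt, rfl⟩
        rwa [hU.opensRange_fromSpec] at this
      letI : Algebra Γ(X, U) (X.presheaf.stalk (hU.fromSpec pt)) :=
        X.presheaf.algebra_section_stalk ⟨_, hq⟩
      haveI : IsLocalization p.primeCompl (X.presheaf.stalk (hU.fromSpec pt)) :=
        hU.isLocalization_stalk' pt hq
      haveI : IsIntegrallyClosed (X.presheaf.stalk (hU.fromSpec pt)) := hX _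
      exact IsIntegrallyClosed.of_equiv (IsLocalization.algEquiv p.primeCompl
        (X.presheaf.stalk (hU.fromSpec pt)) (Localization.AtPrime p)).toRingEquiv
    obtain ⟨a, ha⟩ := Groth.RefRank.mem_range_of_height_one (A := Γ(X, U)) z fun p hp hp1 => by
      obtain ⟨y, hy⟩ := π.surjective (hU.fromSpec ⟨p, hp⟩)
      have hmem : π y ∈ U := by
        have : hU.fromSpec ⟨p, hp⟩ ∈ hU.fromSpec.opensRange := ⟨_, rfl⟩
        rw [hU.opensRange_fromSpec] at this
        exact hy ▸ this
      letI : Algebra Γ(X, U) (X.presheaf.stalk (π y)) := X.presheaf.algebra_section_stalk ⟨π y, hmem⟩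
      haveI hloc : IsLocalization.AtPrime (X.presheaf.stalk (π y)) p := by
        have h3 : hU.primeIdealOf ⟨π y, hmem⟩ = ⟨p, hp⟩ := hU.fromSpec.isOpenEmbedding.injective
            ((hU.fromSpec_primeIdealOf _).trans hy)
        have := hU.isLocalization_stalk ⟨π y, hmem⟩
        simp only [h3] at this
        exact this
      haveI : IsNoetherianRing (X.presheaf.stalk (π y)) :=
        IsLocalization.isNoetherianRing p.primeCompl _ inferInstance
      haveI : IsIntegrallyClosed (X.presheaf.stalk (π y)) := hX _
      have hdim : ringKrullDim (X.presheaf.stalk (π y)) = 1 := by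
        rw [IsLocalization.AtPrime.ringKrullDim_eq_height p, hp1]; rfl
      haveI : Ring.KrullDimLE 1 (X.presheaf.stalk (π y)) := Ring.krullDimLE_iff.2 (by rw [hdim]; rfl)
      haveI : ValuationRing (X.presheaf.stalk (π y)) := by
        have e : (IsIntegrallyClosed (X.presheaf.stalk (π y)) ∧ ∀ P : Ideal (X.presheaf.stalk (π y)),
            P ≠ ⊥ → P.IsPrime → P = maximalIdeal (X.presheaf.stalk (π y))) ↔
            ValuationRing (X.presheaf.stalk (π y)) :=
          (tfae_of_isNoetherianRing_of_isLocalRing_of_isDomain (X.presheaf.stalk (π y))).out 3 1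
        exact e.1 ⟨inferInstance, fun P hP0 hP => IsLocalRing.eq_maximalIdeal (hP.isMaximal_of_ne_bot hP0)⟩
      haveI : Nonempty (⊤ : Y.Opens) := ⟨⟨y, trivial⟩⟩
      obtain ⟨w, hw⟩ := mem_range_stalk π y z (Y.presheaf.germ ⊤ y trivial F)
        (by rw [hz, Scheme.algebraMap_germ_eq_germToFunctionField])
      obtain ⟨⟨b, s⟩, hs⟩ := IsLocalization.surj p.primeCompl w
      have hcomp : ∀ t : Γ(X, U), algebraMap (X.presheaf.stalk (π y)) X.functionField
          (algebraMap Γ(X, U) (X.presheaf.stalk (π y)) t) = algebraMap Γ(X, U) X.functionField t :=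
        fun t => by apply Scheme.algebraMap_germ_eq_germToFunctionField
      refine ⟨s, s.2, b, ?_⟩
      rw [← hcomp, ← hcomp, ← hs, map_mul, hw, mul_comm]
    exact ⟨a, hxU, ha⟩
  choose U hUne a hxU ha using hloc
  obtain ⟨g, hg, -⟩ := X.sheaf.existsUnique_gluing' U ⊤ (fun _ => homOfLE le_top)
    (fun x _ => Opens.mem_iSup.2 ⟨x, hxU x⟩) a fun i j => by
      by_cases h : Nonempty (U i ⊓ U j : X.Opens)
      · refine Scheme.germToFunctionField_injective X (U i ⊓ U j) ?_
        exact ((X.presheaf.germ_res_apply _ _ _ _).trans (ha i)).trans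
          ((X.presheaf.germ_res_apply _ _ _ _).trans (ha j)).symm
      · have : (U i ⊓ U j : X.Opens) = ⊥ := by
          ext x; exact iff_of_false (fun hx => h ⟨⟨x, hx⟩⟩) id
        exact (CommRingCat.subsingleton_of_isTerminal (X.sheaf.isTerminalOfEqEmpty this)).elim _ _
  refine ⟨g, Scheme.germToFunctionField_injective Y _ ?_⟩
  haveI : Nonempty (⊤ : X.Opens) := ⟨⟨genericPoint X, trivial⟩⟩
  rw [← hz, ← ha (genericPoint X), ← hg (genericPoint X)]
  refine ((fieldMap_germ π ⊤ g).symm.trans ?_)
  congr 1
  exact (X.presheaf.germ_res_apply _ _ _ _).symm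

omit [IsLocallyNoetherian X] hX in
/-- Purely inseparable extension of the function fields. -/
theorem exists_pow_mem [UniversallyInjective π] (G : Y.functionField) :
    ∃ N : ℕ, 0 < N ∧ ∃ z, fieldMap π z = G ^ N := by
  have e : UniversallyInjective π ↔
      (Function.Injective π ∧ ∀ x, (π.residueFieldMap x).hom.IsPurelyInseparable) :=
    (tfae_universallyInjective π).out 0 2
  have hP := (e.1 inferInstance).2 (genericPoint Y)
  algebraize [(π.residueFieldMap (genericPoint Y)).hom]
  haveI : IsPurelyInseparable (X.residueField (π (genericPoint Y))) (Y.residueField (genericPoint Y)) := hP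
  let q := ringExpChar (X.residueField (π (genericPoint Y)))
  obtain ⟨n, c, hc⟩ := (isPurelyInseparable_iff_pow_mem (X.residueField (π (genericPoint Y))) q).1
    inferInstance (Y.residue (genericPoint Y) G)
  obtain ⟨b, rfl⟩ := X.residue_surjective _ c
  refine ⟨q ^ n, pow_pos (expChar_pos (X.residueField (π (genericPoint Y))) q) n,
    X.presheaf.stalkSpecializes (specializes_of_eq (apply_genericPoint π).symm) b, ?_⟩
  have hinj : Function.Injective (Y.residue (genericPoint Y)) :=
    RingHom.injective (Y.residue (genericPoint Y)).hom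
  apply hinj
  have hid : X.presheaf.stalkSpecializes (specializes_of_eq (apply_genericPoint π))
      (X.presheaf.stalkSpecializes (specializes_of_eq (apply_genericPoint π).symm) b) = b := by
    rw [← CommRingCat.comp_apply, TopCat.Presheaf.stalkSpecializes_comp, TopCat.Presheaf.stalkSpecializes_refl]
    rfl
  rw [map_pow, ← hc, RingHom.algebraMap_toAlgebra, fieldMap, CommRingCat.comp_apply, hid]
  exact (congr($(Scheme.residue_residueFieldMap π (genericPoint Y)) b)).symm

end Groth.VarietyBC.RadicialSections
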