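import Groth.Prelude.Def_Curv2
import Groth.Agent.EGA43Valuative.DominatingDVR
import Mathlib.AlgebraicGeometry.Morphisms.QuasiFinite
import Mathlib.AlgebraicGeometry.Normalization
import Mathlib.AlgebraicGeometry.FunctionField
import Mathlib.AlgebraicGeometry.Noetherian
import Mathlib.RingTheory.DedekindDomain.Dvr

/-!
# The normalization of a one-dimensional integral Noetherian scheme (Krull–Akizuki)
-/

set_option autoImplicit false
universe u

open CategoryTheory AlgebraicGeometry TopologicalSpace Opposite
open scoped TensorProduct Pointwise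

namespace Groth.VarietyBC

/-- The integral closure of a one-dimensional Noetherian domain in its fraction field is
quasi-finite. -/
theorem quasiFinite_integralClosure (A : Type u) [CommRing A] [IsDomain A] [IsNoetherianRing A]
    [Ring.KrullDimLE 1 A] (K : Type u) [Field K] [Algebra A K] [IsFractionRing A K] :
    Algebra.QuasiFinite A (integralClosure A K) := by
  refine ⟨fun P hP => ?_⟩
  let C := integralClosure A K
  by_cases h0 : P = ⊥
  · subst h0
    refine Module.Finite.of_surjective
      (Algebra.linearMap ((⊥ : Ideal A).ResidueField) ((⊥ : Ideal A).Fiber C)) ?_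
    intro z
    induction z using TensorProduct.induction_on with
    | zero => exact ⟨0, map_zero _⟩
    | add x y hx hy =>
      obtain ⟨a, rfl⟩ := hx; obtain ⟨b, rfl⟩ := hy
      exact ⟨a + b, map_add _ _ _⟩
    | tmul r c =>
      obtain ⟨⟨a, s⟩, hs⟩ := IsLocalization.surj (nonZeroDivisors A) (c : K)
      have hsC : (s : A) • c = a • (1 : C) := by
        refine Subtype.ext ?_
        simp only [Algebra.smul_def, mul_one]
        exact (mul_comm _ _).trans hs
      have hs0 : algebraMap A (⊥ : Ideal A).ResidueField s ≠ 0 := by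
        rw [Ne, Ideal.algebraMap_residueField_eq_zero, Ideal.mem_bot]
        exact nonZeroDivisors.ne_zero s.2
      refine ⟨r * algebraMap A _ a / algebraMap A _ (s : A), ?_⟩
      rw [Algebra.linearMap_apply, Algebra.TensorProduct.algebraMap_apply]
      show (r * algebraMap A _ a / algebraMap A _ (s : A)) ⊗ₜ[A] (1 : C) = r ⊗ₜ[A] c
      calc (r * algebraMap A _ a / algebraMap A _ (s : A)) ⊗ₜ[A] (1 : C)
          = (a • (r / algebraMap A _ (s : A))) ⊗ₜ[A] (1 : C) := by
            rw [Algebra.smul_def]; ring_nf
        _ = (r / algebraMap A _ (s : A)) ⊗ₜ[A] (a • (1 : C)) := TensorProduct.smul_tmul _ _ _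
        _ = (r / algebraMap A _ (s : A)) ⊗ₜ[A] ((s : A) • c) := by rw [hsC]
        _ = ((s : A) • (r / algebraMap A _ (s : A))) ⊗ₜ[A] c := (TensorProduct.smul_tmul _ _ _).symm
        _ = r ⊗ₜ[A] c := by rw [Algebra.smul_def, mul_div_cancel₀ _ hs0]
  · obtain ⟨x, hxP, hx0⟩ := Submodule.exists_mem_ne_zero_of_ne_bot h0
    haveI : P.IsMaximal := (Ring.krullDimLE_one_iff.1 ‹_› P hP).resolve_left fun hmin =>
      h0 (by simpa [IsDomain.minimalPrimes_eq_singleton_bot] using hmin)
    let j : C →ₗ[A] (Fin 1 → K) := LinearMap.pi fun _ => C.val.toLinearMap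
    have hj : Function.Injective j := fun a b h => Subtype.ext (congrFun h 0)
    have hlen : Module.length A (C ⧸ x • (⊤ : Submodule A C)) ≠ ⊤ :=
      ne_top_of_le_ne_top (WithTop.mul_ne_top (ENat.natCast_ne_top _)
        (Ring.ord_ne_top (mem_nonZeroDivisors_of_ne_zero hx0)))
        (Groth.Calg4.length_quotient_le_mul K _ j hj hx0)
    haveI := (isFiniteLength_iff_isNoetherian_isArtinian.1 (Module.length_ne_top_iff.1 hlen)).1
    let g : C →ₗ[A] P.Fiber C :=
      (Algebra.TensorProduct.includeRight (R := A) (A := P.ResidueField)).toLinearMap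
    have hg : Function.Surjective g := by
      intro z
      induction z using TensorProduct.induction_on with
      | zero => exact ⟨0, map_zero _⟩
      | add x y hx hy =>
        obtain ⟨a, rfl⟩ := hx; obtain ⟨b, rfl⟩ := hy
        exact ⟨a + b, map_add _ _ _⟩
      | tmul r c =>
        obtain ⟨a, rfl⟩ := Ideal.algebraMap_residueField_surjective P r
        refine ⟨a • c, ?_⟩
        show (1 : P.ResidueField) ⊗ₜ[A] (a • c) = _
        rw [← TensorProduct.smul_tmul, Algebra.smul_def, mul_one]
    have hxg : x • (⊤ : Submodule A C) ≤ LinearMap.ker g := by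
      rintro z hz
      obtain ⟨y, -, rfl⟩ := (Submodule.mem_smul_pointwise_iff_exists _ _ _).1 hz
      show (1 : P.ResidueField) ⊗ₜ[A] (x • y) = 0
      rw [← TensorProduct.smul_tmul, Algebra.smul_def,
        (Ideal.algebraMap_residueField_eq_zero (I := P)).2 hxP, zero_mul, TensorProduct.zero_tmul]
    haveI : Module.Finite A (P.Fiber C) :=
      Module.Finite.of_surjective ((x • (⊤ : Submodule A C)).liftQ g hxg) fun z => by
        obtain ⟨c, rfl⟩ := hg z
        exact ⟨Submodule.Quotient.mk c, rfl⟩
    exact Module.Finite.of_restrictScalars_finite A _ _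

/-- Being a Dedekind domain is invariant under ring isomorphisms. -/
theorem isDedekindDomain_of_ringEquiv {A B : Type*} [CommRing A] [CommRing B] [IsDedekindDomain A]
    (e : A ≃+* B) : IsDedekindDomain B := by
  haveI : IsDomain B := e.toMulEquiv.isDomain_iff.1 inferInstance
  letI := e.toRingHom.toAlgebra
  haveI : IsLocalization (⊥ : Submonoid A) A :=
    IsLocalization.self fun x hx => by simp [Submonoid.mem_bot.1 hx]
  haveI : IsLocalization (⊥ : Submonoid A) B :=
    IsLocalization.isLocalization_of_algEquiv ⊥ (AlgEquiv.ofRingEquiv (f := e) fun _ => rfl)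
  exact IsLocalization.isDedekindDomain A bot_le B

variable (X : Scheme.{u}) [IsIntegral X] [QuasiCompact (X.fromSpecStalk (genericPoint X))]
  [QuasiSeparated (X.fromSpecStalk (genericPoint X))]

/-- The ring of the normalization over a nonempty affine open is the integral closure in the
function field. -/
theorem exists_algEquiv_normalization (U : X.Opens) (hU : IsAffineOpen U) [Nonempty U.toScheme] :
    ∃ e : Γ(Curv2.normalization X, Curv2.normalizationι X ⁻¹ᵁ U) ≃+*
        integralClosure Γ(X, U) X.functionField,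
      ∀ a, e ((Curv2.normalizationι X).app U a) = algebraMap Γ(X, U) _ a := by
  let f := X.fromSpecStalk (genericPoint X)
  obtain ⟨⟨z, hz⟩⟩ := ‹Nonempty U.toScheme›
  have hgU : genericPoint X ∈ U :=
    ((genericPoint_spec X).mem_open_set_iff U.isOpen).2 ⟨z, trivial, hz⟩
  letI := (f.app U).hom.toAlgebra
  have htop : f ⁻¹ᵁ U = ⊤ := by
    refine top_le_iff.1 fun p _ => ?_
    have : f p ⤳ genericPoint X :=
      (Scheme.range_fromSpecStalk (X := X) (x := genericPoint X)).subset ⟨p, rfl⟩
    exact this.mem_open U.isOpen hgU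
  let θ : Γ(Spec (X.presheaf.stalk (genericPoint X)), f ⁻¹ᵁ U) ≅
      X.presheaf.stalk (genericPoint X) :=
    (Spec _).presheaf.mapIso (eqToIso htop.symm).op ≪≫ Scheme.ΓSpecIso _
  have hθ : ∀ a : Γ(X, U), θ.hom (f.app U a) = algebraMap Γ(X, U) X.functionField a := fun a => by
    have h : f.app U ≫ θ.hom = X.presheaf.germ U (genericPoint X) hgU := by
      rw [Scheme.fromSpecStalk_app hgU]
      simp [θ, ← Functor.map_comp_assoc]
    exact congr(($h) a)
  let θ' : Γ(Spec (X.presheaf.stalk (genericPoint X)), f ⁻¹ᵁ U) ≃ₐ[Γ(X, U)] X.functionField :=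
    { θ.commRingCatIsoToRingEquiv with commutes' := hθ }
  refine ⟨(f.normalizationObjIso hU).commRingCatIsoToRingEquiv.trans
    (θ'.mapIntegralClosure).toRingEquiv, fun a => ?_⟩
  show θ'.mapIntegralClosure ((f.normalizationObjIso hU).hom (f.fromNormalization.app U a)) = _
  rw [f.fromNormalization_app hU, CommRingCat.comp_apply, Iso.inv_hom_id_apply]
  exact θ'.mapIntegralClosure.commutes a

variable [IsLocallyNoetherian X] (hdim : topologicalKrullDim X ≤ 1)

include hdim

theorem krullDimLE_one_affine (U : X.Opens) (hU : IsAffineOpen U) :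
    Ring.KrullDimLE 1 Γ(X, U) := by
  rw [Ring.krullDimLE_iff, ← PrimeSpectrum.topologicalKrullDim_eq_ringKrullDim]
  refine le_trans ?_ hdim
  exact hU.fromSpec.isOpenEmbedding.isInducing.topologicalKrullDim_le

theorem normalization_dimOne_affine (U : X.Opens) (hU : IsAffineOpen U) [Nonempty U.toScheme] :
    IsDedekindDomain Γ(Curv2.normalization X, Curv2.normalizationι X ⁻¹ᵁ U) ∧
      ((Curv2.normalizationι X).app U).hom.QuasiFinite := by
  obtain ⟨e, he⟩ := exists_algEquiv_normalization X U hU
  haveI := functionField_isFractionRing_of_isAffineOpen X U hU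
  haveI := krullDimLE_one_affine X hdim U hU
  haveI : IsNoetherianRing Γ(X, U) := IsLocallyNoetherian.component_noetherian ⟨U, hU⟩
  haveI : IsDedekindDomain (integralClosure Γ(X, U) X.functionField) :=
    Groth.EGA43Val.isDedekindDomain_integralClosure Γ(X, U) X.functionField X.functionField
  refine ⟨isDedekindDomain_of_ringEquiv e.symm, ?_⟩
  have h : ((Curv2.normalizationι X).app U).hom =
      e.symm.toRingHom.comp (algebraMap Γ(X, U) (integralClosure Γ(X, U) X.functionField)) := by
    ext a
    exact e.eq_symm_apply.2 (he a)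
  rw [h]
  exact RingHom.QuasiFinite.comp (RingHom.QuasiFinite.of_finite e.symm.finite)
    (RingHom.quasiFinite_algebraMap.2 (quasiFinite_integralClosure _ _))

theorem locallyQuasiFinite_normalizationι : LocallyQuasiFinite (Curv2.normalizationι X) := by
  haveI : IsIntegralHom (Curv2.normalizationι X) :=
    inferInstanceAs (IsIntegralHom (X.fromSpecStalk (genericPoint X)).fromNormalization)
  haveI : IsZariskiLocalAtTarget @LocallyQuasiFinite :=
    HasRingHomProperty.instIsZariskiLocalAtTarget (P := @LocallyQuasiFinite) (Q := RingHom.QuasiFinite)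
  rw [IsZariskiLocalAtTarget.iff_of_iSup_eq_top (P := @LocallyQuasiFinite) _
    (iSup_affineOpens_eq_top X)]
  intro U
  haveI : IsAffine (U.1.toScheme) := U.2
  haveI : IsAffine (Curv2.normalizationι X ⁻¹ᵁ U.1).toScheme := U.2.preimage _
  rw [HasRingHomProperty.iff_of_isAffine (P := @LocallyQuasiFinite), Scheme.Hom.appTop,
    morphismRestrict_app']
  suffices h : ((Curv2.normalizationι X).app U.1).hom.QuasiFinite by
    have key : ∀ (V : X.Opens) (W : (Curv2.normalization X).Opens)
        (e : W ≤ Curv2.normalizationι X ⁻¹ᵁ V), V = U.1 → W = Curv2.normalizationι X ⁻¹ᵁ U.1 →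
        ((Curv2.normalizationι X).appLE V W e).hom.QuasiFinite := by
      rintro V W e rfl rfl
      rwa [← Scheme.Hom.app_eq_appLE]
    exact key _ _ _ (Scheme.Opens.ι_image_top _) (Scheme.Opens.ι_image_top _)
  rcases isEmpty_or_nonempty U.1.toScheme with h | h
  · haveI : IsEmpty (Curv2.normalizationι X ⁻¹ᵁ U.1).toScheme :=
      Function.isEmpty (Curv2.normalizationι X ∣_ U.1).base
    haveI : Subsingleton Γ(Curv2.normalization X, Curv2.normalizationι X ⁻¹ᵁ U.1) :=
      (Curv2.normalizationι X ⁻¹ᵁ U.1).topIso.symm.commRingCatIsoToRingEquiv.toEquiv.subsingleton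
    exact RingHom.QuasiFinite.of_finite (RingHom.Finite.of_surjective _ fun y =>
      ⟨0, Subsingleton.elim _ _⟩)
  · exact (normalization_dimOne_affine X hdim U.1 U.2).2

end Groth.VarietyBC
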