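import Mathlib
import Groth.Prelude.Def_Curv2
import Groth.Agent.ReducedNormal.Basic

/-!
# The δ-invariant along flat local homomorphisms with `m_A B = m_B` and separable residue extension
-/

set_option autoImplicit false
set_option linter.style.haveILetI false
set_option backward.isDefEq.respectTransparency false
set_option synthInstance.maxHeartbeats 400000

universe u

open IsLocalRing TensorProduct
open scoped nonZeroDivisors

namespace Groth.VarietyBC.DeltaFlat

/-- A separable algebraic extension tensored with a field is reduced. -/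
theorem isReduced_tensor_separable (k k' K : Type u) [Field k] [Field k'] [Field K] [Algebra k k']
    [Algebra k K] [Algebra.IsSeparable k k'] : IsReduced (k' ⊗[k] K) := by
  classical
  refine ⟨fun z hz => ?_⟩
  obtain ⟨S, hS⟩ := TensorProduct.exists_finset z
  let F := IntermediateField.adjoin k (↑(S.image Prod.fst) : Set k')
  haveI : FiniteDimensional k F :=
    IntermediateField.finiteDimensional_adjoin fun x _ => Algebra.IsIntegral.isIntegral x
  haveI : Algebra.IsSeparable k F := Algebra.isSeparable_tower_bot_of_isSeparable k F k'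
  haveI : Algebra.FormallyUnramified k F := Algebra.FormallyUnramified.of_isSeparable k F
  haveI : IsReduced (K ⊗[k] F) := Algebra.FormallyUnramified.isReduced_of_field K (K ⊗[k] F)
  let e := (Algebra.TensorProduct.comm k F K).toRingEquiv
  haveI : IsReduced (F ⊗[k] K) := isReduced_of_injective e.toRingHom e.injective
  let f : F ⊗[k] K →ₐ[k] k' ⊗[k] K := Algebra.TensorProduct.map F.val (AlgHom.id k K)
  have hf : Function.Injective f :=
    Module.Flat.rTensor_preserves_injective_linearMap F.val.toLinearMap F.val.injective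
  obtain ⟨w, rfl⟩ : ∃ w, f w = z := by
    rw [hS]
    refine ⟨∑ p ∈ S.attach, (⟨p.1.1, IntermediateField.subset_adjoin k _
      (Finset.mem_coe.2 (Finset.mem_image_of_mem _ p.2))⟩ : F) ⊗ₜ[k] p.1.2, ?_⟩
    rw [map_sum, ← Finset.sum_attach S]
    rfl
  obtain ⟨m, hm⟩ := hz
  have hm' : w ^ m = 0 := hf <| ((f.toRingHom.map_pow w m).trans hm).trans f.toRingHom.map_zero.symm
  rw [IsReduced.eq_zero w ⟨m, hm'⟩]
  exact f.toRingHom.map_zero

/-- A Noetherian local ring whose maximal ideal is generated by a regular element is a normal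
domain. -/
theorem isDomain_and_isIntegrallyClosed_of_span (R : Type u) [CommRing R] [IsNoetherianRing R]
    [IsLocalRing R] (t : R) (ht : maximalIdeal R = Ideal.span {t})
    (hreg : ∀ z, t * z = 0 → z = 0) : IsDomain R ∧ IsIntegrallyClosed R := by
  have hI : (⨅ i : ℕ, Ideal.span {t} ^ i) = ⊥ :=
    Ideal.iInf_pow_eq_bot_of_isLocalRing _ (ht ▸ (maximalIdeal.isMaximal R).ne_top)
  have hdec : ∀ a : R, a ≠ 0 → ∃ (i : ℕ) (c : R), IsUnit c ∧ a = c * t ^ i := by
    intro a ha
    by_contra h
    push_neg at h
    have key : ∀ i, a ∈ Ideal.span {t} ^ i := by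
      intro i
      induction i with
      | zero => simp
      | succ i ih =>
        rw [Ideal.span_singleton_pow, Ideal.mem_span_singleton'] at ih
        obtain ⟨c, hc⟩ := ih
        have hc' : c ∈ maximalIdeal R := fun hu => h i c hu hc.symm
        rw [ht, Ideal.mem_span_singleton'] at hc'
        obtain ⟨d, hd⟩ := hc'
        rw [Ideal.span_singleton_pow, Ideal.mem_span_singleton']
        exact ⟨d, by rw [← hc, ← hd, pow_succ]; ring⟩
    exact ha (by
      have : a ∈ ⨅ i : ℕ, Ideal.span {t} ^ i := Submodule.mem_iInf _ |>.2 key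
      rwa [hI, Ideal.mem_bot] at this)
  have hpow : ∀ (i : ℕ) (z : R), t ^ i * z = 0 → z = 0 := by
    intro i
    induction i with
    | zero => simp
    | succ i ih => exact fun z hz => ih z (hreg _ (by rw [← hz, pow_succ]; ring))
  have : IsDomain R := by
    refine @NoZeroDivisors.to_isDomain R _ inferInstance ⟨fun {a b} hab => ?_⟩
    by_contra h
    push_neg at h
    obtain ⟨i, c, hc, rfl⟩ := hdec a h.1
    obtain ⟨j, d, hd, rfl⟩ := hdec b h.2
    have h0 := hpow (i + j) (c * d) (by rw [← hab, pow_add]; ring)
    exact not_isUnit_zero (h0 ▸ hc.mul hd)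
  refine ⟨this, ?_⟩
  by_cases hf : IsField R
  · letI := hf.toField
    infer_instance
  · have hiff : IsDiscreteValuationRing R ↔ (maximalIdeal R).IsPrincipal :=
      (IsDiscreteValuationRing.TFAE R hf).out 0 4
    have : IsDiscreteValuationRing R := hiff.2 ⟨t, ht⟩
    infer_instance

/-- A reduced zero-dimensional Noetherian quotient localizes to fields. -/
theorem exists_mul_mem_of_isReduced {C : Type u} [CommRing C] [IsNoetherianRing C] (J n : Ideal C)
    [n.IsPrime] (hJn : J ≤ n) [IsReduced (C ⧸ J)]
    (hmax : ∀ q : Ideal C, q.IsPrime → J ≤ q → q.IsMaximal) {x : C} (hx : x ∈ n) :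
    ∃ u, u ∉ n ∧ u * x ∈ J := by
  haveI : Ring.KrullDimLE 0 (C ⧸ J) := Ring.KrullDimLE.mk₀ fun q hq => by
    have hle : J ≤ q.comap (Ideal.Quotient.mk J) := fun a ha => by
      show Ideal.Quotient.mk J a ∈ q
      rw [Ideal.Quotient.eq_zero_iff_mem.2 ha]
      exact zero_mem q
    haveI := hmax _ inferInstance hle
    have hm : (Ideal.map (Ideal.Quotient.mk J) (q.comap (Ideal.Quotient.mk J))).IsMaximal :=
      Ideal.IsMaximal.map_of_surjective_of_ker_le Ideal.Quotient.mk_surjective (by rwa [Ideal.mk_ker])
    rwa [Ideal.map_comap_of_surjective _ Ideal.Quotient.mk_surjective q] at hm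
  haveI : IsArtinianRing (C ⧸ J) :=
    (isArtinianRing_iff_isNoetherianRing_krullDimLE_zero (R := C ⧸ J)).2 ⟨inferInstance, inferInstance⟩
  haveI hnJ : (n.map (Ideal.Quotient.mk J)).IsPrime :=
    Ideal.map_isPrime_of_surjective Ideal.Quotient.mk_surjective (by rwa [Ideal.mk_ker])
  let L := Localization.AtPrime (n.map (Ideal.Quotient.mk J))
  have hf : IsField L := IsArtinianRing.isField_of_isReduced_of_isLocalRing L
  have h0 : algebraMap (C ⧸ J) L (Ideal.Quotient.mk J x) = 0 := by
    have : algebraMap (C ⧸ J) L (Ideal.Quotient.mk J x) ∈ maximalIdeal L :=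
      (IsLocalization.AtPrime.to_map_mem_maximal_iff L _ _).2 (Ideal.mem_map_of_mem _ hx)
    rwa [isField_iff_maximalIdeal_eq.1 hf, Ideal.mem_bot] at this
  obtain ⟨⟨u', hu'⟩, huv⟩ := (IsLocalization.map_eq_zero_iff (n.map (Ideal.Quotient.mk J)).primeCompl
    L _).1 h0
  obtain ⟨u, rfl⟩ := Ideal.Quotient.mk_surjective u'
  refine ⟨u, fun h => hu' (Ideal.mem_map_of_mem _ h), Ideal.Quotient.eq_zero_iff_mem.1 ?_⟩
  rw [map_mul]
  exact huv

variable (A : Type u) [CommRing A] [IsLocalRing A] [IsNoetherianRing A] [IsReduced A]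

/-- A regular element in the maximal ideal in dimension one. -/
theorem exists_regular (hdim : ringKrullDim A = 1) : ∃ s ∈ maximalIdeal A, s ∈ A⁰ := by
  classical
  have hfin := minimalPrimes.finite_of_isNoetherianRing A
  have hns : ¬ ((maximalIdeal A : Set A) ⊆ ⋃ p ∈ (hfin.toFinset : Set (Ideal A)), (p : Set A)) := by
    intro h
    obtain ⟨p, hp, hle⟩ := (Ideal.subset_union_prime ⊥ ⊥ fun i hi _ _ =>
      Ideal.minimalPrimes_isPrime (hfin.mem_toFinset.1 hi)).1 h
    have hpp := Ideal.minimalPrimes_isPrime (hfin.mem_toFinset.1 hp)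
    have hmin : maximalIdeal A ∈ minimalPrimes A :=
      (le_antisymm hle (le_maximalIdeal hpp.ne_top)) ▸ hfin.mem_toFinset.1 hp
    have h0 : Ring.KrullDimLE 0 A := Ring.KrullDimLE.mk₀ fun q hq => by
      have h1 : q ≤ maximalIdeal A := le_maximalIdeal hq.ne_top
      rw [le_antisymm h1 (hmin.2 ⟨hq, bot_le⟩ h1)]
      exact maximalIdeal.isMaximal A
    rw [Ring.krullDimLE_iff, hdim] at h0
    exact absurd h0 (by decide)
  obtain ⟨s, hs, hs'⟩ := Set.not_subset.1 hns
  exact ⟨s, hs, Groth.ReducedNormal.mem_nonZeroDivisors_of_forall A fun P hP hsP =>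
    hs' (Set.mem_biUnion (Finset.mem_coe.2 (hfin.mem_toFinset.2 hP)) hsP)⟩

variable [Module.Finite A (integralClosure A (FractionRing A))]

/-- Maximal ideals of the normalization in dimension one are locally principal. -/
theorem exists_generator (hdim : ringKrullDim A = 1)
    (M : Ideal (integralClosure A (FractionRing A))) [M.IsMaximal] :
    ∃ t ∈ M, ∀ x ∈ M, ∃ u, u ∉ M ∧ ∃ c, u * x = c * t := by
  haveI : IsNoetherianRing (integralClosure A (FractionRing A)) := IsNoetherianRing.of_finite A _
  haveI : Algebra.IsIntegral A (integralClosure A (FractionRing A)) := Algebra.IsIntegral.of_finite A _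
  obtain ⟨hd, hic⟩ := Groth.ReducedNormal.normal_localization A M
  let L := Localization.AtPrime M
  have hprinc : (maximalIdeal L).IsPrincipal := by
    by_cases hf : IsField L
    · rw [(isField_iff_maximalIdeal_eq).1 hf]; exact bot_isPrincipal
    · have hiff : (IsIntegrallyClosed L ∧ ∃! P : Ideal L, P ≠ ⊥ ∧ P.IsPrime) ↔
          (maximalIdeal L).IsPrincipal := (IsDiscreteValuationRing.TFAE L hf).out 3 4
      refine hiff.1 ⟨hic, maximalIdeal L,
        ⟨isField_iff_maximalIdeal_eq.not.1 hf, inferInstance⟩, fun P ⟨hP0, hP⟩ => ?_⟩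
      by_contra hne
      have h1 : (⊥ : Ideal L) < P := bot_lt_iff_ne_bot.2 hP0
      have h2 : P < maximalIdeal L := lt_of_le_of_ne (le_maximalIdeal hP.ne_top) hne
      have hb : (⊥ : Ideal L).IsPrime := Ideal.isPrime_bot
      let c := fun I : Ideal L => I.comap (algebraMap (integralClosure A (FractionRing A)) L)
      have hc : StrictMono c :=
        (IsLocalization.orderEmbedding M.primeCompl L).strictMono
      have q1 := Ideal.IsIntegral.comap_lt_comap (R := A) (hc h1)
      have q2 := Ideal.IsIntegral.comap_lt_comap (R := A) (hc h2)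
      let g := fun I : Ideal L => (c I).comap (algebraMap A (integralClosure A (FractionRing A)))
      let l : LTSeries (PrimeSpectrum A) :=
        { length := 2
          toFun := ![⟨g ⊥, inferInstance⟩, ⟨g P, inferInstance⟩, ⟨g (maximalIdeal L), inferInstance⟩]
          step := fun i => by
            match i with
            | 0 => exact q1
            | 1 => exact q2 }
      have h3 := Order.LTSeries.length_le_krullDim l
      rw [show Order.krullDim (PrimeSpectrum A) = ringKrullDim A from rfl, hdim] at h3
      norm_cast at h3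
  obtain ⟨t', ht'⟩ := hprinc
  obtain ⟨⟨a, v⟩, hav⟩ := IsLocalization.surj M.primeCompl t'
  have ha : a ∈ M := by
    rw [← IsLocalization.AtPrime.to_map_mem_maximal_iff L M, ← hav]
    exact Ideal.mul_mem_right _ _ (ht' ▸ Submodule.mem_span_singleton_self t')
  refine ⟨a, ha, fun x hx => ?_⟩
  have hx' : algebraMap _ L x ∈ maximalIdeal L :=
    (IsLocalization.AtPrime.to_map_mem_maximal_iff L M _).2 hx
  rw [ht'] at hx'
  obtain ⟨r, hr⟩ := Submodule.mem_span_singleton.1 hx'
  obtain ⟨⟨b, w⟩, hbw⟩ := IsLocalization.surj M.primeCompl r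
  have : algebraMap _ L ((v : integralClosure A (FractionRing A)) * w * x) = algebraMap _ L (b * a) := by
    rw [map_mul, map_mul, map_mul, ← hr, ← hav, ← hbw, smul_eq_mul]; ring
  obtain ⟨c, hc⟩ := (IsLocalization.eq_iff_exists M.primeCompl L).1 this
  refine ⟨c * (v * w), (c * (v * w) : M.primeCompl).2, c * b, ?_⟩
  linear_combination hc

variable (B : Type u) [CommRing B] [IsLocalRing B] [IsNoetherianRing B] [Algebra A B]
  [IsLocalHom (algebraMap A B)] [Module.Flat A B]

omit [IsLocalRing A] [IsNoetherianRing A] [IsReduced A]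
  [Module.Finite A (integralClosure A (FractionRing A))] [IsLocalRing B] [IsNoetherianRing B]
  [IsLocalHom (algebraMap A B)] in
theorem map_nonZeroDivisors {a : A} (ha : a ∈ A⁰) : algebraMap A B a ∈ B⁰ := by
  rw [mem_nonZeroDivisors_iff_right]
  intro z hz
  refine (Module.Flat.isSMulRegular_of_nonZeroDivisors (M := B) ha) (?_ : a • z = a • 0)
  rw [smul_zero, Algebra.smul_def, mul_comm, hz]

/-- At a maximal ideal the base change of the normalization is a discrete valuation ring. -/
theorem normal_atPrime (hdim : ringKrullDim A = 1)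
    (hmax : (maximalIdeal A).map (algebraMap A B) = maximalIdeal B)
    (hred : ∀ M : Ideal (integralClosure A (FractionRing A)), M.IsMaximal →
      IsReduced ((B ⊗[A] integralClosure A (FractionRing A)) ⧸
        M.map (Algebra.TensorProduct.includeRight : integralClosure A (FractionRing A) →ₐ[A]
          B ⊗[A] integralClosure A (FractionRing A))))
    (n : Ideal (B ⊗[A] integralClosure A (FractionRing A))) [n.IsMaximal] :
    IsDomain (Localization.AtPrime n) ∧ IsIntegrallyClosed (Localization.AtPrime n) := by
  classical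
  let A' := integralClosure A (FractionRing A)
  let C := B ⊗[A] integralClosure A (FractionRing A)
  haveI : IsNoetherianRing C := IsNoetherianRing.of_finite B C
  haveI : Algebra.IsIntegral B C := Algebra.IsIntegral.of_finite B C
  haveI : Algebra.IsIntegral A A' := Algebra.IsIntegral.of_finite A _
  let ι : A' →ₐ[A] C := Algebra.TensorProduct.includeRight
  have hnB : n.comap (algebraMap B C) = maximalIdeal B :=
    eq_maximalIdeal (Ideal.isMaximal_comap_of_isIntegral_of_isMaximal n)
  let M : Ideal A' := n.comap ι
  haveI : M.IsPrime := inferInstance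
  have hMA : M.comap (algebraMap A A') = maximalIdeal A := by
    refine le_antisymm (le_maximalIdeal (Ideal.IsPrime.ne_top inferInstance)) fun a ha => ?_
    show ι (algebraMap A A' a) ∈ n
    rw [ι.commutes, IsScalarTower.algebraMap_apply A B C]
    have : algebraMap A B a ∈ maximalIdeal B := hmax ▸ Ideal.mem_map_of_mem _ ha
    rw [← hnB] at this
    exact this
  haveI : M.IsMaximal := Ideal.isMaximal_of_isIntegral_of_isMaximal_comap M (by
    rw [hMA]; exact maximalIdeal.isMaximal A)
  let J : Ideal C := M.map ι
  have hJn : J ≤ n := Ideal.map_le_iff_le_comap.2 le_rfl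
  have hmJ : ∀ b ∈ maximalIdeal B, algebraMap B C b ∈ J := by
    rw [← hmax]
    intro b hb
    have : (maximalIdeal A).map (algebraMap A B) ≤ J.comap (algebraMap B C) := by
      rw [Ideal.map_le_iff_le_comap]
      intro a ha
      show algebraMap B C (algebraMap A B a) ∈ J
      rw [← IsScalarTower.algebraMap_apply A B C, ← ι.commutes]
      exact Ideal.mem_map_of_mem _ (show algebraMap A A' a ∈ M from hMA.ge ha)
    exact this hb
  -- the fibre is reduced
  haveI : IsReduced (C ⧸ J) := hred M inferInstance
  -- the local ring of the fibre is a field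
  have hloc : ∀ x ∈ n, ∃ u, u ∉ n ∧ u * x ∈ J := fun x hx => by
    refine exists_mul_mem_of_isReduced J n hJn (fun q hq hJq => ?_) hx
    haveI := hq
    refine Ideal.isMaximal_of_isIntegral_of_isMaximal_comap (R := B) q ?_
    rw [← (maximalIdeal.isMaximal B).eq_of_le (J := q.comap (algebraMap B C))
      (Ideal.IsPrime.ne_top inferInstance) (fun b hb => hJq (hmJ b hb))]
    exact maximalIdeal.isMaximal B
  -- the maximal ideal is principal, generated by a regular element
  obtain ⟨t, htM, ht⟩ := exists_generator A hdim M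
  obtain ⟨s, hsm, hs⟩ := exists_regular A hdim
  let Cn := Localization.AtPrime n
  have hunit : ∀ u, u ∉ n → IsUnit (algebraMap C Cn u) := fun u hu =>
    IsLocalization.map_units Cn (⟨u, hu⟩ : n.primeCompl)
  have hgen : ∀ x ∈ M, ∃ c, algebraMap C Cn (ι x) = c * algebraMap C Cn (ι t) := by
    intro x hx
    obtain ⟨u, hu, c, hc⟩ := ht x hx
    obtain ⟨v, hv⟩ := hunit (ι u) hu
    refine ⟨↑v⁻¹ * algebraMap C Cn (ι c), ?_⟩
    rw [mul_assoc, ← map_mul, ← map_mul ι, ← hc, map_mul ι, map_mul, ← hv, Units.inv_mul_cancel_left]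
  have hspan : maximalIdeal Cn = Ideal.span {algebraMap C Cn (ι t)} := by
    refine le_antisymm ?_ ((Ideal.span_singleton_le_iff_mem _).2
      ((IsLocalization.AtPrime.to_map_mem_maximal_iff Cn n _).2 htM))
    rw [← Localization.AtPrime.map_eq_maximalIdeal, Ideal.map_le_iff_le_comap]
    intro x hx
    obtain ⟨u, hu, hux⟩ := hloc x hx
    have hJspan : J ≤ (Ideal.span {algebraMap C Cn (ι t)}).comap (algebraMap C Cn) := by
      rw [Ideal.map_le_iff_le_comap]
      intro m hm
      obtain ⟨c, hc⟩ := hgen m hm
      exact Ideal.mem_span_singleton'.2 ⟨c, hc.symm⟩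
    have h2 : algebraMap C Cn (u * x) ∈ Ideal.span {algebraMap C Cn (ι t)} := hJspan hux
    rw [map_mul] at h2
    exact (Ideal.unit_mul_mem_iff_mem _ (hunit u hu)).1 h2
  refine isDomain_and_isIntegrallyClosed_of_span Cn _ hspan fun z hz => ?_
  obtain ⟨c, hc⟩ := hgen (algebraMap A A' s) (hMA.ge hsm)
  rw [ι.commutes] at hc
  have hs0 : algebraMap C Cn (algebraMap A C s) * z = 0 := by rw [hc, mul_assoc, hz, mul_zero]
  obtain ⟨⟨w, v⟩, hwv⟩ := IsLocalization.surj n.primeCompl z
  have h3 : algebraMap C Cn (algebraMap A C s * w) = 0 := by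
    rw [map_mul, ← hwv, ← mul_assoc, hs0, zero_mul]
  obtain ⟨v', hv'⟩ := (IsLocalization.map_eq_zero_iff n.primeCompl Cn _).1 h3
  have hA' : IsSMulRegular A' s := by
    intro x y hxy
    refine Subtype.ext ?_
    have h1 : algebraMap A (FractionRing A) s * (x : FractionRing A) =
        algebraMap A (FractionRing A) s * (y : FractionRing A) := by
      rw [← Algebra.smul_def, ← Algebra.smul_def]
      exact congrArg Subtype.val hxy
    exact (IsLocalization.map_units (FractionRing A) (⟨s, hs⟩ : A⁰)).mul_left_cancel h1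
  have hreg : IsSMulRegular C s := IsSMulRegular.lTensor B hA'
  have h4 : (v' : C) * w = 0 := by
    refine hreg (?_ : s • ((v' : C) * w) = s • 0)
    rw [smul_zero]
    refine (Algebra.smul_def (A := C) s _).trans ?_
    rw [← hv']
    ring
  have h5 : algebraMap C Cn w = 0 := (IsLocalization.map_eq_zero_iff n.primeCompl Cn _).2 ⟨v', h4⟩
  rw [h5] at hwv
  exact (IsUnit.mul_left_eq_zero (IsLocalization.map_units Cn v)).1 hwv

/-- The δ-invariant is unchanged by a flat local extension with `m_A B = m_B` and reduced fibres of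
the normalization. -/
theorem deltaInv_eq_of_reduced (hdim : ringKrullDim A = 1)
    (hmax : (maximalIdeal A).map (algebraMap A B) = maximalIdeal B)
    (hred : ∀ M : Ideal (integralClosure A (FractionRing A)), M.IsMaximal →
      IsReduced ((B ⊗[A] integralClosure A (FractionRing A)) ⧸
        M.map (Algebra.TensorProduct.includeRight : integralClosure A (FractionRing A) →ₐ[A]
          B ⊗[A] integralClosure A (FractionRing A)))) :
    Curv2.deltaInv B = Curv2.deltaInv A := by
  classical
  let A' := integralClosure A (FractionRing A)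
  let C := B ⊗[A] integralClosure A (FractionRing A)
  haveI : IsNoetherianRing C := IsNoetherianRing.of_finite B C
  haveI : Algebra.IsIntegral B C := Algebra.IsIntegral.of_finite B C
  have hunit : ∀ y : A⁰, IsUnit (Algebra.ofId A (FractionRing B) y) := fun y => by
    rw [Algebra.ofId_apply, IsScalarTower.algebraMap_apply A B (FractionRing B)]
    exact IsLocalization.map_units (FractionRing B) (⟨_, map_nonZeroDivisors A B y.2⟩ : B⁰)
  let φ : FractionRing A →ₐ[A] FractionRing B := IsLocalization.liftAlgHom hunit
  let Φ : C →ₐ[B] FractionRing B :=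
    Algebra.TensorProduct.lift (Algebra.ofId B (FractionRing B)) (φ.comp A'.val) fun _ _ => Commute.all _ _
  -- a denominator
  obtain ⟨G, hG⟩ := Module.Finite.fg_top (R := A) (M := A')
  obtain ⟨d, hd⟩ := IsLocalization.exist_integer_multiples_of_finset A⁰ (G.image Subtype.val)
  have hden : ∀ z : C, ∃ b : B, (d : A) • z = algebraMap B C b := by
    intro z
    induction z using TensorProduct.induction_on with
    | zero => exact ⟨0, by simp⟩
    | add x y hx hy =>
      obtain ⟨a, ha⟩ := hx; obtain ⟨b, hb⟩ := hy
      exact ⟨a + b, by rw [smul_add, ha, hb, map_add]⟩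
    | tmul b a =>
      obtain ⟨a₀, ha₀⟩ : ∃ a₀ : A, (d : A) • a = algebraMap A A' a₀ := by
        have ha : a ∈ Submodule.span A (G : Set A') := hG ▸ Submodule.mem_top
        induction ha using Submodule.span_induction with
        | mem g hg =>
          obtain ⟨c, hc⟩ := hd g.1 (Finset.mem_image_of_mem _ hg)
          exact ⟨c, Subtype.ext hc.symm⟩
        | zero => exact ⟨0, by simp⟩
        | add p q _ _ hp hq =>
          obtain ⟨c, hc⟩ := hp; obtain ⟨e, he⟩ := hq
          exact ⟨c + e, by rw [smul_add, hc, he, map_add]⟩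
        | smul r p _ hp =>
          obtain ⟨c, hc⟩ := hp
          exact ⟨r * c, by rw [smul_comm, hc, Algebra.smul_def, map_mul]⟩
      refine ⟨a₀ • b, ?_⟩
      rw [← TensorProduct.tmul_smul, ha₀, Algebra.algebraMap_eq_smul_one, TensorProduct.tmul_smul]
      rfl
  have hAr : IsSMulRegular A' (d : A) := by
    intro x y hxy
    refine Subtype.ext ?_
    have h1 : algebraMap A (FractionRing A) d * (x : FractionRing A) =
        algebraMap A (FractionRing A) d * (y : FractionRing A) := by
      rw [← Algebra.smul_def, ← Algebra.smul_def]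
      exact congrArg Subtype.val hxy
    exact (IsLocalization.map_units (FractionRing A) d).mul_left_cancel h1
  have hreg : IsSMulRegular C (d : A) := IsSMulRegular.lTensor B hAr
  have hΦinj : Function.Injective Φ := by
    refine (injective_iff_map_eq_zero _).2 fun z hz => ?_
    obtain ⟨b, hb⟩ := hden z
    have hb0 : b = 0 := by
      refine IsFractionRing.injective B (FractionRing B) ?_
      rw [map_zero, ← Φ.commutes b, ← hb, show (d : A) • z = algebraMap A C d * z from
        Algebra.smul_def (A := C) _ _, map_mul, hz, mul_zero]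
    refine hreg (?_ : (d : A) • z = (d : A) • 0)
    rw [hb, hb0, map_zero, smul_zero]
  -- C is integrally closed
  have hrange : Φ.range = integralClosure B (FractionRing B) := by
    refine le_antisymm ?_ fun z hz => ?_
    · rintro _ ⟨c, rfl⟩
      exact (Algebra.IsIntegral.isIntegral c).map Φ
    · let I : Ideal C :=
        { carrier := {c | ∃ c', Φ c' = Φ c * z}
          add_mem' := fun {a b} ⟨p, hp⟩ ⟨q, hq⟩ => ⟨p + q, by rw [map_add, map_add, hp, hq, add_mul]⟩
          zero_mem' := ⟨0, by simp⟩
          smul_mem' := fun r a ⟨p, hp⟩ => ⟨r * p, by rw [smul_eq_mul, map_mul, map_mul, hp, mul_assoc]⟩ }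
      suffices hI : I = ⊤ by
        obtain ⟨c', hc'⟩ : (1 : C) ∈ I := hI ▸ Submodule.mem_top
        exact ⟨c', by rwa [map_one, one_mul] at hc'⟩
      by_contra hI
      obtain ⟨n, hn, hIn⟩ := Ideal.exists_le_maximal I hI
      obtain ⟨hdom, hnorm⟩ := normal_atPrime A B hdim hmax hred n
      obtain ⟨b, w, hbw⟩ := IsLocalization.exists_mk'_eq B⁰ z
      have hzw : Φ (algebraMap B C w) * z = Φ (algebraMap B C b) := by
        rw [Φ.commutes, Φ.commutes, ← hbw, IsLocalization.mk'_spec']
      let Cn := Localization.AtPrime n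
      let β := algebraMap C Cn (algebraMap B C b)
      let ω := algebraMap C Cn (algebraMap B C w)
      have hω : ω ≠ 0 := by
        intro h0
        obtain ⟨v, hv⟩ := (IsLocalization.map_eq_zero_iff n.primeCompl Cn _).1 h0
        have h1 : Φ (v : C) * algebraMap B (FractionRing B) w = 0 := by
          rw [← Φ.commutes, ← map_mul, hv, map_zero]
        have h2 : (v : C) = 0 := hΦinj <| by
          rw [map_zero]
          exact (IsLocalization.map_units (FractionRing B) w).mul_left_eq_zero.1 h1
        exact v.2 (h2 ▸ n.zero_mem)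
      obtain ⟨p, hp, hpz⟩ := hz
      let F := FractionRing Cn
      let g : C →+* F := (algebraMap Cn F).comp (algebraMap C Cn)
      -- integrality of the fraction
      have hint : _root_.IsIntegral Cn (algebraMap Cn F β / algebraMap Cn F ω) := by
        let q := p.map (algebraMap B C)
        have hqm : q.Monic := hp.map _
        have h0 : Polynomial.eval₂ (Φ : C →+* FractionRing B) z q = 0 := by
          rw [Polynomial.eval₂_map, show ((Φ : C →+* FractionRing B).comp (algebraMap B C)) =
            algebraMap B (FractionRing B) from RingHom.ext Φ.commutes]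
          exact hpz
        have h1 : Polynomial.eval₂ (RingHom.id C) (algebraMap B C b)
            (q.scaleRoots (algebraMap B C w)) = 0 := by
          refine hΦinj ?_
          rw [map_zero]
          refine (Polynomial.hom_eval₂ _ (RingHom.id C) (Φ : C →+* FractionRing B) _).trans ?_
          rw [RingHom.comp_id, show (Φ : C →+* FractionRing B) (algebraMap B C b) =
            (Φ : C →+* FractionRing B) (algebraMap B C w) * z from hzw.symm]
          exact Polynomial.scaleRoots_eval₂_eq_zero (Φ : C →+* FractionRing B) h0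
        refine ⟨q.map (algebraMap C Cn), hqm.map _, ?_⟩
        rw [Polynomial.eval₂_map]
        have h2 := congrArg g h1
        rw [map_zero, Polynomial.hom_eval₂, RingHom.comp_id] at h2
        have hω' : algebraMap Cn F ω ≠ 0 := (map_ne_zero_iff _ (IsFractionRing.injective Cn F)).2 hω
        have h3 : Polynomial.eval₂ g (g (algebraMap B C w) * (algebraMap Cn F β / algebraMap Cn F ω))
            (q.scaleRoots (algebraMap B C w)) = 0 := by
          rw [show g (algebraMap B C w) * (algebraMap Cn F β / algebraMap Cn F ω) = g (algebraMap B C b)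
            from mul_div_cancel₀ _ hω']
          exact h2
        rw [Polynomial.scaleRoots_eval₂_mul] at h3
        exact (mul_eq_zero.1 h3).resolve_left (pow_ne_zero _ hω')
      obtain ⟨γ, hγ⟩ := IsIntegrallyClosed.isIntegral_iff.1 hint
      have hβ : β = γ * ω := IsFractionRing.injective Cn F <| by
        rw [map_mul, hγ, div_mul_cancel₀ _ ((map_ne_zero_iff _ (IsFractionRing.injective Cn F)).2 hω)]
      obtain ⟨⟨c, v⟩, hcv⟩ := IsLocalization.surj n.primeCompl γ
      have h4 : algebraMap C Cn ((v : C) * algebraMap B C b) =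
          algebraMap C Cn (c * algebraMap B C w) := by
        rw [map_mul, map_mul, ← hcv]
        show algebraMap C Cn v * β = γ * algebraMap C Cn v * ω
        rw [hβ]; ring
      obtain ⟨v', hv'⟩ := (IsLocalization.eq_iff_exists n.primeCompl Cn).1 h4
      have hvI : (v' : C) * v ∈ I := by
        refine ⟨v' * c, (IsLocalization.map_units (FractionRing B) w).mul_right_cancel ?_⟩
        rw [← Φ.commutes, mul_assoc (Φ _) z, mul_comm z, hzw, ← map_mul, ← map_mul, mul_assoc, mul_assoc,
          hv']
      exact (v' * v : n.primeCompl).2 (hIn hvI)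
  -- compare the quotients
  let e : C ≃ₐ[B] integralClosure B (FractionRing B) :=
    (AlgEquiv.ofInjective Φ hΦinj).trans (Subalgebra.equivOfEq _ _ hrange)
  let L := LinearMap.range (Algebra.linearMap A A')
  let π : C →ₗ[B] B ⊗[A] (A' ⧸ L) := TensorProduct.AlgebraTensorModule.lTensor B B L.mkQ
  have hπ : Function.Surjective π := LinearMap.lTensor_surjective B L.mkQ_surjective
  have hker : LinearMap.ker π = LinearMap.range (Algebra.linearMap B C) := by
    have hex : Function.Exact (Algebra.linearMap A A') L.mkQ :=
      LinearMap.exact_iff.2 (Submodule.ker_mkQ L)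
    refine le_antisymm (fun x hx => ?_) ?_
    · obtain ⟨y, rfl⟩ := ((lTensor_exact B hex L.mkQ_surjective) x).1 hx
      clear hx
      refine ⟨TensorProduct.rid A B y, ?_⟩
      induction y using TensorProduct.induction_on with
      | zero => simp
      | add p q hp hq =>
        rw [map_add, map_add, hp, hq, map_add]
      | tmul b a =>
        show algebraMap B C ((TensorProduct.rid A B) (b ⊗ₜ[A] a)) = b ⊗ₜ[A] algebraMap A A' a
        rw [TensorProduct.rid_tmul, Algebra.algebraMap_eq_smul_one (A := A'), TensorProduct.tmul_smul]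
        rfl
    · rintro _ ⟨b, rfl⟩
      refine LinearMap.mem_ker.2 ((lTensor_exact B hex L.mkQ_surjective) _ |>.2 ⟨b ⊗ₜ[A] 1, ?_⟩)
      show b ⊗ₜ[A] algebraMap A A' 1 = algebraMap B C b
      rw [map_one]
      rfl
  let q : ((integralClosure B (FractionRing B)) ⧸
      LinearMap.range (Algebra.linearMap B (integralClosure B (FractionRing B)))) ≃ₗ[B]
        B ⊗[A] (A' ⧸ L) :=
    (Submodule.Quotient.equiv _ _ e.toLinearEquiv (by
      rw [hker, ← LinearMap.range_comp]
      congr 1
      exact LinearMap.ext fun b => e.commutes b)).symm ≪≫ₗ π.quotKerEquivOfSurjective hπ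
  rw [Curv2.deltaInv, q.length_eq, IsLocalRing.length_baseChange A B (A' ⧸ L), hmax]
  have h1 : Module.length B (B ⧸ maximalIdeal B) = 1 :=
    @Module.length_eq_one B _ _ _ _
      (isSimpleModule_iff_isCoatom.2 (Ideal.isMaximal_def.1 (maximalIdeal.isMaximal B)))
  rw [h1, mul_one]
  rfl

variable [Algebra.IsSeparable (ResidueField A) (ResidueField B)]

omit [IsNoetherianRing A] [IsNoetherianRing B] [Module.Flat A B] in
/-- With a separable residue extension the fibres of the normalization are reduced. -/
theorem isReduced_fibre (hmax : (maximalIdeal A).map (algebraMap A B) = maximalIdeal B)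
    (M : Ideal (integralClosure A (FractionRing A))) [M.IsMaximal] :
    IsReduced ((B ⊗[A] integralClosure A (FractionRing A)) ⧸
        M.map (Algebra.TensorProduct.includeRight : integralClosure A (FractionRing A) →ₐ[A]
          B ⊗[A] integralClosure A (FractionRing A))) := by
  let A' := integralClosure A (FractionRing A)
  let C := B ⊗[A] integralClosure A (FractionRing A)
  haveI : Algebra.IsIntegral A A' := Algebra.IsIntegral.of_finite A _
  let ι : A' →ₐ[A] C := Algebra.TensorProduct.includeRight
  let J : Ideal C := M.map ι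
  have hMA : M.comap (algebraMap A A') = maximalIdeal A :=
    eq_maximalIdeal (Ideal.isMaximal_comap_of_isIntegral_of_isMaximal M)
  have hmJ : ∀ b ∈ maximalIdeal B, algebraMap B C b ∈ J := by
    rw [← hmax]
    intro b hb
    have : (maximalIdeal A).map (algebraMap A B) ≤ J.comap (algebraMap B C) := by
      rw [Ideal.map_le_iff_le_comap]
      intro a ha
      show algebraMap B C (algebraMap A B a) ∈ J
      rw [← IsScalarTower.algebraMap_apply A B C, ← ι.commutes]
      exact Ideal.mem_map_of_mem _ (show algebraMap A A' a ∈ M from hMA.ge ha)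
    exact this hb
  let K := A' ⧸ M
  letI : Field K := Ideal.Quotient.field M
  let fK : ResidueField A →+* K := Ideal.Quotient.lift (maximalIdeal A) (algebraMap A K) fun a ha => by
    rw [IsScalarTower.algebraMap_apply A A' K]
    exact Ideal.Quotient.eq_zero_iff_mem.2 (hMA.ge ha)
  letI : Algebra (ResidueField A) K := fK.toAlgebra
  haveI : IsScalarTower A (ResidueField A) K := IsScalarTower.of_algebraMap_eq fun _ => rfl
  let fR : ResidueField A →+* C ⧸ J := Ideal.Quotient.lift (maximalIdeal A) (algebraMap A (C ⧸ J))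
    fun a ha => by
      rw [IsScalarTower.algebraMap_apply A C (C ⧸ J), ← ι.commutes]
      exact Ideal.Quotient.eq_zero_iff_mem.2 (Ideal.mem_map_of_mem _ (hMA.ge ha))
  letI : Algebra (ResidueField A) (C ⧸ J) := @RingHom.toAlgebra (ResidueField A) (C ⧸ J) _ _ fR
  haveI : IsScalarTower A (ResidueField A) (C ⧸ J) := IsScalarTower.of_algebraMap_eq fun _ => rfl
  let gB : ResidueField B →+* C ⧸ J := Ideal.Quotient.lift (maximalIdeal B)
    ((Ideal.Quotient.mk J).comp (algebraMap B C))
    fun b hb => Ideal.Quotient.eq_zero_iff_mem.2 (hmJ b hb)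
  let ψB : ResidueField B →ₐ[ResidueField A] C ⧸ J :=
    { gB with
      commutes' := fun r => by
        obtain ⟨a, rfl⟩ := IsLocalRing.residue_surjective r
        show Ideal.Quotient.mk J (algebraMap B C (algebraMap A B a)) = Ideal.Quotient.mk J _
        rw [← IsScalarTower.algebraMap_apply A B C] }
  let gK : K →+* C ⧸ J := Ideal.Quotient.lift M ((Ideal.Quotient.mk J).comp ι.toRingHom)
    fun x hx => Ideal.Quotient.eq_zero_iff_mem.2 (Ideal.mem_map_of_mem _ hx)
  let ψK : K →ₐ[ResidueField A] C ⧸ J :=
    { gK with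
      commutes' := fun r => by
        obtain ⟨a, rfl⟩ := IsLocalRing.residue_surjective r
        show Ideal.Quotient.mk J (ι (algebraMap A A' a)) = Ideal.Quotient.mk J _
        rw [ι.commutes] }
  let T := ResidueField B ⊗[ResidueField A] K
  let ψ : T →ₐ[ResidueField A] C ⧸ J :=
    Algebra.TensorProduct.lift ψB ψK fun _ _ => Commute.all (S := C ⧸ J) _ _
  let θ : C →ₐ[A] T := Algebra.TensorProduct.lift
    ((Algebra.TensorProduct.includeLeft (R := ResidueField A) (S := A) (A := ResidueField B) (B := K)).comp
      (IsScalarTower.toAlgHom A B (ResidueField B)))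
    (((Algebra.TensorProduct.includeRight (R := ResidueField A) (A := ResidueField B)
      (B := K)).restrictScalars A).comp (Ideal.Quotient.mkₐ A M)) fun _ _ => Commute.all _ _
  have hJθ : ∀ x ∈ J, θ x = 0 := by
    intro x hx
    have : J ≤ RingHom.ker θ := Ideal.map_le_iff_le_comap.2 fun m hm => by
      show θ ((1 : B) ⊗ₜ[A] m) = 0
      rw [Algebra.TensorProduct.lift_tmul, map_one, one_mul]
      show (1 : ResidueField B) ⊗ₜ[ResidueField A] (Ideal.Quotient.mk M m) = 0
      rw [Ideal.Quotient.eq_zero_iff_mem.2 hm, TensorProduct.tmul_zero]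
    exact this hx
  haveI : IsReduced T := isReduced_tensor_separable _ _ _
  let θ' : C ⧸ J →+* T := Ideal.Quotient.lift J θ.toRingHom hJθ
  refine isReduced_of_injective θ' (Function.LeftInverse.injective (g := ψ) fun x => ?_)
  obtain ⟨x, rfl⟩ := Ideal.Quotient.mk_surjective x
  show ψ (θ x) = Ideal.Quotient.mk J x
  induction x using TensorProduct.induction_on with
  | zero => simp
  | add x y hx hy => rw [map_add, map_add, hx, hy, map_add]
  | tmul b a =>
    rw [Algebra.TensorProduct.lift_tmul]
    show ψ (((IsLocalRing.residue B b) ⊗ₜ[ResidueField A] (1 : K)) *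
      ((1 : ResidueField B) ⊗ₜ[ResidueField A] (Ideal.Quotient.mk M a))) = _
    rw [Algebra.TensorProduct.tmul_mul_tmul, one_mul, mul_one, Algebra.TensorProduct.lift_tmul]
    show Ideal.Quotient.mk J (algebraMap B C b) * Ideal.Quotient.mk J (ι a) = _
    rw [← map_mul]
    congr 1
    show (b ⊗ₜ[A] (1 : A')) * ((1 : B) ⊗ₜ[A] a) = _
    rw [Algebra.TensorProduct.tmul_mul_tmul, one_mul, mul_one]

/-- The δ-invariant is unchanged by a flat local extension with `m_A B = m_B` and separable
residue extension. -/
theorem deltaInv_eq (hdim : ringKrullDim A = 1)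
    (hmax : (maximalIdeal A).map (algebraMap A B) = maximalIdeal B) :
    Curv2.deltaInv B = Curv2.deltaInv A :=
  deltaInv_eq_of_reduced A B hdim hmax fun M hM => haveI := hM; isReduced_fibre A B hmax M

end Groth.VarietyBC.DeltaFlat
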