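import Groth.Prelude.Def_Curv2
import Groth.Prelude.Def_ClSub2
import Groth.Agent.VarietyBC.NormDimOne
import Groth.Agent.RefRank.Stalk
import Groth.Agent.QCohMod.Affine
import Groth.Agent.QCohMod.QCQS
import Groth.Agent.KTheory.LocFree
import Groth.Agent.Calg4.Japanese

/-!
# The cokernel of `O_X → ν_* O_{X^ν}`; the normalization is birational
-/

set_option autoImplicit false
set_option linter.style.haveILetI false
set_option backward.isDefEq.respectTransparency.types false

universe u

open CategoryTheory CategoryTheory.Limits AlgebraicGeometry TopologicalSpace Opposite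

namespace Groth.VarietyBC.NormCokernel

variable (X : Scheme.{u}) [IsIntegral X] [QuasiCompact (X.fromSpecStalk (genericPoint X))]
  [QuasiSeparated (X.fromSpecStalk (genericPoint X))]

/-- The stalk of `ν_* O_{X^ν}` is the integral closure of the local ring in the function field. -/
theorem exists_stalk_equiv (x : X) :
    ∃ Ψ : ((Scheme.Modules.pushforward (Curv2.normalizationι X)).obj
        (Coh.structureModule (Curv2.normalization X))).presheaf.stalk x ≃ₗ[X.presheaf.stalk x]
        integralClosure (X.presheaf.stalk x) X.functionField,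
      ∀ a : X.presheaf.stalk x,
        Ψ (KTheory.LocFree.stalkₗ (ClSub.unitToPush (Curv2.normalizationι X)) x
          (Groth.RefRank.oneEquiv x a)) = algebraMap _ _ a := by
  let ν := Curv2.normalizationι X
  have : IsIntegralHom ν :=
    inferInstanceAs (IsIntegralHom (X.fromSpecStalk (genericPoint X)).fromNormalization)
  let P := (Scheme.Modules.pushforward ν).obj (Coh.structureModule (Curv2.normalization X))
  have : (Coh.structureModule (Curv2.normalization X)).IsQuasicoherent := inferInstance
  have : P.IsQuasicoherent := Groth.QCohMod.isQCoh_pushforward _ ν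
  obtain ⟨U, hU, hx⟩ := Groth.QCohMod.exists_affine_mem x
  haveI : Nonempty U.toScheme := ⟨⟨x, hx⟩⟩
  obtain ⟨e, he⟩ := Groth.VarietyBC.exists_algEquiv_normalization X U hU
  let _ := TopCat.Presheaf.algebra_section_stalk X.presheaf (⟨x, hx⟩ : U)
  haveI : IsScalarTower Γ(X, U) (X.presheaf.stalk x) X.functionField :=
    functionField_isScalarTower X U ⟨x, hx⟩
  let S := (hU.primeIdealOf ⟨x, hx⟩).asIdeal.primeCompl
  haveI : IsLocalization S (X.presheaf.stalk x) := hU.isLocalization_stalk ⟨x, hx⟩
  let _ := Groth.QCohMod.stalkModule P x hx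
  haveI : IsScalarTower Γ(X, U) (X.presheaf.stalk x) (P.presheaf.stalk x) :=
    ⟨fun a r m => by rw [Algebra.smul_def]; exact mul_smul _ _ _⟩
  haveI := Groth.QCohMod.isLocalizedModule_germ P hU x hx
  let B := integralClosure (X.presheaf.stalk x) X.functionField
  let j : integralClosure Γ(X, U) X.functionField →ₗ[Γ(X, U)] B :=
    { toFun := fun c => ⟨c.1, IsIntegral.tower_top c.2⟩
      map_add' := fun _ _ => rfl
      map_smul' := fun _ _ => Subtype.ext rfl }
  have hj : IsLocalizedModule S j := by
    refine ⟨fun s => ?_, fun b => ?_, fun {c₁ c₂} h => ⟨1, ?_⟩⟩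
    · rw [Module.End.isUnit_iff]
      have h := (IsLocalization.map_units (X.presheaf.stalk x) s).smul_bijective (β := B)
      simp only [algebraMap_smul] at h
      exact h
    · obtain ⟨s, hs⟩ := IsIntegral.exists_multiple_integral_of_isLocalization S (b : X.functionField) b.2
      exact ⟨⟨⟨_, hs⟩, s⟩, Subtype.ext rfl⟩
    · rw [show c₁ = c₂ from Subtype.ext (congrArg (fun b : B => (b : X.functionField)) h)]
  let e' : Γ(P, U) ≃ₗ[Γ(X, U)] integralClosure Γ(X, U) X.functionField :=
    (show Γ(P, U) ≃+ integralClosure Γ(X, U) X.functionField from e.toAddEquiv).toLinearEquiv fun r m => by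
      show e ((ν.app U r) * (show Γ(Curv2.normalization X, ν ⁻¹ᵁ U) from m)) = r • e m
      rw [map_mul, he, Algebra.smul_def]
  haveI : IsLocalizedModule S (j ∘ₗ e'.toLinearMap) := IsLocalizedModule.of_linearEquiv_right S j e'
  let Ψ₀ := IsLocalizedModule.linearEquiv S (Groth.QCohMod.germₗ P x hx) (j ∘ₗ e'.toLinearMap)
  let Ψ : P.presheaf.stalk x ≃ₗ[X.presheaf.stalk x] B :=
    Ψ₀.extendScalarsOfIsLocalization S (X.presheaf.stalk x)
  refine ⟨Ψ, fun a => ?_⟩
  rw [show a = a • (1 : X.presheaf.stalk x) by rw [smul_eq_mul, mul_one], map_smul, map_smul,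
    map_smul, Algebra.smul_def, smul_eq_mul, mul_one]
  suffices h : Ψ (KTheory.LocFree.stalkₗ (ClSub.unitToPush ν) x (Groth.RefRank.oneEquiv x 1)) = 1 by
    rw [h, mul_one]
  rw [Groth.RefRank.oneEquiv_apply, ← map_one (X.presheaf.germ U x hx).hom,
    Groth.RefRank.smul_oneGerm]
  have h1 : KTheory.LocFree.stalkₗ (ClSub.unitToPush ν) x
      (Groth.QCohMod.germ (Coh.structureModule X) x hx
        (show Γ(Coh.structureModule X, U) from (1 : Γ(X, U)))) =
      Groth.QCohMod.germₗ P x hx ((ClSub.unitToPush ν).app U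
        (show Γ(Coh.structureModule X, U) from (1 : Γ(X, U)))) :=
    Groth.QCohMod.stalk_map_germ _ x hx _
  refine (congrArg Ψ h1).trans ((IsLocalizedModule.linearEquiv_apply S _ _ _).trans ?_)
  refine Subtype.ext ?_
  show ((e (ν.app U 1) : integralClosure Γ(X, U) X.functionField) : X.functionField) = 1
  rw [map_one, map_one]
  rfl

/-- `O_X → ν_* O_{X^ν}` is a monomorphism. -/
theorem mono_unitToPush : Mono (ClSub.unitToPush (Curv2.normalizationι X)) := by
  refine (Groth.QCohMod.mono_iff_stalk _).2 fun x => ?_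
  obtain ⟨Ψ, hΨ⟩ := exists_stalk_equiv X x
  intro a b hab
  obtain ⟨a, rfl⟩ := (Groth.RefRank.oneEquiv x).surjective a
  obtain ⟨b, rfl⟩ := (Groth.RefRank.oneEquiv x).surjective b
  have h : algebraMap (X.presheaf.stalk x) (integralClosure (X.presheaf.stalk x) X.functionField) a =
      algebraMap (X.presheaf.stalk x) (integralClosure (X.presheaf.stalk x) X.functionField) b := by
    rw [← hΨ a, ← hΨ b]
    exact congrArg Ψ hab
  exact congrArg _ (IsFractionRing.injective (X.presheaf.stalk x) X.functionField
    (congrArg Subtype.val h))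

/-- The stalks of the cokernel have the δ-invariant as length. -/
theorem length_stalk_cokernel (x : X) :
    Module.length (X.presheaf.stalk x)
        ((cokernel (ClSub.unitToPush (Curv2.normalizationι X))).presheaf.stalk x) =
      Curv2.deltaInv (X.presheaf.stalk x) := by
  obtain ⟨Ψ, hΨ⟩ := exists_stalk_equiv X x
  have := mono_unitToPush X
  let φ := ClSub.unitToPush (Curv2.normalizationι X)
  let S : ShortComplex X.Modules := ShortComplex.mk φ (cokernel.π φ) (cokernel.condition φ)
  have hS : S.ShortExact :=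
    { exact := ShortComplex.exact_cokernel φ }
  have hex := hS.exact.map (Groth.QCohMod.stalk x)
  rw [ShortComplex.ab_exact_iff] at hex
  have hker : LinearMap.ker (KTheory.LocFree.stalkₗ (cokernel.π φ) x) =
      LinearMap.range (KTheory.LocFree.stalkₗ φ x) := by
    refine le_antisymm (fun t ht => hex t ht) ?_
    rintro _ ⟨u, rfl⟩
    exact congr($((S.map (Groth.QCohMod.stalk x)).zero) u)
  have hsurj : Function.Surjective (KTheory.LocFree.stalkₗ (cokernel.π φ) x) :=
    (Groth.QCohMod.epi_iff_stalk _).mp inferInstance x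
  let B := integralClosure (X.presheaf.stalk x) X.functionField
  let η : FractionRing (X.presheaf.stalk x) ≃ₐ[X.presheaf.stalk x] X.functionField :=
    IsLocalization.algEquiv (nonZeroDivisors _) _ _
  rw [Curv2.deltaInv, ← (LinearMap.quotKerEquivOfSurjective _ hsurj).length_eq]
  refine LinearEquiv.length_eq (Submodule.Quotient.equiv _ _
    (Ψ.trans η.mapIntegralClosure.toLinearEquiv.symm) ?_)
  rw [hker, ← LinearMap.range_comp]
  have hcomp : (((Ψ.trans η.mapIntegralClosure.toLinearEquiv.symm).toLinearMap ∘ₗ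
      KTheory.LocFree.stalkₗ φ x) ∘ₗ (Groth.RefRank.oneEquiv x).toLinearMap) =
        Algebra.linearMap (X.presheaf.stalk x)
          (integralClosure (X.presheaf.stalk x) (FractionRing (X.presheaf.stalk x))) := by
    refine LinearMap.ext fun a => ?_
    refine (congrArg η.mapIntegralClosure.symm (hΨ a)).trans ?_
    exact η.mapIntegralClosure.symm.commutes a
  rw [← hcomp, LinearMap.range_comp _ (_ ∘ₗ _), LinearEquiv.range, Submodule.map_top]

/-- The δ-invariant of a field is zero. -/
theorem deltaInv_eq_zero_of_isField {A : Type u} [CommRing A] [IsDomain A] (h : IsField A) :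
    Curv2.deltaInv A = 0 := by
  letI := h.toField
  rw [Curv2.deltaInv, Module.length_eq_zero_iff, Submodule.Quotient.subsingleton_iff,
    LinearMap.range_eq_top]
  intro z
  obtain ⟨a, ha⟩ := IsFractionRing.surjective_iff_isField.2 h z.1
  exact ⟨a, Subtype.ext ha⟩

/-- A normalization with finite integral closures on affine opens is birational. -/
theorem exists_isIso_restrict (hfin : ∀ U : X.Opens, IsAffineOpen U → ∀ [Nonempty U],
    Module.Finite Γ(X, U) (integralClosure Γ(X, U) X.functionField)) :
    ∃ U : X.Opens, Dense (U : Set X) ∧ IsIso (Curv2.normalizationι X ∣_ U) := by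
  classical
  let ν := Curv2.normalizationι X
  obtain ⟨U, hU, hgU⟩ := Groth.QCohMod.exists_affine_mem (genericPoint X)
  haveI : Nonempty U := ⟨⟨_, hgU⟩⟩
  haveI := functionField_isFractionRing_of_isAffineOpen X U hU
  obtain ⟨G, hG⟩ := (hfin U hU).fg_top
  obtain ⟨s, hs⟩ := IsLocalization.exist_integer_multiples_of_finset (nonZeroDivisors Γ(X, U))
    (G.image (Subtype.val : integralClosure Γ(X, U) X.functionField → X.functionField))
  have hC : ∀ c : integralClosure Γ(X, U) X.functionField,
      ∃ a : Γ(X, U), algebraMap _ X.functionField a = (s : Γ(X, U)) • (c : X.functionField) := by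
    intro c
    have hc : c ∈ Submodule.span Γ(X, U) (G : Set (integralClosure Γ(X, U) X.functionField)) :=
      hG ▸ Submodule.mem_top
    induction hc using Submodule.span_induction with
    | mem g hg => exact hs g.1 (Finset.mem_image_of_mem _ hg)
    | zero => exact ⟨0, by simp⟩
    | add p q _ _ hp hq =>
      obtain ⟨a, ha⟩ := hp; obtain ⟨b, hb⟩ := hq
      exact ⟨a + b, by rw [map_add, ha, hb, Subalgebra.coe_add, smul_add]⟩
    | smul r p _ hp =>
      obtain ⟨a, ha⟩ := hp
      exact ⟨r * a, by rw [map_mul, ha, Subalgebra.coe_smul]; simp only [Algebra.smul_def]; ring⟩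
  let V : X.Opens := X.basicOpen (s : Γ(X, U))
  have hV : IsAffineOpen V := hU.basicOpen _
  have hne : (V : Set X).Nonempty := by
    refine Set.nonempty_iff_ne_empty.2 fun h' => ?_
    have h : V = ⊥ := Opens.ext h'
    exact nonZeroDivisors.ne_zero s.2 ((AlgebraicGeometry.basicOpen_eq_bot_iff _).1 h)
  refine ⟨V, V.isOpen.dense hne, ?_⟩
  obtain ⟨v, hv⟩ := hne
  haveI : Nonempty V := ⟨⟨v, hv⟩⟩
  haveI : Nonempty V.toScheme := ⟨⟨v, hv⟩⟩
  obtain ⟨e, he⟩ := Groth.VarietyBC.exists_algEquiv_normalization X V hV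
  haveI := functionField_isFractionRing_of_isAffineOpen X V hV
  let _ : Algebra Γ(X, U) Γ(X, V) := (X.presheaf.map (homOfLE (X.basicOpen_le _)).op).hom.toAlgebra
  haveI : IsLocalization.Away (s : Γ(X, U)) Γ(X, V) := hU.isLocalization_basicOpen _
  haveI : IsScalarTower Γ(X, U) Γ(X, V) X.functionField := IsScalarTower.of_algebraMap_eq fun a => by
    exact (TopCat.Presheaf.germ_res_apply X.presheaf (homOfLE (X.basicOpen_le _)) (genericPoint X)
      _ a).symm
  have hsurj : Function.Surjective (algebraMap Γ(X, V) (integralClosure Γ(X, V) X.functionField)) := by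
    rintro ⟨z, hz⟩
    obtain ⟨⟨_, n, rfl⟩, hn⟩ := IsIntegral.exists_multiple_integral_of_isLocalization
      (Submonoid.powers (s : Γ(X, U))) z hz
    obtain ⟨a, ha⟩ := hC ⟨_, hn⟩
    refine ⟨IsLocalization.mk' Γ(X, V) a (⟨(s : Γ(X, U)) ^ (n + 1), ⟨n + 1, rfl⟩⟩ : Submonoid.powers (s : Γ(X, U))), Subtype.ext ?_⟩
    show algebraMap Γ(X, V) X.functionField _ = z
    have hu : algebraMap Γ(X, U) X.functionField ((s : Γ(X, U)) ^ (n + 1)) ≠ 0 :=
      (map_ne_zero_iff _ (IsFractionRing.injective Γ(X, U) X.functionField)).2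
        (pow_ne_zero _ (nonZeroDivisors.ne_zero s.2))
    refine mul_left_cancel₀ hu ?_
    have ha' : algebraMap Γ(X, U) X.functionField a =
        algebraMap Γ(X, U) X.functionField ((s : Γ(X, U)) ^ (n + 1)) * z := by
      refine ha.trans ?_
      show (s : Γ(X, U)) • ((s : Γ(X, U)) ^ n • z) = _
      rw [smul_smul, ← pow_succ', Algebra.smul_def]
    rw [← ha', IsScalarTower.algebraMap_apply Γ(X, U) Γ(X, V) X.functionField ((s : Γ(X, U)) ^ (n + 1)),
      ← map_mul, IsLocalization.mk'_spec'_mk, ← IsScalarTower.algebraMap_apply]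
  have hbij : Function.Bijective (ν.app V) := by
    refine ⟨fun a b hab => IsFractionRing.injective Γ(X, V) X.functionField ?_, fun z => ?_⟩
    · have := congrArg e hab
      rw [he, he] at this
      exact congrArg Subtype.val this
    · obtain ⟨a, ha⟩ := hsurj (e z)
      exact ⟨a, e.injective ((he a).trans ha)⟩
  haveI : IsIso (ν.app V) := (ConcreteCategory.isIso_iff_bijective _).2 hbij
  haveI : IsIntegralHom ν :=
    inferInstanceAs (IsIntegralHom (X.fromSpecStalk (genericPoint X)).fromNormalization)
  haveI : IsAffine V.toScheme := hV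
  show MorphismProperty.isomorphisms Scheme (ν ∣_ V)
  rw [HasAffineProperty.iff_of_isAffine (P := MorphismProperty.isomorphisms Scheme)]
  refine ⟨hV.preimage ν, ?_⟩
  rw [Scheme.Hom.appTop, morphismRestrict_app']
  have key : ∀ (V' : X.Opens) (W : (Curv2.normalization X).Opens)
      (h : W ≤ ν ⁻¹ᵁ V'), V' = V → W = ν ⁻¹ᵁ V → IsIso (ν.appLE V' W h) := by
    rintro V' W h rfl rfl
    rw [← Scheme.Hom.app_eq_appLE]
    infer_instance
  exact key _ _ _ (Scheme.Opens.ι_image_top _) (Scheme.Opens.ι_image_top _)

end Groth.VarietyBC.NormCokernel
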