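import Groth.Agent.VarietyBC.NegTwist
import Groth.Agent.Pi1Ample.FiniteAffine
import Groth.Agent.RefRank.Divisor
import Groth.Agent.QCohMod.Coherent
import Groth.Agent.QCohMod.SupportPullback
import Groth.Agent.LocCohBase.DepthLocal
import Groth.Agent.SchemeMorphisms.Decomp
import Groth.Agent.ModelsGraphs.DualExtend
import Groth.Agent.VarietyBC.CurveGG

/-!
# First cohomology of negative ample twists vanishes in depth two
-/

set_option autoImplicit false
set_option linter.style.haveILetI false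
set_option backward.isDefEq.respectTransparency.types false
universe u

open CategoryTheory CategoryTheory.Limits AlgebraicGeometry TopologicalSpace Opposite
open Groth.PicAux Groth.PropsBasic.Ample
open scoped TensorProduct Pointwise

namespace Groth.VarietyBC.NegTwistH1

variable {X : Scheme.{u}}

/-- Twisting by a global section of a second module. -/
theorem exists_twistHom (A : X.Modules) {Q : X.Modules} (T : Γ(Q, ⊤)) :
    ∃ φ : A ⟶ CohB1.tensorMod A Q, ∀ (W : X.Opens) (a : Γ(A, W)),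
      φ.app W a = tmulSec a (res Q le_top T) := by
  refine ⟨(SecTwist.unitorR A).inv ≫ KoszTw.tensorMap (𝟙 A) (homOfSection T), fun W a => ?_⟩
  have h1 : (SecTwist.unitorR A).inv.app W a =
      (tmulSec a (oneSec X W) : Γ(CohB1.tensorMod A (Coh.structureModule X), W)) := by
    have h : (SecTwist.unitorR A).hom.app W (tmulSec a (oneSec X W)) = (1 : Γ(X, W)) • a :=
      SecTwist.unitorR_tmul A W a (1 : Γ(X, W))
    rw [one_smul] at h
    refine (congrArg ((SecTwist.unitorR A).inv.app W) h.symm).trans ?_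
    exact congr(($((SecTwist.unitorR A).hom_inv_id)).app W (tmulSec a (oneSec X W)))
  change (KoszTw.tensorMap (𝟙 A) (homOfSection T)).app W ((SecTwist.unitorR A).inv.app W a) = _
  rw [h1, tensorMap_app_tmulSec]
  congr 1
  rw [← res_oneSec (le_top : W ≤ ⊤), app_res, homOfSection_one]

/-- Twisting by a global section of a second module. -/
noncomputable def twistHom (A : X.Modules) {Q : X.Modules} (T : Γ(Q, ⊤)) :
    A ⟶ CohB1.tensorMod A Q :=
  (exists_twistHom A T).choose

theorem twistHom_app (A : X.Modules) {Q : X.Modules} (T : Γ(Q, ⊤)) (W : X.Opens) (a : Γ(A, W)) :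
    (twistHom A T).app W a = tmulSec a (res Q le_top T) :=
  (exists_twistHom A T).choose_spec W a

theorem twistHom_add (A : X.Modules) {Q : X.Modules} (T T' : Γ(Q, ⊤)) :
    twistHom A (T + T') = twistHom A T + twistHom A T' :=
  Groth.CohTwo.hom_ext_app fun W a => by
    rw [Scheme.Modules.Hom.add_app]
    change _ = (twistHom A T).app W a + (twistHom A T').app W a
    rw [twistHom_app, twistHom_app, twistHom_app, res_add, tmulSec_add_right]

theorem twistHom_smul (A : X.Modules) {Q : X.Modules} (r : Γ(X, ⊤)) (T : Γ(Q, ⊤)) :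
    twistHom A (r • T) = twistHom A T ≫ Groth.ModelsGraphs.DualExtend.smulHom _ r :=
  Groth.CohTwo.hom_ext_app fun W a => by
    change _ = (Groth.ModelsGraphs.DualExtend.smulHom _ r).app W ((twistHom A T).app W a)
    rw [Groth.ModelsGraphs.DualExtend.smulHom_app, twistHom_app, twistHom_app, res_smul, tmulSec_smul_right]
    rfl

/-- The constants act on cohomology through the scalar endomorphisms. -/
theorem hMap_smulHom (k : Type u) [Field k] [X.Over (Spec (CommRingCat.of k))] (M : X.Modules)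
    (c : k) (n : ℕ) (x : Coh.HH X M n) :
    Groth.EulerDeg.hMap k (Groth.ModelsGraphs.DualExtend.smulHom M (NegTwist.const k X c)) n x = c • x :=
  rfl

/-- Near a point every section of a twist by an invertible module is a single tensor. -/
theorem exists_germ_tmul {A Q : X.Modules} (hQ : PicF.IsInvertible Q) {x : X}
    (z : (CohB1.tensorMod A Q).presheaf.stalk x) :
    ∃ (W : X.Opens) (hx : x ∈ W) (e : Γ(Q, W)) (a : Γ(A, W)), Gen Q W e ∧
      (CohB1.tensorMod A Q).presheaf.germ W x hx (tmulSec a e) = z := by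
  obtain ⟨U, hxU, t, rfl⟩ := TopCat.Presheaf.exists_germ_eq (CohB1.tensorMod A Q).presheaf z
  obtain ⟨U', e, hxU', he⟩ := (isInvertible_iff_exists_gen Q).1 hQ x
  obtain ⟨W, hWle, p, hxW, hp⟩ := ptenUnit_locally_surjective A Q (U ⊓ U')
    (res _ inf_le_left t) x ⟨hxU, hxU'⟩
  have hWU' : W ≤ U' := hWle.trans inf_le_right
  have hsingle : ∀ q : PTen A Q W, ∃ a : Γ(A, W), q = a ⊗ₜ res Q hWU' e := by
    intro q
    induction q using TensorProduct.induction_on with
    | zero => exact ⟨0, (TensorProduct.zero_tmul _ _).symm⟩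
    | tmul a f =>
      obtain ⟨c, rfl⟩ := he.exists_coeff hWU' f
      exact ⟨c • a, (TensorProduct.smul_tmul c a _).symm⟩
    | add q q' hq hq' =>
      obtain ⟨a, rfl⟩ := hq
      obtain ⟨a', rfl⟩ := hq'
      exact ⟨a + a', (TensorProduct.add_tmul _ _ _).symm⟩
  obtain ⟨a, rfl⟩ := hsingle p
  refine ⟨W, hxW, res Q hWU' e, a, he.res hWU', ?_⟩
  change (CohB1.tensorMod A Q).presheaf.germ W x hxW (ptenUnit A Q W (a ⊗ₜ res Q hWU' e)) = _
  rw [hp, res_res]
  exact (CohB1.tensorMod A Q).presheaf.germ_res_apply (homOfLE (hWle.trans inf_le_left)) x hxW t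

/-- The annihilator of a single tensor with a generator. -/
theorem smul_germ_tmul_eq_zero_iff {A Q : X.Modules} {W : X.Opens} {e : Γ(Q, W)} (he : Gen Q W e)
    {x : X} (hx : x ∈ W) (a : Γ(A, W)) (r : X.presheaf.stalk x) :
    r • (CohB1.tensorMod A Q).presheaf.germ W x hx (tmulSec a e) = 0 ↔
      r • A.presheaf.germ W x hx a = 0 := by
  obtain ⟨U, hxU, r', rfl⟩ := X.presheaf.exists_germ_eq r
  let V : X.Opens := U ⊓ W
  have hxV : x ∈ V := ⟨hxU, hx⟩
  have e1 : X.presheaf.germ U x hxU r' = X.presheaf.germ V x hxV (resX X inf_le_left r') :=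
    (X.presheaf.germ_res_apply (homOfLE (inf_le_left : V ≤ U)) x hxV r').symm
  have e2 : A.presheaf.germ W x hx a = A.presheaf.germ V x hxV (res A inf_le_right a) :=
    (A.presheaf.germ_res_apply (homOfLE (inf_le_right : V ≤ W)) x hxV a).symm
  have e3 : (CohB1.tensorMod A Q).presheaf.germ W x hx (tmulSec a e) =
      (CohB1.tensorMod A Q).presheaf.germ V x hxV
        (tmulSec (res A inf_le_right a) (res Q inf_le_right e)) := by
    rw [← res_tmulSec]
    exact ((CohB1.tensorMod A Q).presheaf.germ_res_apply (homOfLE (inf_le_right : V ≤ W)) x hxV _).symm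
  rw [e1, e2, e3, ← Groth.Divisors.germ_smul_mod, ← Groth.Divisors.germ_smul_mod, ← tmulSec_smul_left]
  refine ⟨fun h => NegTwist.germ_eq_zero_of_tmulSec (he.res inf_le_right) hxV _ h, fun h => ?_⟩
  obtain ⟨V', hxV', i₁, i₂, hV'⟩ := TopCat.Presheaf.germ_eq A.presheaf x hxV hxV _ 0
    (h.trans (map_zero _).symm)
  rw [← (CohB1.tensorMod A Q).presheaf.germ_res_apply (homOfLE i₁.le) x hxV']
  change (CohB1.tensorMod A Q).presheaf.germ V' x hxV' (res _ i₁.le (tmulSec _ _)) = 0
  rw [res_tmulSec, show res A i₁.le (resX X _ r' • res A _ a) = 0 from hV'.trans (map_zero _),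
    tmulSec_zero_left, map_zero]

/-- Twisting by an invertible module creates no weakly associated points. -/
theorem isWeakAssPoint_of_tensorMod {A Q : X.Modules} (hQ : PicF.IsInvertible Q) {x : X}
    (h : Curv2.IsWeakAssPoint (CohB1.tensorMod A Q) x) : Curv2.IsWeakAssPoint A x := by
  rw [Groth.Divisors.isWeakAssPoint_iff] at h ⊢
  obtain ⟨z, h1, h2⟩ := h
  obtain ⟨W, hx, e, a, he, rfl⟩ := exists_germ_tmul hQ z
  refine ⟨A.presheaf.germ W x hx a, fun r hr => h1 r ((smul_germ_tmul_eq_zero_iff he hx a r).2 hr),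
    fun r hr => ?_⟩
  obtain ⟨n, hn⟩ := h2 r hr
  exact ⟨n, (smul_germ_tmul_eq_zero_iff he hx a _).1 hn⟩

/-- In depth at least two the quotient by a regular element has no socle. -/
theorem not_isAssociatedPrime_of_surjective {R : Type u} [CommRing R] [IsLocalRing R]
    [IsNoetherianRing R] {M G : Type u} [AddCommGroup M] [Module R M] [Module.Finite R M]
    [AddCommGroup G] [Module R G] (hd : 2 ≤ LocCoh.depth R M) (g : M →ₗ[R] G)
    (hg : Function.Surjective g) (c : R) (hreg : IsSMulRegular M c)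
    (hker : ∀ v, g v = 0 ↔ ∃ w, v = c • w) :
    ¬ IsAssociatedPrime (IsLocalRing.maximalIdeal R) G := by
  intro hass
  set m := IsLocalRing.maximalIdeal R
  by_cases hc : IsUnit c
  · obtain ⟨u, rfl⟩ := hc
    have : Subsingleton G := by
      refine subsingleton_of_forall_eq 0 fun z => ?_
      obtain ⟨v, rfl⟩ := hg z
      exact (hker v).2 ⟨(↑u⁻¹ : R) • v, by rw [smul_smul, Units.mul_inv, one_smul]⟩
    obtain ⟨hp, z, hz⟩ := hass
    refine hp.ne_top (hz.trans ?_)
    rw [Subsingleton.elim z 0]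
    simp
  have hcm : c ∈ m := (IsLocalRing.mem_maximalIdeal _).2 hc
  rcases subsingleton_or_nontrivial M with hM | hM
  · have : Subsingleton G := hg.subsingleton
    obtain ⟨hp, z, hz⟩ := hass
    refine hp.ne_top (hz.trans ?_)
    rw [Subsingleton.elim z 0]
    simp
  have hIM : m • (⊤ : Submodule R M) ≠ ⊤ := fun h => top_ne_bot
    (Submodule.eq_bot_of_le_smul_of_le_jacobson_bot m ⊤ Module.Finite.fg_top h.ge
      (IsLocalRing.maximalIdeal_le_jacobson _))
  have h1 : (1 : ℕ∞) ≤ LocCoh.idealDepth m (QuotSMulTop c M) := by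
    have h2 := Groth.LocCohBase.idealDepth_quotSMulTop_add_one m M hIM hcm hreg
    have h3 : (1 : ℕ∞) + 1 ≤ LocCoh.idealDepth m (QuotSMulTop c M) + 1 := by
      rw [h2]
      exact le_trans (by norm_num) hd
    exact (WithTop.add_le_add_iff_right ENat.one_ne_top).1 h3
  refine (Groth.LocCohBase.one_le_idealDepth_iff m (QuotSMulTop c M)).1 h1 m ?_ le_rfl
  have hle : LinearMap.ker g = c • (⊤ : Submodule R M) := by
    ext v
    rw [LinearMap.mem_ker, hker, Submodule.mem_smul_pointwise_iff_exists]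
    exact ⟨fun ⟨w, hw⟩ => ⟨w, trivial, hw.symm⟩, fun ⟨w, _, hw⟩ => ⟨w, hw.symm⟩⟩
  let e : QuotSMulTop c M ≃ₗ[R] G :=
    (Submodule.quotEquivOfEq _ _ hle.symm).trans (g.quotKerEquivOfSurjective hg)
  exact (LinearEquiv.AssociatedPrimes.eq e).ge hass

/-- A section of a power with affine locus around finitely many nonclosed points, together with a
second section whose ratio is transcendental at each of them. -/
theorem exists_pencil [CompactSpace X] {L : X.Modules} (hL : CohB1.IsAmple L) {Z : Set X}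
    (hZ : Z.Finite) (hncl : ∀ x ∈ Z, ¬ IsClosed ({x} : Set X)) :
    ∃ (m : ℕ) (t₀ t₁ : Γ(CohB1.tensorPow L m, ⊤)) (a : Γ(X, gloc t₁)), 0 < m ∧
      res _ (le_top : gloc t₁ ≤ ⊤) t₀ = a • res _ (le_top : gloc t₁ ≤ ⊤) t₁ ∧
      ∀ x ∈ Z, x ∈ X.basicOpen a ∧ ∃ y, x ⤳ y ∧ y ∈ gloc t₁ ∧ y ∉ X.basicOpen a := by
  classical
  have hy : ∀ x : X, ∃ y : X, x ⤳ y ∧ IsClosed ({y} : Set X) := by
    intro x
    obtain ⟨y, hy, hycl⟩ := IsClosed.exists_closed_singleton (isClosed_closure (s := {x}))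
      (Set.singleton_nonempty x).closure
    exact ⟨y, specializes_iff_mem_closure.2 hy, hycl⟩
  choose y hxy hycl using hy
  obtain ⟨N, t, hZt, -, hW⟩ := Groth.PropsBasic.Ample.exists_affine_gloc_finite hL (Z ∪ y '' Z)
    (hZ.union (hZ.image y)) ⊤ (fun _ _ => trivial)
  let p : ∀ z : X, z ∈ gloc t → Ideal Γ(X, gloc t) := fun z hz => (hW.primeIdealOf ⟨z, hz⟩).asIdeal
  let S := hZ.toFinset
  have hxt : ∀ x : S, x.1 ∈ gloc t := fun x => hZt (Or.inl (hZ.mem_toFinset.1 x.2))
  have hyt : ∀ x : S, y x.1 ∈ gloc t := fun x =>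
    hZt (Or.inr ⟨x.1, hZ.mem_toFinset.1 x.2, rfl⟩)
  let I : Ideal Γ(X, gloc t) := ∏ x : S, p (y x.1) (hyt x)
  obtain ⟨a, haI, ha⟩ : ∃ a ∈ I, ∀ x : S, a ∉ p x.1 (hxt x) := by
    by_contra h
    simp only [not_exists, not_and, not_forall, not_not] at h
    obtain ⟨x₀, -⟩ := h 0 I.zero_mem
    obtain ⟨x, -, hx⟩ := (Ideal.subset_union_prime (s := (Finset.univ : Finset S))
      (f := fun x : S => p x.1 (hxt x))
      x₀ x₀ fun x _ _ _ => inferInstanceAs (hW.primeIdealOf _).asIdeal.IsPrime).1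
      (fun r hr => by simpa using h r hr)
    obtain ⟨x', -, hx'⟩ := ((hW.primeIdealOf ⟨x.1, hxt x⟩).2.prod_le).1 hx
    have hsp := ((PrimeSpectrum.le_iff_specializes (hW.primeIdealOf ⟨_, hyt x'⟩)
      (hW.primeIdealOf ⟨x.1, hxt x⟩)).1 hx').map hW.fromSpec.continuous
    rw [hW.fromSpec_primeIdealOf, hW.fromSpec_primeIdealOf] at hsp
    exact hncl x.1 (hZ.mem_toFinset.1 x.2)
      ((Set.mem_singleton_iff.1 ((hycl x'.1).closure_eq.le hsp.mem_closure)).symm ▸ hycl x'.1)
  have := isSeparated_of_cover hL.1 hL.2.2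
  obtain ⟨n, b, hb⟩ := exists_extend (isInvertible_tensorPow hL.1 (N + 1)) t a
  obtain ⟨b', hb'⟩ := Groth.Chow.extend_raise t a b hb (n + 1) n.le_succ
  let φ := (tensorPow_mul L (N + 1) (n + 1)).some.symm
  let t₁ := φ.hom.app ⊤ (powSec t (n + 1))
  have ht₁ : gloc t₁ = gloc t :=
    (gloc_map φ.hom _).trans (gloc_powSec (isInvertible_tensorPow hL.1 _) t n.succ_pos)
  refine ⟨(N + 1) * (n + 1), φ.hom.app ⊤ b', t₁, resX X ht₁.le a, Nat.mul_pos N.succ_pos n.succ_pos,
    ?_, fun x hx => ?_⟩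
  · have h := congrArg (res (CohB1.tensorPow (CohB1.tensorPow L (N + 1)) (n + 1)) ht₁.le) hb'
    rw [res_res, res_smul, res_powSec, res_res, ← res_powSec (le_top : gloc t₁ ≤ ⊤)] at h
    have h' := congrArg (φ.hom.app (gloc t₁)) h
    rw [Scheme.Modules.Hom.app_smul, app_res, app_res] at h'
    exact h'
  · have hxS : x ∈ S := hZ.mem_toFinset.2 hx
    have hb : X.basicOpen (resX X ht₁.le a) = X.basicOpen a := by
      rw [resX, Scheme.basicOpen_res]
      exact inf_eq_right.2 (ht₁.ge.trans' (X.basicOpen_le a))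
    rw [hb]
    refine ⟨?_, y x, hxy x, ht₁.ge (hyt ⟨x, hxS⟩), fun hya => ?_⟩
    · exact (Scheme.mem_basicOpen _ _ _ (hxt ⟨x, hxS⟩)).2
        ((Groth.Divisors.isUnit_germ_iff hW (hxt ⟨x, hxS⟩) a).2 (ha ⟨x, hxS⟩))
    · refine (Groth.Divisors.isUnit_germ_iff hW (hyt ⟨x, hxS⟩) a).1
        ((Scheme.mem_basicOpen _ _ _ (hyt ⟨x, hxS⟩)).1 hya) ?_
      exact Ideal.le_of_dvd (Finset.dvd_prod_of_mem _ (Finset.mem_univ (⟨x, hxS⟩ : S))) haI

/-- The powers of a pencil form linear families of sections of dimension `N + 1`. -/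
theorem exists_family (k : Type u) [Field k] [X.Over (Spec (CommRingCat.of k))] {L : X.Modules}
    (hL : PicF.IsInvertible L) {m : ℕ} (t₀ t₁ : Γ(CohB1.tensorPow L m, ⊤)) (a : Γ(X, gloc t₁))
    (ha : res _ (le_top : gloc t₁ ≤ ⊤) t₀ = a • res _ (le_top : gloc t₁ ≤ ⊤) t₁) (N : ℕ) :
    ∃ T : (Fin (N + 1) → k) → Γ(CohB1.tensorPow L (m * N), ⊤),
      (∀ c d, T (c + d) = T c + T d) ∧ (∀ (z : k) c, T (z • c) = NegTwist.const k X z • T c) ∧
      ∀ c, c ≠ 0 → ∀ x, x ∈ X.basicOpen a → (∃ y, x ⤳ y ∧ y ∈ gloc t₁ ∧ y ∉ X.basicOpen a) →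
        x ∈ gloc (T c) := by
  classical
  let P : ℕ → Γ(CohB1.tensorPow (CohB1.tensorPow L m) N, ⊤) := fun l =>
    NegTwist.prodSec (fun o => if o < l then t₀ else t₁) N
  have hres : ∀ l ≤ N, res _ (le_top : gloc t₁ ≤ ⊤) (P l) =
      a ^ l • powSec (res _ le_top t₁) N := by
    intro l hl
    rw [NegTwist.res_prodSec _ (res _ le_top t₁) (fun o => if o < l then a else 1) (fun o => by
      split_ifs
      · exact ha
      · exact (one_smul _ _).symm) N]
    congr 1
    rw [← Finset.prod_range_mul_prod_Ico _ hl, Finset.prod_congr rfl fun o ho => if_pos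
      (Finset.mem_range.1 ho), Finset.prod_const, Finset.card_range, Finset.prod_eq_one fun o ho =>
      if_neg (not_lt.2 (Finset.mem_Ico.1 ho).1), mul_one]
  let φ := (tensorPow_mul L m N).some.symm
  let T : (Fin (N + 1) → k) → Γ(CohB1.tensorPow (CohB1.tensorPow L m) N, ⊤) := fun c =>
    ∑ l : Fin (N + 1), NegTwist.const k X (c l) • P l
  refine ⟨fun c => φ.hom.app ⊤ (T c), fun c d => ?_, fun z c => ?_, fun c hc x hxa hy => ?_⟩
  · rw [← map_add]
    exact congrArg _ (by simp only [T, Pi.add_apply, map_add, add_smul, Finset.sum_add_distrib])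
  · change φ.hom.app ⊤ (T (z • c)) = _
    rw [← Scheme.Modules.Hom.app_smul]
    exact congrArg _ (by simp only [T, Pi.smul_apply, smul_eq_mul, map_mul, mul_smul, ← Finset.smul_sum])
  · obtain ⟨y, hxy, hyt, hya⟩ := hy
    change x ∈ gloc (φ.hom.app ⊤ (T c))
    rw [gloc_map φ.hom]
    let p : Polynomial k := ∑ l : Fin (N + 1), Polynomial.C (c l) * Polynomial.X ^ (l : ℕ)
    have hp : p ≠ 0 := by
      obtain ⟨l, hl⟩ := Function.ne_iff.1 hc
      intro h0
      refine hl ?_
      have := congrArg (fun q => Polynomial.coeff q (l : ℕ)) h0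
      simpa [p, Polynomial.finsetSum_coeff, Polynomial.coeff_C_mul, Polynomial.coeff_X_pow,
        Fin.val_inj] using this
    let ψ : k →+* Γ(X, gloc t₁) := (resX X le_top).comp (NegTwist.const k X)
    have hxp := NegTwist.isUnit_germ_eval₂ ψ a hxy hyt hya hxa hp
    have hTres : res (CohB1.tensorPow (CohB1.tensorPow L m) N) (le_top : gloc t₁ ≤ ⊤) (T c) =
        p.eval₂ ψ a • powSec (res _ le_top t₁) N := by
      have hadd : res (CohB1.tensorPow (CohB1.tensorPow L m) N) (le_top : gloc t₁ ≤ ⊤) (T c) =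
          ∑ l : Fin (N + 1), res _ (le_top : gloc t₁ ≤ ⊤) (NegTwist.const k X (c l) • P l) :=
        map_sum ((CohB1.tensorPow (CohB1.tensorPow L m) N).presheaf.map (homOfLE le_top).op).hom _ _
      rw [hadd, Polynomial.eval₂_finsetSum, Finset.sum_smul]
      refine Finset.sum_congr rfl fun l _ => ?_
      rw [res_smul, hres l (Nat.lt_succ_iff.1 l.2), smul_smul, Polynomial.eval₂_mul,
        Polynomial.eval₂_C, Polynomial.eval₂_X_pow]
      rfl
    exact ((gloc_inf_eq_basicOpen ((gen_gloc t₁ le_rfl).pow N) hTres).ge hxp).1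

/-- A twist by a section generating at the weakly associated points is a monomorphism. -/
theorem mono_twistHom {A Q : X.Modules} (hA : Coh.IsQCoh A) (T : Γ(Q, ⊤))
    (h : ∀ x, Curv2.IsWeakAssPoint A x → x ∈ gloc T) : Mono (twistHom A T) := by
  refine (Groth.CohTwo.mono_iff_app_injective _).2 fun W => ?_
  refine (injective_iff_map_eq_zero ((twistHom A T).app W).hom).2 fun a ha => ?_
  refine Groth.Divisors.eq_zero_of_germ_weakAss hA a fun x hx hwa => ?_
  let V : X.Opens := W ⊓ gloc T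
  have hxV : x ∈ V := ⟨hx, h x hwa⟩
  rw [← A.presheaf.germ_res_apply (homOfLE (inf_le_left : V ≤ W)) x hxV]
  refine NegTwist.germ_eq_zero_of_tmulSec (gen_gloc T (inf_le_right : V ≤ gloc T)) hxV _ ?_
  change (CohB1.tensorMod A Q).presheaf.germ V x hxV
    (tmulSec (res A inf_le_left a) (res Q le_top T)) = 0
  rw [← twistHom_app, app_res]
  refine (congrArg (fun z => (CohB1.tensorMod A Q).presheaf.germ V x hxV (res _ inf_le_left z)) ha).trans ?_
  rw [res_zero, map_zero]

/-- Multiplication `F ⊗ P ⟶ F` by a section of a module inverse to `P`. -/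
noncomputable def mulTo (F : X.Modules) {P Q : X.Modules}
    (χ : CohB1.tensorMod P Q ≅ Coh.structureModule X) (T : Γ(Q, ⊤)) : CohB1.tensorMod F P ⟶ F :=
  twistHom (CohB1.tensorMod F P) T ≫ (exists_associator F P Q).choose.hom ≫
    KoszTw.tensorMap (𝟙 F) χ.hom ≫ (SecTwist.unitorR F).hom

theorem mulTo_tmul (F : X.Modules) {P Q : X.Modules}
    (χ : CohB1.tensorMod P Q ≅ Coh.structureModule X) (T : Γ(Q, ⊤)) (W : X.Opens) (a : Γ(F, W))
    (e : Γ(P, W)) :
    (mulTo F χ T).app W (tmulSec a e) =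
      toFun (χ.hom.app W (tmulSec e (res Q le_top T))) • a := by
  change (SecTwist.unitorR F).hom.app W ((KoszTw.tensorMap (𝟙 F) χ.hom).app W
    ((exists_associator F P Q).choose.hom.app W ((twistHom (CohB1.tensorMod F P) T).app W
      (tmulSec a e)))) = _
  rw [twistHom_app, (exists_associator F P Q).choose_spec, tensorMap_app_tmulSec]
  exact SecTwist.unitorR_tmul F W a (toFun (χ.hom.app W (tmulSec e (res Q le_top T))))

theorem mono_mulTo {F : X.Modules} (hF : Coh.IsQCoh F) {P Q : X.Modules} (hP : PicF.IsInvertible P)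
    (χ : CohB1.tensorMod P Q ≅ Coh.structureModule X) (T : Γ(Q, ⊤))
    (h : ∀ x, Curv2.IsWeakAssPoint F x → x ∈ gloc T) : Mono (mulTo F χ T) := by
  have : F.IsQuasicoherent := hF
  have : P.IsQuasicoherent := isQCoh_of_isInvertible hP
  have := mono_twistHom (A := CohB1.tensorMod F P) Groth.QCohMod.isQCoh_tensorMod T
    fun x hx => h x (isWeakAssPoint_of_tensorMod hP hx)
  have : IsIso (KoszTw.tensorMap (𝟙 F) χ.hom) := by
    refine ⟨KoszTw.tensorMap (𝟙 F) χ.inv, tensor_hom_ext fun W a b => ?_,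
      tensor_hom_ext fun W a b => ?_⟩
    · change (KoszTw.tensorMap (𝟙 F) χ.inv).app W ((KoszTw.tensorMap (𝟙 F) χ.hom).app W (tmulSec a b))
        = tmulSec a b
      rw [tensorMap_app_tmulSec, tensorMap_app_tmulSec]
      exact congrArg (tmulSec a) congr(($(χ.hom_inv_id)).app W b)
    · change (KoszTw.tensorMap (𝟙 F) χ.hom).app W ((KoszTw.tensorMap (𝟙 F) χ.inv).app W (tmulSec a b))
        = tmulSec a b
      rw [tensorMap_app_tmulSec, tensorMap_app_tmulSec]
      exact congrArg (tmulSec a) congr(($(χ.inv_hom_id)).app W b)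
  exact mono_comp _ _

/-- In depth two the cokernel has no associated closed point. -/
theorem not_isAssPoint_cokernel [IsLocallyNoetherian X] {F : X.Modules} (hF : Coh.IsCoh F)
    {P Q : X.Modules} (hP : PicF.IsInvertible P)
    (χ : CohB1.tensorMod P Q ≅ Coh.structureModule X) (T : Γ(Q, ⊤)) [Mono (mulTo F χ T)] {x : X}
    (hd : 2 ≤ LocCoh.depth (X.presheaf.stalk x) (F.presheaf.stalk x)) :
    ¬ Curv2.IsAssPoint (cokernel (mulTo F χ T)) x := by
  have : F.IsQuasicoherent := hF.1
  have := Groth.QCohMod.finite_stalk F hF.2 x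
  let μ := mulTo F χ T
  let G := cokernel μ
  let π : F ⟶ G := cokernel.π μ
  obtain ⟨U, e, hxU, he⟩ := (isInvertible_iff_exists_gen P).1 hP x
  let c : X.presheaf.stalk x :=
    X.presheaf.germ U x hxU (toFun (χ.hom.app U (tmulSec e (res Q le_top T))))
  let g : F.presheaf.stalk x →ₗ[X.presheaf.stalk x] G.presheaf.stalk x :=
    { toFun := fun v => (Groth.QCohMod.stalk x).map π v
      map_add' := map_add _
      map_smul' := fun r v => by
        obtain ⟨W, hxW, s, rfl⟩ := TopCat.Presheaf.exists_germ_eq F.presheaf v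
        obtain ⟨W', hxW', r', rfl⟩ := X.presheaf.exists_germ_eq r
        let V : X.Opens := W ⊓ W'
        have hxV : x ∈ V := ⟨hxW, hxW'⟩
        rw [RingHom.id_apply, ← F.presheaf.germ_res_apply (homOfLE (inf_le_left : V ≤ W)) x hxV,
          ← X.presheaf.germ_res_apply (homOfLE (inf_le_right : V ≤ W')) x hxV,
          ← Groth.Divisors.germ_smul_mod]
        refine (Groth.QCohMod.stalk_map_germ π x hxV _).trans ?_
        rw [Scheme.Modules.Hom.app_smul, Groth.Divisors.germ_smul_mod]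
        exact congrArg _ (Groth.QCohMod.stalk_map_germ π x hxV _).symm }
  have hses : (ShortComplex.mk μ π (cokernel.condition μ)).ShortExact :=
    { exact := ShortComplex.exact_of_g_is_cokernel _ (cokernelIsCokernel μ)
      mono_f := inferInstanceAs (Mono μ)
      epi_g := inferInstanceAs (Epi π) }
  have hex := (ShortComplex.ab_exact_iff _).1 ((Groth.QCohMod.exact_iff_stalk _).1 hses.exact x)
  have hinj := (Groth.QCohMod.mono_iff_stalk μ).1 inferInstance x
  have hμ : ∀ (W : X.Opens) (hW : W ≤ U) (hxW : x ∈ W) (s : Γ(F, W)),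
      (Groth.QCohMod.stalk x).map μ ((CohB1.tensorMod F P).presheaf.germ W x hxW
        (tmulSec s (res P hW e))) = c • F.presheaf.germ W x hxW s := by
    intro W hW hxW s
    refine (Groth.QCohMod.stalk_map_germ μ x hxW _).trans ?_
    rw [mulTo_tmul]
    refine (Groth.Divisors.germ_smul_mod hxW F _ s).trans (congrArg (· • _) ?_)
    show _ = X.presheaf.germ U x hxU _
    rw [← X.presheaf.germ_res_apply (homOfLE hW) x hxW]
    congr 1
    change toFun _ = resX X hW (toFun _)
    rw [← toFun_res, ← app_res, res_tmulSec, res_res]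
  have hμ' : ∀ z : (CohB1.tensorMod F P).presheaf.stalk x, ∃ (W : X.Opens) (hW : W ≤ U)
      (hxW : x ∈ W) (s : Γ(F, W)),
      (CohB1.tensorMod F P).presheaf.germ W x hxW (tmulSec s (res P hW e)) = z := by
    intro z
    obtain ⟨W, hxW, e', s, he', rfl⟩ := exists_germ_tmul hP z
    obtain ⟨r, hr⟩ := he.exists_coeff (inf_le_right : W ⊓ U ≤ U) (res P inf_le_left e')
    refine ⟨W ⊓ U, inf_le_right, ⟨hxW, hxU⟩, r • res F inf_le_left s, ?_⟩
    rw [tmulSec_smul_left, ← tmulSec_smul_right, ← hr, ← res_tmulSec]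
    exact (CohB1.tensorMod F P).presheaf.germ_res_apply (homOfLE inf_le_left) x _ _
  refine not_isAssociatedPrime_of_surjective hd g
    ((Groth.QCohMod.epi_iff_stalk π).1 inferInstance x) c ?_ fun v => ⟨fun hv => ?_, ?_⟩
  · rw [isSMulRegular_iff_right_eq_zero_of_smul]
    intro v hv
    obtain ⟨W, hxW, s, rfl⟩ := TopCat.Presheaf.exists_germ_eq F.presheaf v
    rw [← F.presheaf.germ_res_apply (homOfLE (inf_le_left : W ⊓ U ≤ W)) x ⟨hxW, hxU⟩] at hv ⊢
    have h0 : (CohB1.tensorMod F P).presheaf.germ (W ⊓ U) x ⟨hxW, hxU⟩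
        (tmulSec (res F inf_le_left s) (res P inf_le_right e)) = 0 :=
      hinj (((hμ _ inf_le_right _ _).trans hv).trans (map_zero _).symm)
    exact NegTwist.germ_eq_zero_of_tmulSec (he.res inf_le_right) _ _ h0
  · obtain ⟨z, hz⟩ := hex v hv
    obtain ⟨W, hW, hxW, s, rfl⟩ := hμ' z
    exact ⟨F.presheaf.germ W x hxW s, hz.symm.trans (hμ W hW hxW s)⟩
  · rintro ⟨w, rfl⟩
    obtain ⟨W, hxW, s, rfl⟩ := TopCat.Presheaf.exists_germ_eq F.presheaf w
    rw [← F.presheaf.germ_res_apply (homOfLE (inf_le_left : W ⊓ U ≤ W)) x ⟨hxW, hxU⟩]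
    change (Groth.QCohMod.stalk x).map π _ = 0
    rw [← hμ _ inf_le_right]
    refine (ConcreteCategory.comp_apply _ _ _).symm.trans ?_
    rw [← Functor.map_comp, cokernel.condition, Functor.map_zero]
    rfl

theorem mulTo_add (F : X.Modules) {P Q : X.Modules}
    (χ : CohB1.tensorMod P Q ≅ Coh.structureModule X) (T T' : Γ(Q, ⊤)) :
    mulTo F χ (T + T') = mulTo F χ T + mulTo F χ T' := by
  rw [mulTo, mulTo, mulTo, twistHom_add, Preadditive.add_comp]

theorem mulTo_smul (F : X.Modules) {P Q : X.Modules}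
    (χ : CohB1.tensorMod P Q ≅ Coh.structureModule X) (r : Γ(X, ⊤)) (T : Γ(Q, ⊤)) :
    mulTo F χ (r • T) = mulTo F χ T ≫ Groth.ModelsGraphs.DualExtend.smulHom F r := by
  rw [mulTo, mulTo, twistHom_smul, Category.assoc, Category.assoc, Category.assoc, Category.assoc]
  congr 1
  rw [← Category.assoc, Groth.ModelsGraphs.DualExtend.smulHom_comm, Category.assoc]
  congr 1
  rw [← Category.assoc, Groth.ModelsGraphs.DualExtend.smulHom_comm, Category.assoc,
    Groth.ModelsGraphs.DualExtend.smulHom_comm]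

/-- The multiplication `F ⊗ P ⊗ R ⟶ F ⊗ R`, read on any module isomorphic to the source. -/
noncomputable def shiftMul {F A P Q R : X.Modules}
    (α : A ≅ CohB1.tensorMod (CohB1.tensorMod F P) R)
    (χ : CohB1.tensorMod P Q ≅ Coh.structureModule X) (T : Γ(Q, ⊤)) :
    A ⟶ CohB1.tensorMod F R :=
  α.hom ≫ KoszTw.tensorMap (mulTo F χ T) (𝟙 R)

theorem tensorMap_add_left {L L' R : X.Modules} (φ ψ : L ⟶ L') :
    KoszTw.tensorMap (φ + ψ) (𝟙 R) = KoszTw.tensorMap φ (𝟙 R) + KoszTw.tensorMap ψ (𝟙 R) :=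
  tensor_hom_ext fun W a b => by
    rw [Scheme.Modules.Hom.add_app]
    change _ = (KoszTw.tensorMap φ (𝟙 R)).app W (tmulSec a b) +
      (KoszTw.tensorMap ψ (𝟙 R)).app W (tmulSec a b)
    rw [tensorMap_app_tmulSec, tensorMap_app_tmulSec, tensorMap_app_tmulSec,
      Scheme.Modules.Hom.add_app]
    exact tmulSec_add_left _ _ _

theorem tensorMap_smul_left {L L' R : X.Modules} (φ : L ⟶ L') (r : Γ(X, ⊤)) :
    KoszTw.tensorMap (φ ≫ Groth.ModelsGraphs.DualExtend.smulHom L' r) (𝟙 R) =
      KoszTw.tensorMap φ (𝟙 R) ≫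
        Groth.ModelsGraphs.DualExtend.smulHom (CohB1.tensorMod L' R) r :=
  tensor_hom_ext fun W a b => by
    change _ = (Groth.ModelsGraphs.DualExtend.smulHom (CohB1.tensorMod L' R) r).app W
      ((KoszTw.tensorMap φ (𝟙 R)).app W (tmulSec a b))
    rw [tensorMap_app_tmulSec, tensorMap_app_tmulSec,
      Groth.ModelsGraphs.DualExtend.smulHom_app]
    exact tmulSec_smul_left _ _ _

/-- The functor form and the bifunctor form of twisting agree. -/
theorem tensorRightMod_map_eq {L L' : X.Modules} (R : X.Modules) (φ : L ⟶ L') :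
    (DCoh.tensorRightMod R).map φ = KoszTw.tensorMap φ (𝟙 R) :=
  tensor_hom_ext (L := L) (M := R) fun W a l =>
    (tensorRightMod_map_tmulSec R φ W a l).trans
      (tensorMap_app_tmulSec φ (𝟙 R) W a l).symm

theorem shiftMul_add {F A P Q R : X.Modules}
    (α : A ≅ CohB1.tensorMod (CohB1.tensorMod F P) R)
    (χ : CohB1.tensorMod P Q ≅ Coh.structureModule X) (T T' : Γ(Q, ⊤)) :
    shiftMul α χ (T + T') = shiftMul α χ T + shiftMul α χ T' := by
  unfold shiftMul
  rw [mulTo_add, tensorMap_add_left, Preadditive.comp_add]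

theorem shiftMul_smul {F A P Q R : X.Modules}
    (α : A ≅ CohB1.tensorMod (CohB1.tensorMod F P) R)
    (χ : CohB1.tensorMod P Q ≅ Coh.structureModule X) (r : Γ(X, ⊤)) (T : Γ(Q, ⊤)) :
    shiftMul α χ (r • T) =
      shiftMul α χ T ≫ Groth.ModelsGraphs.DualExtend.smulHom (CohB1.tensorMod F R) r := by
  unfold shiftMul
  rw [mulTo_smul, tensorMap_smul_left, Category.assoc]

/-- Where `H⁰` of the twisted cokernel vanishes the multiplication is injective on `H¹`. -/
theorem injective_hMap_shiftMul (k : Type u) [Field k] [X.Over (Spec (CommRingCat.of k))]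
    {F A P Q R : X.Modules} (hR : PicF.IsInvertible R)
    (α : A ≅ CohB1.tensorMod (CohB1.tensorMod F P) R)
    (χ : CohB1.tensorMod P Q ≅ Coh.structureModule X) (T : Γ(Q, ⊤)) [Mono (mulTo F χ T)]
    (h0 : Subsingleton (Coh.HH X (CohB1.tensorMod (cokernel (mulTo F χ T)) R) 0)) :
    Function.Injective (Groth.EulerDeg.hMap k (shiftMul α χ T) 1) := by
  let μ := mulTo F χ T
  have hses : (ShortComplex.mk μ (cokernel.π μ) (cokernel.condition μ)).ShortExact :=
    { exact := ShortComplex.exact_of_g_is_cokernel _ (cokernelIsCokernel μ)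
      mono_f := inferInstanceAs (Mono μ)
      epi_g := inferInstanceAs (Epi (cokernel.π μ)) }
  have hses' := shortExact_tensorRightMod hR hses
  have hinj : Function.Injective (Groth.EulerDeg.hMap k ((DCoh.tensorRightMod R).map μ) 1) := by
    refine (injective_iff_map_eq_zero _).2 fun ξ hξ => ?_
    obtain ⟨η, rfl⟩ := ((Groth.EulerDeg.exact_left k hses' 0) ξ).1 hξ
    exact (congrArg _ (@Subsingleton.elim _ h0 η 0)).trans (map_zero _)
  unfold shiftMul
  rw [Groth.EulerDeg.hMap_comp, show KoszTw.tensorMap (mulTo F χ T) (𝟙 R) =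
    (DCoh.tensorRightMod R).map μ from (tensorRightMod_map_eq R μ).symm]
  exact hinj.comp (Groth.EulerDeg.hEquiv k α 1).injective

/-- The dimension of the sections of the cokernel of a multiplication. -/
theorem finrank_h0_cokernel_le (k : Type u) [Field k] [X.Over (Spec (CommRingCat.of k))]
    [IsProper (X ↘ Spec (CommRingCat.of k))] {N F : X.Modules} (hN : Coh.IsCoh N)
    (hF : Coh.IsCoh F) (μ : N ⟶ F) [Mono μ] :
    Module.finrank k (Coh.HH X (cokernel μ) 0) ≤
      Module.finrank k (Coh.HH X F 0) + Module.finrank k (Coh.HH X N 1) := by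
  let S : ShortComplex X.Modules := ShortComplex.mk μ (cokernel.π μ) (cokernel.condition μ)
  have hses : S.ShortExact :=
    { exact := ShortComplex.exact_of_g_is_cokernel _ (cokernelIsCokernel μ)
      mono_f := inferInstanceAs (Mono μ)
      epi_g := inferInstanceAs (Epi (cokernel.π μ)) }
  have : N.IsQuasicoherent := hN.1
  have : Module.Finite k (Coh.HH X S.X₃ 0) :=
    Groth.EulerDeg.finite_HH k X (Groth.QCohMod.isCoh_cokernel μ hF) 0
  have : Module.Finite k (Coh.HH X S.X₂ 0) := Groth.EulerDeg.finite_HH k X hF 0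
  have : Module.Finite k (Coh.HH X S.X₁ (0 + 1)) := Groth.EulerDeg.finite_HH k X hN 1
  refine (Groth.EulerDeg.finrank_eq_range_add (Groth.EulerDeg.exact_right k hses 0)).trans_le ?_
  exact add_le_add (LinearMap.finrank_range_le _) (Submodule.finrank_le _)

/-- A linear family of injective maps out of a nonzero space is at most as large as the target. -/
theorem subsingleton_of_family (k : Type u) [Field k] [X.Over (Spec (CommRingCat.of k))]
    [IsProper (X ↘ Spec (CommRingCat.of k))] {F A P Q R : X.Modules}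
    (hFR : Coh.IsCoh (CohB1.tensorMod F R))
    (α : A ≅ CohB1.tensorMod (CohB1.tensorMod F P) R)
    (χ : CohB1.tensorMod P Q ≅ Coh.structureModule X) {N : ℕ} (T : (Fin (N + 1) → k) → Γ(Q, ⊤))
    (hadd : ∀ c d, T (c + d) = T c + T d)
    (hsmul : ∀ (z : k) c, T (z • c) = NegTwist.const k X z • T c)
    (hinj : ∀ c, c ≠ 0 → Function.Injective (Groth.EulerDeg.hMap k (shiftMul α χ (T c)) 1))
    (hN : Module.finrank k (Coh.HH X (CohB1.tensorMod F R) 1) ≤ N) :
    Subsingleton (Coh.HH X A 1) := by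
  have := Groth.EulerDeg.finite_HH k X hFR 1
  refine subsingleton_of_forall_eq 0 fun ξ => ?_
  let Ψ : (Fin (N + 1) → k) →ₗ[k] Coh.HH X (CohB1.tensorMod F R) 1 :=
    { toFun := fun c => Groth.EulerDeg.hMap k (shiftMul α χ (T c)) 1 ξ
      map_add' := fun c c' => by
        rw [hadd, shiftMul_add]
        exact Groth.CohFin.mapL_add (X ↘ Spec (CommRingCat.of k)) _ _ 1 ξ
      map_smul' := fun z c => by
        rw [hsmul, shiftMul_smul, Groth.EulerDeg.hMap_comp, RingHom.id_apply]
        exact hMap_smulHom k _ z 1 _ }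
  by_contra hξ
  have hΨ : Function.Injective Ψ := (injective_iff_map_eq_zero Ψ).2 fun c hc => by
    by_contra hc0
    exact hξ (hinj c hc0 (hc.trans (map_zero _).symm))
  have h := LinearMap.finrank_le_finrank_of_injective hΨ
  rw [Module.finrank_fin_fun] at h
  omega

/-- The first cohomology of large negative ample twists vanishes in depth two. -/
theorem exists_bound (k : Type u) [Field k] [X.Over (Spec (CommRingCat.of k))]
    [IsProper (X ↘ Spec (CommRingCat.of k))] (L : X.Modules) (hL : CohB1.IsAmple L) (M : X.Modules)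
    (hM : ClSub.IsInverseOf L M) (F : X.Modules) (hF : Coh.IsCoh F)
    (hdepth : ∀ x : X, IsClosed ({x} : Set X) →
      2 ≤ LocCoh.depth (X.presheaf.stalk x) (F.presheaf.stalk x)) :
    ∃ m₀ : ℕ, ∀ m : ℕ, m₀ ≤ m →
      Subsingleton (Coh.HH X (CohB1.tensorMod F (CohB1.tensorPow M m)) 1) := by
  classical
  have hLi := hL.1
  have := hL.2.1
  have := Groth.EulerDeg.isNoetherian_of_proper k (X := X)
  have hMi : ∀ n, PicF.IsInvertible (CohB1.tensorPow M n) :=
    isInvertible_tensorPow (isInvertible_of_isInverseOf hLi hM)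
  have hMc : ∀ n, Coh.IsCoh (CohB1.tensorMod F (CohB1.tensorPow M n)) := fun n =>
    Groth.RefRank.isCoh_tensorMod hF (CurveGG.isCoh_of_isInvertible (hMi n))
  -- the weakly associated points
  let Z : Set X := {x | Curv2.IsWeakAssPoint F x}
  have hZcl : ∀ x ∈ Z, ¬ IsClosed ({x} : Set X) := by
    intro x hx hcl
    have : F.IsQuasicoherent := hF.1
    have := Groth.QCohMod.finite_stalk F hF.2 x
    have h1 : (1 : ℕ∞) ≤ LocCoh.idealDepth (IsLocalRing.maximalIdeal (X.presheaf.stalk x))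
        (F.presheaf.stalk x) := le_trans (by norm_num) (hdepth x hcl)
    exact (Groth.LocCohBase.one_le_idealDepth_iff _ _).1 h1 _
      (Groth.Divisors.isAssPoint_iff_weak.2 hx) le_rfl
  have hZf : Z.Finite := by
    obtain ⟨S, hS⟩ := CompactSpace.isCompact_univ.elim_finite_subcover
      (fun U : X.affineOpens => (U.1 : Set X)) (fun U => U.1.isOpen) (fun x _ => by
        obtain ⟨_, ⟨U, hU, rfl⟩, hxU, -⟩ :=
          X.isBasis_affineOpens.exists_subset_of_mem_open (Set.mem_univ x) isOpen_univ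
        exact Set.mem_iUnion.2 ⟨⟨U, hU⟩, hxU⟩)
    refine (S.finite_toSet.biUnion fun U _ =>
      Groth.SchemeMorphisms.finite_ass_inter hF U.2).subset fun x hx => ?_
    obtain ⟨U, hU, hxU⟩ := Set.mem_iUnion₂.1 (hS (Set.mem_univ x))
    exact Set.mem_iUnion₂.2 ⟨U, hU, Groth.Divisors.isAssPoint_iff_weak.2 hx, hxU⟩
  obtain ⟨m, t₀, t₁, a, hm, ha, hpts⟩ := exists_pencil hL hZf hZcl
  obtain ⟨m₁, n₁, hneg⟩ := NegTwist.exists_uniform k L hL M hM
  let d : ℕ → ℕ := fun n => Module.finrank k (Coh.HH X (CohB1.tensorMod F (CohB1.tensorPow M n)) 1)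
  have hfin1 : ∀ n, Module.Finite k (Coh.HH X (CohB1.tensorMod F (CohB1.tensorPow M n)) 1) :=
    fun n => Groth.EulerDeg.finite_HH k X (hMc n) 1
  let h₀ := Module.finrank k (Coh.HH X F 0)
  -- the multiplication maps
  have χ : ∀ r, CohB1.tensorMod (CohB1.tensorPow M r) (CohB1.tensorPow L r) ≅ Coh.structureModule X :=
    fun r => (isInverseOf_tensorPow (isInverseOf_symm hM) r).some
  have α : ∀ r j, CohB1.tensorMod F (CohB1.tensorPow M (r + j)) ≅
      CohB1.tensorMod (CohB1.tensorMod F (CohB1.tensorPow M r)) (CohB1.tensorPow M j) := fun r j =>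
    PicGrp.tensorModIso (Iso.refl F) (tensorPow_add M r j).some ≪≫
      (exists_associator F _ _).choose.symm
  have key : ∀ r j (T : Γ(CohB1.tensorPow L r, ⊤)), (∀ x ∈ Z, x ∈ gloc T) →
      m₁ * (h₀ + d r) + n₁ ≤ j →
      Function.Injective (Groth.EulerDeg.hMap k (shiftMul (α r j) (χ r) T) 1) := by
    intro r j T hT hj
    have hmono : Mono (mulTo F (χ r) T) := mono_mulTo hF.1 (hMi r) (χ r) T hT
    have : (CohB1.tensorMod F (CohB1.tensorPow M r)).IsQuasicoherent := (hMc r).1
    refine injective_hMap_shiftMul k (hMi j) (α r j) (χ r) T (hneg _ (Groth.QCohMod.isCoh_cokernel _ hF)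
      (fun x hx => not_isAssPoint_cokernel hF (hMi r) (χ r) T (hdepth x hx)) j ?_)
    exact (Nat.add_le_add_right (Nat.mul_le_mul_left _
      (finrank_h0_cokernel_le k (hMc r) hF (mulTo F (χ r) T))) _).trans hj
  choose T hTadd hTsmul hTgen using fun N => exists_family k hLi t₀ t₁ a ha N
  have hTZ : ∀ N c, c ≠ 0 → ∀ x ∈ Z, x ∈ gloc (T N c) := fun N c hc x hx =>
    hTgen N c hc x (hpts x hx).1 (hpts x hx).2
  -- the dimensions are bounded
  let J₀ := m₁ * (h₀ + d (m * 1)) + n₁
  have hstep : ∀ j, J₀ ≤ j → d (m * 1 + j) ≤ d j := fun j hj =>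
    LinearMap.finrank_le_finrank_of_injective
      (key (m * 1) j (T 1 1) (hTZ 1 1 one_ne_zero) hj)
  let C := ∑ j ∈ Finset.range (J₀ + m), d j
  have hC : ∀ j, d j ≤ C := by
    intro j
    induction j using Nat.strong_induction_on with
    | _ j ih =>
      by_cases hj : j < J₀ + m
      · exact Finset.single_le_sum (f := d) (fun i _ => Nat.zero_le _) (Finset.mem_range.2 hj)
      · obtain ⟨i, rfl⟩ : ∃ i, j = m * 1 + i := ⟨j - m, by omega⟩
        exact (hstep i (by omega)).trans (ih i (by omega))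
  let N := C + 1
  refine ⟨m * N + (m₁ * (h₀ + C) + n₁), fun n hn => ?_⟩
  obtain ⟨j, rfl⟩ : ∃ j, n = m * N + j := ⟨n - m * N, by omega⟩
  have hj : m₁ * (h₀ + d (m * N)) + n₁ ≤ j :=
    (Nat.add_le_add_right (Nat.mul_le_mul_left m₁ (Nat.add_le_add_left (hC _) h₀)) n₁).trans
      (by omega)
  exact subsingleton_of_family k (hMc j) (α (m * N) j) (χ (m * N)) (T N) (hTadd N) (hTsmul N)
    (fun c hc => key (m * N) j (T N c) (hTZ N c hc) hj) ((hC j).trans C.le_succ)

end Groth.VarietyBC.NegTwistH1
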