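import Mathlib
import Groth.Agent.Curves1.RR.Powers
import Groth.Agent.Curves1.RR.AlgClosed
import Groth.Agent.VarietyBC.NegTwistH1
import Groth.Agent.VarietyBC.ZeroConnected
import Groth.Agent.VarietyBC.CurveDeg

/-!
# Invertible modules with small `h⁰` and vanishing `h¹` on curves over algebraically closed fields
-/

set_option linter.style.haveILetI false
set_option backward.isDefEq.respectTransparency.types false

universe u

open CategoryTheory Limits AlgebraicGeometry Coh TopologicalSpace Opposite

namespace Groth.VarietyBC.GenusPoints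

open Groth.EulerDeg Groth.PicAux Groth.PropsBasic.Ample Groth.Curves1.RR

attribute [local instance] secModule Curv2.resAlgebra

variable {X : Scheme.{u}} {L : X.Modules}

/-- A section of `I ⊗ L` gives a section of `L` which does not generate on the support of `I`. -/
theorem notMem_gloc_of_ideal (hL : PicF.IsInvertible L) (I : X.IdealSheafData)
    (e₂ : CohB1.tensorMod (structureModule X) L ≅ L)
    (he₂ : ∀ W r a, e₂.hom.app W (tmulSec r a) = toFun r • a)
    (m' : Γ(CohB1.tensorMod (ClSub.idealMod I) L, ⊤)) {x : X} (hx : x ∈ I.support) :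
    x ∉ gloc (e₂.hom.app ⊤ ((twMap L (ClSub.idealModι I)).app ⊤ m')) := by
  intro hg
  have hxt : x ∈ (⊤ : X.Opens) := trivial
  obtain ⟨W, hxW, e, a, he, heq⟩ := Groth.VarietyBC.NegTwistH1.exists_germ_tmul hL
    ((CohB1.tensorMod (ClSub.idealMod I) L).presheaf.germ ⊤ x hxt m')
  obtain ⟨V, hxV, i₁, i₂, hV⟩ := TopCat.Presheaf.germ_eq
    (CohB1.tensorMod (ClSub.idealMod I) L).presheaf x hxW hxt _ _ heq
  obtain ⟨U, hxU, hUV⟩ := Groth.Divisors.exists_affine_le x V hxV
  have hUW : U.1 ≤ W := hUV.trans i₁.le
  have h1 : res _ (le_top : U.1 ≤ ⊤) m' =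
      tmulSec (res _ hUW a) (res L hUW e) := by
    rw [← res_tmulSec]
    have h := congrArg (res (CohB1.tensorMod (ClSub.idealMod I) L) hUV) hV
    rw [show ∀ (A B : X.Opens) (i : A ⟶ B) (s : Γ(CohB1.tensorMod (ClSub.idealMod I) L, B)),
      (CohB1.tensorMod (ClSub.idealMod I) L).presheaf.map i.op s = res _ i.le s from
        fun _ _ _ _ => rfl] at h
    rw [show ∀ (A B : X.Opens) (i : A ⟶ B) (s : Γ(CohB1.tensorMod (ClSub.idealMod I) L, B)),
      (CohB1.tensorMod (ClSub.idealMod I) L).presheaf.map i.op s = res _ i.le s from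
        fun _ _ _ _ => rfl] at h
    rw [res_res, res_res] at h
    exact h.symm
  let c : Γ(X, U.1) := toFun ((ClSub.idealModι I).app U.1 (res _ hUW a))
  have h2 : res L (le_top : U.1 ≤ ⊤) (e₂.hom.app ⊤ ((twMap L (ClSub.idealModι I)).app ⊤ m')) =
      c • res L hUW e := by
    rw [← app_res, ← app_res, h1, twMap_tmulSec, he₂]
  have h3 := (gloc_inf_eq_basicOpen (he.res hUW) h2).le ⟨hg, hxU⟩
  have h4 : c ∈ I.ideal U := Groth.OmegaSheaf.idealSect_mem I U (res _ hUW a)
  exact (Scheme.mem_zeroLocus_iff _ _ _).1 ((Scheme.IdealSheafData.mem_support_iff_of_mem hxU).1 hx) c h4 h3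

variable (k : Type u) [Field k] [X.Over (Spec (CommRingCat.of k))]
  [IsIntegral X] [IsProper (X ↘ Spec (CommRingCat.of k))]

/-- Over an algebraically closed field an integral proper curve has only constant functions. -/
theorem h0_eq_one [IsAlgClosed k] (hdim : topologicalKrullDim X = 1) :
    Module.finrank k (HH X (structureModule X) 0) = 1 := by
  have := isNoetherian_of_proper k X
  obtain ⟨x, hx, hn⟩ := exists_closed_normal_point (k := k) (X := X) hdim.le
  have := Groth.Curves1.CurveMor.finite_residueField_of_isClosed (k := k) hx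
  obtain ⟨N, hN, hdeg⟩ := exists_invertible_deg_residueField k hdim x hx hn
  have hr : Module.finrank k (X.residueField x) = 1 :=
    ((AlgEquiv.ofBijective (Algebra.ofId k (X.residueField x))
      IsAlgClosed.algebraMap_bijective_of_isIntegral).toLinearEquiv.finrank_eq).symm.trans
        (Module.finrank_self k)
  rw [hr] at hdeg
  exact h0_eq_one_of_deg_eq_one k hdim.le N (by exact_mod_cast hdeg)

/-- Every nonempty open of an integral curve over a perfect field has a closed normal point. -/
theorem exists_closed_normal_point_mem [PerfectField k] (hdim : topologicalKrullDim X ≤ 1)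
    (U : X.Opens) (hU : (U : Set X).Nonempty) :
    ∃ x : X, x ∈ U ∧ IsClosed ({x} : Set X) ∧ IsIntegrallyClosed (X.presheaf.stalk x) := by
  haveI : IsLocallyNoetherian (Spec (CommRingCat.of k)) := inferInstance
  haveI : LocallyOfFinitePresentation (X ↘ Spec (CommRingCat.of k)) := inferInstance
  haveI : GeometricallyReduced (X ↘ Spec (CommRingCat.of k)) := by
    refine (Groth.VarietyBC.geometricallyReduced_iff_forall (k := k) (X := X)).2 fun x => ?_
    rw [Groth.VarietyBC.isGeomReducedAt_iff]
    letI := Curv2.stalkAlgebra k X x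
    exact Groth.VarietyBC.isGeometricallyReduced_of_perfectField _
  haveI : JacobsonSpace X := LocallyOfFiniteType.jacobsonSpace (X ↘ Spec (CommRingCat.of k))
  obtain ⟨x, ⟨hxU, hxS⟩, hxc⟩ := nonempty_inter_closedPoints
    (Z := (U : Set X) ∩ ((X ↘ Spec (CommRingCat.of k)).smoothLocus : Set X))
    ((Groth.VarietyBC.dense_smoothLocus (k := k) (X := X)).inter_open_nonempty _ U.isOpen hU)
    (U.isOpen.inter ((X ↘ Spec (CommRingCat.of k)).smoothLocus).isOpen).isLocallyClosed
  exact ⟨x, hxU, hxc, isIntegrallyClosed_stalk_of_mem_smoothLocus hdim hxS⟩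

variable [IsAlgClosed k]

/-- Subtract a point: from `h⁰ = j + 1, h¹ = 0` get `h⁰ = j, h¹ = 0`. -/
theorem exists_drop (hdim : topologicalKrullDim X = 1) (hL : PicF.IsInvertible L) {j : ℕ}
    (h0 : Module.finrank k (HH X L 0) = j + 1) (h1 : Subsingleton (HH X L 1)) :
    ∃ M : X.Modules, PicF.IsInvertible M ∧ Module.finrank k (HH X M 0) = j ∧
      Subsingleton (HH X M 1) := by
  have := isNoetherian_of_proper k X
  have hLc := isCoh_of_isInvertible hL
  have := finite_HH k X hLc 0
  have : Nontrivial (HH X L 0) := Module.nontrivial_of_finrank_pos (R := k) (by omega)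
  obtain ⟨v, hv⟩ := exists_ne (0 : HH X L 0)
  let m := h0Equiv k L v
  have hm : homOfSection m ≠ 0 := fun h => hv ((h0Equiv k L).map_eq_zero_iff.1
    (by rw [← homOfSection_one (h0Equiv k L v), show homOfSection (h0Equiv k L v) = 0 from h]; rfl))
  have hne : (gloc m : Set X).Nonempty := ⟨genericPoint X,
    Groth.VarietyBC.CurveDeg.genericPoint_mem_gloc hL m fun h => hv ((h0Equiv k L).map_eq_zero_iff.1 h)⟩
  obtain ⟨x, hxm, hxc, hxn⟩ := exists_closed_normal_point_mem k hdim.le (gloc m) hne
  have := Groth.Curves1.CurveMor.finite_residueField_of_isClosed (k := k) hxc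
  have hD := isEffCartierIdeal_pointIdeal k hdim x hxc hxn
  let I := pointIdeal x hxc
  have hI := isInvertible_idealMod hD
  let M := CohB1.tensorMod (ClSub.idealMod I) L
  have hM : PicF.IsInvertible M := isInvertible_tensorMod hI hL
  have hr : Module.finrank k (X.residueField x) = 1 :=
    ((AlgEquiv.ofBijective (Algebra.ofId k (X.residueField x))
      IsAlgClosed.algebraMap_bijective_of_isIntegral).toLinearEquiv.finrank_eq).symm.trans
        (Module.finrank_self k)
  have hsupp : (I.support : Set X) = {x} := support_pointIdeal x hxc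
  obtain ⟨j', -, -, he⟩ := ideal_twist k hL I (by
    rw [hsupp]
    haveI : Subsingleton (IrreducibleCloseds ↥({x} : Set X)) := ⟨fun a b => IrreducibleCloseds.ext
      (a.isIrreducible.nonempty.eq_univ.trans b.isIrreducible.nonempty.eq_univ.symm)⟩
    exact Order.krullDim_nonpos_of_subsingleton)
  rw [finrank_quotMod_pointIdeal k x hxc, hr] at he
  obtain ⟨e₂, he₂⟩ := exists_leftUnitor L
  have hS := shortExact_twMap hL (Groth.PicAux.shortExact_idealMod I)
  have : Mono (twMap L (ClSub.idealModι I)) := hS.mono_f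
  let φ : M ⟶ L := twMap L (ClSub.idealModι I) ≫ e₂.hom
  have : Mono φ := mono_comp _ _
  have hinj : Function.Injective (hMap k φ 0) := hMap_injective_zero_of_mono k φ
  have hns : ¬ Function.Surjective (hMap k φ 0) := by
    intro hsurj
    obtain ⟨w, hw⟩ := hsurj v
    have h2 : φ.app ⊤ (h0Equiv k M w) = m := by rw [← h0Equiv_hMap, hw]
    refine notMem_gloc_of_ideal hL I e₂ he₂ (h0Equiv k M w) (x := x) ?_ ?_
    · rw [← SetLike.mem_coe, hsupp]; rfl
    · rw [← h2] at hxm
      exact hxm
  have hMc := isCoh_of_isInvertible hM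
  have := finite_HH k X hMc 0
  have hlt : Module.finrank k (HH X M 0) < j + 1 := by
    rw [← h0, ← LinearMap.finrank_range_of_inj hinj]
    exact Submodule.finrank_lt fun h => hns (LinearMap.range_eq_top.1 h)
  rw [euler_eq_h0_sub_h1 k X hdim.le M, euler_eq_h0_sub_h1 k X hdim.le L, h0,
    show Module.finrank k (HH X L 1) = 0 from Module.finrank_zero_of_subsingleton] at he
  have := finite_HH k X hMc 1
  refine ⟨M, hM, by omega, (Module.finrank_zero_iff (R := k)).1 (by omega)⟩

/-- Invertible modules with prescribed small `h⁰` and no `h¹`. -/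
theorem exists_of_h0 (hdim : topologicalKrullDim X = 1) :
    (∃ M : X.Modules, PicF.IsInvertible M ∧ Module.finrank k (HH X M 0) = 1 ∧
      Subsingleton (HH X M 1)) ∧
    ∃ M : X.Modules, PicF.IsInvertible M ∧ Subsingleton (HH X M 0) ∧ Subsingleton (HH X M 1) := by
  have h0O := h0_eq_one k hdim
  -- a starting module with large degree
  obtain ⟨x, hx, hn⟩ := exists_closed_normal_point (k := k) (X := X) hdim.le
  have := Groth.Curves1.CurveMor.finite_residueField_of_isClosed (k := k) hx
  obtain ⟨N, hN, hdeg⟩ := exists_invertible_deg_residueField k hdim x hx hn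
  have hr : Module.finrank k (X.residueField x) = 1 :=
    ((AlgEquiv.ofBijective (Algebra.ofId k (X.residueField x))
      IsAlgClosed.algebraMap_bijective_of_isIntegral).toLinearEquiv.finrank_eq).symm.trans
        (Module.finrank_self k)
  rw [hr] at hdeg
  let d := 2 * Curv2.genus k X + 1
  have hP : PicF.IsInvertible (CohB1.tensorPow N d) := Groth.PicAux.isInvertible_tensorPow hN d
  have hPd : Curv2.deg k X (CohB1.tensorPow N d) 1 = d := by
    rw [Groth.VarietyBC.CurveDeg.deg_tensorPow k hdim.le hN, hdeg]; simp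
  have hP1 := subsingleton_h1_of_deg_ge k hdim.le h0O hP (by omega)
  have key : ∀ (n : ℕ) (L : X.Modules), PicF.IsInvertible L → Subsingleton (HH X L 1) →
      Module.finrank k (HH X L 0) = n → ∀ j ≤ n,
        ∃ M : X.Modules, PicF.IsInvertible M ∧ Module.finrank k (HH X M 0) = j ∧
          Subsingleton (HH X M 1) := by
    intro n
    induction n with
    | zero => exact fun L hL h1 h0 j hj => ⟨L, hL, by omega, h1⟩
    | succ n ih =>
      intro L hL h1 h0 j hj
      rcases hj.eq_or_lt with rfl | hlt
      · exact ⟨L, hL, h0, h1⟩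
      · obtain ⟨M, hM, hM0, hM1⟩ := exists_drop k hdim hL h0 h1
        exact ih M hM hM1 hM0 j (by omega)
  have hge : 1 ≤ Module.finrank k (HH X (CohB1.tensorPow N d) 0) := by
    have e := euler_eq k hdim.le h0O (L := CohB1.tensorPow N d)
    rw [euler_eq_h0_sub_h1 k X hdim.le (CohB1.tensorPow N d), hPd,
      show Module.finrank k (HH X (CohB1.tensorPow N d) 1) = 0 from Module.finrank_zero_of_subsingleton] at e
    omega
  refine ⟨key _ _ hP hP1 rfl 1 hge, ?_⟩
  obtain ⟨M, hM, hM0, hM1⟩ := key _ _ hP hP1 rfl 0 (Nat.zero_le _)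
  have := finite_HH k X (isCoh_of_isInvertible hM) 0
  exact ⟨M, hM, (Module.finrank_zero_iff (R := k)).1 hM0, hM1⟩

end Groth.VarietyBC.GenusPoints
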