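import Groth.Agent.RefRank.Norm.FinLocFree
import Groth.Agent.Ega2Proj.AffineBC
import Mathlib.RingTheory.IsTensorProduct

/-!
# Base change of the norm of a finite locally free morphism
-/

set_option autoImplicit false
set_option backward.isDefEq.respectTransparency.types false
set_option linter.style.haveILetI false

universe u

open CategoryTheory AlgebraicGeometry Opposite TopologicalSpace

namespace Groth.VarietyBC.NormBaseChange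

open Groth.PicAux Groth.Chow Groth.RefRank

/-- Norms commute with base change. -/
theorem norm_isPushout {R S A B : Type u} [CommRing R] [CommRing S] [CommRing A] [CommRing B]
    [Algebra R S] [Algebra R A] [Algebra S B] [Algebra A B] [Algebra R B] [IsScalarTower R A B]
    [IsScalarTower R S B] [Algebra.IsPushout R S A B] {ι : Type*} [Fintype ι]
    (β : Module.Basis ι R A) (a : A) :
    (∃ β' : Module.Basis ι S B, ∀ i, β' i = algebraMap A B (β i)) ∧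
      algebraMap R S (Algebra.norm R a) = Algebra.norm S (algebraMap A B a) := by
  classical
  let β' : Module.Basis ι S B := (Algebra.IsPushout.out (R := R) (S := S) (R' := A) (S' := B)).basis β
  have hβ' : ∀ i, β' i = algebraMap A B (β i) := fun i => IsBaseChange.basis_apply β (Algebra.IsPushout.out (R := R) (S := S) (R' := A) (S' := B)) i
  refine ⟨⟨β', hβ'⟩, ?_⟩
  rw [Algebra.norm_eq_matrix_det β, Algebra.norm_eq_matrix_det β', RingHom.map_det]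
  congr 1
  refine Matrix.ext fun i j => ?_
  change algebraMap R S (Algebra.leftMulMatrix β a i j) = _
  rw [Algebra.leftMulMatrix_eq_repr_mul, Algebra.leftMulMatrix_eq_repr_mul]
  have e : algebraMap A B a * β' j = ∑ k, algebraMap R S (β.repr (a * β j) k) • β' k := by
    simp_rw [hβ', ← map_mul]
    conv_lhs => rw [← β.sum_repr (a * β j)]
    simp [map_sum, Algebra.smul_def, map_mul, ← IsScalarTower.algebraMap_apply]
  rw [e, Module.Basis.repr_sum_self]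

variable {X S X' S' : Scheme.{u}} {f : X ⟶ S} {g : S' ⟶ S} {g' : X' ⟶ X} {f' : X' ⟶ S'}

theorem nm_pullback (h : IsPullback g' f' f g) [IsAffineHom f] {U : S.Opens} (hU : IsAffineOpen U)
    {V : S'.Opens} (hV : IsAffineOpen V) (e : V ≤ g ⁻¹ᵁ U) (e' : f' ⁻¹ᵁ V ≤ g' ⁻¹ᵁ (f ⁻¹ᵁ U))
    {n : ℕ} (hb : letI := secAlg f U; Nonempty (Module.Basis (Fin n) Γ(S, U) Γ(X, f ⁻¹ᵁ U)))
    (s : Γ(X, f ⁻¹ᵁ U)) :
    (letI := secAlg f' V; Nonempty (Module.Basis (Fin n) Γ(S', V) Γ(X', f' ⁻¹ᵁ V))) ∧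
      g.appLE U V e (nm f U s) = nm f' V (g'.appLE (f ⁻¹ᵁ U) (f' ⁻¹ᵁ V) e' s) := by
  have hpo := Groth.Ega2Proj.AffBC.isPushout_appLE f g g' f' h hU hV e e'
  letI : Algebra Γ(S, U) Γ(S', V) := (g.appLE U V e).hom.toAlgebra
  letI : Algebra Γ(X, f ⁻¹ᵁ U) Γ(X', f' ⁻¹ᵁ V) := (g'.appLE (f ⁻¹ᵁ U) (f' ⁻¹ᵁ V) e').hom.toAlgebra
  letI := secAlg f U
  letI := secAlg f' V
  letI : Algebra Γ(S, U) Γ(X', f' ⁻¹ᵁ V) := (g.appLE U V e ≫ f'.app V).hom.toAlgebra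
  haveI : IsScalarTower Γ(S, U) Γ(S', V) Γ(X', f' ⁻¹ᵁ V) := IsScalarTower.of_algebraMap_eq fun _ => rfl
  haveI : IsScalarTower Γ(S, U) Γ(X, f ⁻¹ᵁ U) Γ(X', f' ⁻¹ᵁ V) :=
    IsScalarTower.of_algebraMap_eq fun r => congr(($(hpo.w)).hom r)
  haveI : Algebra.IsPushout Γ(S, U) Γ(S', V) Γ(X, f ⁻¹ᵁ U) Γ(X', f' ⁻¹ᵁ V) :=
    CommRingCat.isPushout_iff_isPushout.1 hpo
  obtain ⟨β⟩ := hb
  obtain ⟨⟨β', -⟩, h2⟩ := norm_isPushout (S := Γ(S', V)) (B := Γ(X', f' ⁻¹ᵁ V)) β s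
  exact ⟨⟨β'⟩, h2⟩

variable (π : X ⟶ S) [IsFinite π] [Flat π] [LocallyOfFinitePresentation π]

theorem exists_affine_basis (U : S.Opens) {x : S} (hx : x ∈ U) :
    ∃ (V : S.Opens) (n : ℕ) (b : Fin n → Γ(X, π ⁻¹ᵁ V)),
      IsAffineOpen V ∧ x ∈ V ∧ V ≤ U ∧ SecBasis π V b := by
  obtain ⟨W, n, b, hxW, hb⟩ := exists_secBasis π (push_isFinLocFree π) x
  obtain ⟨V, hV, hxV, hVW⟩ := exists_isAffineOpen_mem_and_subset (x := x) (U := W ⊓ U) ⟨hxW, hx⟩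
  exact ⟨V, n, _, hV, hxV, fun y hy => (hVW hy).2, hb.res (fun y hy => (hVW hy).1)⟩

theorem flfNm_of_affine {U : S.Opens} (hU : IsAffineOpen U) {n : ℕ}
    (hb : letI := secAlg π U; Nonempty (Module.Basis (Fin n) Γ(S, U) Γ(X, π ⁻¹ᵁ U)))
    (s : Γ(X, π ⁻¹ᵁ U)) : flfNm π U s = nm π U s := by
  have h1 : ∀ x : U, ∃ (V : S.Opens) (m : ℕ) (b : Fin m → Γ(X, π ⁻¹ᵁ V)),
      IsAffineOpen V ∧ x.1 ∈ V ∧ V ≤ U ∧ SecBasis π V b := fun x => exists_affine_basis π U x.2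
  choose V m b hV hxV hVU hbV using h1
  refine resX_ext V hVU (fun z hz => Opens.mem_iSup.2 ⟨⟨z, hz⟩, hxV _⟩) fun x => ?_
  rw [flfNm_spec π U s (hVU x) (hbV x)]
  have key := (nm_pullback (f := π) (g := 𝟙 S) (g' := 𝟙 X) (f' := π)
    (IsPullback.of_horiz_isIso ⟨by simp⟩) hU (hV x) (hVU x) (π.preimage_mono (hVU x)) hb s).2
  simp only [Scheme.Hom.appLE, Scheme.Hom.id_app, Category.id_comp] at key
  exact key.symm

variable (π' : X' ⟶ S') [IsFinite π'] [Flat π'] [LocallyOfFinitePresentation π']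

theorem flfNm_pullback (h : IsPullback g' π' π g) {U : S.Opens} {V : S'.Opens} (e : V ≤ g ⁻¹ᵁ U)
    (e' : π' ⁻¹ᵁ V ≤ g' ⁻¹ᵁ (π ⁻¹ᵁ U)) (s : Γ(X, π ⁻¹ᵁ U)) :
    g.appLE U V e (flfNm π U s) = flfNm π' V (g'.appLE (π ⁻¹ᵁ U) (π' ⁻¹ᵁ V) e' s) := by
  have h1 : ∀ x : V, ∃ (U₁ : S.Opens) (n : ℕ) (b : Fin n → Γ(X, π ⁻¹ᵁ U₁)) (V₁ : S'.Opens),
      IsAffineOpen U₁ ∧ U₁ ≤ U ∧ SecBasis π U₁ b ∧ IsAffineOpen V₁ ∧ x.1 ∈ V₁ ∧ V₁ ≤ V ∧
        V₁ ≤ g ⁻¹ᵁ U₁ := fun x => by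
    obtain ⟨U₁, n, b, hU₁, hxU₁, hle, hb⟩ := exists_affine_basis π U (e x.2)
    obtain ⟨V₁, hV₁, hxV₁, hV₁le⟩ :=
      exists_isAffineOpen_mem_and_subset (x := x.1) (U := V ⊓ g ⁻¹ᵁ U₁) ⟨x.2, hxU₁⟩
    exact ⟨U₁, n, b, V₁, hU₁, hle, hb, hV₁, hxV₁, fun y hy => (hV₁le hy).1, fun y hy => (hV₁le hy).2⟩
  choose U₁ n b V₁ hU₁ hU₁U hb hV₁ hxV₁ hV₁V hV₁U₁ using h1
  refine resX_ext V₁ hV₁V (fun z hz => Opens.mem_iSup.2 ⟨⟨z, hz⟩, hxV₁ _⟩) fun x => ?_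
  have e₁ : π' ⁻¹ᵁ V₁ x ≤ g' ⁻¹ᵁ (π ⁻¹ᵁ U₁ x) := by
    rw [← Scheme.Hom.comp_preimage, h.w, Scheme.Hom.comp_preimage]
    exact π'.preimage_mono (hV₁U₁ x)
  have hB : (letI := secAlg π (U₁ x); Nonempty (Module.Basis (Fin (n x)) Γ(S, U₁ x) Γ(X, π ⁻¹ᵁ U₁ x))) := by
    letI := secAlg π (U₁ x)
    exact ⟨(hb x).exists_basis.choose⟩
  obtain ⟨hB', hkey⟩ := nm_pullback h (hU₁ x) (hV₁ x) (hV₁U₁ x) e₁ hB
    (resX X (π.preimage_mono (hU₁U x)) s)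
  rw [← flfNm_spec π U s (hU₁U x) (hb x), ← flfNm_of_affine π' (hV₁ x) hB'] at hkey
  have hL : resX S' (hV₁V x) (g.appLE U V e (flfNm π U s)) =
      g.appLE (U₁ x) (V₁ x) (hV₁U₁ x) (resX S (hU₁U x) (flfNm π U s)) := by
    simp only [resX, ← CommRingCat.comp_apply, Scheme.Hom.appLE_map, Scheme.Hom.map_appLE]
  have hR : resX S' (hV₁V x) (flfNm π' V (g'.appLE (π ⁻¹ᵁ U) (π' ⁻¹ᵁ V) e' s)) =
      flfNm π' (V₁ x) (resX X' (π'.preimage_mono (hV₁V x)) (g'.appLE (π ⁻¹ᵁ U) (π' ⁻¹ᵁ V) e' s)) :=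
    (flfPreNorm π').norm_res (hV₁V x) _
  rw [hL, hkey, hR]
  congr 1
  simp only [resX, ← CommRingCat.comp_apply, Scheme.Hom.appLE_map, Scheme.Hom.map_appLE]

end Groth.VarietyBC.NormBaseChange
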