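import Groth.Agent.SpectralTopology.AlgSystem
import Groth.Agent.Limits.DescentSetup
import Groth.Agent.Limits.AmpleStage
import Groth.Agent.PicAux.LimitInv
import Groth.Agent.PropsBasic.AmpleSep
import Groth.Agent.Ega2Proj.RelAmple
import Groth.Agent.RefRank.Norm.FinLocFree
import Groth.Agent.RefRank.Norm.Ample
import Groth.Prelude.Def_CurvBase

/-!
# Existence of an ample module descends along field extensions

Descend to a finitely generated subalgebra of the big field, restrict to a closed point and take a norm.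
-/

set_option autoImplicit false
set_option linter.style.haveILetI false

universe u

open CategoryTheory CategoryTheory.Limits AlgebraicGeometry TopologicalSpace Opposite

namespace Groth.VarietyBC.AmpleFieldDescent

open Groth.SpectralTopology Groth.Limits

/-- An ample module on the base change to `Spec A` comes from a finitely generated subalgebra. -/
theorem exists_stage (R A : CommRingCat.{u}) [Algebra R A] {X : Scheme.{u}} (f₀ : X ⟶ Spec R)
    [CompactSpace X] [QuasiSeparatedSpace X] (gA : Spec A ⟶ Spec R)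
    (hgA : ∀ s, (algCone R A).π.app s ≫ algToBase R A s = gA)
    (L' : (pullback f₀ gA).Modules) (hL' : CohB1.IsAmple L') :
    ∃ (s : (AlgSub R A)ᵒᵖ) (M : (pullback f₀ (algToBase R A s)).Modules), CohB1.IsAmple M := by
  let t : algSchemes R A ⟶ (Functor.const (AlgSub R A)ᵒᵖ).obj (Spec R) :=
    { app := algToBase R A
      naturality := fun _ _ f => by
        simp only [Functor.const_obj_map, Category.comp_id]
        exact algSchemes_map_toBase R A f }
  let D := bcDiagram t f₀
  let c : Cone D := bcCone t f₀ (algCone R A) gA hgA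
  have hc : IsLimit c := isLimitBcCone t f₀ (algCone R A) _ _ (isLimitAlgCone R A)
  haveI haff : ∀ i, IsAffineHom (pullback.fst f₀ (algToBase R A i)) := fun i =>
    MorphismProperty.pullback_fst f₀ _
      (inferInstanceAs (IsAffineHom (Spec.map (CommRingCat.ofHom (algebraMap R i.unop.1)))))
  haveI : ∀ i j (f : i ⟶ j), IsAffineHom (D.map f) := fun i j f => isAffineHom_bcDiagram_map t f₀ i j f
  have hqc' : ∀ i, CompactSpace (pullback f₀ (algToBase R A i) : Scheme) := fun i =>
    QuasiCompact.compactSpace_of_compactSpace (pullback.fst f₀ (algToBase R A i))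
  haveI hqc : ∀ i, CompactSpace (D.obj i) := hqc'
  have hqs' : ∀ i, QuasiSeparatedSpace (pullback f₀ (algToBase R A i) : Scheme) := fun i =>
    quasiSeparatedSpace_of_quasiSeparated (pullback.fst f₀ (algToBase R A i))
  haveI hqs : ∀ i, QuasiSeparatedSpace (D.obj i) := hqs'
  obtain ⟨m, -, L₀, hL₀, ⟨e₀⟩⟩ := Groth.PicAux.LimitInv.exists_stage_invertible D c hc
    (op ⟨⊥, Subalgebra.fg_bot⟩) (L := L') hL'.1
  obtain ⟨i, φ, hi⟩ := Groth.Limits.AmpleStage.exists_stage_isAmple hc m L₀ hL₀
    (Groth.Ega2Proj.isAmple_of_iso e₀.symm hL')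
  exact ⟨i, _, hi⟩

/-- The same, for rings given as types. -/
theorem exists_stage' (k K : Type u) [CommRing k] [CommRing K] [Algebra k K] {X : Scheme.{u}}
    (f₀ : X ⟶ Spec (CommRingCat.of k)) [CompactSpace X] [QuasiSeparatedSpace X]
    (L' : (pullback f₀ (Spec.map (CommRingCat.ofHom (algebraMap k K)))).Modules) (hL' : CohB1.IsAmple L') :
    ∃ (S : Subalgebra k K) (_ : S.FG)
      (M : (pullback f₀ (Spec.map (CommRingCat.ofHom (algebraMap k S)))).Modules), CohB1.IsAmple M := by
  let R := CommRingCat.of k
  let A := CommRingCat.of K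
  letI : Algebra R A := ‹Algebra k K›
  obtain ⟨s, M, hM⟩ := exists_stage R A f₀ (Spec.map (CommRingCat.ofHom (algebraMap R A)))
    (fun s => algCone_π_toBase R A s) L' hL'
  exact ⟨s.unop.1, s.unop.2, M, hM⟩

/-- An ample module descends along a finite field extension. -/
theorem exists_isAmple_of_finite (k l : Type u) [Field k] [Field l] [Algebra k l] [Module.Finite k l]
    {X Y : Scheme.{u}} [CompactSpace X] [QuasiSeparatedSpace X]
    (f₀ : X ⟶ Spec (CommRingCat.of k)) (π : Y ⟶ X) (g : Y ⟶ Spec (CommRingCat.of l))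
    (hpb : IsPullback π g f₀ (Spec.map (CommRingCat.ofHom (algebraMap k l))))
    (L : Y.Modules) (hL : CohB1.IsAmple L) : ∃ N : X.Modules, CohB1.IsAmple N := by
  let hl : Spec (CommRingCat.of l) ⟶ Spec (CommRingCat.of k) :=
    Spec.map (CommRingCat.ofHom (algebraMap k l))
  haveI hlfin : IsFinite hl := (IsFinite.SpecMap_iff _).2 (RingHom.finite_algebraMap.2 inferInstance)
  haveI hlflat : Flat hl := Flat.SpecMap_iff.2 (RingHom.flat_algebraMap_iff.2 inferInstance)
  haveI hllfp : LocallyOfFinitePresentation hl := inferInstance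
  haveI : IsFinite π := MorphismProperty.of_isPullback hpb.flip hlfin
  haveI : Flat π := MorphismProperty.of_isPullback hpb.flip hlflat
  haveI : LocallyOfFinitePresentation π := MorphismProperty.of_isPullback hpb.flip hllfp
  have hrank : ∀ x : X, π.finrank x = Module.finrank k l := fun x => by
    rw [Scheme.Hom.finrank_of_isPullback _ π hl f₀ hpb.flip x]
    erw [Scheme.Hom.finrank_SpecMap_algebraMap k l]
    rw [Module.rankAtStalk_eq_finrank_of_free]; rfl
  obtain ⟨N⟩ := Groth.RefRank.hasNorm_of_finrank π (Module.finrank_pos (R := k) (M := l)) hrank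
  haveI := Groth.RefRank.surjective_of_normOfDegree N
  exact (Groth.RefRank.PreNorm.ofNorm N).exists_isAmple hL

theorem exists_isAmple (k : Type u) [Field k] (X : Scheme.{u}) [X.Over (Spec (CommRingCat.of k))]
    (K : Type u) [Field K] [Algebra k K] (L' : (Curv2.bc k X K).Modules) (hL' : CohB1.IsAmple L') :
    ∃ L : X.Modules, CohB1.IsAmple L := by
  let f₀ := X ↘ Spec (CommRingCat.of k)
  let gK : Spec (CommRingCat.of K) ⟶ Spec (CommRingCat.of k) :=
    Spec.map (CommRingCat.ofHom (algebraMap k K))
  let q : Curv2.bc k X K ⟶ X := pullback.fst f₀ gK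
  haveI : CompactSpace (Curv2.bc k X K) := hL'.2.1
  haveI : (Curv2.bc k X K).IsSeparated :=
    Groth.PropsBasic.Ample.isSeparated_of_cover hL'.1 hL'.2.2
  haveI : Surjective gK := inferInstance
  haveI : Surjective q := MorphismProperty.pullback_fst f₀ gK inferInstance
  haveI : IsAffineHom q := MorphismProperty.pullback_fst f₀ gK inferInstance
  -- `X` is quasi-compact and quasi-separated
  haveI : CompactSpace X := ⟨by
    rw [← q.surjective.range_eq]; exact isCompact_range q.continuous⟩
  haveI : QuasiSeparatedSpace X := by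
    refine quasiSeparatedSpace_iff_forall_affineOpens.2 fun U V => ?_
    have h1 : IsCompact ((q ⁻¹ᵁ (U.1 ⊓ V.1) : (Curv2.bc k X K).Opens) : Set (Curv2.bc k X K)) :=
      ((U.2.preimage q).inf (V.2.preimage q)).isCompact
    have h2 : q '' ((q ⁻¹ᵁ (U.1 ⊓ V.1) : (Curv2.bc k X K).Opens) : Set (Curv2.bc k X K)) =
        (U.1 : Set X) ∩ V.1 :=
      Set.image_preimage_eq ((U.1 ⊓ V.1 : X.Opens) : Set X) q.surjective
    exact h2 ▸ h1.image q.continuous
  -- the system of finitely generated subalgebras
  obtain ⟨Ai, hfg, Li, hi⟩ := exists_stage' k K f₀ L' hL'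
  -- a closed point of the stage
  haveI : Algebra.FiniteType k Ai := Ai.fg_iff_finiteType.1 hfg
  obtain ⟨M, hM⟩ := Ideal.exists_maximal Ai
  haveI := hM
  let l := Ai ⧸ M
  letI : Field l := Ideal.Quotient.field M
  haveI : Algebra.FiniteType k l := Algebra.FiniteType.of_surjective (Ideal.Quotient.mkₐ k M) Ideal.Quotient.mk_surjective
  haveI : Module.Finite k l := finite_of_finite_type_of_isJacobsonRing k l
  let ti : Spec (CommRingCat.of Ai) ⟶ Spec (CommRingCat.of k) := Spec.map (CommRingCat.ofHom (algebraMap k Ai))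
  let gl : Spec (CommRingCat.of l) ⟶ Spec (CommRingCat.of Ai) :=
    Spec.map (CommRingCat.ofHom (Ideal.Quotient.mk M))
  haveI : IsClosedImmersion gl := IsClosedImmersion.spec_of_surjective _ Ideal.Quotient.mk_surjective
  let j := pullback.fst (pullback.snd f₀ ti) gl
  haveI : IsClosedImmersion j := MorphismProperty.pullback_fst _ _ inferInstance
  let π := j ≫ pullback.fst f₀ ti
  let hl : Spec (CommRingCat.of l) ⟶ Spec (CommRingCat.of k) := Spec.map (CommRingCat.ofHom (algebraMap k l))
  have hgl : gl ≫ ti = hl := (Spec.map_comp _ _).symm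
  have hpb : IsPullback π (pullback.snd (pullback.snd f₀ ti) gl) f₀ hl := by
    rw [← hgl]
    exact ((IsPullback.of_hasPullback (pullback.snd f₀ ti) gl).flip.paste_vert
      (IsPullback.of_hasPullback f₀ ti).flip).flip
  haveI : CompactSpace (pullback (pullback.snd f₀ ti) gl : Scheme) :=
    QuasiCompact.compactSpace_of_compactSpace j
  have hLY := Groth.Ega2Proj.isAmple_pullback j j.isEmbedding.isInducing hi
  exact exists_isAmple_of_finite k l f₀ π _ hpb _ hLY

end Groth.VarietyBC.AmpleFieldDescent
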