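import Groth.Agent.EulerDeg.Tensor
import Groth.Agent.Inter.Length
import Groth.Agent.Inter.Push
import Groth.Agent.RefRank.Stalk
import Groth.Agent.ProjFormula.Natural
import Groth.Agent.HilbStab.Poly

/-!
# Additive functions on coherent sheaves of a one-dimensional scheme; degrees through components
-/

set_option autoImplicit false
set_option linter.style.haveILetI false
set_option backward.isDefEq.respectTransparency.types false
universe u

open CategoryTheory CategoryTheory.Limits AlgebraicGeometry TopologicalSpace

namespace Groth.VarietyBC.CurveComp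

open Groth.EulerDeg

variable {X : Scheme.{u}}

theorem isClosed_singleton_of_dim_le [QuasiSober X] [CompactSpace X] [T0Space X] {y : X}
    (hy : topologicalKrullDim (closure ({y} : Set X)) ≤ ((0 : ℕ) : WithBot ℕ∞)) :
    IsClosed ({y} : Set X) := by
  obtain ⟨z, hz, hzc⟩ := IsClosed.exists_closed_singleton (isClosed_closure (s := ({y} : Set X)))
    ⟨y, subset_closure rfl⟩
  have h0 : ((0 : ℕ) : WithBot ℕ∞) ≤ topologicalKrullDim (closure ({z} : Set X)) :=
    HilbStab.le_topologicalKrullDim_of_chainAt isClosed_closure
      (show HilbStab.ChainAt _ z 0 from subset_closure rfl)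
  rwa [← Groth.Inter.eq_of_dim_closure hz hy h0]

theorem closure_genericPoint (Z : irreducibleComponents (X : Type u)) :
    closure ({Z.2.1.genericPoint} : Set X) = Z.1 :=
  Z.2.1.isGenericPoint_genericPoint_closure.def.trans
    (isClosed_of_mem_irreducibleComponents Z.1 Z.2).closure_eq

theorem eq_genericPoint_of_specializes (Z : irreducibleComponents (X : Type u)) {z : X}
    (h : z ⤳ Z.2.1.genericPoint) : z = Z.2.1.genericPoint := by
  have h1 : Z.1 ⊆ closure ({z} : Set X) := by
    rw [← closure_genericPoint Z]
    exact closure_minimal (Set.singleton_subset_iff.2 h.mem_closure) isClosed_closure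
  have h2 : closure ({z} : Set X) ⊆ Z.1 := Z.2.2 isIrreducible_singleton.closure h1
  have h3 : closure ({z} : Set X) = closure ({Z.2.1.genericPoint} : Set X) :=
    (Set.Subset.antisymm h2 h1).trans (closure_genericPoint Z).symm
  exact isGenericPoint_closure.eq (h3 ▸ isGenericPoint_closure)

theorem exists_component_of_dim (hdim : topologicalKrullDim X ≤ 1) {y : X}
    (hy : topologicalKrullDim (closure ({y} : Set X)) = 1) :
    ∃ Z : irreducibleComponents (X : Type u), y = Z.2.1.genericPoint := by
  obtain ⟨T, hT, hsub⟩ := exists_mem_irreducibleComponents_subset_of_isIrreducible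
    (closure ({y} : Set X)) isIrreducible_singleton.closure
  refine ⟨⟨T, hT⟩, ?_⟩
  have hmem : y ∈ closure ({hT.1.genericPoint} : Set X) := by
    rw [closure_genericPoint ⟨T, hT⟩]
    exact hsub (subset_closure rfl)
  have hT1 : topologicalKrullDim (closure ({hT.1.genericPoint} : Set X)) ≤ ((1 : ℕ) : WithBot ℕ∞) :=
    (topologicalKrullDim_subspace_le X _).trans (by exact_mod_cast hdim)
  exact Groth.Inter.eq_of_dim_closure hmem hT1 (by exact_mod_cast hy.ge)

/-- An additive function vanishing at closed points is a sum over the one-dimensional components. -/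
theorem additive_eq_sum_components [IsNoetherian X] (hdim : topologicalKrullDim X ≤ 1)
    (φ : X.Modules → ℤ)
    (hadd : ∀ S : ShortComplex X.Modules, S.ShortExact → Coh.IsCoh S.X₁ → Coh.IsCoh S.X₂ →
      Coh.IsCoh S.X₃ → φ S.X₂ = φ S.X₁ + φ S.X₃)
    (hzero : ∀ y : X, IsClosed ({y} : Set X) → φ (Cyc.closureStructureSheaf y) = 0)
    {F : X.Modules} (hF : Coh.IsCoh F) :
    φ F = ∑ᶠ Z : irreducibleComponents (X : Type u),
      if topologicalKrullDim (Z.1 : Set X) = 1 then
        ((Module.length (X.presheaf.stalk Z.2.1.genericPoint)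
          (F.presheaf.stalk Z.2.1.genericPoint)).toNat : ℤ) *
          φ (Cyc.closureStructureSheaf Z.2.1.genericPoint)
      else 0 := by
  classical
  have := (NoetherianSpace.finite_irreducibleComponents (α := X)).fintype
  rw [finsum_eq_sum_of_fintype, ← sub_eq_zero]
  refine Groth.Inter.additive_eq_zero
    (fun G => φ G - ∑ Z : irreducibleComponents (X : Type u),
      if topologicalKrullDim (Z.1 : Set X) = 1 then
        ((Module.length (X.presheaf.stalk Z.2.1.genericPoint)
          (G.presheaf.stalk Z.2.1.genericPoint)).toNat : ℤ) *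
          φ (Cyc.closureStructureSheaf Z.2.1.genericPoint)
      else 0)
    (fun S hS c₁ c₂ c₃ => ?_) isClosed_univ (fun y _ => ?_) hF (Set.subset_univ _)
  · have key : ∀ Z : irreducibleComponents (X : Type u),
        (if topologicalKrullDim (Z.1 : Set X) = 1 then
          ((Module.length (X.presheaf.stalk Z.2.1.genericPoint)
            (S.X₂.presheaf.stalk Z.2.1.genericPoint)).toNat : ℤ) *
            φ (Cyc.closureStructureSheaf Z.2.1.genericPoint)
        else 0) =
        (if topologicalKrullDim (Z.1 : Set X) = 1 then
          ((Module.length (X.presheaf.stalk Z.2.1.genericPoint)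
            (S.X₁.presheaf.stalk Z.2.1.genericPoint)).toNat : ℤ) *
            φ (Cyc.closureStructureSheaf Z.2.1.genericPoint)
        else 0) +
        (if topologicalKrullDim (Z.1 : Set X) = 1 then
          ((Module.length (X.presheaf.stalk Z.2.1.genericPoint)
            (S.X₃.presheaf.stalk Z.2.1.genericPoint)).toNat : ℤ) *
            φ (Cyc.closureStructureSheaf Z.2.1.genericPoint)
        else 0) := fun Z => by
      split_ifs with hZ
      · have hfin : ∀ G : X.Modules, Coh.IsCoh G →
            Module.length (X.presheaf.stalk Z.2.1.genericPoint) (G.presheaf.stalk Z.2.1.genericPoint) ≠ ⊤ :=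
          fun G hG => KTheory.Devissage.length_stalk_ne_top hG _ fun z _ hz =>
            eq_genericPoint_of_specializes Z hz
        rw [Groth.Inter.length_stalk_add hS, ENat.toNat_add (hfin _ c₁) (hfin _ c₃)]
        push_cast
        ring
      · rfl
    rw [hadd S hS c₁ c₂ c₃, Finset.sum_congr rfl fun Z _ => key Z, Finset.sum_add_distrib]
    ring
  · have hsy := KTheory.Devissage.support_closureStructureSheaf_subset y
    have hout : ∀ Z : irreducibleComponents (X : Type u), Z.2.1.genericPoint ∉ closure ({y} : Set X) →
        (if topologicalKrullDim (Z.1 : Set X) = 1 then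
          ((Module.length (X.presheaf.stalk Z.2.1.genericPoint)
            ((Cyc.closureStructureSheaf y).presheaf.stalk Z.2.1.genericPoint)).toNat : ℤ) *
            φ (Cyc.closureStructureSheaf Z.2.1.genericPoint)
        else 0) = 0 := fun Z hZ => by
      have hnot : Z.2.1.genericPoint ∉ CohB1.support (Cyc.closureStructureSheaf y) := fun h => hZ (hsy h)
      simp only [CohB1.support, Set.mem_ofPred_eq, not_not] at hnot
      simp
    by_cases hy1 : topologicalKrullDim (closure ({y} : Set X)) = 1
    · obtain ⟨Z, hZ⟩ := exists_component_of_dim hdim hy1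
      rw [Finset.sum_eq_single Z (fun W _ hWZ => hout W fun hW => hWZ ?_) (fun h => absurd (Finset.mem_univ _) h)]
      · subst hZ
        rw [closure_genericPoint] at hy1
        rw [if_pos hy1, KTheory.Devissage.length_closureStructureSheaf]
        simp
      · subst hZ
        rw [closure_genericPoint] at hW
        refine Subtype.ext (Set.Subset.antisymm ?_ (W.2.2 Z.2.1 ?_))
        · rw [← closure_genericPoint W]
          exact closure_minimal (Set.singleton_subset_iff.2 hW) (isClosed_of_mem_irreducibleComponents _ Z.2)
        · rw [← closure_genericPoint W]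
          exact closure_minimal (Set.singleton_subset_iff.2 hW) (isClosed_of_mem_irreducibleComponents _ Z.2)
    · have hle : topologicalKrullDim (closure ({y} : Set X)) ≤ ((0 : ℕ) : WithBot ℕ∞) := by
        have h1 : topologicalKrullDim (closure ({y} : Set X)) < ((0 + 1 : ℕ) : WithBot ℕ∞) :=
          lt_of_le_of_ne ((topologicalKrullDim_subspace_le X _).trans (by exact_mod_cast hdim))
            (by simpa using hy1)
        exact Groth.Inter.lt_natCast_succ_iff.1 h1
      have hyc := isClosed_singleton_of_dim_le hle
      rw [hzero y hyc, zero_sub, neg_eq_zero]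
      refine Finset.sum_eq_zero fun Z _ => ?_
      by_cases hm : Z.2.1.genericPoint ∈ closure ({y} : Set X)
      · rw [if_neg]
        intro hZ
        rw [hyc.closure_eq, Set.mem_singleton_iff] at hm
        rw [← closure_genericPoint Z, hm] at hZ
        exact hy1 hZ
      · exact hout Z hm

variable (k : Type u) [Field k] [X.Over (Spec (CommRingCat.of k))]
  [IsProper (X ↘ Spec (CommRingCat.of k))]

omit [IsProper (X ↘ Spec (CommRingCat.of k))] in
theorem tensorDefect_structure (E : X.Modules) (n : ℕ) :
    tensorDefect k E n (Coh.structureModule X) = Curv2.deg k X E n := by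
  obtain ⟨b, -⟩ := Groth.PicAux.exists_braiding E (Coh.structureModule X)
  obtain ⟨l, -⟩ := Groth.PicAux.exists_leftUnitor E
  rw [tensorDefect, euler_congr k (b ≪≫ l)]
  rfl

omit [IsProper (X ↘ Spec (CommRingCat.of k))] in
/-- The defect of the structure sheaf of a closed subscheme is the degree there. -/
theorem tensorDefect_push {E : X.Modules} {n : ℕ} (hE : FlatMod.IsFinLocFree E)
    (I : X.IdealSheafData) :
    tensorDefect k E n ((Coh.push I.subschemeι).obj (Coh.structureModule I.subscheme)) =
      @Curv2.deg k _ I.subscheme ⟨I.subschemeι ≫ (X ↘ (Spec (CommRingCat.of k)))⟩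
        ((Scheme.Modules.pullback I.subschemeι).obj E) n := by
  letI : I.subscheme.Over (Spec (CommRingCat.of k)) :=
    ⟨I.subschemeι ≫ (X ↘ Spec (CommRingCat.of k))⟩
  let E' := (Scheme.Modules.pullback I.subschemeι).obj E
  obtain ⟨b, -⟩ := Groth.PicAux.exists_braiding E' (Coh.structureModule I.subscheme)
  obtain ⟨l, -⟩ := Groth.PicAux.exists_leftUnitor E'
  have := Groth.ProjFormula.isIso_pfApp I.subschemeι E hE (Coh.structureModule I.subscheme)
  rw [tensorDefect, Groth.Inter.euler_push k I.subschemeι rfl,
    euler_congr k (asIso (Groth.ProjFormula.pfApp I.subschemeι E (Coh.structureModule I.subscheme))),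
    Groth.Inter.euler_push k I.subschemeι rfl, euler_congr k (b ≪≫ l)]
  rfl

theorem radical_irreducibleComponentIdeal [IsNoetherian X] (Z : Set X)
    (hZ : Z ∈ irreducibleComponents (X : Type u)) :
    (X.irreducibleComponentIdeal Z hZ).radical = IntMult.ptIdeal hZ.1.genericPoint := by
  rw [← Scheme.IdealSheafData.vanishingIdeal_support]
  exact congrArg _ (Closeds.ext (closure_genericPoint ⟨Z, hZ⟩).symm)

/-- The degree of a locally free module through the one-dimensional components. -/
theorem deg_eq_sum [IsNoetherian X] (hdim : topologicalKrullDim X ≤ 1) {n : ℕ} {E : X.Modules}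
    (hE : FlatMod.IsFinLocFreeOfRank n E) :
    Curv2.deg k X E n = ∑ᶠ Z : irreducibleComponents (X : Type u),
      (if topologicalKrullDim (Z.1 : Set X) = 1 then
        ((Module.length (X.presheaf.stalk Z.2.1.genericPoint) (X.presheaf.stalk Z.2.1.genericPoint)).toNat : ℤ) *
          @Curv2.deg k _ (X.irreducibleComponentIdeal Z.1 Z.2).radical.subscheme ⟨(X.irreducibleComponentIdeal Z.1 Z.2).radical.subschemeι ≫ (X ↘ (Spec (CommRingCat.of k)))⟩ ((Scheme.Modules.pullback (X.irreducibleComponentIdeal Z.1 Z.2).radical.subschemeι).obj E) n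
      else 0) := by
  rw [← tensorDefect_structure k E n, additive_eq_sum_components hdim (tensorDefect k E n)
    (fun S hS c₁ c₂ c₃ => tensorDefect_add k hE hS c₁ c₂ c₃)
    (fun y hy => tensorDefect_of_supportedAtClosed k hE (KTheory.Devissage.isCoh_closureStructureSheaf y)
      fun x hx => ?_) Groth.QCohMod.isCoh_unit]
  · refine finsum_congr fun Z => ?_
    split_ifs with hZ
    · rw [← (Groth.RefRank.oneEquiv Z.2.1.genericPoint).length_eq,
        radical_irreducibleComponentIdeal Z.1 Z.2, Cyc.closureStructureSheaf,
        tensorDefect_push k (LocFree.isFinLocFree_of_rank hE)]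
    · rfl
  · have h := KTheory.Devissage.support_closureStructureSheaf_subset y hx
    rw [hy.closure_eq, Set.mem_singleton_iff] at h
    exact h ▸ hy

end Groth.VarietyBC.CurveComp
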