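import Groth.Prelude.Def_Curv2
import Mathlib.RingTheory.Flat.FaithfullyFlat.Algebra
import Mathlib.RingTheory.Flat.FaithfullyFlat.Basic
import Mathlib.RingTheory.Length

/-!
# The δ-invariant does not decrease along faithfully flat maps
-/

set_option autoImplicit false
set_option synthInstance.maxHeartbeats 400000

universe u

open TensorProduct
open scoped nonZeroDivisors

namespace Groth.VarietyBC.DeltaLE

variable (A B : Type u) [CommRing A] [CommRing B] [Algebra A B] [Module.FaithfullyFlat A B]

theorem length_le_length_tensor (M : Type u) [AddCommGroup M] [Module A M] :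
    Module.length A M ≤ Module.length B (B ⊗[A] M) := by
  rw [← WithBot.coe_le_coe, Module.coe_length, Module.coe_length]
  exact Order.krullDim_le_of_strictMono _ (Submodule.baseChangeOrderEmbedding A M B).strictMono

theorem map_nonZeroDivisors {a : A} (ha : a ∈ A⁰) : algebraMap A B a ∈ B⁰ := by
  have hr : IsSMulRegular A a := fun x y h => (mul_cancel_left_mem_nonZeroDivisors ha).1 h
  have h := hr.lTensor B
  refine mem_nonZeroDivisors_iff_right.2 fun z hz => ?_
  have : (TensorProduct.rid A B).symm z = 0 := h (by
    show a • (TensorProduct.rid A B).symm z = a • 0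
    rw [← map_smul, Algebra.smul_def, mul_comm, hz, map_zero, smul_zero])
  simpa using congrArg (TensorProduct.rid A B) this

theorem deltaInv_le : Curv2.deltaInv A ≤ Curv2.deltaInv B := by
  let A' := integralClosure A (FractionRing A)
  let rA := LinearMap.range (Algebra.linearMap A A')
  have hunit : ∀ y : A⁰, IsUnit (Algebra.ofId A (FractionRing B) y) := fun y => by
    rw [Algebra.ofId_apply, IsScalarTower.algebraMap_apply A B (FractionRing B)]
    exact IsLocalization.map_units (FractionRing B) (⟨_, map_nonZeroDivisors A B y.2⟩ : B⁰)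
  let φ : FractionRing A →ₐ[A] FractionRing B := IsLocalization.liftAlgHom hunit
  let Φ : B ⊗[A] FractionRing A →ₐ[B] FractionRing B :=
    Algebra.TensorProduct.lift (Algebra.ofId B (FractionRing B)) φ fun _ _ => Commute.all _ _
  have hrep : ∀ z : B ⊗[A] FractionRing A, ∃ (b : B) (s : A⁰),
      z = b ⊗ₜ IsLocalization.mk' (FractionRing A) 1 s := fun z => by
    induction z using TensorProduct.induction_on with
    | zero => exact ⟨0, 1, (TensorProduct.zero_tmul _ _).symm⟩
    | tmul b x =>
      obtain ⟨a, s, rfl⟩ := IsLocalization.exists_mk'_eq A⁰ x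
      exact ⟨a • b, s, by rw [TensorProduct.smul_tmul, IsLocalization.smul_mk', mul_one]⟩
    | add x y hx hy =>
      obtain ⟨b₁, s₁, rfl⟩ := hx
      obtain ⟨b₂, s₂, rfl⟩ := hy
      have hc : ∀ x y : A⁰, (x : A) • IsLocalization.mk' (FractionRing A) 1 (y * x) =
          IsLocalization.mk' (FractionRing A) 1 y := fun x y => by
        rw [IsLocalization.smul_mk']
        refine (congrArg (fun w => IsLocalization.mk' (FractionRing A) w (y * x)) ?_).trans
          (IsLocalization.mk'_cancel 1 y x)
        ring
      refine ⟨(s₂ : A) • b₁ + (s₁ : A) • b₂, s₁ * s₂, ?_⟩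
      rw [TensorProduct.add_tmul, TensorProduct.smul_tmul, TensorProduct.smul_tmul, hc,
        mul_comm s₁ s₂, hc]
  have hΦ : Function.Injective Φ := by
    refine (injective_iff_map_eq_zero _).2 fun z hz => ?_
    obtain ⟨b, s, rfl⟩ := hrep z
    have h1 : φ (IsLocalization.mk' (FractionRing A) 1 s) * φ (algebraMap A _ (s : A)) = 1 := by
      rw [← map_mul, IsLocalization.mk'_spec, map_one, map_one]
    have h2 : algebraMap B (FractionRing B) b * φ (IsLocalization.mk' (FractionRing A) 1 s) = 0 := by
      simpa [Φ] using hz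
    have hb : b = 0 := by
      refine IsFractionRing.injective B (FractionRing B) ?_
      rw [map_zero, ← mul_one (algebraMap B (FractionRing B) b), ← h1, ← mul_assoc, h2, zero_mul]
    rw [hb, TensorProduct.zero_tmul]
  let ι : B ⊗[A] A' →ₐ[B] B ⊗[A] FractionRing A := Algebra.TensorProduct.map (AlgHom.id B B) A'.val
  have hι : Function.Injective ι :=
    Module.Flat.lTensor_preserves_injective_linearMap (M := B) A'.val.toLinearMap Subtype.val_injective
  have : Algebra.IsIntegral A A' := ⟨fun x => (isIntegral_algHom_iff A'.val Subtype.val_injective).1 x.2⟩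
  let ψ : B ⊗[A] A' →ₐ[B] integralClosure B (FractionRing B) :=
    AlgHom.codRestrict (Φ.comp ι) _ fun c => (Algebra.IsIntegral.isIntegral (R := B) c).map (Φ.comp ι)
  have hψ : Function.Injective ψ := fun x y h => hι (hΦ (congrArg Subtype.val h))
  let rB := LinearMap.range (Algebra.linearMap B (integralClosure B (FractionRing B)))
  let θ₀ : B ⊗[A] A' →ₗ[B] (integralClosure B (FractionRing B)) ⧸ rB := rB.mkQ.comp ψ.toLinearMap
  let π : B ⊗[A] A' →ₗ[B] B ⊗[A] (A' ⧸ rA) := rA.mkQ.baseChange B
  have hπ : Function.Surjective π := LinearMap.lTensor_surjective B rA.mkQ_surjective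
  have hker : LinearMap.ker θ₀ ≤ LinearMap.ker π := by
    intro c hc
    obtain ⟨b, hb⟩ := (Submodule.Quotient.mk_eq_zero rB).1 hc
    have : c = algebraMap B (B ⊗[A] A') b := hψ (hb.symm.trans (ψ.commutes b).symm)
    subst this
    show π (b ⊗ₜ[A] (1 : A')) = 0
    simp only [π, LinearMap.baseChange_tmul]
    rw [show rA.mkQ (1 : A') = 0 from (Submodule.Quotient.mk_eq_zero rA).2 ⟨1, (algebraMap A A').map_one⟩,
      TensorProduct.tmul_zero]
  calc Curv2.deltaInv A ≤ Module.length B (B ⊗[A] (A' ⧸ rA)) := length_le_length_tensor A B _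
    _ = Module.length B ((B ⊗[A] A') ⧸ LinearMap.ker π) :=
      (LinearMap.quotKerEquivOfSurjective π hπ).length_eq.symm
    _ ≤ Module.length B ((B ⊗[A] A') ⧸ LinearMap.ker θ₀) :=
      Module.length_le_of_surjective (Submodule.factor hker) (Submodule.factor_surjective hker)
    _ = Module.length B (LinearMap.range θ₀) := (LinearMap.quotKerEquivRange θ₀).length_eq
    _ ≤ Curv2.deltaInv B := Module.length_le_of_injective _ (Submodule.subtype_injective _)

end Groth.VarietyBC.DeltaLE
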