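import Groth.Agent.VarietyBC.CurveComponents
import Groth.Agent.EulerDeg.Birational
import Groth.Agent.Curves1.RR.EtaleGenusZero
import Groth.Agent.Cycles.SheafCyc

/-!
# Degrees are unchanged under birational maps of one-dimensional proper schemes
-/

set_option autoImplicit false
set_option linter.style.haveILetI false
set_option backward.isDefEq.respectTransparency.types false
universe u

open CategoryTheory CategoryTheory.Limits AlgebraicGeometry TopologicalSpace

namespace Groth.VarietyBC.CurveBirDeg

open Groth.EulerDeg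

variable {X Y : Scheme.{u}}

/-- `O_X ⟶ f_* O_Y` is an isomorphism over an open above which `f` is one. -/
theorem isIso_restrict_unitToPush (f : Y ⟶ X) (U : X.Opens) [IsIso (f ∣_ U)] :
    IsIso ((Scheme.Modules.restrictFunctor U.ι).map (ClSub.unitToPush f)) := by
  rw [Scheme.Modules.Hom.isIso_iff_isIso_app]
  intro V
  have h : IsIso ((f ∣_ U).app V) := inferInstance
  rw [morphismRestrict_app] at h
  have h' : IsIso (f.app (U.ι ''ᵁ V)) := @IsIso.of_isIso_comp_right _ _ _ _ _ _ (Y.presheaf.map
    (eqToHom (image_morphismRestrict_preimage f U V)).op) inferInstance h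
  exact (ConcreteCategory.isIso_iff_bijective _).mpr (ConcreteCategory.bijective_of_isIso (f.app (U.ι ''ᵁ V)))

variable (k : Type u) [Field k] [X.Over (Spec (CommRingCat.of k))] [Y.Over (Spec (CommRingCat.of k))]
  [IsProper (X ↘ Spec (CommRingCat.of k))] [IsProper (Y ↘ Spec (CommRingCat.of k))]

/-- Degrees of locally free modules are unchanged by birational maps in dimension at most one. -/
theorem deg_pullback_birational (hdim : topologicalKrullDim X ≤ 1) (f : Y ⟶ X)
    (hf : f ≫ (X ↘ Spec (CommRingCat.of k)) = Y ↘ Spec (CommRingCat.of k))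
    (U : X.Opens) (hU : Dense (U : Set X)) (hU' : Dense ((f ⁻¹ᵁ U : Y.Opens) : Set Y))
    [IsIso (f ∣_ U)] {n : ℕ} {E : X.Modules} (hE : FlatMod.IsFinLocFreeOfRank n E) :
    Curv2.deg k Y ((Scheme.Modules.pullback f).obj E) n = Curv2.deg k X E n := by
  have := isNoetherian_of_proper k X
  have := isNoetherian_of_proper k Y
  have : IsProper (f ≫ (X ↘ Spec (CommRingCat.of k))) := by rw [hf]; infer_instance
  have : IsProper f := IsProper.of_comp f (X ↘ Spec (CommRingCat.of k))
  have := isFinite_of_birational k hdim f hf U hU'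
  let E' := (Scheme.Modules.pullback f).obj E
  let O := Coh.structureModule Y
  have hO : Coh.IsCoh (Coh.structureModule X) := Groth.QCohMod.isCoh_unit
  have hO' : Coh.IsCoh O := Groth.QCohMod.isCoh_unit
  have hE' := Groth.LocFree.isFinLocFreeOfRank_pullback f hE
  have hEc' : Coh.IsCoh E' := KTheory.LocFree.isCoh (LocFree.isFinLocFree_of_rank hE')
  have hA : Coh.IsCoh ((Scheme.Modules.pushforward f).obj O) :=
    Groth.Cycles.isCoh_push_of_isFinite f hO'
  have := isIso_restrict_unitToPush f U
  have hs := supportedAtClosed_kernel_cokernel (ClSub.unitToPush f) U fun x hx =>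
    mem_of_dense hdim hU hx
  rw [← CurveComp.tensorDefect_structure k E n,
    tensorDefect_eq_of_hom k hE hO hA (ClSub.unitToPush f) hs.1 hs.2]
  obtain ⟨b, -⟩ := Groth.PicAux.exists_braiding E' O
  obtain ⟨l, -⟩ := Groth.PicAux.exists_leftUnitor E'
  have := Groth.ProjFormula.isIso_pfApp f E (LocFree.isFinLocFree_of_rank hE) O
  rw [tensorDefect, euler_congr k (asIso (Groth.ProjFormula.pfApp f E O)),
    Groth.Curves1.RR.euler_push_affine k f hf _ (Groth.EulerDeg.isCoh_tensor hEc' hO').1,
    Groth.Curves1.RR.euler_push_affine k f hf _ hO'.1, euler_congr k (b ≪≫ l)]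
  rfl

end Groth.VarietyBC.CurveBirDeg
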