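/-
Stratifications with smooth strata after a finite purely inseparable extension of the ground field.
-/
import Groth.Agent.S2769
import Groth.Agent.PropsBasic2.Reduced
import Groth.Agent.VarietyBC.BCMaps
import Groth.Agent.AlgGrp1.SmoothReduced
import Mathlib.FieldTheory.PurelyInseparable.PerfectClosure
import Mathlib.AlgebraicGeometry.IdealSheaf.Functorial

open CategoryTheory CategoryTheory.Limits AlgebraicGeometry TopologicalSpace

universe u

namespace Groth.VarietyBC.Stratify

variable (k : Type u) [Field k] (X : Scheme.{u}) [X.Over (Spec (CommRingCat.of k))]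

/-- The piece `T ∖ T'`, with reduced structure, is smooth over `K` after base change to `K`. -/
def Good (K : Type u) [Field K] [Algebra k K] (T T' : Set X) : Prop :=
  ∃ (Z : Scheme.{u}) (_ : IsReduced Z) (i : Z ⟶ Curv2.bc k X K), IsImmersion i ∧
    Set.range i = Curv2.bcFst k X K ⁻¹' (T \ T') ∧ Smooth (i ≫ Curv2.bcSnd k X K)

variable {k X}

theorem isPullback_bcMap {K L : Type u} [Field K] [Algebra k K] [Field L] [Algebra k L] (φ : K →ₐ[k] L) :
    IsPullback (bcMap (X := X) φ) (Curv2.bcSnd k X L) (Curv2.bcSnd k X K)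
      (Spec.map (CommRingCat.ofHom φ.toRingHom)) := by
  refine IsPullback.of_right ?_ (bcMap_snd φ) (IsPullback.of_hasPullback (X ↘ Spec (CommRingCat.of k))
    (Spec.map (CommRingCat.ofHom (algebraMap k K))))
  rw [bcMap_fst, ← Spec.map_comp, ← CommRingCat.ofHom_comp, AlgHom.toRingHom_eq_coe, AlgHom.comp_algebraMap]
  exact IsPullback.of_hasPullback _ _

theorem Good.of_algHom {K L : Type u} [Field K] [Algebra k K] [Field L] [Algebra k L] (φ : K →ₐ[k] L)
    {T T' : Set X} (h : Good k X K T T') : Good k X L T T' := by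
  obtain ⟨Z, _, i, hi, hr, hs⟩ := h
  let j : pullback i (bcMap (X := X) φ) ⟶ Curv2.bc k X L := pullback.snd _ _
  have hP := (IsPullback.of_hasPullback i (bcMap (X := X) φ)).flip.paste_horiz
    (isPullback_bcMap (X := X) φ).flip
  have hsm : Smooth (j ≫ Curv2.bcSnd k X L) :=
    MorphismProperty.of_isPullback (P := @Smooth) hP.flip hs
  refine ⟨_, @Groth.AlgGrp1.isReduced_of_smooth _ _ _ (j ≫ Curv2.bcSnd k X L) hsm, j, inferInstance, ?_, hsm⟩
  rw [Scheme.Pullback.range_snd, hr, ← Set.preimage_comp]
  exact congrArg (fun f : Curv2.bc k X L → X => f ⁻¹' (T \ T')) (funext fun y => bcMap_fst_apply φ y)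

theorem exists_good_step [LocallyOfFiniteType (X ↘ Spec (CommRingCat.of k))]
    [QuasiCompact (X ↘ Spec (CommRingCat.of k))] (T : Closeds X) (hT : (T : Set X).Nonempty) :
    ∃ (T' : Closeds X) (_ : T' < T) (K : Type u) (_ : Field K) (_ : Algebra k K)
      (_ : FiniteDimensional k K) (_ : IsPurelyInseparable k K), Good k X K T T' := by
  let str := X ↘ Spec (CommRingCat.of k)
  let I := Scheme.IdealSheafData.vanishingIdeal T
  have hrT : Set.range I.subschemeι = T := by
    rw [Scheme.IdealSheafData.range_subschemeι, Scheme.IdealSheafData.coe_support_vanishingIdeal]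
  obtain ⟨U, hU, K, _, _, hfin, hpi, Z, hZ, i, hi, hsurj, hsm⟩ :=
    Groth.Agent.S2769.result k (I.subschemeι ≫ str)
  let T' : Closeds X := ⟨I.subschemeι '' (U : Set I.subscheme)ᶜ,
    I.subschemeι.isClosedMap _ U.isOpen.isClosed_compl⟩
  have hsub : T' ≤ T := fun x hx => by
    obtain ⟨z, -, rfl⟩ := hx
    exact hrT.le ⟨z, rfl⟩
  have hUne : (U : Set I.subscheme).Nonempty := by
    have : Nonempty I.subscheme := by
      obtain ⟨x, hx⟩ := hT
      obtain ⟨z, -⟩ := hrT.ge hx
      exact ⟨z⟩
    exact hU.nonempty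
  have hlt : T' < T := by
    refine lt_of_le_not_ge hsub fun hle => ?_
    obtain ⟨z, hz⟩ := hUne
    obtain ⟨w, hw, hwz⟩ := hle (hrT.le ⟨z, rfl⟩)
    exact hw (I.subschemeι.isClosedEmbedding.injective hwz ▸ hz)
  let m : pullback (U.ι ≫ I.subschemeι ≫ str) (Spec.map (CommRingCat.ofHom (algebraMap k K))) ⟶
      Curv2.bc k X K :=
    pullback.map _ _ _ _ (U.ι ≫ I.subschemeι) (𝟙 _) (𝟙 _) (by simp [str]) (by simp)
  have hm : IsImmersion m := MorphismProperty.pullbackMap (P := (@IsImmersion : MorphismProperty Scheme.{u}))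
    inferInstance inferInstance (by simp [str]) (by simp)
  refine ⟨T', hlt, K, inferInstance, inferInstance, hfin, hpi, Z, hZ, i ≫ m, inferInstance, ?_, ?_⟩
  · have h1 : Set.range (i ≫ m) = Set.range m := by
      rw [Scheme.Hom.comp_base, TopCat.coe_comp]
      exact hsurj.range_comp m
    rw [h1, Scheme.Pullback.range_map]
    have h2 : Set.range (U.ι ≫ I.subschemeι) = (T : Set X) \ (T' : Set X) := by
      rw [Scheme.Hom.comp_base, TopCat.coe_comp, Set.range_comp, Scheme.Opens.range_ι]
      conv_rhs => rw [← hrT, ← Set.image_univ]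
      rw [show (T' : Set X) = I.subschemeι '' (U : Set I.subscheme)ᶜ from rfl,
        ← Set.image_sdiff I.subschemeι.isClosedEmbedding.injective]
      simp
    rw [h2]
    simp
  · have h3 : m ≫ Curv2.bcSnd k X K = pullback.snd _ _ := by
      simp only [m, pullback.map, pullback.lift_snd, Category.comp_id]
    rw [Category.assoc, h3]
    exact hsm

theorem exists_good_chain [LocallyOfFiniteType (X ↘ Spec (CommRingCat.of k))]
    [QuasiCompact (X ↘ Spec (CommRingCat.of k))] (T : Closeds X) :
    ∃ (K : IntermediateField k (AlgebraicClosure k)) (_ : FiniteDimensional k K) (_ : IsPurelyInseparable k K)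
      (t : ℕ) (c : ℕ → Closeds X), Antitone c ∧ c 0 = T ∧ c t = ⊥ ∧
        ∀ n < t, Good k X K (c n) (c (n + 1)) := by
  have : IsLocallyNoetherian X := LocallyOfFiniteType.isLocallyNoetherian (X ↘ Spec (CommRingCat.of k))
  have : CompactSpace X := QuasiCompact.compactSpace_of_compactSpace (X ↘ Spec (CommRingCat.of k))
  have : IsNoetherian X := ⟨⟩
  induction T using WellFoundedLT.induction with
  | _ T ih =>
    by_cases hT : (T : Set X).Nonempty
    · obtain ⟨T', hlt, K1, _, _, _, _, hg⟩ := exists_good_step (k := k) T hT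
      obtain ⟨K2, _, _, t, c, hc, hc0, hct, hgood⟩ := ih T' hlt
      let φ : K1 →ₐ[k] AlgebraicClosure k := IsAlgClosed.lift
      let K := φ.fieldRange ⊔ K2
      have : FiniteDimensional k φ.fieldRange := Module.Finite.equiv (AlgEquiv.ofInjectiveField φ).toLinearEquiv
      have : IsPurelyInseparable k φ.fieldRange := (AlgEquiv.ofInjectiveField φ).isPurelyInseparable
      let φ1 : K1 →ₐ[k] K := (IntermediateField.inclusion le_sup_left).comp (AlgEquiv.ofInjectiveField φ).toAlgHom
      let φ2 : K2 →ₐ[k] K := IntermediateField.inclusion le_sup_right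
      refine ⟨K, inferInstance, inferInstance, t + 1, fun n => Nat.casesOn n T c, ?_, rfl, hct, fun n hn => ?_⟩
      · refine antitone_nat_of_succ_le fun n => ?_
        cases n with
        | zero => exact hc0.le.trans hlt.le
        | succ n => exact hc (Nat.le_succ n)
      · cases n with
        | zero =>
          show Good k X K T (c 0)
          rw [hc0]
          exact hg.of_algHom φ1
        | succ n => exact (hgood n (by omega)).of_algHom φ2
    · refine ⟨⊥, inferInstance, inferInstance, 0, fun _ => T, antitone_const, rfl, ?_, fun n hn => absurd hn (by omega)⟩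
      exact Closeds.ext (Set.not_nonempty_iff_eq_empty.1 hT)

/-- Two immersions of reduced schemes with the same image differ by an isomorphism. -/
theorem exists_iso_of_range_eq {P Q Y : Scheme.{u}} [IsReduced P] [IsReduced Q] (a : P ⟶ Y) (b : Q ⟶ Y)
    [IsImmersion a] [IsImmersion b] (h : Set.range a = Set.range b) : ∃ e : P ≅ Q, e.hom ≫ b = a := by
  have key : ∀ {P Q : Scheme.{u}} [IsReduced P] (a : P ⟶ Y) (b : Q ⟶ Y) [IsImmersion b],
      Set.range a ⊆ Set.range b → ∃ g : P ⟶ Q, g ≫ b = a := by
    intro P Q _ a b _ h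
    have hs : Surjective (pullback.fst a b) := by
      refine ⟨fun t => ?_⟩
      obtain ⟨w, hw⟩ := h ⟨t, rfl⟩
      obtain ⟨p, hp, -⟩ := Scheme.Pullback.exists_preimage_pullback (f := a) (g := b) t w hw.symm
      exact ⟨p, hp⟩
    have : IsClosedImmersion (pullback.fst a b) :=
      .of_isPreimmersion _ (by rw [hs.surj.range_eq]; exact isClosed_univ)
    have : IsIso (pullback.fst a b) := isIso_of_isClosedImmersion_of_surjective _
    exact ⟨inv (pullback.fst a b) ≫ pullback.snd a b, by
      rw [Category.assoc, ← pullback.condition, IsIso.inv_hom_id_assoc]⟩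
  obtain ⟨g, hg⟩ := key a b h.le
  obtain ⟨g', hg'⟩ := key b a h.ge
  exact ⟨⟨g, g', by rw [← cancel_mono a, Category.assoc, hg', hg, Category.id_comp],
    by rw [← cancel_mono b, Category.assoc, hg, hg', Category.id_comp]⟩, hg⟩

/-- The open piece of the reduced closed subscheme is smooth if the piece is good. -/
theorem smooth_piece {K : Type u} [Field K] [Algebra k K] {T T' : Closeds X} (h : Good k X K T T') :
    Smooth (((Scheme.IdealSheafData.vanishingIdeal (T.preimage (Curv2.bcFst k X K).continuous)).subschemeι ⁻¹ᵁ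
        (Scheme.IdealSheafData.vanishingIdeal (T'.preimage (Curv2.bcFst k X K).continuous)).support.compl).ι ≫
      (Scheme.IdealSheafData.vanishingIdeal (T.preimage (Curv2.bcFst k X K).continuous)).subschemeι ≫
        Curv2.bcSnd k X K) := by
  obtain ⟨Z, hZ, i, hi, hr, hs⟩ := h
  let I := Scheme.IdealSheafData.vanishingIdeal (T.preimage (Curv2.bcFst k X K).continuous)
  let W := I.subschemeι ⁻¹ᵁ
    (Scheme.IdealSheafData.vanishingIdeal (T'.preimage (Curv2.bcFst k X K).continuous)).support.compl
  have hrW : Set.range (W.ι ≫ I.subschemeι) = Set.range i := by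
    rw [Scheme.Hom.comp_base, TopCat.coe_comp, Set.range_comp, Scheme.Opens.range_ι, hr]
    rw [show (W : Set I.subscheme) = I.subschemeι ⁻¹' (Curv2.bcFst k X K ⁻¹' (T' : Set X))ᶜ from by
      ext z; simp [W, Scheme.IdealSheafData.coe_support_vanishingIdeal]]
    rw [Set.image_preimage_eq_inter_range, Scheme.IdealSheafData.range_subschemeι,
      Scheme.IdealSheafData.coe_support_vanishingIdeal]
    ext y
    simp [and_comm]
  have : AlgebraicGeometry.IsReduced I.subscheme := Groth.PropsBasic2.isReduced_vanishingIdeal_subscheme _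
  obtain ⟨e, he⟩ := exists_iso_of_range_eq (W.ι ≫ I.subschemeι) i hrW
  show Smooth (W.ι ≫ I.subschemeι ≫ Curv2.bcSnd k X K)
  rw [← Category.assoc, ← he, Category.assoc]
  infer_instance

end Groth.VarietyBC.Stratify
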