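import Groth.Agent.Cycles.Excision
import Groth.Agent.Cycles.PushCyc
import Groth.Agent.CycInter.ExtProd

/-!
# Mayer–Vietoris for cycles modulo rational equivalence on a union of two closed subschemes
-/

set_option autoImplicit false
set_option linter.style.haveILetI false

universe u

open CategoryTheory AlgebraicGeometry

namespace Groth.VarietyBC.CyclesMV

open Groth.Cycles

variable {X Z : Scheme.{u}} (i : Z ⟶ X) [IsClosedImmersion i]

theorem map_apply_self (δ : X → ℤ) (c : AlgebraicCycle Z ℤ) (z : Z) :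
    AlgebraicCycle.map i (fun w => δ (i w)) δ c (i z) = c z := by
  classical
  rw [map_apply_eq_sum i _ δ c (i z) {z} fun w hw _ =>
      Finset.mem_singleton.mpr (i.isEmbedding.injective hw),
    Finset.sum_singleton, if_pos rfl]
  rw [show AlgebraicCycle.mapCoeff i (fun w => δ (i w)) δ z = 1 from mapCoeff_preimmersion i δ z,
    Nat.cast_one, mul_one]

theorem map_apply_of_notMem (δ : X → ℤ) (c : AlgebraicCycle Z ℤ) {x : X} (hx : x ∉ Set.range i) :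
    AlgebraicCycle.map i (fun w => δ (i w)) δ c x = 0 := by
  classical
  rw [map_apply_eq_sum i _ δ c x ∅ fun w hw _ => (hx ⟨w, hw⟩).elim, Finset.sum_empty]

/-- Functions dominated by the restriction of a cycle are cycles. -/
theorem exists_cycle_of_support (α : AlgebraicCycle X ℤ) (a : Z → ℤ)
    (ha : ∀ z, a z ≠ 0 → α (i z) ≠ 0) : ∃ β : AlgebraicCycle Z ℤ, ∀ z, β z = a z := by
  refine ⟨⟨a, Set.subset_univ _, fun z _ => ?_⟩, fun z => rfl⟩
  obtain ⟨U, hU, hfin⟩ := α.supportLocallyFiniteWithinDomain' (i z) trivial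
  refine ⟨i ⁻¹' U, i.continuous.continuousAt hU, ?_⟩
  refine (hfin.preimage i.isEmbedding.injective.injOn).subset ?_
  rintro w ⟨hwU, hw⟩
  exact ⟨hwU, ha w hw⟩

theorem divFun_preimmersion (δ : X → ℤ) {ξ z : Z} (F : X.residueField (i ξ)) :
    Cyc.divFun δ (i ξ) F (i z) = Cyc.divFun (fun w => δ (i w)) ξ ((i.residueFieldMap ξ).hom F) z := by
  by_cases h : ξ ⤳ z ∧ δ (i z) + 1 = δ (i ξ)
  · rw [Cyc.divFun, dif_pos ⟨h.1.map i.continuous, h.2⟩, Cyc.divFun, dif_pos h]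
    exact (ordAt_preimmersion i _ _ F).symm
  · rw [Cyc.divFun, dif_neg fun h' => h ⟨i.isEmbedding.isInducing.specializes_iff.mp h'.1, h'.2⟩,
      Cyc.divFun, dif_neg h]

theorem closure_subset_range {z : Z} : closure {i z} ⊆ Set.range i :=
  i.isClosedEmbedding.isClosed_range.closure_subset_iff.2 (Set.singleton_subset_iff.2 ⟨z, rfl⟩)

/-- A family of rational functions on subvarieties of `X` lying in `Z` gives a cycle on `Z` rationally
equivalent to zero with the same values. -/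
theorem exists_restrict {δ : X → ℤ} (hX : Cyc.IsSetup X δ) (k : ℤ) {ι : Type u} (ξ : ι → X)
    (f : (a : ι) → X.residueField (ξ a)) (hξ : ∀ a, δ (ξ a) = k + 1) (hf : ∀ a, f a ≠ 0)
    (hlf : ∀ x : X, ∃ U : Set X, IsOpen U ∧ x ∈ U ∧ {a | (closure {ξ a} ∩ U).Nonempty}.Finite)
    (hr : ∀ a, ξ a ∈ Set.range i) :
    ∃ D : AlgebraicCycle Z ℤ, Cyc.RatEquivZero (fun z => δ (i z)) k D ∧
      (∀ z, ∑ᶠ a, Cyc.divFun δ (ξ a) (f a) (i z) = D z) ∧
      ∀ x ∉ Set.range i, ∑ᶠ a, Cyc.divFun δ (ξ a) (f a) x = 0 := by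
  choose ζ hζ using hr
  obtain rfl : ξ = fun a => i (ζ a) := funext fun a => (hζ a).symm
  have hlfZ : ∀ z : Z, ∃ U : Set Z, IsOpen U ∧ z ∈ U ∧ {a | (closure {ζ a} ∩ U).Nonempty}.Finite := by
    intro z
    obtain ⟨U, hUo, hzU, hU⟩ := hlf (i z)
    refine ⟨i ⁻¹' U, hUo.preimage i.continuous, hzU, hU.subset ?_⟩
    rintro a ⟨w, hw, hwU⟩
    exact ⟨i w, specializes_iff_mem_closure.1 ((specializes_iff_mem_closure.2 hw).map i.continuous), hwU⟩
  let g : (a : ι) → Z.residueField (ζ a) := fun a => (i.residueFieldMap (ζ a)).hom (f a)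
  have hg : ∀ a, g a ≠ 0 := fun a => (map_ne_zero_iff _ (i.residueFieldMap _).hom.injective).mpr (hf a)
  obtain ⟨D, hD⟩ := exists_cycle_finsum_divFun (isSetup_closedImmersion i hX) ζ g hg hlfZ
  refine ⟨D, ⟨ι, ζ, g, hξ, hg, hlfZ, hD⟩, fun z => ?_, fun x hx => ?_⟩
  · exact (finsum_congr fun a => divFun_preimmersion i δ (f a)).trans (hD z).symm
  · exact finsum_eq_zero_of_forall_eq_zero fun a =>
      divFun_eq_zero_of_notMem _ fun h => hx (closure_subset_range i h)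

theorem finsum_split {ι : Type u} (a : ι → ℤ) (h : (Function.support a).Finite) (P : ι → Prop) :
    ∑ᶠ x, a x = (∑ᶠ x : {x // P x}, a x.1) + ∑ᶠ x : {x // ¬ P x}, a x.1 := by
  rw [finsum_subtype_eq_finsum_cond P, finsum_subtype_eq_finsum_cond fun x => ¬ P x]
  classical
  have e : ∀ Q : ι → Prop, (∑ᶠ (x) (_ : Q x), a x) = ∑ᶠ x, if Q x then a x else 0 := fun Q =>
    finsum_congr fun x => finsum_eq_if
  rw [e, e, ← finsum_add_distrib (h.subset fun x => by simp) (h.subset fun x => by simp)]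
  refine finsum_congr fun x => ?_
  by_cases hx : P x <;> simp [hx]

variable {X₁ X₂ Y : Scheme.{u}} (δ : X → ℤ)
  (i₁ : X₁ ⟶ X) (i₂ : X₂ ⟶ X) [IsClosedImmersion i₁] [IsClosedImmersion i₂]
  (hcov : Set.range i₁ ∪ Set.range i₂ = Set.univ)
include hcov

theorem exists_decomp (n : ℤ) (α : AlgebraicCycle X ℤ) (hα : α ∈ Cyc.Zk X δ n) :
    ∃ (α₁ : AlgebraicCycle X₁ ℤ) (α₂ : AlgebraicCycle X₂ ℤ),
      α₁ ∈ Cyc.Zk X₁ (fun x => δ (i₁ x)) n ∧ α₂ ∈ Cyc.Zk X₂ (fun x => δ (i₂ x)) n ∧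
      α = AlgebraicCycle.map i₁ (fun x => δ (i₁ x)) δ α₁ + AlgebraicCycle.map i₂ (fun x => δ (i₂ x)) δ α₂ := by
  classical
  obtain ⟨α₁, h₁⟩ := exists_cycle_of_support i₁ α (fun z => α (i₁ z)) fun z h => h
  obtain ⟨α₂, h₂⟩ := exists_cycle_of_support i₂ α
    (fun z => if i₂ z ∈ Set.range i₁ then 0 else α (i₂ z)) fun z h => by
      by_cases hz : i₂ z ∈ Set.range i₁
      · rw [if_pos hz] at h; exact (h rfl).elim
      · rwa [if_neg hz] at h
  refine ⟨α₁, α₂, fun z hz => (h₁ z).trans (hα _ hz), fun z hz => (h₂ z).trans ?_, ?_⟩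
  · split_ifs
    · rfl
    · exact hα _ hz
  ext x
  simp only [Function.locallyFinsuppWithin.coe_add, Pi.add_apply]
  rcases (hcov ▸ Set.mem_univ x : x ∈ Set.range i₁ ∪ Set.range i₂) with hx | hx
  · obtain ⟨z, rfl⟩ := hx
    rw [map_apply_self, h₁]
    by_cases hz : i₁ z ∈ Set.range i₂
    · obtain ⟨w, hw⟩ := hz
      rw [← hw, map_apply_self, h₂, if_pos ⟨z, hw.symm⟩, add_zero]
    · rw [map_apply_of_notMem i₂ δ α₂ hz, add_zero]
  · obtain ⟨w, rfl⟩ := hx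
    rw [map_apply_self, h₂]
    by_cases hw : i₂ w ∈ Set.range i₁
    · obtain ⟨z, hz⟩ := hw
      rw [if_pos ⟨z, hz⟩, ← hz, map_apply_self, h₁, add_zero]
    · rw [if_neg hw, map_apply_of_notMem i₁ δ α₁ hw, zero_add]

theorem exists_inter (hX : Cyc.IsSetup X δ) (j₁ : Y ⟶ X₁) (j₂ : Y ⟶ X₂) [IsClosedImmersion j₁]
    [IsClosedImmersion j₂] (hcomm : j₁ ≫ i₁ = j₂ ≫ i₂)
    (hY : Set.range (j₁ ≫ i₁) = Set.range i₁ ∩ Set.range i₂) (n : ℤ)
    (α₁ : AlgebraicCycle X₁ ℤ) (α₂ : AlgebraicCycle X₂ ℤ)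
    (h₁ : α₁ ∈ Cyc.Zk X₁ (fun x => δ (i₁ x)) n)
    (h : Cyc.RatEquivZero δ n
      (AlgebraicCycle.map i₁ (fun x => δ (i₁ x)) δ α₁ + AlgebraicCycle.map i₂ (fun x => δ (i₂ x)) δ α₂)) :
    ∃ γ : AlgebraicCycle Y ℤ, γ ∈ Cyc.Zk Y (fun y => δ (i₁ (j₁ y))) n ∧
      Cyc.RatEquiv (fun x => δ (i₁ x)) n α₁
        (AlgebraicCycle.map j₁ (fun y => δ (i₁ (j₁ y))) (fun x => δ (i₁ x)) γ) ∧
      Cyc.RatEquiv (fun x => δ (i₂ x)) n α₂
        (-AlgebraicCycle.map j₂ (fun y => δ (i₁ (j₁ y))) (fun x => δ (i₂ x)) γ) := by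
  classical
  obtain ⟨ι, ξ, f, hξ, hf, hlf, hc⟩ := h
  let P : ι → Prop := fun a => ξ a ∈ Set.range i₁
  have hlf' : ∀ (Q : ι → Prop) (x : X), ∃ U : Set X, IsOpen U ∧ x ∈ U ∧
      {a : {a // Q a} | (closure {ξ a.1} ∩ U).Nonempty}.Finite := fun Q x => by
    obtain ⟨U, hUo, hxU, hU⟩ := hlf x
    exact ⟨U, hUo, hxU, (hU.preimage (f := ((↑) : {a // Q a} → ι)) Subtype.val_injective.injOn).subset fun a ha => ha⟩
  obtain ⟨D₁, hD₁, hv₁, hz₁⟩ := exists_restrict i₁ hX n (fun a : {a // P a} => ξ a.1) (fun a => f a.1)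
    (fun a => hξ a.1) (fun a => hf a.1) (hlf' P) fun a => a.2
  obtain ⟨D₂, hD₂, hv₂, hz₂⟩ := exists_restrict i₂ hX n (fun a : {a // ¬ P a} => ξ a.1) (fun a => f a.1)
    (fun a => hξ a.1) (fun a => hf a.1) (hlf' _) fun a =>
      ((hcov ▸ Set.mem_univ (ξ a.1) : ξ a.1 ∈ Set.range i₁ ∪ Set.range i₂)).resolve_left a.2
  have hsum : ∀ x, AlgebraicCycle.map i₁ (fun x => δ (i₁ x)) δ α₁ x +
      AlgebraicCycle.map i₂ (fun x => δ (i₂ x)) δ α₂ x =
        (∑ᶠ a : {a // P a}, Cyc.divFun δ (ξ a.1) (f a.1) x) +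
          ∑ᶠ a : {a // ¬ P a}, Cyc.divFun δ (ξ a.1) (f a.1) x := fun x => by
    refine ((hc x).trans (finsum_split _ ?_ P))
    obtain ⟨U, -, hxU, hU⟩ := hlf x
    exact hU.subset fun a ha => ⟨x, by_contra fun h' => ha (divFun_eq_zero_of_notMem _ h'), hxU⟩
  have hD₁Z : ∀ z, δ (i₁ z) ≠ n → D₁ z = 0 := fun z hz => by
    rw [← hv₁]
    exact finsum_eq_zero_of_forall_eq_zero fun a =>
      divFun_eq_zero_of_delta _ (by have := hξ a.1; omega)
  obtain ⟨γ, hγ⟩ := exists_cycle_of_support j₁ (α₁ - D₁) (fun y => α₁ (j₁ y) - D₁ (j₁ y)) fun y hy => hy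
  have hjj : ∀ y, i₁ (j₁ y) = i₂ (j₂ y) := fun y => by
    rw [← Scheme.Hom.comp_apply, hcomm, Scheme.Hom.comp_apply]
  have e1 : ∀ z, α₁ z - AlgebraicCycle.map j₁ (fun y => δ (i₁ (j₁ y))) (fun x => δ (i₁ x)) γ z = D₁ z := by
    intro z
    by_cases hz : z ∈ Set.range j₁
    · obtain ⟨y, rfl⟩ := hz
      rw [map_apply_self j₁ (fun x => δ (i₁ x)), hγ]; ring
    · have hz' : i₁ z ∉ Set.range i₂ := fun hz' => by
        obtain ⟨y, hy⟩ : i₁ z ∈ Set.range (j₁ ≫ i₁) := hY ▸ ⟨⟨z, rfl⟩, hz'⟩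
        exact hz ⟨y, i₁.isEmbedding.injective hy⟩
      have := hsum (i₁ z)
      rw [map_apply_self, map_apply_of_notMem i₂ δ α₂ hz', add_zero, hv₁, hz₂ _ hz', add_zero] at this
      rw [map_apply_of_notMem j₁ (fun x => δ (i₁ x)) γ hz, sub_zero, this]
  have e2 : ∀ w, α₂ w + AlgebraicCycle.map j₂ (fun y => δ (i₁ (j₁ y))) (fun x => δ (i₂ x)) γ w = D₂ w := by
    have hfun : (fun y => δ (i₁ (j₁ y))) = fun y => δ (i₂ (j₂ y)) := funext fun y => by rw [hjj]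
    intro w
    rw [hfun]
    by_cases hw : w ∈ Set.range j₂
    · obtain ⟨y, rfl⟩ := hw
      have := hsum (i₂ (j₂ y))
      rw [map_apply_self i₂, ← hjj, map_apply_self i₁, hv₁] at this
      rw [hjj, hv₂] at this
      rw [map_apply_self j₂ (fun x => δ (i₂ x)), hγ]
      linarith
    · have hw' : i₂ w ∉ Set.range i₁ := fun hw' => by
        obtain ⟨y, hy⟩ : i₂ w ∈ Set.range (j₁ ≫ i₁) := hY ▸ ⟨hw', w, rfl⟩
        rw [hcomm] at hy
        exact hw ⟨y, i₂.isEmbedding.injective hy⟩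
      have := hsum (i₂ w)
      rw [map_apply_self i₂, map_apply_of_notMem i₁ δ α₁ hw', zero_add, hz₁ _ hw', zero_add, hv₂] at this
      rw [map_apply_of_notMem j₂ (fun x => δ (i₂ x)) γ hw, add_zero, this]
  refine ⟨γ, fun y hy => ?_, ?_, ?_⟩
  · rw [hγ, h₁ _ hy, hD₁Z _ hy]; rfl
  · show Cyc.RatEquivZero _ n (α₁ - _)
    convert hD₁ using 1
    ext z
    exact e1 z
  · show Cyc.RatEquivZero _ n (α₂ - -_)
    convert hD₂ using 1
    ext w
    rw [sub_neg_eq_add]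
    exact e2 w

end Groth.VarietyBC.CyclesMV
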