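import Groth.Agent.Pi1Tors.Points
import Groth.Prelude.Def_ChGrp
import Groth.Prelude.Def_NoriFGS

/-!
# Fibre products of torsors
-/

set_option autoImplicit false
set_option linter.style.haveILetI false

universe u

open CategoryTheory CategoryTheory.Limits MonoidalCategory CartesianMonoidalCategory MonObj GrpObj AlgebraicGeometry

namespace Groth.VarietyBC.TorsorFP

open Groth.Pi1Tors

variable {S : Scheme.{u}} {G G₁ G₂ Q T T₁ T₂ : Over S} [GrpObj G] [GrpObj G₁] [GrpObj G₂] [GrpObj Q]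

theorem dot_restrict {H : Over S} [GrpObj H] {X : Over S} (φ : H ⟶ G) [IsMonHom φ] (a : AlgGrp.Action G X)
    {U : Over S} (g : U ⟶ H) (x : U ⟶ X) : dot (a.restrict φ) g x = dot a (g ≫ φ) x :=
  AlgGrp.Action.lift_restrict_act φ a g x

theorem dot_comp_of_equivariant {X Y : Over S} {a : AlgGrp.Action G X} {b : AlgGrp.Action G Y} {f : X ⟶ Y}
    (h : AlgGrp.Action.IsEquivariant a b f) {U : Over S} (g : U ⟶ G) (x : U ⟶ X) :
    dot a g x ≫ f = dot b g (x ≫ f) := by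
  rw [dot, dot, Category.assoc, h, lift_whiskerLeft_assoc]

theorem equivariant_of_dot {X Y : Over S} {a : AlgGrp.Action G X} {b : AlgGrp.Action G Y} {f : X ⟶ Y}
    (h : ∀ (U : Over S) (g : U ⟶ G) (x : U ⟶ X), dot a g x ≫ f = dot b g (x ≫ f)) :
    AlgGrp.Action.IsEquivariant a b f := by
  have := h (G ⊗ X) (fst G X) (snd G X)
  rw [← act_eq_dot] at this
  show a.act ≫ f = _
  rw [this, dot]
  congr 1

variable {φ₁ : G₁ ⟶ G} {φ₂ : G₂ ⟶ G} [IsMonHom φ₁] [IsMonHom φ₂] {π₁ : Q ⟶ G₁} {π₂ : Q ⟶ G₂}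
  [IsMonHom π₁] [IsMonHom π₂]
  (b : AlgGrp.Action G T) (b₁ : AlgGrp.Action G₁ T₁) (b₂ : AlgGrp.Action G₂ T₂) {f₁ : T₁ ⟶ T} {f₂ : T₂ ⟶ T}
  (h₁ : AlgGrp.Action.IsEquivariant b₁ (b.restrict φ₁) f₁)
  (h₂ : AlgGrp.Action.IsEquivariant b₂ (b.restrict φ₂) f₂)
  (hQ : IsPullback π₁ π₂ φ₁ φ₂)
include h₁ h₂ hQ

theorem exists_action : ∃ c : AlgGrp.Action Q (pullback f₁ f₂),
    AlgGrp.Action.IsEquivariant c (b₁.restrict π₁) (pullback.fst f₁ f₂) ∧
    AlgGrp.Action.IsEquivariant c (b₂.restrict π₂) (pullback.snd f₁ f₂) ∧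
    (NonAbH1.IsPseudoTorsorSch b → NonAbH1.IsPseudoTorsorSch b₁ → NonAbH1.IsPseudoTorsorSch b₂ →
      NonAbH1.IsPseudoTorsorSch c) := by
  have hcond : dot b₁ (fst Q (pullback f₁ f₂) ≫ π₁) (snd Q (pullback f₁ f₂) ≫ pullback.fst f₁ f₂) ≫ f₁ =
      dot b₂ (fst Q (pullback f₁ f₂) ≫ π₂) (snd Q (pullback f₁ f₂) ≫ pullback.snd f₁ f₂) ≫ f₂ := by
    rw [dot_comp_of_equivariant h₁, dot_comp_of_equivariant h₂, dot_restrict, dot_restrict]
    simp only [Category.assoc, hQ.w, pullback.condition]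
  let act : Q ⊗ pullback f₁ f₂ ⟶ pullback f₁ f₂ := pullback.lift
    (dot b₁ (fst Q (pullback f₁ f₂) ≫ π₁) (snd Q (pullback f₁ f₂) ≫ pullback.fst f₁ f₂))
    (dot b₂ (fst Q (pullback f₁ f₂) ≫ π₂) (snd Q (pullback f₁ f₂) ≫ pullback.snd f₁ f₂)) hcond
  have hp₁ : ∀ (U : Over S) (g : U ⟶ Q) (x : U ⟶ pullback f₁ f₂),
      lift g x ≫ act ≫ pullback.fst f₁ f₂ = dot b₁ (g ≫ π₁) (x ≫ pullback.fst f₁ f₂) := fun U g x => by
    simp only [act, pullback.lift_fst, comp_dot, lift_fst_assoc, lift_snd_assoc]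
  have hp₂ : ∀ (U : Over S) (g : U ⟶ Q) (x : U ⟶ pullback f₁ f₂),
      lift g x ≫ act ≫ pullback.snd f₁ f₂ = dot b₂ (g ≫ π₂) (x ≫ pullback.snd f₁ f₂) := fun U g x => by
    simp only [act, pullback.lift_snd, comp_dot, lift_fst_assoc, lift_snd_assoc]
  have hone : ∀ (U : Over S) (x : U ⟶ pullback f₁ f₂), lift (1 : U ⟶ Q) x ≫ act = x := fun U x => by
    apply pullback.hom_ext
    · rw [Category.assoc, hp₁, MonObj.one_comp, one_dot]
    · rw [Category.assoc, hp₂, MonObj.one_comp, one_dot]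
  have hmul : ∀ (U : Over S) (g h : U ⟶ Q) (x : U ⟶ pullback f₁ f₂),
      lift (g * h) x ≫ act = lift g (lift h x ≫ act) ≫ act := fun U g h x => by
    apply pullback.hom_ext
    · rw [Category.assoc, Category.assoc, hp₁, hp₁, Category.assoc, hp₁, MonObj.mul_comp, mul_dot]
    · rw [Category.assoc, Category.assoc, hp₂, hp₂, Category.assoc, hp₂, MonObj.mul_comp, mul_dot]
  let c : AlgGrp.Action Q (pullback f₁ f₂) :=
    { act := act
      one_act := by
        have := hone (𝟙_ (Over S) ⊗ pullback f₁ f₂) (snd _ _)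
        have e : (η[Q] ▷ pullback f₁ f₂) = lift (1 : _ ⟶ Q) (snd _ _) := by
          apply CartesianMonoidalCategory.hom_ext
          · simp [Hom.one_def]
            rw [toUnit_unique (fst (𝟙_ (Over S)) (pullback f₁ f₂)) (toUnit _)]
          · simp
        rw [e, this, leftUnitor_hom]
      mul_act := by
        have := hmul ((Q ⊗ Q) ⊗ pullback f₁ f₂) (fst _ _ ≫ fst Q Q) (fst _ _ ≫ snd Q Q) (snd _ _)
        have e : (μ[Q] ▷ pullback f₁ f₂) =
            lift ((fst (Q ⊗ Q) (pullback f₁ f₂) ≫ fst Q Q) * (fst _ _ ≫ snd Q Q)) (snd _ _) := by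
          apply CartesianMonoidalCategory.hom_ext
          · rw [whiskerRight_fst, lift_fst, ← MonObj.comp_mul, Hom.mul_def, lift_fst_snd, Category.id_comp]
          · simp
        rw [e, this, ← Category.assoc]
        congr 1
        apply CartesianMonoidalCategory.hom_ext
        · simp
        · simp only [lift_snd, Category.assoc, whiskerLeft_snd]
          rw [← Category.assoc]
          congr 1
          apply CartesianMonoidalCategory.hom_ext <;> simp }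
  have hd₁ : ∀ (U : Over S) (g : U ⟶ Q) (x : U ⟶ pullback f₁ f₂),
      dot c g x ≫ pullback.fst f₁ f₂ = dot b₁ (g ≫ π₁) (x ≫ pullback.fst f₁ f₂) := fun U g x => by
    rw [dot, Category.assoc]; exact hp₁ U g x
  have hd₂ : ∀ (U : Over S) (g : U ⟶ Q) (x : U ⟶ pullback f₁ f₂),
      dot c g x ≫ pullback.snd f₁ f₂ = dot b₂ (g ≫ π₂) (x ≫ pullback.snd f₁ f₂) := fun U g x => by
    rw [dot, Category.assoc]; exact hp₂ U g x
  refine ⟨c, equivariant_of_dot fun U g x => ?_, equivariant_of_dot fun U g x => ?_,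
    fun hb hb₁ hb₂ => isPseudoTorsor_of_points c (fun U x y => ?_) fun U g g' x h => ?_⟩
  · rw [hd₁, dot_restrict]
  · rw [hd₂, dot_restrict]
  · obtain ⟨g₁, hg₁⟩ := exists_dot_eq b₁ hb₁ (x ≫ pullback.fst f₁ f₂) (y ≫ pullback.fst f₁ f₂)
    obtain ⟨g₂, hg₂⟩ := exists_dot_eq b₂ hb₂ (x ≫ pullback.snd f₁ f₂) (y ≫ pullback.snd f₁ f₂)
    have e₁ := congrArg (· ≫ f₁) hg₁
    have e₂ := congrArg (· ≫ f₂) hg₂
    simp only [dot_comp_of_equivariant h₁, dot_comp_of_equivariant h₂, dot_restrict, Category.assoc] at e₁ e₂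
    rw [← pullback.condition] at e₂
    refine ⟨hQ.lift g₁ g₂ (dot_cancel b hb (e₁.trans e₂.symm)), ?_⟩
    apply pullback.hom_ext
    · rw [hd₁, IsPullback.lift_fst, hg₁]
    · rw [hd₂, IsPullback.lift_snd, hg₂]
  · apply hQ.hom_ext
    · refine dot_cancel b₁ hb₁ (x := x ≫ pullback.fst f₁ f₂) ?_
      rw [← hd₁, ← hd₁, h]
    · refine dot_cancel b₂ hb₂ (x := x ≫ pullback.snd f₁ f₂) ?_
      rw [← hd₂, ← hd₂, h]

end Groth.VarietyBC.TorsorFP
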