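/-
Algebras of dimension less than the cardinality of the ground field: residue fields are algebraic and
the ring is Jacobson.
-/
import Mathlib

universe u

open Cardinal Polynomial

namespace Groth.VarietyBC.BigField

variable {K : Type u} [Field K]

theorem isAlgebraic_of_rank_lt {L : Type u} [Field L] [Algebra K L]
    (h : Module.rank K L < Cardinal.mk K) : Algebra.IsAlgebraic K L := by
  refine ⟨fun x => ?_⟩
  by_contra hx
  have hx' : Transcendental K x := hx
  exact absurd (hx'.linearIndependent_sub_inv.cardinal_le_rank) (not_le.2 h)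

theorem isAlgebraic_of_surjective {B L : Type u} [CommRing B] [Algebra K B] [Field L] [Algebra K L]
    (φ : B →ₐ[K] L) (hφ : Function.Surjective φ) (h : Module.rank K B < Cardinal.mk K) :
    Algebra.IsAlgebraic K L :=
  isAlgebraic_of_rank_lt ((LinearMap.rank_le_of_surjective φ.toLinearMap hφ).trans_lt h)

theorem rank_polynomial_lt {B : Type u} [CommRing B] [Algebra K B]
    (h0 : ℵ₀ < Cardinal.mk K) (h : Module.rank K B < Cardinal.mk K) :
    Module.rank K B[X] < Cardinal.mk K := by
  have e : Module.rank K B[X] = Module.rank K (ℕ →₀ B) :=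
    ((Polynomial.toFinsuppIsoLinear B).restrictScalars K).rank_eq.trans
      ((AddMonoidAlgebra.coeffLinearEquiv (S := B) (M := ℕ) K).rank_eq)
  rw [e, rank_finsupp]
  simpa using mul_lt_of_lt h0.le h0 h

theorem isJacobsonRing {B : Type u} [CommRing B] [Algebra K B]
    (h0 : ℵ₀ < Cardinal.mk K) (h : Module.rank K B < Cardinal.mk K) : IsJacobsonRing B := by
  rw [isJacobsonRing_iff_prime_eq]
  intro P hP
  refine le_antisymm (fun f hf => ?_) Ideal.le_jacobson
  by_contra hfP
  let f' : B ⧸ P := Ideal.Quotient.mk P f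
  have hf' : f' ≠ 0 := fun h => hfP (Ideal.Quotient.eq_zero_iff_mem.1 h)
  let D := Localization.Away f'
  haveI : Nontrivial D :=
    (IsLocalization.injective D (powers_le_nonZeroDivisors_of_noZeroDivisors hf')).nontrivial
  obtain ⟨N, hN⟩ := Ideal.exists_maximal D
  letI : Field (D ⧸ N) := Ideal.Quotient.field N
  let χ : B →ₐ[K] D ⧸ N :=
    (Ideal.Quotient.mkₐ K N).comp ((IsScalarTower.toAlgHom K (B ⧸ P) D).comp (Ideal.Quotient.mkₐ K P))
  have hu : χ f ≠ 0 :=
    ((IsLocalization.Away.algebraMap_isUnit (S := D) f').map (Ideal.Quotient.mk N)).ne_zero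
  let ψ : B[X] →ₐ[K] D ⧸ N := Polynomial.eval₂AlgHom χ (χ f)⁻¹ fun _ => Commute.all _ _
  have hψC : ∀ b, ψ (C b) = χ b := fun b => by simp [ψ]
  have hψX : ψ X = (χ f)⁻¹ := by simp [ψ]
  have hψ : Function.Surjective ψ := by
    intro z
    obtain ⟨d, rfl⟩ := Ideal.Quotient.mk_surjective z
    obtain ⟨⟨a, ⟨_, n, rfl⟩⟩, ha⟩ := IsLocalization.surj (Submonoid.powers f') d
    obtain ⟨b, rfl⟩ := Ideal.Quotient.mk_surjective a
    refine ⟨C b * X ^ n, ?_⟩
    rw [map_mul, map_pow, hψC, hψX, inv_pow, ← div_eq_mul_inv, div_eq_iff (pow_ne_zero _ hu)]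
    exact ((congrArg (Ideal.Quotient.mk N) ha).symm.trans (by simp [χ, f'] ))
  haveI := isAlgebraic_of_surjective ψ hψ (rank_polynomial_lt h0 h)
  have hχ : Function.Surjective χ := by
    have hinv : (χ f)⁻¹ ∈ χ.range :=
      χ.range.inv_mem_of_algebraic (x := ⟨χ f, ⟨f, rfl⟩⟩) (Algebra.IsAlgebraic.isAlgebraic _)
    intro z
    obtain ⟨p, rfl⟩ := hψ z
    change ψ p ∈ χ.range
    induction p using Polynomial.induction_on with
    | C a => rw [hψC]; exact ⟨a, rfl⟩
    | add p q hp hq => rw [map_add]; exact add_mem hp hq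
    | monomial n a _ =>
      rw [map_mul, map_pow, hψC, hψX]
      exact mul_mem ⟨a, rfl⟩ (pow_mem hinv _)
  have hmax : (RingHom.ker χ.toRingHom).IsMaximal := RingHom.ker_isMaximal_of_surjective _ hχ
  have hle : P ≤ RingHom.ker χ.toRingHom := fun b hb => by
    simp [RingHom.mem_ker, χ, Ideal.Quotient.eq_zero_iff_mem.2 hb]
  exact hu ((Ideal.mem_sInf.1 hf) ⟨hle, hmax⟩)

end Groth.VarietyBC.BigField
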