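import Mathlib
import Groth.Agent.Calg6.PowerSeries
import Groth.Agent.ArtfunDeform.Schlessinger
import Groth.Agent.AdicLinTop.CompletionQuot

/-!
# Completions of localizations of base changes to a field

If `R̂ ≅ κ⟦x⟧/(g)` compatibly with residue fields and `B` is a localization of `R ⊗_k K` with
`m_R B = m_B`, then `B̂ ≅ κ(B)⟦x⟧/(g)`.
-/

set_option autoImplicit false

universe u

open scoped TensorProduct
open IsLocalRing MvPowerSeries Groth.SGA7.PS

namespace Groth.VarietyBC.CompletionBC

section general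

variable {C T : Type u} [CommRing C] [CommRing T] {J : Ideal C} {L : Ideal T}

/-- Continuous maps out of a completion are determined on the ring. -/
theorem completion_ext (hJ : J.FG) [IsHausdorff L T] (f g : AdicCompletion J C →+* T)
    (hf : (J.map (algebraMap C (AdicCompletion J C))).map f ≤ L)
    (hg : (J.map (algebraMap C (AdicCompletion J C))).map g ≤ L)
    (h : ∀ c, f (algebraMap C _ c) = g (algebraMap C _ c)) : f = g := by
  refine RingHom.ext fun x => sub_eq_zero.1 (IsHausdorff.haus' (I := L) _ fun n => ?_)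
  rw [SModEq.zero, smul_eq_mul, Ideal.mul_top]
  obtain ⟨c, hc⟩ := Ideal.Quotient.mk_surjective (AdicCompletion.evalₐ J n x)
  have hx : x - algebraMap C _ c ∈ (J.map (algebraMap C (AdicCompletion J C))) ^ n := by
    rw [← Groth.AdicLinTop.CompletionQuot.ker_evalₐ J hJ n, RingHom.mem_ker]
    show AdicCompletion.evalₐ J n _ = 0
    rw [map_sub, Groth.AdicLinTop.CompletionQuot.evalₐ_algebraMap, hc, sub_self]
  have hle : ∀ e : AdicCompletion J C →+* T, (J.map (algebraMap C (AdicCompletion J C))).map e ≤ L →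
      e (x - algebraMap C _ c) ∈ L ^ n := fun e he => by
    have := Ideal.mem_map_of_mem e hx
    rw [Ideal.map_pow] at this
    exact Ideal.pow_right_mono he n this
  have : f x - g x = f (x - algebraMap C _ c) - g (x - algebraMap C _ c) := by
    rw [map_sub, map_sub, h c]; ring
  rw [this]
  exact sub_mem (hle f hf) (hle g hg)

/-- A map to an adically complete ring extends to the completion. -/
theorem exists_extend [IsAdicComplete L T] (h : C →+* T) (hh : J.map h ≤ L) :
    ∃ e : AdicCompletion J C →+* T, ∀ c, e (algebraMap C _ c) = h c := by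
  have hp : ∀ n, J ^ n ≤ (L ^ n).comap h := fun n =>
    (Ideal.pow_right_mono (Ideal.map_le_iff_le_comap.1 hh) n).trans (Ideal.le_comap_pow h n)
  let f : (n : ℕ) → AdicCompletion J C →+* T ⧸ L ^ n := fun n =>
    (Ideal.quotientMap (L ^ n) h (hp n)).comp (AdicCompletion.evalₐ J n).toRingHom
  have hf : ∀ {m n : ℕ} (hle : m ≤ n), (Ideal.Quotient.factorPow L hle).comp (f n) = f m := by
    intro m n hle
    refine RingHom.ext fun x => ?_
    obtain ⟨a, rfl⟩ := AdicCompletion.mk_surjective J C x
    simp only [f, RingHom.comp_apply, AlgHom.toRingHom_eq_coe, RingHom.coe_coe, AdicCompletion.evalₐ_mk,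
      Ideal.quotientMap_mk, Ideal.Quotient.factor_mk]
    rw [Ideal.Quotient.eq, ← map_sub]
    refine Ideal.mem_comap.1 (hp m ?_)
    have hy := a.2 hle
    rw [SModEq.sub_mem, smul_eq_mul, Ideal.mul_top] at hy
    rw [← neg_sub]
    exact neg_mem hy
  refine ⟨IsAdicComplete.liftRingHom L f hf, fun c => sub_eq_zero.1 (IsHausdorff.haus' (I := L) _ fun n => ?_)⟩
  rw [SModEq.zero, smul_eq_mul, Ideal.mul_top, ← Ideal.Quotient.eq_zero_iff_mem, map_sub,
    IsAdicComplete.mk_liftRingHom, sub_eq_zero]
  show Ideal.quotientMap (L ^ n) h (hp n) (AdicCompletion.evalₐ J n (algebraMap C (AdicCompletion J C) c)) = _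
  rw [Groth.AdicLinTop.CompletionQuot.evalₐ_algebraMap, Ideal.quotientMap_mk]

/-- Continuous maps out of power series are determined on constants and variables. -/
theorem powerSeries_ext {σ : Type} [Fintype σ] [IsHausdorff L T] (f g : MvPowerSeries σ C →+* T)
    (hf : ∀ i, f (X i) ∈ L) (hC : ∀ c, f (MvPowerSeries.C c) = g (MvPowerSeries.C c))
    (hX : ∀ i, f (X i) = g (X i)) : f = g := by
  refine RingHom.ext fun x => sub_eq_zero.1 (IsHausdorff.haus' (I := L) _ fun n => ?_)
  rw [SModEq.zero, smul_eq_mul, Ideal.mul_top]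
  let c : MvPolynomial σ C →+* MvPowerSeries σ C := MvPolynomial.coeToMvPowerSeries.ringHom
  have hpoly : f.comp c = g.comp c :=
    MvPolynomial.ringHom_ext (fun r => by simpa [c] using hC r) (fun i => by simpa [c] using hX i)
  let p := truncTotal n x
  have hmem : x - c p ∈ varIdeal σ C ^ n := by
    refine mem_varIdeal_pow n _ fun d hd => ?_
    simp [c, p, coeff_truncTotal _ hd]
  have hle : ∀ e : MvPowerSeries σ C →+* T, (∀ i, e (X i) ∈ L) → e (x - c p) ∈ L ^ n := fun e he => by
    have h1 : (varIdeal σ C).map e ≤ L := by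
      rw [varIdeal, Ideal.map_span, Ideal.span_le]
      rintro _ ⟨_, ⟨i, rfl⟩, rfl⟩
      exact he i
    have := Ideal.mem_map_of_mem e hmem
    rw [Ideal.map_pow] at this
    exact Ideal.pow_right_mono h1 n this
  have hh : f (c p) = g (c p) := RingHom.congr_fun hpoly p
  have : f x - g x = f (x - c p) - g (x - c p) := by rw [map_sub, map_sub, hh]; ring
  rw [this]
  exact sub_mem (hle f hf) (hle g fun i => hX i ▸ hf i)

/-- Ring maps out of a tensor product are determined on the two factors. -/
theorem tensor_ringHom_ext {k A A' : Type u} [CommRing k] [CommRing A] [CommRing A'] [Algebra k A] [Algebra k A']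
    {f g : A ⊗[k] A' →+* T} (h₁ : ∀ a, f (a ⊗ₜ 1) = g (a ⊗ₜ 1)) (h₂ : ∀ c, f (1 ⊗ₜ c) = g (1 ⊗ₜ c)) :
    f = g := by
  refine RingHom.ext fun x => ?_
  induction x using TensorProduct.induction_on with
  | zero => rw [map_zero, map_zero]
  | tmul a c =>
    rw [show a ⊗ₜ[k] c = (a ⊗ₜ 1) * (1 ⊗ₜ c) by simp, map_mul, map_mul, h₁, h₂]
  | add a b ha hb => rw [map_add, map_add, ha, hb]

end general

variable {k R K B : Type u} [Field k] [CommRing R] [IsLocalRing R] [IsNoetherianRing R] [Algebra k R]
  [Field K] [Algebra k K] [CommRing B] [IsLocalRing B] [IsNoetherianRing B] [Algebra K B]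

/-- Base change to a field of a presentation of the completion. -/
theorem exists_algEquiv (ι : R ⊗[k] K →+* B) (φ : R →+* B) [IsLocalHom φ]
    (hι₁ : ∀ r, ι (r ⊗ₜ 1) = φ r) (hι₂ : ∀ c, ι (1 ⊗ₜ c) = algebraMap K B c)
    (P : Ideal (R ⊗[k] K)) [P.IsPrime]
    (hloc : letI := ι.toAlgebra; IsLocalization.AtPrime B P)
    (hm : (maximalIdeal R).map φ = maximalIdeal B) {n : ℕ} {J : Type} [Finite J]
    (g : J → MvPowerSeries (Fin n) (ResidueField R))
    (e : (MvPowerSeries (Fin n) (ResidueField R) ⧸ Ideal.span (Set.range g)) ≃ₐ[k]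
      AdicCompletion (maximalIdeal R) R)
    (he : ∀ a : R, e (Ideal.Quotient.mk _ (MvPowerSeries.C (residue R a))) -
        algebraMap R (AdicCompletion (maximalIdeal R) R) a ∈
      (maximalIdeal R).map (algebraMap R (AdicCompletion (maximalIdeal R) R))) :
    ∃ e' : (MvPowerSeries (Fin n) (ResidueField B) ⧸ Ideal.span (Set.range fun j =>
        MvPowerSeries.map (σ := Fin n) (ResidueField.map φ) (g j))) ≃ₐ[K]
        AdicCompletion (maximalIdeal B) B,
      ∀ b : B, e' (Ideal.Quotient.mk _ (MvPowerSeries.C (residue B b))) -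
          algebraMap B (AdicCompletion (maximalIdeal B) B) b ∈
        (maximalIdeal B).map (algebraMap B (AdicCompletion (maximalIdeal B) B)) := by
  letI := ι.toAlgebra
  haveI : IsLocalization.AtPrime B P := hloc
  let Rh := AdicCompletion (maximalIdeal R) R
  let Bh := AdicCompletion (maximalIdeal B) B
  haveI : IsLocalRing Rh := AdicCompletion.isLocalRing_of_fg (IsNoetherian.noetherian _)
  haveI : IsLocalRing Bh := AdicCompletion.isLocalRing_of_fg (IsNoetherian.noetherian _)
  let MR : Ideal Rh := (maximalIdeal R).map (algebraMap R Rh)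
  let MB : Ideal Bh := (maximalIdeal B).map (algebraMap B Bh)
  have hMR : MR = maximalIdeal Rh := (AdicCompletion.maximalIdeal_eq_map_of_fg (IsNoetherian.noetherian _)).symm
  have hMB : MB = maximalIdeal Bh := (AdicCompletion.maximalIdeal_eq_map_of_fg (IsNoetherian.noetherian _)).symm
  haveI : IsAdicComplete MB Bh := Groth.AdicLinTop.CompletionQuot.isAdicComplete_map _ (IsNoetherian.noetherian _)
  -- the completed map
  obtain ⟨φh, hφh⟩ := exists_extend (J := maximalIdeal R) (L := MB) ((algebraMap B Bh).comp φ)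
    (by rw [← Ideal.map_map, hm])
  have hφM : MR.map φh ≤ MB := by
    rw [Ideal.map_map, show φh.comp (algebraMap R Rh) = (algebraMap B Bh).comp φ from RingHom.ext hφh,
      ← Ideal.map_map, hm]
  -- units of `Bh`
  have hunit : ∀ b : B, b ∉ maximalIdeal B → IsUnit (algebraMap B Bh b) := fun b hb =>
    (notMem_maximalIdeal.1 hb).map _
  have hP : ∀ t, t ∈ P ↔ ι t ∈ maximalIdeal B := fun t =>
    (IsLocalization.AtPrime.to_map_mem_maximal_iff B P t).symm
  -- the residue map on `κ ⊗ K`
  let κ := ResidueField R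
  let κ' := ResidueField B
  letI : Algebra k κ' := ((algebraMap K κ').comp (algebraMap k K)).toAlgebra
  haveI : IsScalarTower k K κ' := IsScalarTower.of_algebraMap_eq fun _ => rfl
  letI : Algebra k Bh := ((algebraMap B Bh).comp ((algebraMap K B).comp (algebraMap k K))).toAlgebra
  have hkφ : ∀ c : k, φ (algebraMap k R c) = algebraMap K B (algebraMap k K c) := fun c => by
    rw [← hι₁, ← hι₂, Algebra.algebraMap_eq_smul_one, TensorProduct.smul_tmul,
      ← Algebra.algebraMap_eq_smul_one]
  let rmap : κ →ₐ[k] κ' :=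
    { ResidueField.map φ with
      commutes' := fun c => by
        show ResidueField.map φ (residue R (algebraMap k R c)) = _
        rw [ResidueField.map_residue, hkφ]; rfl }
  let q : κ ⊗[k] K →ₐ[k] κ' :=
    Algebra.TensorProduct.lift rmap (IsScalarTower.toAlgHom k K κ') (fun _ _ => Commute.all _ _)
  have hq : ∀ (a : κ) (c : K), q (a ⊗ₜ c) = ResidueField.map φ a * algebraMap K κ' c := fun a c =>
    Algebra.TensorProduct.lift_tmul _ _ _ _ _
  let π : R ⊗[k] K →ₐ[k] κ ⊗[k] K :=
    Algebra.TensorProduct.map (IsScalarTower.toAlgHom k R κ) (AlgHom.id k K)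
  have hπq : ∀ t, q (π t) = residue B (ι t) := fun t => by
    induction t using TensorProduct.induction_on with
    | zero => simp
    | tmul r c =>
      rw [show (r ⊗ₜ[k] c) = (r ⊗ₜ 1) * (1 ⊗ₜ c) by simp, map_mul, map_mul, map_mul, map_mul, hι₁, hι₂]
      congr 1
      · show q (residue R r ⊗ₜ 1) = _
        rw [hq, map_one, mul_one, ResidueField.map_residue]
      · show q ((algebraMap R κ (1 : R)) ⊗ₜ c) = _
        rw [map_one, hq, map_one, one_mul]; rfl
    | add a b ha hb => simp [map_add, ha, hb]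
  have hπsurj : Function.Surjective π :=
    Algebra.TensorProduct.map_surjective _ _ residue_surjective Function.surjective_id
  haveI := RingHom.ker_isPrime q.toRingHom
  let M : Submonoid (κ ⊗[k] K) := (RingHom.ker q.toRingHom).primeCompl
  have hmemM : ∀ s, s ∈ M ↔ q s ≠ 0 := fun s => not_congr (RingHom.mem_ker (f := q.toRingHom))
  letI : Algebra (κ ⊗[k] K) κ' := q.toRingHom.toAlgebra
  have hkill : ∀ w, q w = 0 → ∃ s : κ ⊗[k] K, q s ≠ 0 ∧ s * w = 0 := by
    intro w hw
    obtain ⟨t, rfl⟩ := hπsurj w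
    rw [hπq, residue_eq_zero_iff, ← hm] at hw
    have hI : (maximalIdeal R).map φ =
        ((maximalIdeal R).map (Algebra.TensorProduct.includeLeftRingHom : R →+* R ⊗[k] K)).map
          (algebraMap (R ⊗[k] K) B) := by
      rw [Ideal.map_map]
      congr 1
      exact RingHom.ext fun r => (hι₁ r).symm
    obtain ⟨⟨⟨a, ha⟩, ⟨s, hs⟩⟩, h⟩ :=
      (IsLocalization.mem_map_algebraMap_iff P.primeCompl B).1 (hI ▸ hw : ι t ∈ _)
    obtain ⟨⟨c, hc⟩, h'⟩ := (IsLocalization.eq_iff_exists P.primeCompl B).1
      (show algebraMap (R ⊗[k] K) B (t * s) = algebraMap _ B a by rw [map_mul]; exact h)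
    refine ⟨π (c * s), ?_, ?_⟩
    · rw [hπq, Ne, residue_eq_zero_iff, ← hP]
      exact fun hcs => ((inferInstance : P.IsPrime).mem_or_mem hcs).elim hc hs
    · rw [← map_mul, show c * s * t = c * a by rw [mul_assoc, mul_comm s t]; exact h']
      have h0 : ((maximalIdeal R).map (Algebra.TensorProduct.includeLeftRingHom : R →+* R ⊗[k] K)).map
          π.toRingHom = ⊥ := by
        rw [Ideal.map_map, Ideal.map_eq_bot_iff_le_ker]
        intro r hr
        show algebraMap R κ r ⊗ₜ[k] (1 : K) = 0
        rw [ResidueField.algebraMap_eq, (residue_eq_zero_iff r).2 hr, TensorProduct.zero_tmul]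
      have := Ideal.mem_map_of_mem π.toRingHom ha
      rw [h0, Ideal.mem_bot] at this
      rw [map_mul, show π a = 0 from this, mul_zero]
  haveI : IsLocalization M κ' :=
    { map_units := fun s => isUnit_iff_ne_zero.2 ((hmemM _).1 s.2)
      surj := fun z => by
        obtain ⟨b, rfl⟩ := residue_surjective z
        obtain ⟨⟨a, ⟨s, hs⟩⟩, h⟩ := IsLocalization.surj P.primeCompl b
        refine ⟨⟨π a, ⟨π s, ?_⟩⟩, ?_⟩
        · rw [hmemM, hπq, Ne, residue_eq_zero_iff, ← hP]; exact hs
        · show residue B b * q (π s) = q (π a)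
          rw [hπq, hπq, ← map_mul]
          exact congrArg (residue B) h
      exists_of_eq := fun {x y} hxy => by
        obtain ⟨s, hs, h⟩ := hkill (x - y) (by rw [map_sub]; exact sub_eq_zero.2 hxy)
        exact ⟨⟨s, (hmemM s).2 hs⟩, sub_eq_zero.1 (by rwa [← mul_sub])⟩ }
  -- the coefficient field of `Rh`
  let σ₀ : κ →+* Rh := (e.toRingHom.comp (Ideal.Quotient.mk _)).comp MvPowerSeries.C
  have hσ₀ : ∀ a : R, σ₀ (residue R a) - algebraMap R Rh a ∈ MR := he
  have hσk : ∀ c : k, φh (σ₀ (algebraMap k κ c)) = algebraMap k Bh c := fun c => by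
    show φh (e (Ideal.Quotient.mk _ (MvPowerSeries.C (algebraMap k κ c)))) = _
    rw [show (MvPowerSeries.C (algebraMap k κ c) : MvPowerSeries (Fin n) κ) = algebraMap k _ c from
        (MvPowerSeries.algebraMap_apply (r := c)).symm,
      show e (Ideal.Quotient.mk _ (algebraMap k (MvPowerSeries (Fin n) κ) c)) =
      algebraMap R Rh (algebraMap k R c) from (e.commutes c).trans (IsScalarTower.algebraMap_apply k R Rh c),
      hφh, RingHom.comp_apply, hkφ]
    rfl
  let σh : κ →ₐ[k] Bh := { φh.comp σ₀ with commutes' := hσk }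
  let τK : K →ₐ[k] Bh := { (algebraMap B Bh).comp (algebraMap K B) with commutes' := fun _ => rfl }
  let ψ : κ ⊗[k] K →ₐ[k] Bh := Algebra.TensorProduct.lift σh τK (fun _ _ => Commute.all _ _)
  have hψ : ∀ (a : κ) (c : K), ψ (a ⊗ₜ c) = φh (σ₀ a) * algebraMap B Bh (algebraMap K B c) := fun a c =>
    Algebra.TensorProduct.lift_tmul _ _ _ _ _
  have hψres : ∀ t, ψ (π t) - algebraMap B Bh (ι t) ∈ MB := fun t => by
    induction t using TensorProduct.induction_on with
    | zero => simp
    | tmul r c =>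
      have h1 : ι (r ⊗ₜ c) = φ r * algebraMap K B c := by
        rw [← hι₁, ← hι₂, ← map_mul, Algebra.TensorProduct.tmul_mul_tmul, mul_one, one_mul]
      show ψ (residue R r ⊗ₜ c) - _ ∈ MB
      rw [h1, hψ, map_mul, ← sub_mul]
      refine MB.mul_mem_right _ ?_
      rw [← show φh (algebraMap R Rh r) = algebraMap B Bh (φ r) from hφh r, ← map_sub]
      exact hφM (Ideal.mem_map_of_mem φh (hσ₀ r))
    | add a b ha hb =>
      rw [map_add, map_add, map_add, map_add, add_sub_add_comm]
      exact add_mem ha hb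
  have hψu : ∀ s : M, IsUnit (ψ s) := fun ⟨s, hs⟩ => by
    obtain ⟨t, rfl⟩ := hπsurj s
    refine notMem_maximalIdeal.1 fun h => (hmemM _).1 hs ?_
    rw [hπq, residue_eq_zero_iff]
    by_contra hb
    have h2 : algebraMap B Bh (ι t) ∈ maximalIdeal Bh := by
      have h3 := sub_mem h (hMB ▸ hψres t : ψ (π t) - algebraMap B Bh (ι t) ∈ maximalIdeal Bh)
      rwa [sub_sub_cancel] at h3
    exact (mem_maximalIdeal _).1 h2 (hunit _ hb)
  let τ : κ' →+* Bh := IsLocalization.lift (g := ψ.toRingHom) hψu
  have hτ : ∀ w, τ (q w) = ψ w := fun w => IsLocalization.lift_eq hψu w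
  have hτr : ∀ a : κ, τ (ResidueField.map φ a) = φh (σ₀ a) := fun a => by
    have := hτ (a ⊗ₜ 1)
    rwa [hq, hψ, map_one, mul_one, map_one, map_one, mul_one] at this
  have hτK : ∀ c : K, τ (algebraMap K κ' c) = algebraMap B Bh (algebraMap K B c) := fun c => by
    have := hτ (1 ⊗ₜ c)
    rwa [hq, hψ, map_one, one_mul, map_one, map_one, one_mul] at this
  have hτres : ∀ b : B, τ (residue B b) - algebraMap B Bh b ∈ MB := fun b => by
    obtain ⟨⟨a, ⟨s, hs⟩⟩, h⟩ := IsLocalization.surj P.primeCompl b
    have hs' : IsUnit (algebraMap B Bh (ι s)) := hunit _ ((hP s).not.1 hs)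
    have h1 : τ (residue B b) * ψ (π s) = ψ (π a) := by
      rw [← hτ, ← hτ, ← map_mul, hπq, hπq, ← map_mul]
      exact congrArg (fun z => τ (residue B z)) h
    have h2 : algebraMap B Bh b * algebraMap B Bh (ι s) = algebraMap B Bh (ι a) := by
      rw [← map_mul]; exact congrArg _ h
    have h3 : (τ (residue B b) - algebraMap B Bh b) * algebraMap B Bh (ι s) ∈ MB := by
      have : (τ (residue B b) - algebraMap B Bh b) * algebraMap B Bh (ι s) =
          (ψ (π a) - algebraMap B Bh (ι a)) - τ (residue B b) * (ψ (π s) - algebraMap B Bh (ι s)) := by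
        rw [mul_sub, h1, ← h2]; ring
      rw [this]
      exact sub_mem (hψres a) (MB.mul_mem_left _ (hψres s))
    exact (MB.mul_unit_mem_iff_mem hs').1 h3
  -- the map `κ'⟦X⟧ ⟶ Bh`
  let S := MvPowerSeries (Fin n) κ
  let S' := MvPowerSeries (Fin n) κ'
  let I : Ideal S := Ideal.span (Set.range g)
  let I' : Ideal S' := Ideal.span (Set.range fun j => MvPowerSeries.map (σ := Fin n) (ResidueField.map φ) (g j))
  let er : S →+* Rh := e.toRingHom.comp (Ideal.Quotient.mk I)
  have hX : ∀ i, er (X i) ∈ MR := fun i => by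
    rw [hMR, mem_maximalIdeal, mem_nonunits_iff]
    intro hu
    have hu' : IsUnit (Ideal.Quotient.mk I (X i : S)) := by
      have h0 := hu.map e.symm
      rwa [show e.symm (er (X i)) = Ideal.Quotient.mk I (X i) from e.symm_apply_apply _] at h0
    haveI : Nontrivial (S ⧸ I) := e.toEquiv.nontrivial
    haveI : IsLocalHom (Ideal.Quotient.mk I : S →+* S ⧸ I) :=
      IsLocalHom.of_surjective _ Ideal.Quotient.mk_surjective
    have := (isUnit_map_iff (Ideal.Quotient.mk I) (X i : S)).1 hu'
    rw [isUnit_iff_constantCoeff] at this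
    simp at this
  letI : Algebra κ' Bh := τ.toAlgebra
  let a : Fin n → Bh := fun i => φh (er (X i))
  have ha : ∀ i, a i ∈ MB := fun i => hφM (Ideal.mem_map_of_mem φh (hX i))
  let F : S' →ₐ[κ'] Bh := Groth.Calg6.evalAdic MB a ha
  have hFX : ∀ i, F (X i) = a i := Groth.Calg6.evalAdic_X MB a ha
  have hFC : ∀ c : κ', F (MvPowerSeries.C c) = τ c := fun c => F.commutes c
  let mp : S →+* S' := MvPowerSeries.map (σ := Fin n) (ResidueField.map φ)
  have hFmap : F.toRingHom.comp mp = φh.comp er :=
    powerSeries_ext (L := MB) _ _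
      (fun i => by
        show F (MvPowerSeries.map (ResidueField.map φ) (X i)) ∈ MB
        rw [map_X, hFX]; exact ha i)
      (fun c => by
        show F (MvPowerSeries.map (ResidueField.map φ) (MvPowerSeries.C c)) = φh (σ₀ c)
        rw [map_C, hFC, hτr])
      (fun i => by
        show F (MvPowerSeries.map (ResidueField.map φ) (X i)) = a i
        rw [map_X, hFX])
  have hFI : ∀ z ∈ I', F z = 0 := by
    suffices I' ≤ RingHom.ker F.toRingHom from fun z hz => this hz
    refine Ideal.span_le.2 ?_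
    rintro _ ⟨j, rfl⟩
    show F (mp (g j)) = 0
    rw [show F (mp (g j)) = φh (er (g j)) from RingHom.congr_fun hFmap (g j)]
    simp [er, I, Ideal.Quotient.eq_zero_iff_mem.2 (Ideal.subset_span (Set.mem_range_self j))]
  let F' : (S' ⧸ I') →+* Bh := Ideal.Quotient.lift I' F.toRingHom hFI
  -- the inverse map
  let Q := S' ⧸ I'
  let L : Ideal Q := (varIdeal (Fin n) κ').map (Ideal.Quotient.mk I')
  haveI : Nontrivial Q := F'.domain_nontrivial
  haveI : IsLocalRing Q := .of_surjective' (Ideal.Quotient.mk I') Ideal.Quotient.mk_surjective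
  have hL : L = maximalIdeal Q := by
    show (varIdeal (Fin n) κ').map _ = _
    rw [← maximalIdeal_eq, IsLocalRing.map_maximalIdeal_of_surjective _ Ideal.Quotient.mk_surjective]
  haveI : IsNoetherianRing S' := inferInstance
  haveI : IsAdicComplete L Q := by
    rw [hL]
    haveI : IsAdicComplete (maximalIdeal S') S' := by
      rw [maximalIdeal_eq]; exact Groth.Calg6.isAdicComplete_varIdeal
    exact Groth.ArtfunDeform.isAdicComplete_of_surjective (Ideal.Quotient.mk I') Ideal.Quotient.mk_surjective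
  let ψ₁ : S →+* Q := (Ideal.Quotient.mk I').comp mp
  have hψ₁ : ∀ z ∈ I, ψ₁ z = 0 := by
    suffices I ≤ RingHom.ker ψ₁ from fun z hz => this hz
    refine Ideal.span_le.2 ?_
    rintro _ ⟨j, rfl⟩
    exact Ideal.Quotient.eq_zero_iff_mem.2 (Ideal.subset_span ⟨j, rfl⟩)
  let ψR : Rh →+* Q := (Ideal.Quotient.lift I ψ₁ hψ₁).comp e.symm.toRingHom
  have hψR : ∀ z : S, ψR (er z) = ψ₁ z := fun z => by
    show Ideal.Quotient.lift I ψ₁ hψ₁ (e.symm (e (Ideal.Quotient.mk I z))) = _
    rw [e.symm_apply_apply, Ideal.Quotient.lift_mk]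
  have hψRM : MR.map ψR ≤ L := by
    refine Ideal.map_le_iff_le_comap.2 fun x hx => ?_
    rw [Ideal.mem_comap, hL, mem_maximalIdeal, mem_nonunits_iff]
    obtain ⟨z, rfl⟩ : ∃ z, er z = x := by
      obtain ⟨y, hy⟩ := e.surjective x
      obtain ⟨z, rfl⟩ := Ideal.Quotient.mk_surjective y
      exact ⟨z, hy⟩
    rw [hψR]
    intro hu
    haveI : IsLocalHom (Ideal.Quotient.mk I' : S' →+* Q) :=
      IsLocalHom.of_surjective _ Ideal.Quotient.mk_surjective
    have hu' : IsUnit (mp z) := (isUnit_map_iff (Ideal.Quotient.mk I') (mp z)).1 hu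
    rw [isUnit_iff_constantCoeff] at hu'
    have hz : IsUnit z := by
      rw [isUnit_iff_constantCoeff, isUnit_iff_ne_zero]
      intro h0
      exact hu'.ne_zero ((constantCoeff_map (f := ResidueField.map φ) z).trans ((congrArg (ResidueField.map φ) h0).trans (map_zero _)))
    rw [hMR, mem_maximalIdeal, mem_nonunits_iff] at hx
    exact hx (hz.map er)
  let mkC : κ' →+* Q := (Ideal.Quotient.mk I').comp MvPowerSeries.C
  have hψRk : ∀ c : k, ψR (algebraMap R Rh (algebraMap k R c)) = mkC (algebraMap k κ' c) := fun c => by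
    rw [← IsScalarTower.algebraMap_apply k R Rh c, show algebraMap k Rh c = er (algebraMap k S c) from (e.commutes c).symm,
      hψR, show algebraMap k S c = MvPowerSeries.C (algebraMap k κ c) from MvPowerSeries.algebraMap_apply]
    show Ideal.Quotient.mk I' (MvPowerSeries.map (ResidueField.map φ) (MvPowerSeries.C (algebraMap k κ c))) = Ideal.Quotient.mk I' (MvPowerSeries.C (algebraMap k κ' c))
    rw [map_C, show ResidueField.map φ (algebraMap k κ c) = algebraMap k κ' c from rmap.commutes c]
  have hkQ : ∀ c : k, algebraMap k Q c = mkC (algebraMap k κ' c) := fun c => by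
    show Ideal.Quotient.mk I' (algebraMap k S' c) = _
    rw [show algebraMap k S' c = MvPowerSeries.C (algebraMap k κ' c) from MvPowerSeries.algebraMap_apply]
    rfl
  let hR : R →ₐ[k] Q := { ψR.comp (algebraMap R Rh) with commutes' := fun c => (hψRk c).trans (hkQ c).symm }
  have hKc : ∀ c : k, mkC (algebraMap K κ' (algebraMap k K c)) = algebraMap k Q c := fun c => by
    rw [hkQ, IsScalarTower.algebraMap_apply k K κ']
  let hK : K →ₐ[k] Q := { mkC.comp (algebraMap K κ') with commutes' := hKc }
  let hT : R ⊗[k] K →ₐ[k] Q := Algebra.TensorProduct.lift hR hK (fun _ _ => Commute.all _ _)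
  have hhT : ∀ r c, hT (r ⊗ₜ c) = ψR (algebraMap R Rh r) * mkC (algebraMap K κ' c) := fun r c =>
    Algebra.TensorProduct.lift_tmul _ _ _ _ _
  have hTres : ∀ t, hT t - mkC (residue B (ι t)) ∈ L := fun t => by
    induction t using TensorProduct.induction_on with
    | zero => simp
    | tmul r c =>
      have h1 : residue B (ι (r ⊗ₜ c)) = ResidueField.map φ (residue R r) * algebraMap K κ' c := by
        rw [← hπq, ← hq]; rfl
      rw [h1, hhT, map_mul, ← sub_mul]
      refine L.mul_mem_right _ ?_
      rw [← show ψR (σ₀ (residue R r)) = mkC (ResidueField.map φ (residue R r)) by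
        rw [show σ₀ (residue R r) = er (MvPowerSeries.C (residue R r)) from rfl, hψR]
        exact congrArg (Ideal.Quotient.mk I') (map_C (f := ResidueField.map φ) (residue R r)),
        ← map_sub, ← neg_sub, map_neg]
      exact neg_mem (hψRM (Ideal.mem_map_of_mem ψR (hσ₀ r)))
    | add a b ha hb =>
      rw [map_add, map_add, map_add, map_add, add_sub_add_comm]
      exact add_mem ha hb
  have hTu : ∀ s : P.primeCompl, IsUnit (hT s) := fun ⟨s, hs⟩ => by
    refine notMem_maximalIdeal.1 fun h => ?_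
    have h3 := sub_mem h (hL ▸ hTres s : hT s - mkC (residue B (ι s)) ∈ maximalIdeal Q)
    rw [sub_sub_cancel, mem_maximalIdeal, mem_nonunits_iff] at h3
    refine h3 ((isUnit_iff_ne_zero.2 ?_).map mkC)
    rw [Ne, residue_eq_zero_iff, ← hP]
    exact hs
  let hB : B →+* Q := IsLocalization.lift (g := hT.toRingHom) hTu
  have hhB : ∀ t, hB (ι t) = hT t := fun t => IsLocalization.lift_eq hTu t
  have hBφ : ∀ r, hB (φ r) = ψR (algebraMap R Rh r) := fun r => by
    rw [← hι₁, hhB, hhT, map_one, map_one, mul_one]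
  have hBK : ∀ c, hB (algebraMap K B c) = mkC (algebraMap K κ' c) := fun c => by
    rw [← hι₂, hhB, hhT, map_one, map_one, one_mul]
  have hBM : (maximalIdeal B).map hB ≤ L := by
    rw [← hm, Ideal.map_map, show hB.comp φ = ψR.comp (algebraMap R Rh) from RingHom.ext hBφ,
      ← Ideal.map_map]
    exact hψRM
  obtain ⟨G, hG⟩ := exists_extend (J := maximalIdeal B) (L := L) hB hBM
  have hGM : MB.map G ≤ L := by
    rw [Ideal.map_map, show G.comp (algebraMap B Bh) = hB from RingHom.ext hG]
    exact hBM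
  have hGφ : G.comp φh = ψR := completion_ext (IsNoetherian.noetherian _) (L := L) _ _
    (by rw [← Ideal.map_map]; exact (Ideal.map_mono hφM).trans hGM) hψRM
    (fun r => by rw [RingHom.comp_apply, hφh, RingHom.comp_apply, hG, hBφ])
  -- the two composites
  have hGτ : G.comp τ = mkC := by
    refine IsLocalization.ringHom_ext M ?_
    refine tensor_ringHom_ext (fun a => ?_) (fun c => ?_)
    · skip
      show G (τ (q (a ⊗ₜ 1))) = mkC (q (a ⊗ₜ 1))
      rw [hq, map_one, mul_one, hτr, show G (φh (σ₀ a)) = ψR (σ₀ a) from RingHom.congr_fun hGφ _,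
        show σ₀ a = er (MvPowerSeries.C a) from rfl, hψR]
      exact congrArg (Ideal.Quotient.mk I') (map_C (f := ResidueField.map φ) a)
    · show G (τ (q (1 ⊗ₜ c))) = mkC (q (1 ⊗ₜ c))
      rw [hq, map_one, one_mul, hτK, hG, hBK]
  have hleft : G.comp F' = RingHom.id Q := by
    refine Ideal.Quotient.ringHom_ext (powerSeries_ext (L := L) _ _ (fun i => ?_) (fun c => ?_) (fun i => ?_))
    · show G (F (X i)) ∈ L
      rw [hFX]
      exact hGM (Ideal.mem_map_of_mem G (ha i))
    · show G (F (MvPowerSeries.C c)) = mkC c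
      rw [hFC]
      exact RingHom.congr_fun hGτ c
    · show G (F (X i)) = Ideal.Quotient.mk I' (X i)
      rw [hFX, show G (a i) = ψR (er (X i)) from RingHom.congr_fun hGφ _, hψR]
      exact congrArg (Ideal.Quotient.mk I') (map_X (f := ResidueField.map φ) i)
  have hF'ψR : F'.comp ψR = φh := by
    refine RingHom.ext fun x => ?_
    obtain ⟨y, rfl⟩ := e.surjective x
    obtain ⟨z, rfl⟩ := Ideal.Quotient.mk_surjective y
    show F' (ψR (er z)) = φh (er z)
    rw [hψR]
    exact RingHom.congr_fun hFmap z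
  have hF'B : F'.comp hB = algebraMap B Bh := by
    refine IsLocalization.ringHom_ext P.primeCompl ?_
    refine tensor_ringHom_ext (fun r => ?_) (fun c => ?_)
    · skip
      show F' (hB (ι (r ⊗ₜ 1))) = algebraMap B Bh (ι (r ⊗ₜ 1))
      rw [hι₁, hBφ, show F' (ψR (algebraMap R Rh r)) = φh (algebraMap R Rh r) from RingHom.congr_fun hF'ψR _, hφh]
      rfl
    · show F' (hB (ι (1 ⊗ₜ c))) = algebraMap B Bh (ι (1 ⊗ₜ c))
      rw [hι₂, hBK, show F' (mkC (algebraMap K κ' c)) = F (MvPowerSeries.C (algebraMap K κ' c)) from rfl, hFC, hτK]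
  have hF'M : L.map F' ≤ MB := by
    rw [Ideal.map_map, varIdeal, Ideal.map_span, Ideal.span_le]
    rintro _ ⟨_, ⟨i, rfl⟩, rfl⟩
    show F (X i) ∈ MB
    rw [hFX]
    exact ha i
  have hright : F'.comp G = RingHom.id Bh := completion_ext (IsNoetherian.noetherian _) (L := MB) _ _
    (by rw [← Ideal.map_map]; exact (Ideal.map_mono hGM).trans hF'M) (by rw [Ideal.map_id])
    (fun b => by rw [RingHom.comp_apply, hG]; exact RingHom.congr_fun hF'B b)
  let E : Q ≃+* Bh := RingEquiv.ofRingHom F' G hright hleft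
  refine ⟨AlgEquiv.ofRingEquiv (f := E) (fun c => ?_), fun b => ?_⟩
  · show F' (Ideal.Quotient.mk I' (algebraMap K S' c)) = _
    rw [Ideal.Quotient.lift_mk, show algebraMap K S' c = MvPowerSeries.C (algebraMap K κ' c) from MvPowerSeries.algebraMap_apply]
    exact (hFC _).trans ((hτK c).trans (IsScalarTower.algebraMap_apply K B Bh c).symm)
  · show F (MvPowerSeries.C (residue B b)) - _ ∈ MB
    rw [hFC]
    exact hτres b

end Groth.VarietyBC.CompletionBC
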