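/-
Finite type algebras near a prime `q`: `dim κ(q) ⊗ Ω` as corank of the Jacobian.
-/
import Mathlib.RingTheory.Smooth.StandardSmooth
import Mathlib.RingTheory.Kaehler.Basic
import Mathlib.RingTheory.LocalRing.ResidueField.Ideal
import Mathlib.RingTheory.FiniteType
import Mathlib.LinearAlgebra.Matrix.NonsingularInverse
import Mathlib.LinearAlgebra.Matrix.Rank
import Mathlib.RingTheory.Localization.Away.Basic

open TensorProduct MvPolynomial

universe u

namespace Groth.VarietyBC.KChart

variable {A B : Type u} [CommRing A] [CommRing B] [Algebra A B] {n : ℕ}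
  (π : MvPolynomial (Fin n) A →ₐ[A] B) (K : Type u) [Field K] [Algebra B K]

/-- The gradient at the point `K`. -/
noncomputable def grad (p : MvPolynomial (Fin n) A) : Fin n → K :=
  fun j => algebraMap B K (π (pderiv j p))

theorem grad_add (p q : MvPolynomial (Fin n) A) : grad π K (p + q) = grad π K p + grad π K q := by
  funext j; simp [grad]

theorem grad_sub (p q : MvPolynomial (Fin n) A) : grad π K (p - q) = grad π K p - grad π K q := by
  funext j; simp [grad]

theorem grad_mul (p q : MvPolynomial (Fin n) A) :
    grad π K (p * q) = π p • grad π K q + π q • grad π K p := by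
  funext j
  simp [grad, Algebra.smul_def]

theorem grad_smul (a : A) (p : MvPolynomial (Fin n) A) :
    grad π K (a • p) = algebraMap A B a • grad π K p := by
  funext j
  simp [grad, Algebra.smul_def]

/-- The gradients of the relations. -/
noncomputable def relSpan : Submodule K (Fin n → K) :=
  Submodule.span K (grad π K '' (RingHom.ker π : Set (MvPolynomial (Fin n) A)))

variable [Algebra A K] [IsScalarTower A B K]

theorem finrank_add_finrank (hπ : Function.Surjective π) :
    Module.finrank K (K ⊗[B] Ω[B⁄A]) + Module.finrank K (relSpan π K) = n := by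
  classical
  set W := relSpan π K
  have hwd : ∀ p q, π p = π q → W.mkQ (grad π K p) = W.mkQ (grad π K q) := fun p q h => by
    rw [Submodule.mkQ_apply, Submodule.mkQ_apply, Submodule.Quotient.eq, ← grad_sub]
    exact Submodule.subset_span ⟨_, by simp [h], rfl⟩
  let dfun : B → (Fin n → K) ⧸ W := fun b => W.mkQ (grad π K (Function.surjInv hπ b))
  have hd : ∀ p, dfun (π p) = W.mkQ (grad π K p) := fun p => hwd _ _ (Function.surjInv_eq hπ _)
  let D : Derivation A B ((Fin n → K) ⧸ W) := Derivation.mk'
    { toFun := dfun
      map_add' := fun b c => by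
        obtain ⟨p, rfl⟩ := hπ b; obtain ⟨q, rfl⟩ := hπ c
        rw [← map_add π, hd, hd, hd, grad_add, map_add]
      map_smul' := fun a b => by
        obtain ⟨p, rfl⟩ := hπ b
        rw [← map_smul π, hd, hd, grad_smul, RingHom.id_apply, LinearMap.map_smul_of_tower,
          algebraMap_smul] }
    fun b c => by
      obtain ⟨p, rfl⟩ := hπ b; obtain ⟨q, rfl⟩ := hπ c
      change dfun (π p * π q) = π p • dfun (π q) + π q • dfun (π p)
      rw [← map_mul π, hd, hd, hd, grad_mul, map_add, LinearMap.map_smul_of_tower,
        LinearMap.map_smul_of_tower]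
  let inv : K ⊗[B] Ω[B⁄A] →ₗ[K] (Fin n → K) ⧸ W := D.liftKaehlerDifferential.liftBaseChange K
  let Φ : (Fin n → K) →ₗ[K] K ⊗[B] Ω[B⁄A] :=
    Fintype.linearCombination K fun j => (1 : K) ⊗ₜ KaehlerDifferential.D A B (π (X j))
  have hΦ : ∀ p, Φ (grad π K p) = (1 : K) ⊗ₜ KaehlerDifferential.D A B (π p) := by
    intro p
    induction p using MvPolynomial.induction_on with
    | C a =>
      have h0 : grad π K (C a) = 0 := by funext j; simp [grad]
      rw [h0, map_zero, show π (C a) = algebraMap A B a from π.commutes a, Derivation.map_algebraMap,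
        TensorProduct.tmul_zero]
    | add p q hp hq => rw [grad_add, map_add, hp, hq, map_add π, map_add, TensorProduct.tmul_add]
    | mul_X p j hp =>
      have hX : grad π K (X j) = Pi.single j 1 := by
        funext i; simp [grad, Pi.single_apply, apply_ite, pderiv_X, eq_comm]
      rw [grad_mul, map_add, LinearMap.map_smul_of_tower, LinearMap.map_smul_of_tower, hp, hX,
        Fintype.linearCombination_apply_single, one_smul, map_mul π, Derivation.leibniz,
        TensorProduct.tmul_add, TensorProduct.tmul_smul, TensorProduct.tmul_smul]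
  have hker : W ≤ LinearMap.ker Φ := by
    refine Submodule.span_le.2 ?_
    rintro _ ⟨p, hp, rfl⟩
    rw [SetLike.mem_coe, LinearMap.mem_ker, hΦ, show π p = 0 from hp, map_zero, TensorProduct.tmul_zero]
  let Φ' := W.liftQ Φ hker
  have h1 : ∀ p, inv ((1 : K) ⊗ₜ KaehlerDifferential.D A B (π p)) = W.mkQ (grad π K p) := fun p => by
    simp only [inv, LinearMap.liftBaseChange_tmul, one_smul, Derivation.liftKaehlerDifferential_comp_D]
    exact hd p
  have hinj : Function.Injective Φ' := by
    have : inv.comp Φ' = LinearMap.id := by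
      refine Submodule.linearMap_qext _ (LinearMap.pi_ext' fun j => LinearMap.ext_ring ?_)
      change inv (Φ (Pi.single j 1)) = W.mkQ (Pi.single j 1)
      rw [Fintype.linearCombination_apply_single, one_smul, h1]
      congr 1
      funext i; simp [grad, Pi.single_apply, apply_ite, pderiv_X, eq_comm]
    exact fun a b h => by simpa using (congr($this a).symm.trans ((congrArg inv h).trans (congr($this b))))
  have hsurj : Function.Surjective Φ' := by
    intro t
    induction t using TensorProduct.induction_on with
    | zero => exact ⟨0, map_zero _⟩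
    | add s t hs ht =>
      obtain ⟨a, rfl⟩ := hs; obtain ⟨b, rfl⟩ := ht
      exact ⟨a + b, map_add _ _ _⟩
    | tmul c ω =>
      have hω : ω ∈ Submodule.span B (Set.range (KaehlerDifferential.D A B)) := by
        rw [KaehlerDifferential.span_range_derivation]; trivial
      induction hω using Submodule.span_induction with
      | mem _ hm =>
        obtain ⟨b, rfl⟩ := hm
        obtain ⟨p, rfl⟩ := hπ b
        refine ⟨c • W.mkQ (grad π K p), ?_⟩
        rw [map_smul, show Φ' (W.mkQ (grad π K p)) = Φ (grad π K p) from rfl, hΦ,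
          TensorProduct.smul_tmul', smul_eq_mul, mul_one]
      | zero => exact ⟨0, by simp⟩
      | add _ _ _ _ hx hy =>
        obtain ⟨a, ha⟩ := hx; obtain ⟨b, hb⟩ := hy
        exact ⟨a + b, by rw [map_add, ha, hb, TensorProduct.tmul_add]⟩
      | smul b _ _ hx =>
        obtain ⟨a, ha⟩ := hx
        exact ⟨b • a, by rw [LinearMap.map_smul_of_tower, ha, TensorProduct.tmul_smul]⟩
  have := W.finrank_quotient_add_finrank
  rw [Module.finrank_pi, Fintype.card_fin,
    (LinearEquiv.ofBijective Φ' ⟨hinj, hsurj⟩).finrank_eq] at this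
  exact this

omit [Algebra A K] [IsScalarTower A B K] in
/-- A maximal invertible minor of the Jacobian. -/
theorem exists_minor :
    ∃ (f : Fin (Module.finrank K (relSpan π K)) → MvPolynomial (Fin n) A)
      (a : Fin (Module.finrank K (relSpan π K)) → Fin n), (∀ i, π (f i) = 0) ∧ Function.Injective a ∧
      algebraMap B K (π (Matrix.of fun i j => pderiv (a i) (f j)).det) ≠ 0 := by
  classical
  set W := relSpan π K
  set m := Module.finrank K W
  obtain ⟨b, hb, hspan, hli⟩ := exists_linearIndependent K (grad π K '' (RingHom.ker π : Set (MvPolynomial (Fin n) A)))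
  have hbfin : b.Finite := hli.setFinite
  have := hbfin.fintype
  have hcard : Fintype.card b = m := by
    rw [← finrank_span_eq_card hli, Subtype.range_coe_subtype]
    change _ = Module.finrank K (Submodule.span K _)
    rw [← hspan]; rfl
  let e : Fin m ≃ b := (finCongr hcard.symm).trans (Fintype.equivFin b).symm
  choose f hf hfb using fun i : Fin m => hb (e i).2
  let M : Matrix (Fin m) (Fin n) K := Matrix.of fun i => grad π K (f i)
  have hrow : LinearIndependent K M.row := by
    have h := hli.comp e e.injective
    have he : M.row = Subtype.val ∘ e := funext fun i => hfb i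
    exact he ▸ h
  obtain ⟨c, hc, hcspan, hcli⟩ := exists_linearIndependent K (Set.range M.col)
  have := hcli.setFinite.fintype
  have hrank : Module.finrank K (Submodule.span K (Set.range M.col)) = m := by
    rw [← Matrix.rank_eq_finrank_span_cols, hrow.rank_matrix, Fintype.card_fin]
  have hccard : Fintype.card c = m := by
    rw [← finrank_span_eq_card hcli, Subtype.range_coe_subtype]
    change Module.finrank K (Submodule.span K c) = m
    rw [hcspan, hrank]
  let e' : Fin m ≃ c := (finCongr hccard.symm).trans (Fintype.equivFin c).symm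
  choose a ha using fun i : Fin m => hc (e' i).2
  refine ⟨f, a, hf, fun i j h => e'.injective (Subtype.ext ((ha i).symm.trans (h ▸ ha j))), ?_⟩
  let N : Matrix (Fin m) (Fin m) K := Matrix.of fun i j => M j (a i)
  have hN : LinearIndependent K N.row := by
    have h := hcli.comp e' e'.injective
    have he : N.row = Subtype.val ∘ e' := funext fun i => ha i
    exact he ▸ h
  have hdet := (Matrix.isUnit_iff_isUnit_det N).1 (Matrix.linearIndependent_rows_iff_isUnit.1 hN)
  have key : algebraMap B K (π (Matrix.of fun i j => pderiv (a i) (f j)).det) = N.det := by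
    rw [AlgHom.map_det, RingHom.map_det]
    rfl
  rw [key]
  exact hdet.ne_zero

end Groth.VarietyBC.KChart

namespace Groth.VarietyBC.KChart

variable {A B : Type u} [CommRing A] [CommRing B] [Algebra A B]

set_option maxHeartbeats 800000 in
/-- Near `q`, a finite type algebra is a quotient of a standard smooth algebra of relative dimension
`dim κ(q) ⊗ Ω`. -/
theorem exists_standardSmooth_surjection [Algebra.FiniteType A B] (q : Ideal B) [q.IsPrime] (r : ℕ)
    (hr : Module.finrank q.ResidueField (q.ResidueField ⊗[B] Ω[B⁄A]) = r) :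
    ∃ g : B, g ∉ q ∧ ∃ (D : Type u) (_ : CommRing D) (_ : Algebra A D),
      Algebra.IsStandardSmoothOfRelativeDimension r A D ∧
        ∃ φ : D →ₐ[A] Localization.Away g, Function.Surjective φ := by
  classical
  obtain ⟨n, π, hπ⟩ := Algebra.FiniteType.iff_quotient_mvPolynomial''.1 ‹Algebra.FiniteType A B›
  obtain ⟨f, a, hf, ha, hdet⟩ := exists_minor π q.ResidueField
  have hrn := finrank_add_finrank π q.ResidueField hπ
  rw [hr] at hrn
  let m := Module.finrank q.ResidueField (relSpan π q.ResidueField)
  have hrn' : r + m = n := hrn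
  let h : MvPolynomial (Fin n) A := (Matrix.of fun i j => pderiv (a i) (f j)).det
  let g : B := π h
  have hg : g ∉ q := fun hgq => hdet ((Ideal.algebraMap_residueField_eq_zero).2 hgq)
  let ι : Type := Fin n ⊕ Unit
  let σ : Type := Fin m ⊕ Unit
  let incl : MvPolynomial (Fin n) A →ₐ[A] MvPolynomial ι A := rename Sum.inl
  let v : σ → MvPolynomial ι A := Sum.elim (fun i => incl (f i)) fun _ => X (Sum.inr ()) * incl h - 1
  let a' : σ → ι := Sum.map a id
  have ha' : Function.Injective a' := Function.Injective.sumMap ha Function.injective_id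
  let P := Algebra.PreSubmersivePresentation.naive (R := A) (v := v) a' ha'
  let D := MvPolynomial ι A ⧸ Ideal.span (Set.range v)
  let mk : MvPolynomial ι A →ₐ[A] D := Ideal.Quotient.mkₐ A _
  have hy : mk (X (Sum.inr ())) * mk (incl h) = 1 := by
    rw [← map_mul, ← sub_eq_zero, ← map_one mk, ← map_sub]
    exact Ideal.Quotient.eq_zero_iff_mem.2 (Ideal.subset_span ⟨Sum.inr (), rfl⟩)
  have hpd : ∀ (j : Fin n) p, pderiv (Sum.inl j) (incl p) = incl (pderiv j p) := fun j p =>
    (pderiv_rename Sum.inl_injective j p)
  have hpd' : ∀ p, pderiv (Sum.inr ()) (incl p) = 0 := fun p => by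
    induction p using MvPolynomial.induction_on with
    | C c => simp [incl]
    | add p q hp hq => rw [map_add, map_add, hp, hq, add_zero]
    | mul_X p j hp =>
      rw [map_mul, pderiv_mul, hp, show incl (X j) = X (Sum.inl j) from rename_X _ _,
        pderiv_X_of_ne (by simp), zero_mul, mul_zero, add_zero]
  have hjm : P.jacobiMatrix = Matrix.fromBlocks ((Matrix.of fun i j => pderiv (a i) (f j)).map incl)
      (Matrix.of fun i (_ : Unit) => pderiv (Sum.inl (a i)) (v (Sum.inr ()))) 0
      (Matrix.of fun _ _ => incl h) := by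
    refine Matrix.ext fun i j => ?_
    rw [Algebra.PreSubmersivePresentation.jacobiMatrix_naive]
    rcases i with i | i <;> rcases j with j | j
    · exact hpd _ _
    · rfl
    · exact hpd' _
    · change pderiv (Sum.inr ()) (X (Sum.inr ()) * incl h - 1) = incl h
      rw [map_sub, pderiv_mul, pderiv_X_self, hpd', one_mul, mul_zero, add_zero, pderiv_one, sub_zero]
  have hu : IsUnit P.jacobian := by
    rw [Algebra.PreSubmersivePresentation.jacobian_eq_jacobiMatrix_det, hjm, Matrix.det_fromBlocks_zero₂₁,
      Matrix.det_unique (Matrix.of fun _ _ => incl h : Matrix Unit Unit _), ← AlgHom.mapMatrix_apply, ← AlgHom.map_det]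
    have hfin : IsUnit (mk (incl h)) := IsUnit.of_mul_eq_one _ ((mul_comm _ _).trans hy)
    have h2 := hfin.mul hfin
    rw [← map_mul] at h2
    exact h2
  let SP : Algebra.SubmersivePresentation A D ι σ := { P with jacobian_isUnit := hu }
  have hdim : SP.dimension = r := by
    simp only [Algebra.Presentation.dimension, ι, σ, Nat.card_eq_fintype_card, Fintype.card_sum, Fintype.card_fin, Fintype.card_unit, m]
    omega
  refine ⟨g, hg, D, inferInstance, inferInstance, SP.isStandardSmoothOfRelativeDimension hdim, ?_⟩
  let yv : Localization.Away g := IsLocalization.Away.invSelf g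
  let ev : MvPolynomial ι A →ₐ[A] Localization.Away g :=
    aeval (Sum.elim (fun i => algebraMap B _ (π (X i))) fun _ => yv)
  have hev : ∀ p, ev (incl p) = algebraMap B _ (π p) := fun p => by
    change ev.comp incl p = (IsScalarTower.toAlgHom A B (Localization.Away g)).comp π p
    congr 1
    ext j
    simp [ev, incl]
  have hker : ∀ x ∈ Ideal.span (Set.range v), ev x = 0 := by
    intro x hx
    refine (Ideal.span_le (I := RingHom.ker ev)).2 ?_ hx
    rintro _ ⟨i | i, rfl⟩
    · rw [SetLike.mem_coe, RingHom.mem_ker]
      change ev (incl (f i)) = 0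
      rw [hev, hf, map_zero]
    · rw [SetLike.mem_coe, RingHom.mem_ker]
      change ev (X (Sum.inr ()) * incl h - 1) = 0
      rw [map_sub, map_mul, hev, map_one, sub_eq_zero, show ev (X (Sum.inr ())) = yv by simp [ev], mul_comm]
      exact IsLocalization.Away.mul_invSelf g
  refine ⟨Ideal.Quotient.liftₐ _ ev hker, fun z => ?_⟩
  obtain ⟨b, ⟨_, N, rfl⟩, rfl⟩ := IsLocalization.exists_mk'_eq (Submonoid.powers g) z
  obtain ⟨p, rfl⟩ := hπ b
  refine ⟨mk (incl p * X (Sum.inr ()) ^ N), ?_⟩
  change ev (incl p * X (Sum.inr ()) ^ N) = _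
  rw [map_mul, map_pow, hev, show ev (X (Sum.inr ())) = yv by simp [ev]]
  refine (IsLocalization.eq_mk'_iff_mul_eq).2 ?_
  change _ * algebraMap B _ (g ^ N) = _
  rw [map_pow, mul_assoc, ← mul_pow, mul_comm yv, IsLocalization.Away.mul_invSelf, one_pow, mul_one]

end Groth.VarietyBC.KChart
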