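import Groth.Agent.VarietyBC.DetDegree
import Groth.Agent.VarietyBC.CurveComponents
import Groth.Agent.VarietyBC.GGen
import Groth.Agent.VarietyBC.CurveProj
import Groth.Agent.Chow.QcohExtend
import Groth.Agent.Inter.Twist
import Groth.Agent.LocFree.ExtPullback
import Groth.Agent.LocFree.Tensor

/-!
# The degree of a locally free module is the degree of its determinant
-/

set_option autoImplicit false
set_option linter.style.haveILetI false
set_option backward.isDefEq.respectTransparency.types false
universe u

open CategoryTheory CategoryTheory.Limits AlgebraicGeometry TopologicalSpace Opposite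

namespace Groth.VarietyBC.DetDeg

open Groth.PicAux Groth.LocFree Groth.EulerDeg Coh

variable {X : Scheme.{u}} {n : ℕ}

/-- A globally generated bundle of rank `n` on an integral scheme receives a monomorphism from
`O^n`. -/
theorem exists_mono_free [IsIntegral X] {Q : X.Modules} (hQ : FlatMod.IsFinLocFreeOfRank n Q)
    (hgg : Curv2.IsGloballyGenerated Q) : ∃ φ : FlatMod.freeMod X n ⟶ Q, Mono φ := by
  classical
  let η := genericPoint X
  let _ : Field (X.presheaf.stalk η) := inferInstanceAs (Field X.functionField)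
  have hn := finrank_stalk hQ η
  have hQc := KTheory.LocFree.isCoh (isFinLocFree_of_rank hQ)
  have := hQc.1
  have := Groth.QCohMod.finite_stalk Q hQc.2 η
  have hsp := Groth.VarietyBC.GGen.spansStalks hgg η
  obtain ⟨S, hSsub, hspan, hli⟩ := exists_linearIndependent (X.presheaf.stalk η)
    (Set.range fun t : Γ(Q, (⊤ : X.Opens)) => Groth.QCohMod.germ Q η (Set.mem_univ η : η ∈ (⊤ : X.Opens)) t)
  rw [hsp] at hspan
  let b := Module.Basis.mk hli (by rw [Subtype.range_coe]; exact hspan.ge)
  let σ := ((Module.finBasisOfFinrankEq (X.presheaf.stalk η) _ hn).indexEquiv b)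
  choose t ht using fun i : Fin n => hSsub (σ i).2
  obtain ⟨d⟩ := exists_split_free (X := X) n
  refine ⟨∑ i, d.p i ≫ homOfSection (t i), (Groth.CohTwo.mono_iff_app_injective _).2 fun V => ?_⟩
  refine (injective_iff_map_eq_zero _).2 fun m hm => ?_
  refine TopCat.Presheaf.section_ext (X := X.toTopCat) (Coh.toAb (FlatMod.freeMod X n)) V m 0
    fun x hx => ?_
  have hηV : η ∈ V := (genericPoint_specializes (α := X) x).mem_open V.2 hx
  obtain ⟨r, rfl⟩ := (d.basis V le_top).2 m
  have hr : r = 0 := by
    have hi : ∀ i, (∑ j, d.p j ≫ homOfSection (t j)).app V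
        (res _ (le_top : V ≤ ⊤) ((d.s i).app ⊤ (oneSec X ⊤))) = res Q (le_top : V ≤ ⊤) (t i) := by
      intro i
      rw [app_res]
      congr 1
      rw [sum_app, Finset.sum_eq_single i]
      · show (d.s i ≫ d.p i ≫ homOfSection (t i)).app ⊤ (oneSec X ⊤) = t i
        rw [← Category.assoc, d.diag, Category.id_comp, homOfSection_one]
      · intro j _ hji
        show (d.s i ≫ d.p j ≫ homOfSection (t j)).app ⊤ (oneSec X ⊤) = 0
        rw [← Category.assoc, d.off i j (Ne.symm hji), zero_comp]
        rfl
      · simp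
    simp only [map_sum, Scheme.Modules.Hom.app_smul, hi] at hm
    have h2 := congrArg (Groth.QCohMod.germ Q η hηV) hm
    simp only [map_sum, map_zero, Groth.QCohMod.germ_smul] at h2
    have hbi : ∀ i, Groth.QCohMod.germ Q η hηV (res Q (le_top : V ≤ ⊤) (t i)) = b (σ i) := by
      intro i
      rw [Module.Basis.mk_apply, ← ht i]
      exact Groth.QCohMod.germ_res Q (le_top : V ≤ ⊤) η hηV (t i)
    simp only [hbi] at h2
    have h3 := Fintype.linearIndependent_iff.1 (b.linearIndependent.comp σ σ.injective)
      (fun i => X.presheaf.germ V η hηV (r i)) h2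
    funext i
    have := h3 i
    refine germ_injective_of_isIntegral X η hηV ?_
    rw [this, Pi.zero_apply, map_zero]
  simp [hr]
  exact map_zero _

/-- `χ(O^n) = n χ(O)`. -/
theorem euler_freeMod (k : Type u) [Field k] [X.Over (Spec (CommRingCat.of k))]
    [IsProper (X ↘ Spec (CommRingCat.of k))] :
    ∀ n : ℕ, Curv2.euler k X (FlatMod.freeMod X n) = n * Curv2.euler k X (structureModule X)
  | 0 => by
    have := noetherianSpace_of_proper k X
    have h : SupportedAtClosed (Groth.CohTwo.powMod (structureModule X) 0) := fun x hx =>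
      absurd ((Groth.CohTwo.powStalk (structureModule X) 0 x).toEquiv.subsingleton) hx
    show Curv2.euler k X (Groth.CohTwo.powMod (structureModule X) 0) = _
    rw [euler_eq_h0 k h]
    have : Subsingleton Γ(Groth.CohTwo.powMod (structureModule X) 0, (⊤ : X.Opens)) :=
      subsingleton_of_forall_eq 0 fun s => section_eq_zero s fun x _ hx =>
        absurd ((Groth.CohTwo.powStalk (structureModule X) 0 x).toEquiv.subsingleton) hx
    have : Subsingleton (HH X (Groth.CohTwo.powMod (structureModule X) 0) 0) :=
      (h0Equiv k _).toEquiv.subsingleton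
    rw [Module.finrank_zero_of_subsingleton]
    simp
  | n + 1 => by
    have := isNoetherian_of_proper k X
    have hO : IsCoh (structureModule X) := Groth.QCohMod.isCoh_unit
    obtain ⟨f, g, w, hS⟩ := powSeq_shortExact (structureModule X) n
    have e := euler_add hS (finCoh k X hO) (finCoh k X (Groth.CohTwo.isCoh_powMod hO n))
    show Curv2.euler k X (Groth.CohTwo.powMod (structureModule X) (n + 1)) = _
    rw [show Curv2.euler k X (Groth.CohTwo.powMod (structureModule X) (n + 1)) = _ from e]
    have ih := euler_freeMod k n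
    show Curv2.euler k X (structureModule X) + Curv2.euler k X (FlatMod.freeMod X n) = _
    rw [ih]
    push_cast
    ring

/-- The determinant of `O^n` is trivial. -/
theorem nonempty_extPow_freeMod (n : ℕ) :
    Nonempty (extPow n (FlatMod.freeMod X n) ≅ structureModule X) := by
  obtain ⟨s, hs⟩ := exists_basis_freeMod (X := X) n
  have hF := isFinLocFreeOfRank_freeMod X n
  have := KTheory.LocFree.isQCoh (isFinLocFree_of_rank hF)
  have := isQCoh_extPow n (FlatMod.freeMod X n)
  choose U hU hxU using fun x : X => Groth.QCohMod.exists_affine_mem x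
  have hgen : ∀ x, Gen (extPow n (FlatMod.freeMod X n)) (U x)
      (res _ (le_top : U x ≤ ⊤) (wedge n (FlatMod.freeMod X n) s)) := by
    intro x
    rw [res_wedge]
    have hb := wedge_bijective (hU x) (hs.res' (le_top : U x ≤ ⊤))
    have h1 : Basis' (extPow n (FlatMod.freeMod X n)) (U x)
        (fun _ : Fin 1 => wedge n (FlatMod.freeMod X n) fun i => res _ (le_top : U x ≤ ⊤) (s i)) :=
      KTheory.LocFree.basis'_of_affine (hU x) _ (by
        have e : (fun r : Fin 1 → Γ(X, U x) => ∑ i, r i •
              wedge n (FlatMod.freeMod X n) fun i => res _ (le_top : U x ≤ ⊤) (s i)) =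
            (fun r : Γ(X, U x) => r • wedge n (FlatMod.freeMod X n) fun i =>
              res _ (le_top : U x ≤ ⊤) (s i)) ∘ Equiv.funUnique (Fin 1) _ := by
          funext r; simp
        rw [e]
        exact hb.comp (Equiv.bijective _))
    intro V hV
    have h2 := h1 V hV
    have e : (fun r : Γ(X, V) => r • res _ hV (wedge n (FlatMod.freeMod X n) fun i =>
        res _ (le_top : U x ≤ ⊤) (s i))) = (fun r : Fin 1 → Γ(X, V) => ∑ i, r i •
          res _ hV (wedge n (FlatMod.freeMod X n) fun i => res _ (le_top : U x ≤ ⊤) (s i))) ∘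
          (Equiv.funUnique (Fin 1) Γ(X, V)).symm := by
      funext r; simp
    rw [e]
    exact h2.comp (Equiv.bijective _)
  have hgen1 : Gen (extPow n (FlatMod.freeMod X n)) ⊤ (wedge n (FlatMod.freeMod X n) s) :=
    Gen.of_cover (fun x => U x) (fun _ => le_top) (fun x _ => Opens.mem_iSup.2 ⟨x, hxU x⟩) hgen
  obtain ⟨e, -⟩ := exists_iso_of_gen (U := fun _ : Unit => (⊤ : X.Opens)) (by simp)
    (fun _ => wedge n (FlatMod.freeMod X n) s) (fun _ => hgen1) (fun _ => oneSec X ⊤)
    (fun _ => gen_oneSec ⊤) (fun i j r h => by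
      have h1 : (1 : Γ(X, (⊤ : X.Opens) ⊓ ⊤)) = r := (hgen1.res inf_le_left).smul_inj le_rfl (by
        rw [res_self, one_smul]; exact h)
      rw [← h1, one_smul])
  exact ⟨e⟩

variable (k : Type u) [Field k] [X.Over (Spec (CommRingCat.of k))]
  [IsProper (X ↘ Spec (CommRingCat.of k))]

/-- `deg E - deg (det E)` vanishes on integral curves. -/
theorem deg_eq_deg_det [IsIntegral X] (hdim : topologicalKrullDim X ≤ 1) {E : X.Modules}
    (hE : FlatMod.IsFinLocFreeOfRank n E) :
    Curv2.deg k X E n = Curv2.deg k X (extPow n E) 1 := by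
  have := isNoetherian_of_proper k X
  have : X.IsSeparated := ⟨by
    rw [show Limits.terminal.from X = (X ↘ Spec (CommRingCat.of k)) ≫ Limits.terminal.from _ from
      Subsingleton.elim _ _]
    infer_instance⟩
  obtain ⟨L, hL⟩ := Groth.VarietyBC.CurveProj.exists_ample X hdim
  have hF := isFinLocFreeOfRank_freeMod X n
  have hEc := KTheory.LocFree.isCoh (isFinLocFree_of_rank hE)
  have hFc := KTheory.LocFree.isCoh (isFinLocFree_of_rank hF)
  have := hEc.1
  have := hFc.1
  obtain ⟨N₁, h₁⟩ := Groth.Chow.exists_isGloballyGenerated_twist hL E hEc.2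
  obtain ⟨N₂, h₂⟩ := Groth.Chow.exists_isGloballyGenerated_twist hL (FlatMod.freeMod X n) hFc.2
  let P := CohB1.tensorPow L (N₁ + N₂)
  have hP : PicF.IsInvertible P := isInvertible_tensorPow hL.1 _
  obtain ⟨M, hM, hPM⟩ := exists_isInverseOf hP
  let A := CohB1.tensorMod (FlatMod.freeMod X n) M
  have hA : FlatMod.IsFinLocFreeOfRank n A := by
    simpa using isFinLocFreeOfRank_tensorMod hF (isInvertible_iff_ofRank_one.1 hM)
  have key : ∀ {Q : X.Modules}, FlatMod.IsFinLocFreeOfRank n Q →
      Curv2.IsGloballyGenerated (CohB1.tensorMod Q P) →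
      Curv2.euler k X Q - Curv2.euler k X A =
        Curv2.euler k X (extPow n Q) - Curv2.euler k X (extPow n A) := by
    intro Q hQ hgg
    obtain ⟨φ, hφ⟩ := exists_mono_free
      (by simpa using isFinLocFreeOfRank_tensorMod hQ (isInvertible_iff_ofRank_one.1 hP)) hgg
    have hm := (shortExact_tensorRightMod hM
      (S := ShortComplex.mk φ (cokernel.π φ) (cokernel.condition φ))
      { exact := ShortComplex.exact_cokernel φ }).mono_f
    let e : CohB1.tensorMod (CohB1.tensorMod Q P) M ≅ Q :=
      (Groth.Inter.tensor_assoc Q P M).some ≪≫ PicGrp.tensorModIso (Iso.refl Q) hPM.some ≪≫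
        (Groth.Inter.tensor_comm Q (structureModule X)).some ≪≫ (Groth.Inter.tensor_one Q).some
    let f : A ⟶ Q := (DCoh.tensorRightMod M).map φ ≫ e.hom
    have : Mono f := @mono_comp _ _ _ _ _ _ hm _ _
    exact euler_sub_eq hA hQ k hdim f
  have e1 := key hE (h₁ _ (Nat.le_add_right _ _))
  have e2 := key hF (h₂ _ (Nat.le_add_left _ _))
  rw [euler_freeMod k n, euler_congr k (nonempty_extPow_freeMod n).some] at e2
  simp only [Curv2.deg]
  push_cast
  linarith

/-- The degree of a locally free module is the degree of its determinant. -/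
theorem deg_eq_deg_of_isExtPow (hdim : topologicalKrullDim X ≤ 1) {E L : X.Modules}
    (hE : FlatMod.IsFinLocFreeOfRank n E) (hL : ExtPow.IsExtPow n E L) :
    Curv2.deg k X E n = Curv2.deg k X L 1 := by
  have := isNoetherian_of_proper k X
  have hLr : FlatMod.IsFinLocFreeOfRank 1 L :=
    isInvertible_iff_ofRank_one.1 (isInvertible_det hE hL)
  have := KTheory.LocFree.isQCoh (isFinLocFree_of_rank hE)
  rw [CurveComp.deg_eq_sum k hdim hE, CurveComp.deg_eq_sum k hdim hLr]
  refine finsum_congr fun Z => ?_
  split_ifs with hZ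
  · congr 1
    let I := (X.irreducibleComponentIdeal Z.1 Z.2).radical
    letI : I.subscheme.Over (Spec (CommRingCat.of k)) :=
      ⟨I.subschemeι ≫ (X ↘ Spec (CommRingCat.of k))⟩
    haveI : IsProper (I.subscheme ↘ Spec (CommRingCat.of k)) :=
      inferInstanceAs (IsProper (I.subschemeι ≫ (X ↘ Spec (CommRingCat.of k))))
    haveI : IsIntegral I.subscheme := by
      show IsIntegral (X.irreducibleComponentIdeal Z.1 Z.2).radical.subscheme
      rw [CurveComp.radical_irreducibleComponentIdeal Z.1 Z.2]
      exact CohTwo.isIntegral_closure_subscheme rfl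
    have hd : topologicalKrullDim I.subscheme ≤ 1 :=
      (I.subschemeι.isEmbedding.isInducing.topologicalKrullDim_le).trans hdim
    have hE' := isFinLocFreeOfRank_pullback I.subschemeι hE
    have := KTheory.LocFree.isQCoh (isFinLocFree_of_rank hE')
    rw [deg_eq_deg_det k hd hE']
    exact deg_congr k (nonempty_iso_extPow (isExtPow_pullback I.subschemeι hL)).some 1
  · rfl

end Groth.VarietyBC.DetDeg
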