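import Groth.Agent.VarietyBC.CurveComponents
import Groth.Agent.Inter.NakaiCor

/-!
# Ampleness on one-dimensional proper schemes through the degrees on the components
-/

set_option autoImplicit false
set_option linter.style.haveILetI false
set_option backward.isDefEq.respectTransparency.types false
universe u

open CategoryTheory CategoryTheory.Limits AlgebraicGeometry TopologicalSpace

namespace Groth.VarietyBC.CurveComp

open Groth.EulerDeg Groth.Inter

variable (k : Type u) [Field k] {X : Scheme.{u}} [X.Over (Spec (CommRingCat.of k))]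
  [IsProper (X ↘ Spec (CommRingCat.of k))]

omit [IsProper (X ↘ Spec (CommRingCat.of k))] in
theorem neg_delta_eq_deg {L : X.Modules} (hL : PicF.IsInvertible L) (y : X) :
    - delta k [L] (Cyc.closureStructureSheaf y) =
      @Curv2.deg k _ (IntMult.ptIdeal y).subscheme ⟨(IntMult.ptIdeal y).subschemeι ≫ (X ↘ (Spec (CommRingCat.of k)))⟩
        ((Scheme.Modules.pullback (IntMult.ptIdeal y).subschemeι).obj L) 1 := by
  rw [← tensorDefect_push k (LocFree.isFinLocFree_of_rank (LocFree.isInvertible_iff_ofRank_one.mp hL))]
  simp only [delta_cons, delta_nil, tensorDefect, Cyc.closureStructureSheaf]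
  push_cast
  ring

/-- Ampleness is tested on the one-dimensional components. -/
theorem isAmple_iff_components [IsNoetherian X] (hdim : topologicalKrullDim X ≤ 1) {L : X.Modules}
    (hL : PicF.IsInvertible L) :
    CohB1.IsAmple L ↔ ∀ (C : Set X) (hC : C ∈ irreducibleComponents (X : Type u)),
      topologicalKrullDim C = 1 → 0 < @Curv2.deg k _ (X.irreducibleComponentIdeal C hC).radical.subscheme ⟨(X.irreducibleComponentIdeal C hC).radical.subschemeι ≫ (X ↘ (Spec (CommRingCat.of k)))⟩ ((Scheme.Modules.pullback (X.irreducibleComponentIdeal C hC).radical.subschemeι).obj L) 1 := by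
  constructor
  · intro h C hC hd
    rw [radical_irreducibleComponentIdeal C hC, ← neg_delta_eq_deg k hL]
    have hcl : closure ({hC.1.genericPoint} : Set X) = C := closure_genericPoint ⟨C, hC⟩
    have := delta_neg_of_isAmple k h hC.1.genericPoint (by rw [hcl]; exact_mod_cast hd)
    omega
  · intro h
    obtain ⟨M, hM, hLM⟩ := PicAux.exists_isInverseOf hL
    refine isAmple_of_delta_pos k hL hLM fun ξ d hd => ?_
    have hd0 : d = 0 := by
      have h1 : ((d + 1 : ℕ) : WithBot ℕ∞) ≤ ((1 : ℕ) : WithBot ℕ∞) :=
        hd ▸ (topologicalKrullDim_subspace_le X _).trans (by exact_mod_cast hdim)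
      have h2 : d + 1 ≤ 1 := by exact_mod_cast h1
      omega
    subst hd0
    obtain ⟨Z, rfl⟩ := exists_component_of_dim hdim (by exact_mod_cast hd)
    have hcl := closure_genericPoint Z
    have hpos := h Z.1 Z.2 (by rw [← hcl]; exact_mod_cast hd)
    rw [radical_irreducibleComponentIdeal Z.1 Z.2, ← neg_delta_eq_deg k hL] at hpos
    have he := delta_inverse_cons k hL hLM (l := []) (by simp)
      (KTheory.Devissage.isCoh_closureStructureSheaf Z.2.1.genericPoint)
      ((LocCohTransform.topologicalKrullDim_mono
        (KTheory.Devissage.support_closureStructureSheaf_subset _)).trans hd.le)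
    show 0 < delta k [M] _
    omega

end Groth.VarietyBC.CurveComp
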