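import Groth.Agent.VarietyBC.InterPoly
import Groth.Agent.Inter.Positive
import Groth.Agent.PnCoh.AmpleVanishing
import Mathlib.RingTheory.Polynomial.Pochhammer

/-!
# Asymptotic Riemann–Roch for an ample invertible module
-/

set_option autoImplicit false
set_option linter.style.haveILetI false
universe u

open CategoryTheory CategoryTheory.Limits AlgebraicGeometry TopologicalSpace

namespace Groth.VarietyBC.AsymRR

open Groth.Inter

/-- A polynomial of degree less than `d` grows at most like `(n+1)^(d-1)`. -/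
theorem exists_abs_eval_le (R : Polynomial ℚ) (d : ℕ) (hR : R.degree < (d : WithBot ℕ)) :
    ∃ C : ℚ, 0 ≤ C ∧ ∀ n : ℕ, |R.eval (n : ℚ)| ≤ C * ((n : ℚ) + 1) ^ (d - 1) := by
  refine ⟨∑ i ∈ R.support, |R.coeff i|, Finset.sum_nonneg fun i _ => abs_nonneg _, fun n => ?_⟩
  rw [Polynomial.eval_eq_sum, Polynomial.sum_def, Finset.sum_mul]
  refine (Finset.abs_sum_le_sum_abs _ _).trans (Finset.sum_le_sum fun i hi => ?_)
  rw [abs_mul]
  refine mul_le_mul_of_nonneg_left ?_ (abs_nonneg _)
  have hid : i < d := Nat.cast_lt.1 ((Polynomial.le_degree_of_mem_supp i hi).trans_lt hR)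
  have hn : (0 : ℚ) ≤ n := n.cast_nonneg
  rw [abs_of_nonneg (pow_nonneg hn _)]
  exact (pow_le_pow_left₀ hn (le_add_of_nonneg_right zero_le_one) i).trans
    (pow_le_pow_right₀ (le_add_of_nonneg_left hn) (by omega))

/-- The polynomial `n ↦ C(n+i-1, i)`. -/
noncomputable def mchoose (i : ℕ) : Polynomial ℚ :=
  Polynomial.C (1 / (i.factorial : ℚ)) * ascPochhammer ℚ i

theorem eval_mchoose (i n : ℕ) : (mchoose i).eval (n : ℚ) = ((n + i - 1).choose i : ℚ) := by
  rw [mchoose, Polynomial.eval_mul, Polynomial.eval_C, ascPochhammer_nat_eq_natCast_ascFactorial,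
    Nat.ascFactorial_eq_factorial_mul_choose', Nat.cast_mul, one_div,
    inv_mul_cancel_left₀ (Nat.cast_ne_zero.2 i.factorial_ne_zero)]

theorem degree_mchoose_sub (i : ℕ) :
    (mchoose i - Polynomial.C (1 / (i.factorial : ℚ)) * Polynomial.X ^ i).degree <
      (i : WithBot ℕ) := by
  have hdeg : (ascPochhammer ℚ i).degree = (i : WithBot ℕ) := by
    rw [Polynomial.degree_eq_natDegree (monic_ascPochhammer ℚ i).ne_zero, ascPochhammer_natDegree]
  rw [mchoose, ← mul_sub]
  refine lt_of_le_of_lt ((Polynomial.degree_mul_le _ _).trans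
    (add_le_add Polynomial.degree_C_le le_rfl)) ?_
  rw [zero_add]
  refine (Polynomial.degree_sub_lt_left ?_ (monic_ascPochhammer ℚ i).ne_zero ?_).trans_le hdeg.le
  · rw [hdeg, Polynomial.degree_X_pow]
  · rw [(monic_ascPochhammer ℚ i).leadingCoeff, Polynomial.leadingCoeff_X_pow]

theorem degree_mchoose (i : ℕ) : (mchoose i).degree ≤ (i : WithBot ℕ) := by
  refine (Polynomial.degree_mul_le _ _).trans ((add_le_add Polynomial.degree_C_le le_rfl).trans ?_)
  rw [zero_add]
  refine Polynomial.degree_le_natDegree.trans ?_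
  rw [ascPochhammer_natDegree]

/-- Asymptotic Riemann–Roch. -/
theorem exists_bound (k : Type u) [Field k] {X : Scheme.{u}} [X.Over (Spec (CommRingCat.of k))]
    [IsProper (X ↘ (Spec (CommRingCat.of k)))] (d : ℕ) (hX : topologicalKrullDim X = d)
    (L : X.Modules) (hL : CohB1.IsAmple L) (P : MvPolynomial (Fin d) ℚ)
    (hP : ∀ n : Fin d → ℕ, (Curv2.euler k X (Curv2.tensorPows (Coh.structureModule X) d (fun _ => L) n) : ℚ) =
      MvPolynomial.eval (fun i => (n i : ℚ)) P) :
    0 < MvPolynomial.coeff (Finsupp.equivFunOnFinite.symm fun _ : Fin d => 1) P ∧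
      ∃ C : ℚ, ∀ n : ℕ,
        |(Module.finrank k (Coh.HH X (CohB1.tensorPow L n) 0) : ℚ) -
            MvPolynomial.coeff (Finsupp.equivFunOnFinite.symm fun _ : Fin d => 1) P / (d.factorial : ℚ) * (n : ℚ) ^ d| ≤
          C * ((n : ℚ) + 1) ^ (d - 1) := by
  classical
  have hN : IsNoetherian X := isNoetherian k
  obtain ⟨M, hMi, hLM⟩ := PicAux.exists_isInverseOf hL.1
  set O := Coh.structureModule X
  have hOi : PicF.IsInvertible O := Groth.EulerDeg.isInvertible_structureModule X
  have hO : Coh.IsCoh O := Inter.isCoh_of_isInvertible hOi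
  have hsupp : CohB1.support O = Set.univ := Set.eq_univ_iff_forall.2 fun x hx =>
    not_subsingleton (X.presheaf.stalk x)
      (@Equiv.subsingleton _ _ (Groth.RefRank.oneEquiv x).toEquiv hx)
  have hdim : topologicalKrullDim (CohB1.support O) = (d : ℕ) := by
    rw [hsupp, IsHomeomorph.topologicalKrullDim_eq _ (Homeomorph.Set.univ X).isHomeomorph]
    exact hX
  set δ : ℕ → ℤ := fun i => delta k (List.replicate i M) O with hδ
  have hcoeff : MvPolynomial.coeff (Finsupp.equivFunOnFinite.symm fun _ : Fin d => 1) P = (δ d : ℚ) := by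
    rw [InterPoly.coeff_eq_delta k (fun _ => L) (fun _ => hL.1) hO hdim.le P hP]
    have h := InterPoly.delta_inverse k (List.replicate d (L, M))
      (fun p hp => by rw [List.eq_of_mem_replicate hp]; exact ⟨hL.1, hLM⟩) O hO
      (by rw [List.length_replicate]; exact hdim.le)
    rw [List.map_replicate, List.map_replicate, List.length_replicate] at h
    rw [List.ofFn_const, h, ← mul_assoc, ← pow_add, ← two_mul, pow_mul, neg_one_sq, one_pow, one_mul]
  have hpos : 0 < δ d := delta_pos k _
    (fun N hN => by rw [List.eq_of_mem_replicate hN]; exact ⟨L, hL, hLM⟩) O hO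
    (by rw [List.length_replicate]; exact hdim)
  rw [hcoeff]
  refine ⟨by exact_mod_cast hpos, ?_⟩
  let Q : Polynomial ℚ := ∑ i ∈ Finset.range (d + 1), Polynomial.C (δ i : ℚ) * mchoose i
  have hQ : ∀ n : ℕ, Q.eval (n : ℚ) = (Curv2.euler k X (CohB1.tensorPow L n) : ℚ) := fun n => by
    rw [← EulerDeg.euler_congr k (SecTwist.unitorR (CohB1.tensorPow L n)),
      euler_pow_eq k hL.1 hLM hO d hdim.le n, Polynomial.eval_finsetSum, Int.cast_sum]
    refine Finset.sum_congr rfl fun i _ => ?_
    rw [Polynomial.eval_mul, Polynomial.eval_C, eval_mchoose, Int.cast_mul]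
    rw [Int.cast_natCast, mul_comm]
  let R := Q - Polynomial.C ((δ d : ℚ) / (d.factorial : ℚ)) * Polynomial.X ^ d
  have hR : R.degree < (d : WithBot ℕ) := by
    have e : R = (∑ i ∈ Finset.range d, Polynomial.C (δ i : ℚ) * mchoose i) +
        Polynomial.C (δ d : ℚ) *
          (mchoose d - Polynomial.C (1 / (d.factorial : ℚ)) * Polynomial.X ^ d) := by
      simp only [R, Q, Finset.sum_range_succ, mul_sub, ← mul_assoc, ← map_mul, mul_one_div]
      ring
    rw [e]
    refine lt_of_le_of_lt (Polynomial.degree_add_le _ _) (max_lt ?_ ?_)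
    · refine lt_of_le_of_lt (Polynomial.degree_sum_le _ _) ((Finset.sup_lt_iff (by exact WithBot.bot_lt_coe d)).2 fun i hi => ?_)
      exact lt_of_le_of_lt ((Polynomial.degree_mul_le _ _).trans
        ((add_le_add Polynomial.degree_C_le (degree_mchoose i)).trans (zero_add _).le))
        (Nat.cast_lt.2 (Finset.mem_range.1 hi))
    · exact lt_of_le_of_lt ((Polynomial.degree_mul_le _ _).trans
        ((add_le_add Polynomial.degree_C_le le_rfl).trans (zero_add _).le)) (degree_mchoose_sub d)
  obtain ⟨C, hC0, hC⟩ := exists_abs_eval_le R d hR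
  obtain ⟨n₀, hn₀⟩ := PnCoh.exists_subsingleton_of_isAmple (X ↘ Spec (CommRingCat.of k)) hL O hO
  let err : ℕ → ℚ := fun n => |(Module.finrank k (Coh.HH X (CohB1.tensorPow L n) 0) : ℚ) -
    (Curv2.euler k X (CohB1.tensorPow L n) : ℚ)|
  refine ⟨C + ∑ n ∈ Finset.range n₀, err n, fun n => ?_⟩
  have hmain : |(Curv2.euler k X (CohB1.tensorPow L n) : ℚ) -
      (δ d : ℚ) / (d.factorial : ℚ) * (n : ℚ) ^ d| ≤ C * ((n : ℚ) + 1) ^ (d - 1) := by
    have := hC n
    simp only [R, Polynomial.eval_sub, Polynomial.eval_mul, Polynomial.eval_C, Polynomial.eval_pow,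
      Polynomial.eval_X, hQ] at this
    exact this
  have hone : (1 : ℚ) ≤ ((n : ℚ) + 1) ^ (d - 1) :=
    one_le_pow₀ (le_add_of_nonneg_left n.cast_nonneg)
  have herr : err n ≤ (∑ j ∈ Finset.range n₀, err j) * ((n : ℚ) + 1) ^ (d - 1) := by
    refine le_trans ?_ (le_mul_of_one_le_right (Finset.sum_nonneg fun j _ => abs_nonneg _) hone)
    by_cases hn : n < n₀
    · exact Finset.single_le_sum (f := err) (fun j _ => abs_nonneg _) (Finset.mem_range.2 hn)
    · obtain ⟨e⟩ : Nonempty (CohB1.tensorMod O (CohB1.tensorPow L n) ≅ CohB1.tensorPow L n) :=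
        tensor_one _
      have hsub : ∀ q, 1 ≤ q → Subsingleton (Coh.HH X (CohB1.tensorPow L n) q) := fun q hq =>
        (Groth.EulerDeg.hEquiv k e q).toEquiv.subsingleton_congr.1 (hn₀ n (not_lt.1 hn) q hq)
      have he : err n = 0 := by
        simp only [err]
        rw [EulerDeg.euler_eq_sum (N := 1) hsub, Finset.sum_range_one, pow_zero, one_mul,
          Int.cast_natCast, sub_self, abs_zero]
      rw [he]
      exact Finset.sum_nonneg fun j _ => abs_nonneg _
  rw [add_mul]
  exact (abs_sub_le _ (Curv2.euler k X (CohB1.tensorPow L n) : ℚ) _).trans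
    ((add_le_add herr hmain).trans (add_comm _ _).le)

end Groth.VarietyBC.AsymRR
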