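/-
Noetherian local rings of dimension one: inverting an element outside all minimal primes.
-/
import Groth.Prelude.Def_CAlg
import Groth.Agent.LocCohBase.CM
import Mathlib.RingTheory.Ideal.MinimalPrime.Localization
import Mathlib.RingTheory.LocalRing.ResidueField.Ideal
import Mathlib.Algebra.Group.Pi.Units
import Mathlib.RingTheory.LocalProperties.Reduced

universe u

namespace Groth.VarietyBC.DimOne

variable {A : Type u} [CommRing A] [IsLocalRing A] [IsNoetherianRing A]

open IsLocalRing

omit [IsNoetherianRing A] in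
theorem eq_maximalIdeal_or_mem_minimalPrimes (hdim : ringKrullDim A = 1) (p : Ideal A) [hp : p.IsPrime] :
    p = maximalIdeal A ∨ p ∈ minimalPrimes A := by
  have : Ring.KrullDimLE 1 A := Ring.krullDimLE_iff.2 (by simp [hdim])
  rcases Ring.krullDimLE_one_iff.1 this p hp with h | h
  · exact .inr h
  · exact .inl (IsLocalRing.eq_maximalIdeal h)

omit [IsNoetherianRing A] in
theorem maximalIdeal_notMem_minimalPrimes (hdim : ringKrullDim A = 1) :
    maximalIdeal A ∉ minimalPrimes A := by
  intro h
  have : Ring.KrullDimLE 0 A := Ring.krullDimLE_zero_iff.2 fun I hI => by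
    have : I = maximalIdeal A := le_antisymm (le_maximalIdeal hI.ne_top)
      (h.2 ⟨hI, bot_le⟩ (le_maximalIdeal hI.ne_top))
    exact this ▸ inferInstance
  have h0 : ringKrullDim A ≤ 0 := by simpa using (Ring.krullDimLE_iff (R := A) (n := 0)).1 this
  rw [hdim] at h0
  exact absurd h0 (by norm_num)

theorem exists_mem_notMem_minimalPrimes (hdim : ringKrullDim A = 1) :
    ∃ f ∈ maximalIdeal A, ∀ p ∈ minimalPrimes A, f ∉ p := by
  classical
  have hfin := minimalPrimes.finite_of_isNoetherianRing A
  by_contra! h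
  have hsub : (maximalIdeal A : Set A) ⊆ ⋃ p ∈ (↑hfin.toFinset : Set (Ideal A)), (p : Set A) := fun f hf =>
    let ⟨p, hp, hfp⟩ := h f hf
    Set.mem_biUnion (Finset.mem_coe.2 (hfin.mem_toFinset.2 hp)) hfp
  obtain ⟨p, hp, hle⟩ := (Ideal.subset_union_prime ⊥ ⊥ fun i hi _ _ =>
    Ideal.IsMinimalPrime.isPrime (hfin.mem_toFinset.1 hi)).1 hsub
  have := Ideal.IsMinimalPrime.isPrime (hfin.mem_toFinset.1 hp)
  exact maximalIdeal_notMem_minimalPrimes hdim
    ((le_antisymm hle (le_maximalIdeal this.ne_top)) ▸ hfin.mem_toFinset.1 hp)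

theorem radical_eq_iff (hdim : ringKrullDim A = 1) {f : A} (hf : f ∈ maximalIdeal A) :
    maximalIdeal A = (Ideal.span {f}).radical ↔ ∀ p ∈ minimalPrimes A, f ∉ p := by
  refine ⟨fun h p hp hfp => ?_, fun h => le_antisymm ?_ ?_⟩
  · have := Ideal.IsMinimalPrime.isPrime hp
    refine maximalIdeal_notMem_minimalPrimes hdim
      ((le_antisymm (le_maximalIdeal this.ne_top) ?_) ▸ hp)
    rw [h]
    exact this.radical_le_iff.2 ((Ideal.span_singleton_le_iff_mem _).2 hfp)
  · rw [Ideal.radical_eq_sInf]
    refine le_sInf ?_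
    rintro (p : Ideal A) ⟨hle, hp⟩
    rcases eq_maximalIdeal_or_mem_minimalPrimes hdim p with rfl | hmin
    · exact le_rfl
    · exact absurd ((Ideal.span_singleton_le_iff_mem _).1 hle) (h p hmin)
  · exact (IsLocalRing.maximalIdeal.isMaximal A).isPrime.radical_le_iff.2
      ((Ideal.span_singleton_le_iff_mem _).2 hf)

/-- An element avoiding minimal primes divides a power of `f`. -/
theorem isUnit_away (hdim : ringKrullDim A = 1) {f : A} (hf : f ∈ maximalIdeal A) {s : A}
    (hs : ∀ p ∈ minimalPrimes A, s ∉ p) : IsUnit (algebraMap A (Localization.Away f) s) := by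
  obtain ⟨n, hn⟩ : f ∈ (Ideal.span {s}).radical := by
    rw [Ideal.radical_eq_sInf]
    refine Submodule.mem_sInf.2 ?_
    rintro (p : Ideal A) ⟨hle, hp⟩
    rcases eq_maximalIdeal_or_mem_minimalPrimes hdim p with rfl | hmin
    · exact hf
    · exact absurd ((Ideal.span_singleton_le_iff_mem _).1 hle) (hs p hmin)
  obtain ⟨c, hc⟩ := Ideal.mem_span_singleton.1 hn
  have : IsUnit (algebraMap A (Localization.Away f) (f ^ n)) :=
    IsLocalization.map_units (Localization.Away f) (⟨f ^ n, n, rfl⟩ : Submonoid.powers f)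
  rw [hc, map_mul] at this
  exact isUnit_of_mul_isUnit_left this

theorem exists_zero_notMem {p : PrimeSpectrum A} (hp : p.asIdeal ∈ minimalPrimes A) :
    ∃ t : A, t ∉ p.asIdeal ∧ ∀ q : {q : PrimeSpectrum A // q.asIdeal ∈ minimalPrimes A}, q.1 ≠ p →
      algebraMap A (Localization.AtPrime q.1.asIdeal) t = 0 := by
  classical
  have : Finite (minimalPrimes A) := (minimalPrimes.finite_of_isNoetherianRing A).to_subtype
  have hfin : Finite {q : PrimeSpectrum A // q.asIdeal ∈ minimalPrimes A} :=
    Finite.of_injective (fun q => (⟨q.1.asIdeal, q.2⟩ : minimalPrimes A))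
      fun a b h => Subtype.ext (PrimeSpectrum.ext (congrArg Subtype.val h))
  have := Fintype.ofFinite {q : PrimeSpectrum A // q.asIdeal ∈ minimalPrimes A}
  have h1 : ∀ q : {q : PrimeSpectrum A // q.asIdeal ∈ minimalPrimes A}, ∃ t : A, t ∉ p.asIdeal ∧
      (q.1 ≠ p → algebraMap A (Localization.AtPrime q.1.asIdeal) t = 0) := by
    intro q
    by_cases hqp : q.1 = p
    · exact ⟨1, fun h => p.isPrime.ne_top ((Ideal.eq_top_iff_one _).2 h), fun h => absurd hqp h⟩
    · obtain ⟨u, huq, hup⟩ : ∃ u ∈ q.1.asIdeal, u ∉ p.asIdeal := by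
        by_contra! h
        exact hqp (PrimeSpectrum.ext (le_antisymm (fun x hx => h x hx) (hp.2 ⟨q.1.isPrime, bot_le⟩ (fun x hx => h x hx))))
      have hnil : IsNilpotent (algebraMap A (Localization.AtPrime q.1.asIdeal) u) := by
        rw [← mem_nilradical, nilradical, Ideal.radical_eq_sInf]
        refine Submodule.mem_sInf.2 ?_
        rintro (P : Ideal _) ⟨-, hP⟩
        have hle : P.comap (algebraMap A _) ≤ q.1.asIdeal :=
          fun x hx => by
            by_contra hxq
            exact hP.ne_top (Ideal.eq_top_of_isUnit_mem _ hx (IsLocalization.map_units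
              (Localization.AtPrime q.1.asIdeal) (⟨x, hxq⟩ : q.1.asIdeal.primeCompl)))
        exact q.2.2 ⟨hP.comap _, bot_le⟩ hle huq
      obtain ⟨n, hn⟩ := hnil
      exact ⟨u ^ n, fun h => hup (p.isPrime.mem_of_pow_mem n h), fun _ => by rw [map_pow, hn]⟩
  choose t ht ht0 using h1
  refine ⟨∏ q, t q, fun h => ?_, fun q hq => ?_⟩
  · obtain ⟨q, -, hq⟩ := (Ideal.IsPrime.prod_mem_iff (hp := p.isPrime)).1 h
    exact ht q hq
  · rw [map_prod]
    exact Finset.prod_eq_zero (Finset.mem_univ q) (ht0 q hq)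

/-- `A_f` is the product of the localisations at the minimal primes. -/
theorem nonempty_algEquiv_pi (hdim : ringKrullDim A = 1) {f : A} (hf : f ∈ maximalIdeal A)
    (h : ∀ p ∈ minimalPrimes A, f ∉ p) :
    Nonempty (Localization.Away f ≃ₐ[A]
      (∀ p : {p : PrimeSpectrum A // p.asIdeal ∈ minimalPrimes A}, Localization.AtPrime p.1.asIdeal)) := by
  classical
  have hu : ∀ y : Submonoid.powers f,
      IsUnit (Algebra.ofId A (∀ p : {p : PrimeSpectrum A // p.asIdeal ∈ minimalPrimes A},
        Localization.AtPrime p.1.asIdeal) y) := by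
    rintro ⟨_, n, rfl⟩
    refine Pi.isUnit_iff.2 fun p => ?_
    exact IsLocalization.map_units (Localization.AtPrime p.1.asIdeal)
      (⟨f ^ n, fun hmem => h _ p.2 (p.1.isPrime.mem_of_pow_mem n hmem)⟩ : p.1.asIdeal.primeCompl)
  let φ := IsLocalization.liftAlgHom (S := Localization.Away f) hu
  refine ⟨AlgEquiv.ofBijective φ ⟨(injective_iff_map_eq_zero φ).2 fun x hx => ?_, fun y => ?_⟩⟩
  · obtain ⟨a, m, rfl⟩ := IsLocalization.exists_mk'_eq (Submonoid.powers f) x
    have ha : ∀ p : {p : PrimeSpectrum A // p.asIdeal ∈ minimalPrimes A},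
        algebraMap A (Localization.AtPrime p.1.asIdeal) a = 0 := fun p => by
      have := congrArg (fun z => z * φ (algebraMap A _ m.1)) hx
      simp only [zero_mul, ← map_mul, IsLocalization.mk'_spec] at this
      exact congrFun ((φ.commutes a).symm.trans this) p
    obtain ⟨n, hn⟩ : f ∈ ((⊥ : Ideal A).colon ({a} : Set A)).radical := by
      rw [Ideal.radical_eq_sInf]
      refine Submodule.mem_sInf.2 ?_
      rintro (q : Ideal A) ⟨hle, hq⟩
      rcases eq_maximalIdeal_or_mem_minimalPrimes hdim q with rfl | hmin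
      · exact hf
      · obtain ⟨⟨s, hs⟩, hsa⟩ := (IsLocalization.map_eq_zero_iff q.primeCompl _ a).1
          (ha ⟨⟨q, hq⟩, hmin⟩)
        exact absurd (hle (Submodule.mem_colon.2 fun b hb => by
          rw [Set.mem_singleton_iff.1 hb]; exact (Submodule.mem_bot _).2 hsa)) hs
    rw [IsLocalization.mk'_eq_zero_iff]
    exact ⟨⟨f ^ n, n, rfl⟩, (Submodule.mem_bot _).1 (Submodule.mem_colon.1 hn a rfl)⟩
  · let I : Ideal A :=
      { carrier := {a | algebraMap A _ a * y ∈ φ.range}
        add_mem' := fun {a b} ha hb => by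
          show algebraMap A _ (a + b) * y ∈ φ.range
          rw [map_add, add_mul]
          exact add_mem ha hb
        zero_mem' := by
          show algebraMap A _ (0 : A) * y ∈ φ.range
          rw [map_zero, zero_mul]
          exact zero_mem _
        smul_mem' := fun c a ha => by
          show algebraMap A _ (c * a) * y ∈ φ.range
          rw [map_mul, mul_assoc]
          exact mul_mem (Subalgebra.algebraMap_mem _ c) ha }
    obtain ⟨n, hn⟩ : f ∈ I.radical := by
      rw [Ideal.radical_eq_sInf]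
      refine Submodule.mem_sInf.2 ?_
      rintro (q : Ideal A) ⟨hle, hq⟩
      rcases eq_maximalIdeal_or_mem_minimalPrimes hdim q with rfl | hmin
      · exact hf
      · let q' : {p : PrimeSpectrum A // p.asIdeal ∈ minimalPrimes A} := ⟨⟨q, hq⟩, hmin⟩
        obtain ⟨a, s, has⟩ := IsLocalization.exists_mk'_eq q.primeCompl (y q')
        obtain ⟨t, ht, ht0⟩ := exists_zero_notMem (p := q'.1) hmin
        have hmem : t * s.1 ∈ I := by
          refine ⟨algebraMap A _ (t * a), ?_⟩
          refine (φ.commutes _).trans (funext fun p => ?_)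
          rw [Pi.mul_apply, Pi.algebraMap_apply, Pi.algebraMap_apply, map_mul, map_mul]
          by_cases hp : p = q'
          · subst hp
            rw [mul_assoc, ← has, IsLocalization.mk'_spec'_mk]
          · rw [ht0 p fun e => hp (Subtype.ext e), zero_mul, zero_mul, zero_mul]
        exact absurd (hle hmem) fun hts => (hq.mem_or_mem hts).elim ht s.2
    obtain ⟨x, hx⟩ := hn
    refine ⟨x * IsLocalization.mk' (Localization.Away f) 1 (⟨f ^ n, n, rfl⟩ : Submonoid.powers f), ?_⟩
    have h1 : φ (IsLocalization.mk' (Localization.Away f) 1 (⟨f ^ n, n, rfl⟩ : Submonoid.powers f)) *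
        algebraMap A _ (f ^ n) = 1 := by
      rw [← φ.commutes (f ^ n), ← map_mul, IsLocalization.mk'_spec, map_one, map_one]
    rw [map_mul, show φ x = algebraMap A _ (f ^ n) * y from hx, mul_right_comm, mul_comm (algebraMap A _ (f ^ n)), h1, one_mul]

/-- Without embedded primes, the elements avoiding minimal primes are exactly the nonzerodivisors. -/
theorem mem_nonZeroDivisors_iff_notMem (hdim : ringKrullDim A = 1)
    (hA : LocCoh.depth A A = 1 ∨ IsReduced A) {s : A} :
    (∀ p ∈ minimalPrimes A, s ∉ p) ↔ s ∈ nonZeroDivisors A := by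
  refine ⟨fun hs => ?_, fun hs p hp hsp =>
    Set.disjoint_left.1 (Ideal.disjoint_nonZeroDivisors_of_mem_minimalPrimes hp) hsp hs⟩
  refine mem_nonZeroDivisors_iff_right.2 fun w hw => ?_
  rcases hA with hd | hr
  · by_contra hw0
    have hne : maximalIdeal A • (⊤ : Submodule A A) ≠ ⊤ := Groth.LocCohBase.smul_maximalIdeal_ne_top A (maximalIdeal.isMaximal A).ne_top
    obtain ⟨x, hxm, hxreg⟩ := Groth.LocCohBase.exists_regular_of_one_le hne (le_of_eq hd.symm)
    obtain ⟨p, hp, hle⟩ := exists_le_isAssociatedPrime_of_isNoetherianRing A w hw0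
    have := hp.isPrime
    have hsp : s ∈ p := hle (Submodule.mem_colon.2 fun b hb => by
      rw [Set.mem_singleton_iff.1 hb]
      exact (Submodule.mem_bot _).2 ((mul_comm s w).trans hw))
    rcases eq_maximalIdeal_or_mem_minimalPrimes hdim p with rfl | hmin
    · have hx := biUnion_associatedPrimes_eq_zero_divisors A A
      have : x ∈ {r : A | ∃ z : A, z ≠ 0 ∧ r • z = 0} :=
        hx ▸ Set.mem_biUnion (x := maximalIdeal A) hp hxm
      obtain ⟨z, hz, hz0⟩ := this
      exact hz (hxreg.right_eq_zero_of_smul hz0)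
    · exact hs p hmin hsp
  · refine IsReduced.eq_zero _ (mem_nilradical.1 ?_)
    rw [nilradical, Submodule.zero_eq_bot, ← Ideal.sInf_minimalPrimes]
    refine Submodule.mem_sInf.2 fun p hp => ?_
    exact ((Ideal.IsMinimalPrime.isPrime hp).mem_or_mem (hw ▸ p.zero_mem : w * s ∈ p)).resolve_right (hs p hp)

omit [IsLocalRing A] [IsNoetherianRing A] in
theorem bijective_residueField [IsReduced A] {p : Ideal A} (hp : p ∈ minimalPrimes A) [p.IsPrime] :
    Function.Bijective (IsScalarTower.toAlgHom A (Localization.AtPrime p) p.ResidueField) := by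
  refine ⟨(injective_iff_map_eq_zero _).2 fun z hz => ?_, IsLocalRing.residue_surjective⟩
  have hm : z ∈ maximalIdeal (Localization.AtPrime p) := (IsLocalRing.residue_eq_zero_iff z).1 hz
  obtain ⟨a, s, rfl⟩ := IsLocalization.exists_mk'_eq p.primeCompl z
  have : IsReduced (Localization.AtPrime p) := inferInstance
  refine IsReduced.eq_zero _ (mem_nilradical.1 ?_)
  rw [nilradical, Ideal.radical_eq_sInf]
  refine Submodule.mem_sInf.2 ?_
  rintro (P : Ideal _) ⟨-, hP⟩
  have hle : P.comap (algebraMap A _) ≤ p := fun x hx => by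
    by_contra hxq
    exact hP.ne_top (Ideal.eq_top_of_isUnit_mem _ hx (IsLocalization.map_units
      (Localization.AtPrime p) (⟨x, hxq⟩ : p.primeCompl)))
  rw [IsLocalization.mk'_eq_mul_mk'_one]
  refine P.mul_mem_right _ (hp.2 ⟨hP.comap _, bot_le⟩ hle ?_)
  exact (IsLocalization.AtPrime.mk'_mem_maximal_iff (Localization.AtPrime p) p a s).1 hm

end Groth.VarietyBC.DimOne
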