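import Groth.Agent.PicAux.Pullback
import Groth.Agent.PicAux.Hartogs
import Groth.Agent.PicAux.Cocycle

/-!
# Comparing the pullbacks of an invertible module along two maps via values at the generic point
-/

universe u

open CategoryTheory CategoryTheory.Limits AlgebraicGeometry Opposite TopologicalSpace
open Groth.PicAux

namespace Groth.VarietyBC.HomotopyPic

section Ev

variable {R S : CommRingCat.{u}} {Z Z' : Scheme.{u}}

/-- The value of a function at a point with values in `R`. -/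
noncomputable def evR (s : Spec R ⟶ Z) {W : Z.Opens} (h : ⊤ ≤ s ⁻¹ᵁ W) : Γ(Z, W) →+* R :=
  (s.appLE W ⊤ h ≫ (Scheme.ΓSpecIso R).hom).hom

theorem evR_resX (s : Spec R ⟶ Z) {W V : Z.Opens} (hWV : V ≤ W) (h : ⊤ ≤ s ⁻¹ᵁ V)
    (x : Γ(Z, W)) :
    evR s h (resX Z hWV x) = evR s (h.trans (s.preimage_mono hWV)) x := by
  change (Z.presheaf.map _ ≫ s.appLE V ⊤ h ≫ _) x = _
  rw [Scheme.Hom.map_appLE_assoc]
  rfl

theorem evR_comp (s : Spec R ⟶ Z) (f : Z ⟶ Z') {W : Z'.Opens} (h : ⊤ ≤ (s ≫ f) ⁻¹ᵁ W)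
    (x : Γ(Z', W)) :
    evR (s ≫ f) h x = evR s (W := f ⁻¹ᵁ W) h (f.app W x) := by
  change _ = (f.app W ≫ s.appLE _ ⊤ h ≫ _) x
  rw [f.app_eq_appLE, Scheme.Hom.appLE_comp_appLE_assoc]
  rfl

theorem evR_congr {s s' : Spec R ⟶ Z} (e : s = s') {W : Z.Opens} (h : ⊤ ≤ s ⁻¹ᵁ W) (x : Γ(Z, W)) :
    evR s h x = evR s' (e ▸ h) x := by
  subst e; rfl

theorem evR_specMap (φ : R ⟶ S) (s : Spec R ⟶ Z) {W : Z.Opens} (h : ⊤ ≤ (Spec.map φ ≫ s) ⁻¹ᵁ W)
    (h' : ⊤ ≤ s ⁻¹ᵁ W) (x : Γ(Z, W)) :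
    evR (Spec.map φ ≫ s) h x = φ (evR s h' x) := by
  change ((Spec.map φ ≫ s).appLE W ⊤ h ≫ (Scheme.ΓSpecIso S).hom) x =
    (s.appLE W ⊤ h' ≫ (Scheme.ΓSpecIso R).hom ≫ φ) x
  rw [← Scheme.ΓSpecIso_naturality φ,
    show (Spec.map φ).appTop = (Spec.map φ).appLE ⊤ ⊤ le_rfl from
      (Spec.map φ).app_eq_appLE, Scheme.Hom.appLE_comp_appLE_assoc]

theorem evR_fromSpecStalk {X : Scheme.{u}} (x : X) {W : X.Opens} (hx : x ∈ W)
    (h : ⊤ ≤ X.fromSpecStalk x ⁻¹ᵁ W) (a : Γ(X, W)) :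
    evR (X.fromSpecStalk x) h a = X.presheaf.germ W x hx a := by
  change ((X.fromSpecStalk x).appLE W ⊤ h ≫ _) a = _
  simp only [Scheme.Hom.appLE, Scheme.fromSpecStalk_app hx, Category.assoc]
  rw [← Functor.map_comp_assoc,
    Subsingleton.elim ((homOfLE (le_top : X.fromSpecStalk x ⁻¹ᵁ W ≤ ⊤)).op ≫ (homOfLE h).op) (𝟙 _),
    CategoryTheory.Functor.map_id, Category.id_comp, Iso.inv_hom_id, Category.comp_id]

theorem top_le_of_closedPoint {X : Scheme.{u}} {A : CommRingCat.{u}} [IsLocalRing A]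
    (s : Spec A ⟶ X) {W : X.Opens} (h : s (IsLocalRing.closedPoint A) ∈ W) : ⊤ ≤ s ⁻¹ᵁ W :=
  fun y _ => (IsLocalRing.specializes_closedPoint (R := A) y).mem_open (s ⁻¹ᵁ W).isOpen h

theorem eq_top_of_mem {X : Scheme.{u}} {x : X} {W : X.Opens} (hx : x ∈ W) :
    ⊤ ≤ X.fromSpecStalk x ⁻¹ᵁ W := fun y _ => by
  have h : X.fromSpecStalk x y ⤳ x := (Scheme.range_fromSpecStalk (x := x)).le ⟨y, rfl⟩
  exact h.mem_open W.isOpen hx

end Ev

section Cover

variable {Y : Scheme.{u}} {L : Y.Modules} {ι : Type u} {W : ι → Y.Opens}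
  {e : ∀ i, Γ(L, W i)}

/-- Units on a scheme over `Y` with the transition law of the bases `e`. -/
structure Rho (e : ∀ i, Γ(L, W i)) {Z : Scheme.{u}} (h : Z ⟶ Y) where
  val : ∀ i, Γ(Z, h ⁻¹ᵁ W i)
  isUnit : ∀ i, IsUnit (val i)
  rel : ∀ i j (c : Γ(Y, W i ⊓ W j)),
    res L inf_le_left (e i) = c • res L inf_le_right (e j) →
      resX Z (h.preimage_mono (inf_le_left : W i ⊓ W j ≤ W i)) (val i) =
        h.app _ c * resX Z (h.preimage_mono (inf_le_right : W i ⊓ W j ≤ W j)) (val j)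

theorem exists_rho (he : ∀ i, Gen L (W i) (e i)) {Z : Scheme.{u}} (h : Z ⟶ Y)
    (hL : Nonempty ((Scheme.Modules.pullback h).obj L ≅ Coh.structureModule Z)) :
    Nonempty (Rho e h) := by
  obtain ⟨τ, hτ⟩ := nonempty_iso_structure_iff.1 hL
  choose a ha using fun i => (hτ.res (le_top : h ⁻¹ᵁ W i ≤ ⊤)).exists_unit ((he i).pull h)
  refine ⟨⟨fun i => a i, fun i => (a i).isUnit, fun i j c hc => ?_⟩⟩
  refine (hτ.smul_inj (le_top : h ⁻¹ᵁ (W i ⊓ W j) ≤ ⊤) ?_)
  have h1 := congrArg (pullSec h L) hc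
  rw [pullSec_smul, ← res_pullSec, ← res_pullSec, ha, ha] at h1
  simpa only [res_smul, res_res, mul_smul] using h1

variable {R K : CommRingCat.{u}}

theorem Rho.ev_rel {Z : Scheme.{u}} {h : Z ⟶ Y} (ρ : Rho e h) (s : Spec R ⟶ Z) {i j : ι}
    (hi : ⊤ ≤ (s ≫ h) ⁻¹ᵁ W i) (hj : ⊤ ≤ (s ≫ h) ⁻¹ᵁ W j) (c : Γ(Y, W i ⊓ W j))
    (hc : res L inf_le_left (e i) = c • res L inf_le_right (e j)) :
    evR s (W := h ⁻¹ᵁ W i) hi (ρ.val i) =
      evR (s ≫ h) (W := W i ⊓ W j) (le_inf hi hj) c * evR s (W := h ⁻¹ᵁ W j) hj (ρ.val j) := by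
  have := congrArg (evR s (W := h ⁻¹ᵁ (W i ⊓ W j)) (le_inf hi hj)) (ρ.rel i j c hc)
  rw [map_mul, evR_resX, evR_resX] at this
  exact this.trans (congrArg (· * _) (evR_comp s h (W := W i ⊓ W j) (le_inf hi hj) c).symm)

variable (he : ∀ i, Gen L (W i) (e i)) (hW : iSup W = ⊤)

include he hW in
/-- Two systems of units differ by a unit function. -/
theorem Rho.exists_ratio {Z Z' : Scheme.{u}} {h : Z ⟶ Y} {h' : Z' ⟶ Y} (f : Z' ⟶ Z) (eh : f ≫ h = h')
    (ρ : Rho e h) (ρ' : Rho e h') :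
    ∃ w : Γ(Z', ⊤), IsUnit w ∧ ∀ i (s : Spec K ⟶ Z') (hs : ⊤ ≤ (s ≫ h') ⁻¹ᵁ W i)
      (hs' : ⊤ ≤ (s ≫ f) ⁻¹ᵁ (h ⁻¹ᵁ W i)),
      evR (s ≫ f) hs' (ρ.val i) = evR s (W := ⊤) le_top w * evR s (W := h' ⁻¹ᵁ W i) hs (ρ'.val i) := by
  subst eh
  let v' : ∀ i, Γ(Z', (f ≫ h) ⁻¹ᵁ W i) := fun i =>
    (show Γ(Z', (f ≫ h) ⁻¹ᵁ W i) from f.app (h ⁻¹ᵁ W i) (ρ.val i)) * ↑(ρ'.isUnit i).unit⁻¹
  let v : ∀ i, Γ(Coh.structureModule Z', (f ≫ h) ⁻¹ᵁ W i) := v' 
  have hv : ∀ i, toFun (v i) * ρ'.val i = f.app _ (ρ.val i) := fun i => by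
    change _ * _ * _ = _
    rw [mul_assoc, IsUnit.val_inv_mul, mul_one]
  have hcov : (⊤ : Z'.Opens) ≤ ⨆ i, (f ≫ h) ⁻¹ᵁ W i := by
    rw [← Scheme.Hom.preimage_iSup, hW, Scheme.Hom.preimage_top]
  obtain ⟨w, hw, -⟩ := res_glue (M := Coh.structureModule Z') (fun i => (f ≫ h) ⁻¹ᵁ W i)
    (fun _ => le_top) hcov v fun i j => by
    obtain ⟨c, hc⟩ := (he j).exists_coeff (inf_le_right : W i ⊓ W j ≤ W j) (res L inf_le_left (e i))
    have h1 := congrArg (f.app (h ⁻¹ᵁ (W i ⊓ W j))) (ρ.rel i j c hc)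
    have h2 := ρ'.rel i j c hc
    change toFun (res _ _ (v i)) = toFun (res _ _ (v j))
    rw [toFun_res, toFun_res]
    refine ((ρ'.isUnit i).map (resX Z' (inf_le_left : (f ≫ h) ⁻¹ᵁ W i ⊓ (f ≫ h) ⁻¹ᵁ W j ≤ _))).mul_right_cancel ?_
    have nat : ∀ {A B : Z.Opens} (hAB : B ≤ A) (x : Γ(Z, A)),
        f.app B (resX Z hAB x) = resX Z' (f.preimage_mono hAB) (f.app A x) := fun hAB x =>
      congr($(f.naturality (homOfLE hAB).op) x)
    have e1 := congrArg (resX Z' (inf_le_left : (f ≫ h) ⁻¹ᵁ W i ⊓ (f ≫ h) ⁻¹ᵁ W j ≤ _)) (hv i)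
    have e2 := congrArg (resX Z' (inf_le_right : (f ≫ h) ⁻¹ᵁ W i ⊓ (f ≫ h) ⁻¹ᵁ W j ≤ _)) (hv j)
    rw [map_mul] at e1 e2
    rw [map_mul, nat, nat] at h1
    rw [e1]
    refine h1.trans ?_
    refine ((congrArg _ e2.symm).trans ?_).trans (congrArg _ h2).symm
    rw [Scheme.Hom.comp_app]
    exact mul_left_comm _ _ _
  refine ⟨toFun w, ?_, fun i s hs hs' => ?_⟩
  · refine isUnit_iff_exists_inv.2 ?_
    have hgen : Gen (Coh.structureModule Z') ⊤ w := Gen.of_cover _ (fun _ => le_top) hcov fun i => by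
      rw [hw i, eq_toFun_smul_oneSec (v i)]
      exact (gen_oneSec _).smul_unit (((ρ.isUnit i).map _).mul (Units.isUnit _))
    obtain ⟨c, hc⟩ := hgen.exists_coeff le_rfl (oneSec Z' ⊤)
    refine ⟨c, ?_⟩
    have := congrArg toFun hc
    rw [toFun_oneSec, toFun_smul, toFun_res, resX_self] at this
    rw [mul_comm, ← this]
  · have := congrArg (fun x => evR s (W := (f ≫ h) ⁻¹ᵁ W i) hs (toFun x * ρ'.val i)) (hw i)
    simp only [hv, map_mul, toFun_res, evR_resX] at this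
    rw [evR_comp]
    exact this.symm

end Cover

section Descend

variable {X Y : Scheme.{u}} {L : Y.Modules} {ι : Type u} {W : ι → Y.Opens} {e : ∀ i, Γ(L, W i)}

/-- If the values at the generic point of two pullbacks of the transition units differ by units of
the local rings in codimension one, the pullbacks are isomorphic. -/
theorem nonempty_iso_of_rel [IsIntegral X] [IsLocallyNoetherian X]
    (hN : ∀ x : X, IsDomain (X.presheaf.stalk x) ∧ IsIntegrallyClosed (X.presheaf.stalk x))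
    (σp σq : X ⟶ Y) (hL : PicF.IsInvertible L) (he : ∀ i, Gen L (W i) (e i)) (αp αq : ι → X.functionField)
    (hαp : ∀ i, σp (genericPoint X) ∈ W i → αp i ≠ 0)
    (hrp : ∀ i j (c : Γ(Y, W i ⊓ W j)), res L inf_le_left (e i) = c • res L inf_le_right (e j) →
      ∀ h : σp (genericPoint X) ∈ W i ⊓ W j,
        αp i = X.presheaf.germ (σp ⁻¹ᵁ (W i ⊓ W j)) _ h (σp.app _ c) * αp j)
    (hrq : ∀ i j (c : Γ(Y, W i ⊓ W j)), res L inf_le_left (e i) = c • res L inf_le_right (e j) →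
      ∀ h : σq (genericPoint X) ∈ W i ⊓ W j,
        αq i = X.presheaf.germ (σq ⁻¹ᵁ (W i ⊓ W j)) _ h (σq.app _ c) * αq j)
    (H : ∀ x : X, ringKrullDim (X.presheaf.stalk x) ≤ 1 → ∃ i j, σp x ∈ W i ∧ σq x ∈ W j ∧
      ∃ r : X.presheaf.stalk x, IsUnit r ∧
        αq j = algebraMap (X.presheaf.stalk x) X.functionField r * αp i) :
    Nonempty ((Scheme.Modules.pullback σp).obj L ≅ (Scheme.Modules.pullback σq).obj L) := by
  let T := {x : X // ringKrullDim (X.presheaf.stalk x) ≤ 1}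
  choose a b ha hb r hr hab using fun x : T => H x.1 x.2
  have spread : ∀ x : T, ∃ (V : X.Opens) (s : Γ(X, V)) (hx : x.1 ∈ V), IsUnit s ∧
      X.presheaf.germ V x.1 hx s = r x ∧ V ≤ σp ⁻¹ᵁ W (a x) ∧ V ≤ σq ⁻¹ᵁ W (b x) := by
    intro x
    obtain ⟨V, hx, s, hs⟩ := X.presheaf.exists_germ_eq (r x)
    let O := X.basicOpen s ⊓ σp ⁻¹ᵁ W (a x) ⊓ σq ⁻¹ᵁ W (b x)
    refine ⟨O, resX X ((inf_le_left.trans inf_le_left).trans (X.basicOpen_le s)) s,
      ⟨⟨(Scheme.mem_basicOpen X s x.1 hx).2 (hs ▸ hr x), ha x⟩, hb x⟩, ?_, ?_,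
      inf_le_left.trans inf_le_right, inf_le_right⟩
    · rw [← resX_resX (X.basicOpen_le s) (inf_le_left.trans inf_le_left)]
      exact (X.toRingedSpace.isUnit_res_basicOpen s).map _
    · exact (X.presheaf.germ_res_apply _ _ _ s).trans hs
  choose V s hxV hs hgs hVp hVq using spread
  let O : X.Opens := ⨆ x, V x
  have key : Nonempty (((Scheme.Modules.pullback σp).obj L).restrict O.ι ≅ ((Scheme.Modules.pullback σq).obj L).restrict O.ι) := by
    let S : ∀ x, Γ(((Scheme.Modules.pullback σp).obj L), V x) := fun x => res ((Scheme.Modules.pullback σp).obj L) (hVp x) (pullSec σp L (e (a x)))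
    let T' : ∀ x, Γ(((Scheme.Modules.pullback σq).obj L), V x) := fun x =>
      (↑(hs x).unit⁻¹ : Γ(X, V x)) • res ((Scheme.Modules.pullback σq).obj L) (hVq x) (pullSec σq L (e (b x)))
    have hS : ∀ x, Gen ((Scheme.Modules.pullback σp).obj L) (V x) (S x) := fun x => ((he _).pull σp).res _
    have hT : ∀ x, Gen ((Scheme.Modules.pullback σq).obj L) (V x) (T' x) := fun x => (((he _).pull σq).res _).smul_unit (Units.isUnit _)
    have hcompat : ∀ x y (A : X.Opens) (hx : A ≤ V x) (hy : A ≤ V y), genericPoint X ∈ A →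
        ∀ f : Γ(X, A),
        res ((Scheme.Modules.pullback σp).obj L) hx (S x) = f • res ((Scheme.Modules.pullback σp).obj L) hy (S y) →
          res ((Scheme.Modules.pullback σq).obj L) hx (T' x) = f • res ((Scheme.Modules.pullback σq).obj L) hy (T' y) := by
      intro x y A hx hy hA f hf
      obtain ⟨c, hc⟩ := (he (a y)).exists_coeff (inf_le_right : W (a x) ⊓ W (a y) ≤ _)
        (res L inf_le_left (e (a x)))
      obtain ⟨d, hd⟩ := (he (b y)).exists_coeff (inf_le_right : W (b x) ⊓ W (b y) ≤ _)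
        (res L inf_le_left (e (b x)))
      have hp : A ≤ σp ⁻¹ᵁ (W (a x) ⊓ W (a y)) := le_inf (hx.trans (hVp x)) (hy.trans (hVp y))
      have hq : A ≤ σq ⁻¹ᵁ (W (b x) ⊓ W (b y)) := le_inf (hx.trans (hVq x)) (hy.trans (hVq y))
      have h1 := congrArg (res ((Scheme.Modules.pullback σp).obj L) hp) (congrArg (pullSec σp L) hc)
      have h2 := congrArg (res ((Scheme.Modules.pullback σq).obj L) hq) (congrArg (pullSec σq L) hd)
      rw [pullSec_smul, ← res_pullSec, ← res_pullSec] at h1 h2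
      simp only [res_smul, res_res, S] at h1 hf
      have hf' : f = resX X hp (σp.app _ c) :=
        ((he (a y)).pull σp).smul_inj (hy.trans (hVp y)) (hf.symm.trans h1)
      simp only [res_smul, res_res, T'] at h2 ⊢
      rw [h2, ← mul_smul, ← mul_smul]
      congr 1
      refine germ_injective_of_isIntegral X (genericPoint X) hA ?_
      have gη : ∀ z : T, genericPoint X ∈ V z := fun z =>
        ((genericPoint_spec X).mem_open_set_iff (V z).isOpen).2 ⟨_, trivial, hxV z⟩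
      have hg : ∀ z : T, algebraMap (X.presheaf.stalk z.1) X.functionField (r z) =
          X.presheaf.germ (V z) (genericPoint X) (gη z) (s z) := fun z => by
        have : Nonempty (V z) := ⟨⟨_, hxV z⟩⟩
        rw [← hgs z]
        exact Scheme.algebraMap_germ_eq_germToFunctionField X (hxV z) (s z)
      have ex := hab x
      have ey := hab y
      rw [hg] at ex ey
      have eP := hrp _ _ c hc (hp hA)
      have eQ := hrq _ _ d hd (hq hA)
      have ix := congrArg (X.presheaf.germ (V x) (genericPoint X) (gη x)) (hs x).val_inv_mul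
      have iy := congrArg (X.presheaf.germ (V y) (genericPoint X) (gη y)) (hs y).val_inv_mul
      rw [map_mul, map_one] at ix iy
      simp only [hf', map_mul, resX, TopCat.Presheaf.germ_res_apply]
      refine mul_right_cancel₀ (hαp (a y) (hVp y (gη y))) ?_
      generalize X.presheaf.germ (V x) (genericPoint X) (gη x) (s x) = sx at ex ix
      generalize X.presheaf.germ (V y) (genericPoint X) (gη y) (s y) = sy at ey iy
      generalize X.presheaf.germ (V x) (genericPoint X) (gη x) (↑(hs x).unit⁻¹ : Γ(X, V x)) = sxi at ix ⊢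
      generalize X.presheaf.germ (V y) (genericPoint X) (gη y) (↑(hs y).unit⁻¹ : Γ(X, V y)) = syi at iy ⊢
      have k : αp (a y) = syi * αq (b y) := by rw [ey, ← mul_assoc, iy, one_mul]
      linear_combination (sxi * (X.presheaf.germ (σq ⁻¹ᵁ (W (b x) ⊓ W (b y))) _ (hq hA) (σq.app _ d))) * k -
        sxi * syi * eQ + sxi * syi * ex + syi * sx * sxi * eP +
        syi * (X.presheaf.germ (σp ⁻¹ᵁ (W (a x) ⊓ W (a y))) _ (hp hA) (σp.app _ c)) * αp (a y) * ix
    let S' : ∀ x, Γ(((Scheme.Modules.pullback σp).obj L).restrict O.ι, O.ι ⁻¹ᵁ V x) := fun x => res ((Scheme.Modules.pullback σp).obj L) (O.ι.image_preimage_le _) (S x)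
    let T'' : ∀ x, Γ(((Scheme.Modules.pullback σq).obj L).restrict O.ι, O.ι ⁻¹ᵁ V x) := fun x => res ((Scheme.Modules.pullback σq).obj L) (O.ι.image_preimage_le _) (T' x)
    have hgen : ∀ {P : X.Modules} {A : X.Opens} {t : Γ(P, A)}, Gen P A t →
        Gen (P.restrict O.ι) (O.ι ⁻¹ᵁ A) (res P (O.ι.image_preimage_le _) t) := by
      intro P A t ht B hB
      have hB' : O.ι ''ᵁ B ≤ A := (O.ι.image_mono hB).trans (O.ι.image_preimage_le A)
      have := ht (O.ι ''ᵁ B) hB'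
      refine Iff.mpr (Iff.of_eq (congrArg Function.Bijective (funext fun r => ?_))) this
      refine (restrict_smul (M := P) O B r _).trans ?_
      exact congrArg (fun z => HSMul.hSMul (α := Γ(X, O.ι ''ᵁ B)) r z)
        (res_res (M := P) (O.ι.image_preimage_le A) (O.ι.image_mono hB) t)
    obtain ⟨φ, -⟩ := exists_iso_of_gen (U := fun x => O.ι ⁻¹ᵁ V x)
      (L := ((Scheme.Modules.pullback σp).obj L).restrict O.ι)
      (M := ((Scheme.Modules.pullback σq).obj L).restrict O.ι)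
      (by rw [← Scheme.Hom.preimage_iSup]; exact O.ι_preimage_self)
      S' (fun x => hgen (hS x)) T'' (fun x => hgen (hT x)) fun x y f hf => by
      let A := O.ι ''ᵁ (O.ι ⁻¹ᵁ V x ⊓ O.ι ⁻¹ᵁ V y)
      have hx : A ≤ V x := (O.ι.image_mono inf_le_left).trans (O.ι.image_preimage_le _)
      have hy : A ≤ V y := (O.ι.image_mono inf_le_right).trans (O.ι.image_preimage_le _)
      have gη : ∀ z : T, genericPoint X ∈ V z := fun z =>
        ((genericPoint_spec X).mem_open_set_iff (V z).isOpen).2 ⟨_, trivial, hxV z⟩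
      have hA : genericPoint X ∈ A :=
        ⟨⟨_, Opens.mem_iSup.2 ⟨x, gη x⟩⟩, ⟨gη x, gη y⟩, rfl⟩
      have h0 := hf.trans (restrict_smul O _ f _)
      have h1 := (res_res (O.ι.image_preimage_le (V x)) (O.ι.image_mono inf_le_left) (S x)).symm.trans
        (h0.trans (congrArg (fun z => HSMul.hSMul (α := Γ(X, A)) f z)
          (res_res (O.ι.image_preimage_le (V y)) (O.ι.image_mono inf_le_right) (S y))))
      refine Eq.trans ?_ (restrict_smul O _ f _).symm
      exact (res_res (O.ι.image_preimage_le (V x)) (O.ι.image_mono inf_le_left) (T' x)).trans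
        ((hcompat x y A hx hy hA f h1).trans (congrArg (fun z => HSMul.hSMul (α := Γ(X, A)) f z)
          (res_res (O.ι.image_preimage_le (V y)) (O.ι.image_mono inf_le_right) (T' y)).symm))
    exact ⟨φ⟩
  have hfun : FunBij O.ι := funBij_of_two_le_dim hN fun x hx => by
    by_contra hlt
    have hd : ringKrullDim (X.presheaf.stalk x) ≤ 1 := by
      revert hlt
      generalize ringKrullDim (X.presheaf.stalk x) = d
      induction d with
      | bot => simp
      | coe d =>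
        intro hlt
        have h2 : d < (1 + 1 : ℕ∞) := WithBot.coe_lt_coe.1
          ((not_le.1 hlt).trans_eq (by norm_num))
        exact WithBot.coe_le_coe.2 ((ENat.lt_add_one_iff ENat.one_ne_top).1 h2)
    exact hx (Opens.mem_iSup.2 ⟨⟨x, hd⟩, hxV _⟩)
  obtain ⟨φ⟩ := key
  have hNM := restrict_map_bijective (L := (Scheme.Modules.pullback σp).obj L) (secBij_of_isInvertible hfun (isInvertible_pullback σq hL))
  have hMN := restrict_map_bijective (L := ((Scheme.Modules.pullback σq).obj L)) (secBij_of_isInvertible hfun (isInvertible_pullback σp hL))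
  obtain ⟨f, hf⟩ := hNM.2 φ.hom
  obtain ⟨g, hg⟩ := hMN.2 φ.inv
  refine ⟨⟨f, g, ?_, ?_⟩⟩
  · refine (restrict_map_bijective (L := (Scheme.Modules.pullback σp).obj L)
      (secBij_of_isInvertible hfun (isInvertible_pullback σp hL))).1 ?_
    simp only [Functor.map_comp, CategoryTheory.Functor.map_id] at hf hg ⊢
    rw [hf, hg]
    exact φ.hom_inv_id
  · refine (restrict_map_bijective (L := ((Scheme.Modules.pullback σq).obj L))
      (secBij_of_isInvertible hfun (isInvertible_pullback σq hL))).1 ?_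
    simp only [Functor.map_comp, CategoryTheory.Functor.map_id] at hf hg ⊢
    rw [hf, hg]
    exact φ.inv_hom_id

end Descend

end Groth.VarietyBC.HomotopyPic
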