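import Groth.Agent.VarietyBC.HomotopyPicAlg
import Groth.Agent.VarietyBC.HomotopyPicGlue
import Mathlib.AlgebraicGeometry.AffineSpace

/-!
# Affine space over a local ring of a variety as a chart of `X ×ₖ U`
-/

universe u

open CategoryTheory CategoryTheory.Limits AlgebraicGeometry Opposite TopologicalSpace MvPolynomial
open Groth.PicAux

namespace Groth.VarietyBC.HomotopyPic

variable {k : CommRingCat.{u}} {σ : Type u} {R K : CommRingCat.{u}}

/-- Polynomial ring as an object of `CommRingCat`. -/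
noncomputable abbrev polyRing (σ : Type u) (R : CommRingCat.{u}) : CommRingCat.{u} := .of (MvPolynomial σ R)

/-- `Spec R[t] ⟶ 𝔸ⁿ_k`. -/
noncomputable def ch (φ : k ⟶ R) : Spec (polyRing σ R) ⟶ 𝔸(σ; Spec k) :=
  Spec.map (CommRingCat.ofHom (MvPolynomial.map φ.hom)) ≫ (AffineSpace.SpecIso σ k).inv

theorem ch_over (φ : k ⟶ R) :
    ch φ ≫ (𝔸(σ; Spec k) ↘ Spec k) = Spec.map (CommRingCat.ofHom (C (σ := σ) (R := R))) ≫ Spec.map φ := by
  rw [ch, Category.assoc, AffineSpace.SpecIso_inv_over, ← Spec.map_comp, ← Spec.map_comp]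
  congr 1
  ext x
  simp

/-- The point of affine space with the given coordinates. -/
noncomputable def pt (v : σ → k) : Spec k ⟶ 𝔸(σ; Spec k) :=
  Spec.map (CommRingCat.ofHom (eval v)) ≫ (AffineSpace.SpecIso σ k).inv

theorem exists_pt (p : Spec k ⟶ 𝔸(σ; Spec k)) (hp : p ≫ (𝔸(σ; Spec k) ↘ Spec k) = 𝟙 _) :
    ∃ v : σ → k, p = pt v := by
  obtain ⟨ε, hε⟩ := Spec.map_surjective (p ≫ (AffineSpace.SpecIso σ k).hom)
  have hC : CommRingCat.ofHom (C (σ := σ)) ≫ ε = 𝟙 k := Spec.map_injective (by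
    refine Eq.trans ?_ (Spec.map_id k).symm
    rw [Spec.map_comp, hε, Category.assoc, ← AffineSpace.SpecIso_inv_over,
      Iso.hom_inv_id_assoc, hp])
  refine ⟨fun i => ε.hom (X i), ?_⟩
  have he : ε = CommRingCat.ofHom (eval fun i => ε.hom (X i)) := by
    refine CommRingCat.hom_ext (MvPolynomial.ringHom_ext (fun r => ?_) fun i => ?_)
    · exact (congr($hC r) : ε.hom (C r) = r).trans (eval_C r).symm
    · exact (eval_X (f := fun i => ε.hom (X i)) i).symm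
  rw [pt, ← he, hε, Category.assoc, Iso.hom_inv_id, Category.comp_id]

theorem specMap_eval_ch (φ : k ⟶ R) (v : σ → k) :
    Spec.map (CommRingCat.ofHom (eval fun i => φ (v i))) ≫ ch φ = Spec.map φ ≫ pt v := by
  rw [ch, pt, ← Category.assoc, ← Category.assoc, ← Spec.map_comp, ← Spec.map_comp]
  congr 2
  refine CommRingCat.hom_ext (MvPolynomial.ringHom_ext (fun r => ?_) fun i => ?_) <;> simp

theorem ch_comp (φ : k ⟶ R) (ψ : R ⟶ K) :
    ch (σ := σ) (φ ≫ ψ) = Spec.map (CommRingCat.ofHom (MvPolynomial.map ψ.hom)) ≫ ch φ := by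
  rw [ch, ch, ← Category.assoc, ← Spec.map_comp]
  congr 2
  refine CommRingCat.hom_ext (RingHom.ext fun x => ?_)
  exact (MvPolynomial.map_map φ.hom ψ.hom x).symm

variable {U : (𝔸(σ; Spec k)).Opens}

/-- The preimage of `U` in `Spec R[t]`. -/
noncomputable abbrev oR (U : (𝔸(σ; Spec k)).Opens) (φ : k ⟶ R) : (Spec (polyRing σ R)).Opens :=
  ch φ ⁻¹ᵁ U

/-- The chart `oR U φ ⟶ X ×ₖ U`. -/
noncomputable def jMap (U : (𝔸(σ; Spec k)).Opens) {X : Scheme.{u}} (sX : X ⟶ Spec k) (φ : k ⟶ R)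
    (g : Spec R ⟶ X) (hg : g ≫ sX = Spec.map φ) :
    (oR U φ : Scheme.{u}) ⟶ pullback sX (U.ι ≫ (𝔸(σ; Spec k) ↘ Spec k)) :=
  pullback.lift ((oR U φ).ι ≫ Spec.map (CommRingCat.ofHom (C (σ := σ))) ≫ g) (ch φ ∣_ U) (by
    rw [← Category.assoc (ch φ ∣_ U), morphismRestrict_ι, Category.assoc, Category.assoc,
      Category.assoc, hg, ch_over])

/-- The point of `oR U φ` given by a rational point of `U`. -/
noncomputable def sec (φ : k ⟶ R) (p : Spec k ⟶ (U : Scheme.{u})) (v : σ → k) (hpv : p ≫ U.ι = pt v) :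
    Spec R ⟶ (oR U φ : Scheme.{u}) :=
  IsOpenImmersion.lift (oR U φ).ι (Spec.map (CommRingCat.ofHom (eval fun i => φ (v i)))) (by
    rw [Scheme.Opens.range_ι]
    rintro _ ⟨y, rfl⟩
    show ch φ _ ∈ U
    rw [← Scheme.Hom.comp_apply, specMap_eval_ch, ← hpv, Scheme.Hom.comp_apply,
      Scheme.Hom.comp_apply]
    exact (p _).2)

@[reassoc]
theorem sec_ι (φ : k ⟶ R) (p : Spec k ⟶ (U : Scheme.{u})) (v : σ → k) (hpv : p ≫ U.ι = pt v) :
    sec φ p v hpv ≫ (oR U φ).ι = Spec.map (CommRingCat.ofHom (eval fun i => φ (v i))) :=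
  IsOpenImmersion.lift_fac _ _ _

theorem sec_jMap {X : Scheme.{u}} (sX : X ⟶ Spec k) (φ : k ⟶ R) (g : Spec R ⟶ X)
    (hg : g ≫ sX = Spec.map φ) (p : Spec k ⟶ (U : Scheme.{u})) (v : σ → k) (hpv : p ≫ U.ι = pt v)
    (σp : X ⟶ pullback sX (U.ι ≫ (𝔸(σ; Spec k) ↘ Spec k))) (h₁ : σp ≫ pullback.fst _ _ = 𝟙 X)
    (h₂ : σp ≫ pullback.snd _ _ = sX ≫ p) :
    sec φ p v hpv ≫ jMap U sX φ g hg = g ≫ σp := by
  apply pullback.hom_ext
  · rw [Category.assoc, Category.assoc, jMap, pullback.lift_fst, h₁, Category.comp_id, sec_ι_assoc,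
      ← Category.assoc, ← Spec.map_comp]
    have : CommRingCat.ofHom (C (σ := σ)) ≫ CommRingCat.ofHom (eval fun i => φ (v i)) = 𝟙 R :=
      CommRingCat.hom_ext (RingHom.ext fun x => eval_C x)
    rw [this]
    exact (congrArg (· ≫ g) (Spec.map_id R)).trans (Category.id_comp g)
  · rw [Category.assoc, Category.assoc, jMap, pullback.lift_snd, h₂, ← Category.assoc g, hg,
      ← cancel_mono U.ι, Category.assoc, morphismRestrict_ι, Category.assoc, hpv,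
      ← specMap_eval_ch φ v]
    exact sec_ι_assoc φ p v hpv (ch φ)

theorem oR_comp (φ : k ⟶ R) (ψ : R ⟶ K) :
    oR U (φ ≫ ψ) = Spec.map (CommRingCat.ofHom (MvPolynomial.map (σ := σ) ψ.hom)) ⁻¹ᵁ oR U φ := by
  rw [oR, ch_comp]; rfl

/-- The map between the charts. -/
noncomputable def tr (φ : k ⟶ R) (ψ : R ⟶ K) : (oR U (φ ≫ ψ) : Scheme.{u}) ⟶ (oR U φ : Scheme.{u}) :=
  (Spec.map (CommRingCat.ofHom (MvPolynomial.map (σ := σ) ψ.hom))).resLE _ _ (oR_comp φ ψ).le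

theorem tr_jMap {X : Scheme.{u}} (sX : X ⟶ Spec k) (φ : k ⟶ R) (ψ : R ⟶ K) (g : Spec R ⟶ X)
    (hg : g ≫ sX = Spec.map φ) (hg' : (Spec.map ψ ≫ g) ≫ sX = Spec.map (φ ≫ ψ)) :
    tr φ ψ ≫ jMap U sX φ g hg = jMap U sX (φ ≫ ψ) (Spec.map ψ ≫ g) hg' := by
  apply pullback.hom_ext
  · rw [Category.assoc, jMap, pullback.lift_fst, jMap, pullback.lift_fst, tr,
      Scheme.Hom.resLE_comp_ι_assoc, ← Category.assoc (Spec.map _) (Spec.map _) g, ← Spec.map_comp,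
      ← Category.assoc (Spec.map _) (Spec.map ψ) g, ← Spec.map_comp]
    congr 3
    exact CommRingCat.hom_ext (RingHom.ext fun x => MvPolynomial.map_C _ x)
  · rw [Category.assoc, jMap, pullback.lift_snd, jMap, pullback.lift_snd, ← cancel_mono U.ι,
      Category.assoc, morphismRestrict_ι, morphismRestrict_ι, tr, ← Category.assoc,
      Scheme.Hom.resLE_comp_ι, Category.assoc]
    exact congrArg ((oR U (φ ≫ ψ)).ι ≫ ·) (ch_comp φ ψ).symm

theorem sec_tr (φ : k ⟶ R) (ψ : R ⟶ K) (p : Spec k ⟶ (U : Scheme.{u})) (v : σ → k)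
    (hpv : p ≫ U.ι = pt v) :
    sec (φ ≫ ψ) p v hpv ≫ tr φ ψ = Spec.map ψ ≫ sec φ p v hpv := by
  rw [← cancel_mono (oR U φ).ι, Category.assoc, Category.assoc, tr, Scheme.Hom.resLE_comp_ι,
    sec_ι_assoc, sec_ι, ← Spec.map_comp, ← Spec.map_comp]
  congr 1
  refine CommRingCat.hom_ext (MvPolynomial.ringHom_ext (fun r => ?_) fun i => ?_) <;> simp

/-- Unit functions on the generic chart take values at two rational points differing by a unit. -/
theorem exists_unit_rel [IsDomain R] [IsDomain K] [UniqueFactorizationMonoid (MvPolynomial σ R)]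
    [UniqueFactorizationMonoid (MvPolynomial σ K)] (φ : k ⟶ R)
    (ψ : R ⟶ K) (hfrac : @IsFractionRing R _ K _ ψ.hom.toAlgebra)
    (p q : Spec k ⟶ (U : Scheme.{u})) (vp vq : σ → k) (hp : p ≫ U.ι = pt vp) (hq : q ≫ U.ι = pt vq)
    (w : Γ((oR U (φ ≫ ψ) : Scheme.{u}), ⊤)) (hw : IsUnit w) :
    ∃ u : R, IsUnit u ∧ evR (sec (φ ≫ ψ) q vq hq) (W := ⊤) le_top w =
      ψ u * evR (sec (φ ≫ ψ) p vp hp) (W := ⊤) le_top w := by
  let _ : Algebra R K := ψ.hom.toAlgebra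
  obtain ⟨a, b, hab, he⟩ := exists_div_eq (polyRing σ K) (oR U (φ ≫ ψ)) w hw
  have hev : ∀ (r : Spec k ⟶ (U : Scheme.{u})) (v : σ → k) (hr : r ≫ U.ι = pt v)
      (c : MvPolynomial σ K), evR (sec (φ ≫ ψ) r v hr) (W := ⊤) le_top
        (((Scheme.ΓSpecIso (polyRing σ K)).inv ≫ (oR U (φ ≫ ψ)).ι.appTop) c) =
        eval (algebraMap R K ∘ fun i => φ (v i)) c := by
    intro r v hr c
    change (((Scheme.ΓSpecIso (polyRing σ K)).inv ≫ (oR U (φ ≫ ψ)).ι.appTop) ≫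
      (sec (φ ≫ ψ) r v hr).appLE ⊤ ⊤ le_top ≫ (Scheme.ΓSpecIso K).hom) c = _
    have : (oR U (φ ≫ ψ)).ι.appTop ≫ (sec (φ ≫ ψ) r v hr).appLE ⊤ ⊤ le_top =
        (Spec.map (CommRingCat.ofHom (eval fun i => (φ ≫ ψ) (v i)))).appTop := by
      rw [← sec_ι (φ ≫ ψ) r v hr, Scheme.Hom.comp_appTop]
      exact congrArg ((oR U (φ ≫ ψ)).ι.appTop ≫ ·) (sec (φ ≫ ψ) r v hr).app_eq_appLE.symm
    rw [Category.assoc, reassoc_of% this, Scheme.ΓSpecIso_naturality, Iso.inv_hom_id_assoc]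
    rfl
  have hmem : ∀ (r : Spec k ⟶ (U : Scheme.{u})) (v : σ → k) (hr : r ≫ U.ι = pt v)
      (m : PrimeSpectrum R), PrimeSpectrum.comap (eval fun i => φ (v i)) m ∈
        ((oR U φ).carrier : Set (PrimeSpectrum (MvPolynomial σ R))) := by
    intro r v hr m
    have h := (sec φ r v hr m).2
    have e : (oR U φ).ι (sec φ r v hr m) = Spec.map (CommRingCat.ofHom (eval fun i => φ (v i))) m := by
      rw [← Scheme.Hom.comp_apply, sec_ι]
    exact Set.mem_of_eq_of_mem e.symm h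
  have key : ∀ c : MvPolynomial σ K, (∀ P : Spec (polyRing σ K), P ∈ oR U (φ ≫ ψ) → c ∉ P.asIdeal) →
      ∃ u : Rˣ, eval (algebraMap R K ∘ fun i => φ (vq i)) c =
        algebraMap R K u * eval (algebraMap R K ∘ fun i => φ (vp i)) c := fun c hc =>
    exists_unit_eval ((oR U φ).carrier : Set (PrimeSpectrum (MvPolynomial σ R)))
      (fun P Q hPQ hQ => Specializes.mem_open (X := PrimeSpectrum (MvPolynomial σ R))
        ((PrimeSpectrum.le_iff_specializes _ _).1 hPQ) (oR U φ).isOpen hQ)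
      _ _ (hmem p vp hp) (hmem q vq hq) c fun Q hQ => hc Q ((oR_comp φ ψ).ge hQ)
  obtain ⟨u₁, hu₁⟩ := key a fun P hP => (hab P hP).1
  obtain ⟨u₂, hu₂⟩ := key b fun P hP => (hab P hP).2
  refine ⟨u₁ * ↑u₂⁻¹, u₁.isUnit.mul (Units.isUnit _), ?_⟩
  have hb0 : eval (algebraMap R K ∘ fun i => φ (vp i)) b ≠ 0 := by
    intro h0
    have := (hab ((oR U (φ ≫ ψ)).ι (sec (φ ≫ ψ) p vp hp (⟨⊥, Ideal.isPrime_bot⟩ : PrimeSpectrum K)))
      (sec (φ ≫ ψ) p vp hp _).2).2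
    apply this
    rw [← Scheme.Hom.comp_apply, sec_ι]
    exact Ideal.mem_comap.2 ((Submodule.mem_bot K).2
      (h0 : eval (fun i => (φ ≫ ψ) (vp i)) b = 0))
  have e1 := congrArg (evR (sec (φ ≫ ψ) q vq hq) (W := ⊤) le_top) he
  have e2 := congrArg (evR (sec (φ ≫ ψ) p vp hp) (W := ⊤) le_top) he
  rw [map_mul, hev, hev, hu₁, hu₂] at e1
  rw [map_mul, hev, hev] at e2
  rw [← e2] at e1
  have h2 : algebraMap R K ↑u₂ * algebraMap R K ↑u₂⁻¹ = 1 := by
    rw [← map_mul, Units.mul_inv, map_one]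
  change _ = algebraMap R K (↑u₁ * ↑u₂⁻¹) * _
  refine mul_right_cancel₀ hb0 ?_
  rw [map_mul]
  linear_combination (algebraMap R K ↑u₂⁻¹) * e1 -
    (evR (sec (φ ≫ ψ) q vq hq) (W := ⊤) le_top w * eval (algebraMap R K ∘ fun i => φ (vp i)) b) * h2

end Groth.VarietyBC.HomotopyPic
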