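import Groth.Agent.Inter.PushFormula
import Groth.Agent.Curves1.RR.PullDeg
import Groth.Agent.WeilCoh.DimResidue
import Mathlib.RingTheory.Length

/-!
# Intersection symbols on a variety and on its image
-/

set_option autoImplicit false
set_option linter.style.haveILetI false
set_option backward.isDefEq.respectTransparency.types false

universe u

open CategoryTheory CategoryTheory.Limits AlgebraicGeometry TopologicalSpace

namespace Groth.VarietyBC.InterPushDeg

open Groth.Inter Groth.CohTwo

variable {X Z : Scheme.{u}} [IsIntegral Z]

/-- The length of the direct image of the structure sheaf at the image of the generic point. -/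
theorem toNat_length_push_stalk (g : Z ⟶ X) (hc : IsClosedMap g)
    (hu : ∀ x : Z, g x = g (genericPoint Z) → x = genericPoint Z) :
    (Module.length (X.presheaf.stalk (g (genericPoint Z)))
      (((Scheme.Modules.pushforward g).obj (Coh.structureModule Z)).presheaf.stalk
        (g (genericPoint Z)))).toNat = g.residueDegree (genericPoint Z) := by
  have hK : IsField (Z.presheaf.stalk (genericPoint Z)) := Field.toIsField Z.functionField
  letI := (g.residueFieldMap (genericPoint Z)).hom.toAlgebra
  letI : Algebra (X.presheaf.stalk (g (genericPoint Z))) (X.residueField (g (genericPoint Z))) :=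
    (X.residue (g (genericPoint Z))).hom.toAlgebra
  letI : Algebra (X.presheaf.stalk (g (genericPoint Z))) (Z.residueField (genericPoint Z)) :=
    ((g.residueFieldMap (genericPoint Z)).hom.comp (X.residue (g (genericPoint Z))).hom).toAlgebra
  have : IsScalarTower (X.presheaf.stalk (g (genericPoint Z))) (X.residueField (g (genericPoint Z)))
      (Z.residueField (genericPoint Z)) := IsScalarTower.of_algebraMap_eq fun _ => rfl
  have hres : Function.Bijective (Z.residue (genericPoint Z)).hom :=
    ⟨by letI := hK.toField; exact RingHom.injective _, Z.residue_surjective _⟩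
  let e₁ : ((Scheme.Modules.pushforward g).obj (Coh.structureModule Z)).presheaf.stalk
      (g (genericPoint Z)) ≃+ Z.residueField (genericPoint Z) :=
    ((AddEquiv.ofBijective _ (Groth.Curves1.RR.bijective_pushStalk_genericPoint g hc hu)).trans
      (Groth.RefRank.oneEquiv (X := Z) (genericPoint Z)).symm.toAddEquiv).trans
        (RingEquiv.ofBijective _ hres).toAddEquiv
  let e : ((Scheme.Modules.pushforward g).obj (Coh.structureModule Z)).presheaf.stalk
      (g (genericPoint Z)) ≃ₗ[X.presheaf.stalk (g (genericPoint Z))]
        Z.residueField (genericPoint Z) :=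
    e₁.toLinearEquiv fun a t => by
      show (Z.residue (genericPoint Z)).hom ((Groth.RefRank.oneEquiv (X := Z) (genericPoint Z)).symm
          (pushStalk g _ _ (a • t))) = g.residueFieldMap (genericPoint Z) (X.residue _ a) * _
      rw [pushStalk_smul, map_smul, smul_eq_mul, map_mul]
      rfl
  rw [e.length_eq, Module.length_eq_of_surjective (R := X.residueField (g (genericPoint Z)))
    (S := X.presheaf.stalk (g (genericPoint Z))) (M := Z.residueField (genericPoint Z))
    (X.residue_surjective _), Module.length_eq_rank, Cardinal.toNat_toENat]
  rfl

variable (k : Type u) [Field k] [X.Over (Spec (CommRingCat.of k))] [Z.Over (Spec (CommRingCat.of k))]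
  [IsProper (X ↘ Spec (CommRingCat.of k))] [IsProper (Z ↘ Spec (CommRingCat.of k))]

/-- Projection formula for a morphism out of a variety. -/
theorem delta_pullback_structure (g : Z ⟶ X)
    (hg : g ≫ (X ↘ Spec (CommRingCat.of k)) = Z ↘ Spec (CommRingCat.of k))
    {l : List X.Modules} (hl : ∀ M ∈ l, PicF.IsInvertible M)
    (hd : topologicalKrullDim Z = (l.length : ℕ)) :
    delta k (l.map (Scheme.Modules.pullback g).obj) (Coh.structureModule Z) =
      (g.residueDegree (genericPoint Z) : ℤ) *
        delta k l (Cyc.closureStructureSheaf (g (genericPoint Z))) := by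
  classical
  have hN : IsNoetherian X := isNoetherian k
  have hNZ : IsNoetherian Z := isNoetherian k
  have : IsProper g := by
    have : IsProper (g ≫ (X ↘ Spec (CommRingCat.of k))) := hg ▸ inferInstance
    exact IsProper.of_comp g (X ↘ Spec (CommRingCat.of k))
  let O := Coh.structureModule Z
  have hO : Coh.IsCoh O :=
    Groth.Inter.isCoh_of_isInvertible (EulerDeg.isInvertible_structureModule Z)
  rw [delta_pullback_eq k g hg hl hO ((topologicalKrullDim_subspace_le Z _).trans hd.le)]
  have hP := isCoh_push_proper g hO
  have hsub : CohB1.support ((Coh.push g).obj O) ⊆ closure {g (genericPoint Z)} := fun x hx => by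
    obtain ⟨z, -, rfl⟩ := support_push_subset' g O (CohTwo.isClosed_support _ hO) hx
    exact ((genericPoint_specializes z).map g.continuous).mem_closure
  have hhη : (Order.height (genericPoint Z) : WithBot ℕ∞) = (l.length : ℕ) := by
    rw [← Variety2.Dim.dim_closure_singleton, genericPoint_closure, ← hd]
    exact (Homeomorph.Set.univ Z).isHomeomorph.topologicalKrullDim_eq
  have hξd : topologicalKrullDim (closure ({g (genericPoint Z)} : Set X)) ≤ (l.length : ℕ) := by
    rw [Variety2.Dim.dim_closure_singleton, ← hhη, WithBot.coe_le_coe]
    exact height_apply_le g _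
  have hdim := (LocCohTransform.topologicalKrullDim_mono hsub).trans hξd
  rcases hξd.lt_or_eq with hlt | heq
  · rw [delta_eq_zero k l hl _ hP ((LocCohTransform.topologicalKrullDim_mono hsub).trans_lt hlt)]
    have h0 : g.residueDegree (genericPoint Z) = 0 := by
      by_contra h
      have h1 := Groth.WeilCoh.height_eq_of_residueDegree_ne_zero g
        (X ↘ Spec (CommRingCat.of k)) (Z ↘ Spec (CommRingCat.of k)) hg _ h
      rw [Variety2.Dim.dim_closure_singleton, ← hhη, WithBot.coe_lt_coe] at hlt
      have h2 : Order.height (genericPoint Z) = (l.length : ℕ) := WithBot.coe_inj.1 hhη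
      rw [h2] at h1 hlt
      obtain ⟨m, hm⟩ := ENat.ne_top_iff_exists.1 (ne_top_of_lt hlt)
      rw [← hm] at h1 hlt
      simp at h1 hlt
      omega
    rw [h0, Nat.cast_zero, zero_mul]
  · have hu : ∀ x : Z, g x = g (genericPoint Z) → x = genericPoint Z := fun x hx => by
      refine eq_of_dim_closure (n := l.length) (genericPoint_specializes x).mem_closure ?_ ?_
      · rw [Variety2.Dim.dim_closure_singleton, hhη]
      · rw [← heq, Variety2.Dim.dim_closure_singleton, Variety2.Dim.dim_closure_singleton,
          WithBot.coe_le_coe, ← hx]
        exact height_apply_le g x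
    rw [delta_eq_sum_length k hl hP hdim
      (({g (genericPoint Z)} : Finset X).filter fun x => x ∈ CohB1.support ((Coh.push g).obj O))]
    swap
    · intro x
      simp only [Finset.mem_filter, Finset.mem_singleton]
      constructor
      · rintro ⟨rfl, hx⟩
        exact ⟨hx, heq⟩
      · rintro ⟨hx, hxd⟩
        exact ⟨eq_of_dim_closure (hsub hx) hξd hxd.ge, hx⟩
    rw [← toNat_length_push_stalk g g.isClosedMap hu]
    by_cases hmem : g (genericPoint Z) ∈ CohB1.support ((Coh.push g).obj O)
    · rw [Finset.sum_eq_single (g (genericPoint Z))]
      · intro b hb hne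
        simp only [Finset.mem_filter, Finset.mem_singleton] at hb
        exact absurd hb.1 hne
      · intro h
        simp [hmem] at h
    · rw [Finset.sum_eq_zero]
      · have : Module.length (X.presheaf.stalk (g (genericPoint Z)))
            (((Scheme.Modules.pushforward g).obj (Coh.structureModule Z)).presheaf.stalk
              (g (genericPoint Z))) = 0 := Module.length_eq_zero_iff.2 (not_not.1 hmem)
        simp [this]
      · intro b hb
        simp only [Finset.mem_filter, Finset.mem_singleton] at hb
        exact absurd (hb.1 ▸ hb.2) hmem

end Groth.VarietyBC.InterPushDeg
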