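import Groth.Agent.VarietyBC.DeltaFlat
import Mathlib

/-!
# The δ-invariant along an extension of the ground field
-/

set_option autoImplicit false
set_option linter.style.haveILetI false
set_option synthInstance.maxHeartbeats 400000

universe u

open IsLocalRing TensorProduct
open scoped nonZeroDivisors

namespace Groth.VarietyBC.DeltaFieldExt

variable {k A K : Type u} [Field k] [CommRing A] [Algebra k A] [Field K] [Algebra k K]

/-- Tensoring a localization of `A ⊗ K` with an `A`-algebra `L` with `L ⊗ K` reduced gives a reduced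
ring. -/
theorem isReduced_tensor_localization (P : Ideal (A ⊗[k] K)) [P.IsPrime] (B : Type u) [CommRing B]
    [Algebra (A ⊗[k] K) B] [IsLocalization.AtPrime B P] [Algebra A B] [IsScalarTower A (A ⊗[k] K) B]
    (L : Type u) [CommRing L] [Algebra A L] [Algebra k L] [IsScalarTower k A L]
    (h : IsReduced (L ⊗[k] K)) : IsReduced (B ⊗[A] L) := by
  let e₁ : (A ⊗[k] K) ⊗[A] L ≃+* L ⊗[A] (A ⊗[k] K) :=
    (Algebra.TensorProduct.comm A (A ⊗[k] K) L).toRingEquiv
  let e₂ : L ⊗[A] (A ⊗[k] K) ≃+* L ⊗[k] K :=
    (Algebra.TensorProduct.cancelBaseChange k A L L K).toRingEquiv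
  haveI : IsReduced ((A ⊗[k] K) ⊗[A] L) :=
    isReduced_of_injective (e₁.trans e₂).toRingHom (e₁.trans e₂).injective
  let f : (A ⊗[k] K) ⊗[A] L →ₐ[A] B ⊗[A] L :=
    Algebra.TensorProduct.map (IsScalarTower.toAlgHom A (A ⊗[k] K) B) (AlgHom.id A L)
  letI : Algebra ((A ⊗[k] K) ⊗[A] L) (B ⊗[A] L) := f.toRingHom.toAlgebra
  haveI : IsScalarTower (A ⊗[k] K) ((A ⊗[k] K) ⊗[A] L) (B ⊗[A] L) :=
    IsScalarTower.of_algebraMap_eq fun t => by
      show _ = f (t ⊗ₜ[A] (1 : L))
      simp [f]
  haveI := IsLocalization.tensorProduct_tensorProduct (R := A) (S := L) P.primeCompl B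
    (RingHom.ext fun l => by
      show f ((1 : A ⊗[k] K) ⊗ₜ[A] l) = (1 : B) ⊗ₜ[A] l
      simp [f])
  exact isReduced_localizationPreserves
    (Algebra.algebraMapSubmonoid ((A ⊗[k] K) ⊗[A] L) P.primeCompl) _ inferInstance

variable [IsLocalRing A] [IsNoetherianRing A] [IsReduced A]
  [Module.Finite A (integralClosure A (FractionRing A))]

/-- The δ-invariant does not change at a point of `X_K` of the same dimension, if the residue fields
of the normalization are geometrically reduced. -/
theorem deltaInv_eq (P : Ideal (A ⊗[k] K)) [P.IsPrime] (B : Type u) [CommRing B] [IsLocalRing B]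
    [IsNoetherianRing B] [Algebra (A ⊗[k] K) B] [IsLocalization.AtPrime B P] [Algebra A B]
    [IsScalarTower A (A ⊗[k] K) B] [IsLocalHom (algebraMap A B)]
    (hdA : ringKrullDim A = 1) (hdB : ringKrullDim B = 1)
    (hsep : ∀ M : Ideal (integralClosure A (FractionRing A)), M.IsMaximal →
      IsReduced (((integralClosure A (FractionRing A)) ⧸ M) ⊗[k] K)) :
    Curv2.deltaInv B = Curv2.deltaInv A := by
  classical
  let A' := integralClosure A (FractionRing A)
  haveI : Module.Flat A (A ⊗[k] K) := inferInstance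
  haveI : Module.Flat (A ⊗[k] K) B := IsLocalization.flat B P.primeCompl
  haveI : Module.Flat A B := Module.Flat.trans A (A ⊗[k] K) B
  haveI : Algebra.IsIntegral A A' := Algebra.IsIntegral.of_finite A _
  have hred : ∀ M : Ideal A', M.IsMaximal → IsReduced (B ⊗[A] (A' ⧸ M)) := fun M hM => by
    exact isReduced_tensor_localization P B (A' ⧸ M) (hsep M hM)
  -- the special fibre is reduced
  have hmax : (maximalIdeal A).map (algebraMap A B) = maximalIdeal B := by
    let I := (maximalIdeal A).map (algebraMap A B)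
    have hIle : I ≤ maximalIdeal B := ((local_hom_TFAE _).out 0 2).1 ‹_›
    obtain ⟨M, hM⟩ := Ideal.exists_maximal A'
    haveI := hM
    haveI := hred M hM
    have hMA : M.comap (algebraMap A A') = maximalIdeal A :=
      eq_maximalIdeal (Ideal.isMaximal_comap_of_isIntegral_of_isMaximal M)
    let g : A ⧸ maximalIdeal A →ₐ[A] A' ⧸ M := Ideal.Quotient.liftₐ (maximalIdeal A)
      (IsScalarTower.toAlgHom A A (A' ⧸ M) ) fun a ha => by
        show algebraMap A (A' ⧸ M) a = 0
        rw [IsScalarTower.algebraMap_apply A A' (A' ⧸ M)]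
        exact Ideal.Quotient.eq_zero_iff_mem.2 (hMA.ge ha)
    have hg : Function.Injective g := by
      letI := Ideal.Quotient.field (maximalIdeal A)
      haveI : Nontrivial (A' ⧸ M) := Ideal.Quotient.nontrivial_iff.2 hM.ne_top
      exact g.toRingHom.injective
    let G : B ⊗[A] (A ⧸ maximalIdeal A) →ₐ[A] B ⊗[A] (A' ⧸ M) :=
      Algebra.TensorProduct.map (AlgHom.id A B) g
    have hG : Function.Injective G :=
      Module.Flat.lTensor_preserves_injective_linearMap (M := B) g.toLinearMap hg
    haveI : IsReduced (B ⊗[A] (A ⧸ maximalIdeal A)) := isReduced_of_injective G.toRingHom hG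
    haveI : IsReduced (B ⧸ I) := isReduced_of_injective
      (Algebra.TensorProduct.quotIdealMapEquivTensorQuot B (maximalIdeal A)).toRingEquiv.toRingHom
      (Algebra.TensorProduct.quotIdealMapEquivTensorQuot B (maximalIdeal A)).injective
    obtain ⟨s, hsm, hs⟩ := DeltaFlat.exists_regular A hdA
    have hdim0 : ∀ q : Ideal B, q.IsPrime → I ≤ q → q.IsMaximal := by
      intro q hq hIq
      by_contra hnot
      haveI := hq
      have hlt : q < maximalIdeal B := lt_of_le_of_ne (le_maximalIdeal hq.ne_top) fun h =>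
        hnot (h ▸ maximalIdeal.isMaximal B)
      obtain ⟨q₀, hq₀, hle⟩ := Ideal.exists_minimalPrimes_le (bot_le : (⊥ : Ideal B) ≤ q)
      have hne : q₀ ≠ q := fun h => by
        have h1 : algebraMap A B s ∈ q₀ := h ▸ hIq (Ideal.mem_map_of_mem _ hsm)
        exact Set.disjoint_left.1 (Ideal.disjoint_nonZeroDivisors_of_mem_minimalPrimes hq₀) h1
          (DeltaFlat.map_nonZeroDivisors A B hs)
      have hlt0 : q₀ < q := lt_of_le_of_ne hle hne
      let l : LTSeries (PrimeSpectrum B) :=
        { length := 2
          toFun := ![⟨q₀, hq₀.isPrime⟩, ⟨q, hq⟩, ⟨maximalIdeal B, inferInstance⟩]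
          step := fun i => by
            match i with
            | 0 => exact hlt0
            | 1 => exact hlt }
      have h3 := Order.LTSeries.length_le_krullDim l
      rw [show Order.krullDim (PrimeSpectrum B) = ringKrullDim B from rfl, hdB] at h3
      norm_cast at h3
    refine le_antisymm hIle fun x hx => ?_
    obtain ⟨u, hu, hux⟩ := DeltaFlat.exists_mul_mem_of_isReduced I (maximalIdeal B) hIle hdim0 hx
    exact (Ideal.unit_mul_mem_iff_mem _ (notMem_maximalIdeal.1 hu)).1 hux
  refine DeltaFlat.deltaInv_eq_of_reduced A B hdA hmax fun M hM => ?_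
  haveI := hred M hM
  exact isReduced_of_injective
    (Algebra.TensorProduct.tensorQuotientEquiv (R := A) A A' B M).symm.toRingEquiv.toRingHom
    (Algebra.TensorProduct.tensorQuotientEquiv (R := A) A A' B M).symm.injective

end Groth.VarietyBC.DeltaFieldExt
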