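import Groth.Agent.VarietyBC.PicGlue
import Groth.Agent.S7669
import Groth.Agent.GlueRings.TwoSemilocal
import Groth.Agent.PropsBasic2.SepGen
import Groth.Agent.Chow.AmpleTwist

/-!
# Globally generated invertible modules on separated noetherian schemes of dimension at most one
with a prescribed affine dense open as non-vanishing locus
-/

set_option autoImplicit false
set_option linter.style.haveILetI false
universe u

open CategoryTheory AlgebraicGeometry TopologicalSpace Opposite
open Groth.PicAux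

namespace Groth.VarietyBC.CurveAmple

variable {X : Scheme.{u}}

theorem closure_inf_eq_top [X.IsSeparated] {U V : X.Opens} (hU : IsAffineOpen U)
    (hV : IsAffineOpen V) : IsAffineOpen (U ⊓ V) ∧
      Subring.closure (Set.range (resX X (inf_le_left : U ⊓ V ≤ U)) ∪
        Set.range (resX X (inf_le_right : U ⊓ V ≤ V))) = ⊤ :=
  (Groth.PropsBasic2.SepGen.key (Limits.terminal.from X) hU hV).1
    (MorphismProperty.of_isPullback
      (Groth.PropsBasic2.SepGen.isPullback_diag (Limits.terminal.from X) U V).flip inferInstance)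

/-- Evaluation at a point. -/
noncomputable def ev {z : X} {V : X.Opens} (hz : z ∈ V) : Γ(X, V) →+* X.residueField z :=
  (X.evaluation V z hz).hom

theorem ev_res {z : X} {U V : X.Opens} (h : V ≤ U) (hz : z ∈ V) (r : Γ(X, U)) :
    ev hz (resX X h r) = ev (h hz) r :=
  congrArg (X.residue z) (X.presheaf.germ_res_apply (homOfLE h) z hz r)

theorem ev_eq_zero_iff {z : X} {V : X.Opens} (hz : z ∈ V) (r : Γ(X, V)) :
    ev hz r = 0 ↔ z ∉ X.basicOpen r :=
  X.evaluation_eq_zero_iff_notMem_basicOpen z hz r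

theorem ev_ne_zero_iff {z : X} {V : X.Opens} (hz : z ∈ V) (r : Γ(X, V)) :
    ev hz r ≠ 0 ↔ z ∈ X.basicOpen r :=
  X.evaluation_ne_zero_iff_mem_basicOpen z hz r

/-- The map from the local ring to the residue field of a generalisation. -/
noncomputable def toK {η x : X} (h : η ⤳ x) : X.presheaf.stalk x →+* X.residueField η :=
  (X.presheaf.stalkSpecializes h ≫ X.residue η).hom

theorem toK_germ {η x : X} (h : η ⤳ x) {W : X.Opens} (hx : x ∈ W) (r : Γ(X, W)) :
    toK h (X.presheaf.germ W x hx r) = ev (h.mem_open W.isOpen hx) r :=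
  congrArg (X.residue η) (X.presheaf.germ_stalkSpecializes_apply hx h r)

theorem exists_finset_ggModule [IsNoetherian X] [X.IsSeparated]
    (hdim' : ∀ x : X, ringKrullDim (X.presheaf.stalk x) ≤ 1)
    (U : X.Opens) (hU : IsAffineOpen U) (hgen : ∀ z : X, ∃ η, η ∈ U ∧ η ⤳ z) :
    ∃ (L : X.Modules) (s : Coh.structureModule X ⟶ L), PicF.IsInvertible L ∧
      Curv2.IsGloballyGenerated L ∧ CohB1.genLocus L s = U := by
  classical
  haveI : ∀ x : X, IsNoetherianRing (X.presheaf.stalk x) := fun x => inferInstance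
  have hinU : ∀ x : X, x ∉ U → ∀ z : X, z ⤳ x → z ≠ x → z ∈ U := fun x hx z hz hne => by
    obtain ⟨η, hη, hηz⟩ := hgen z
    exact ((Groth.Agent.S7669.generalisations x (hdim' x)).2 η z (hηz.trans hz)
      (fun h => hx (h ▸ hη)) hz hne hηz) ▸ hη
  have hinc : ∀ x : X, x ∉ U → ∀ z w : X, z ⤳ x → z ≠ x → w ⤳ x → w ≠ x → z ⤳ w → z = w :=
    fun x _ => (Groth.Agent.S7669.generalisations x (hdim' x)).2
  have hmin : ∀ x : X, x ∉ U → ∀ z : X, z ⤳ x → z ≠ x → ∀ w : X, w ⤳ z → w = z :=
    fun x hx z hz hne w hwz => by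
      refine hinc x hx w z (hwz.trans hz) (fun h => ?_) hz hne hwz
      subst h
      exact hne (hz.antisymm hwz).eq
  have hclosed : ∀ z w : X, z ∉ U → z ⤳ w → z = w := fun z w hz hzw => by
    by_contra hne
    exact hz (hinU w (fun h => hz (hzw.mem_open U.isOpen h)) z hzw hne)
  have hBfin : ((U : Set X)ᶜ).Finite := by
    obtain ⟨S, hSf, hSc, hSi, hS⟩ := NoetherianSpace.exists_finite_set_isClosed_irreducible
      (U.isOpen.isClosed_compl)
    rw [hS]
    refine hSf.sUnion fun s hs => ?_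
    refine (Set.finite_singleton (hSi s hs).genericPoint).subset fun w hw => ?_
    have hg := (hSi s hs).isGenericPoint_genericPoint (hSc s hs)
    exact (hclosed _ w (hS.ge ⟨s, hs, hg.mem⟩) (hg.specializes hw)).symm
  haveI : Finite {x : X // x ∉ U} := hBfin.to_subtype
  haveI : Fintype {x : X // x ∉ U} := Fintype.ofFinite _
  let Gx : {x : X // x ∉ U} → Finset X := fun x =>
    ((Groth.Agent.S7669.generalisations x.1 (hdim' x.1)).1).toFinset
  have hGx : ∀ x z, z ∈ Gx x ↔ z ⤳ x.1 ∧ z ≠ x.1 := fun x z => Set.Finite.mem_toFinset _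
  -- neighbourhoods
  have hW0 : ∀ x : {x : X // x ∉ U}, ∃ W : X.Opens, x.1 ∈ W ∧ (∀ z ∈ W, z ∉ U → z = x.1) ∧
      ∀ z ∈ W, z ∈ U → ∃ η ∈ Gx x, η ⤳ z := fun x => by
    let C : Set X := (⋃ z ∈ ((U : Set X)ᶜ \ {x.1}), closure {z}) ∪
      ⋃ η ∈ {η : X | η ∈ genericPoints X ∧ ¬ η ⤳ x.1}, closure {η}
    have hC : IsClosed C := ((hBfin.subset Set.sdiff_subset).isClosed_biUnion fun _ _ => isClosed_closure).union
      ((((genericPoints.finite NoetherianSpace.finite_irreducibleComponents)).subset fun η hη => hη.1).isClosed_biUnion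
        fun _ _ => isClosed_closure)
    refine ⟨⟨Cᶜ, hC.isOpen_compl⟩, ?_, fun z hz hzU => not_not.1 fun hne => hz (Or.inl
      (Set.mem_biUnion ⟨hzU, hne⟩ (subset_closure rfl))), fun z hz hzU => ?_⟩
    · rintro (h | h)
      · obtain ⟨z, ⟨hzU, hzne⟩, hxz⟩ := Set.mem_iUnion₂.1 h
        exact hzne (hclosed z x.1 hzU (specializes_iff_mem_closure.2 hxz))
      · obtain ⟨η, hη, hxη⟩ := Set.mem_iUnion₂.1 h
        exact hη.2 (specializes_iff_mem_closure.2 hxη)
    · let c : irreducibleComponents X := ⟨_, irreducibleComponent_mem_irreducibleComponents z⟩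
      let η := genericPoints.ofComponent c
      have hηz : η.1 ⤳ z := specializes_iff_mem_closure.2 (by
        rw [(genericPoints.isGenericPoint_ofComponent c)]; exact mem_irreducibleComponent)
      have hηx : η.1 ⤳ x.1 := not_not.1 fun h => hz (Or.inr (Set.mem_biUnion ⟨η.2, h⟩ hηz.mem_closure))
      refine ⟨η.1, (hGx x _).2 ⟨hηx, fun h => ?_⟩, hηz⟩
      obtain ⟨η', hη', hη'x⟩ := hgen x.1
      rw [← h] at hη'x
      have e : η' = η.1 := (IsGenericPoint.eq (genericPoints.isGenericPoint η)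
        ((η.2.eq_of_le isIrreducible_singleton.closure (specializes_iff_closure_subset.1 hη'x)).symm)).symm
      exact x.2 (by rw [← h, ← e]; exact hη')
  choose W₀ hxW₀ hW₀ hW₀g using hW0
  -- functions vanishing exactly at the missing point
  have shrink : ∀ (x : {x : X // x ∉ U}) (W : X.Opens) (hx : x.1 ∈ W) (h : Γ(X, W)),
      x.1 ∉ X.basicOpen h → (∀ η ∈ Gx x, η ∈ X.basicOpen h) →
      ∃ (W' : X.Opens) (hle : W' ≤ W), IsAffineOpen W' ∧ x.1 ∈ W' ∧ W' ≤ W₀ x ∧
        X.basicOpen (resX X hle h) = W' ⊓ U := by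
    intro x W hx h hxh hh
    obtain ⟨W1, hW1, hxW1, hW1le⟩ := exists_isAffineOpen_mem_and_subset
      (show x.1 ∈ W ⊓ W₀ x from ⟨hx, hxW₀ x⟩)
    have hle1 : W1 ≤ W := fun z hz => (hW1le hz).1
    obtain ⟨g, hxg, hg⟩ := PicGlue.exists_basicOpen_avoid hW1 hxW1 (W1 ⊓ U) inf_le_left
      (closure_inf_eq_top hW1 hU).1.isCompact _
      (X.basicOpen (resX X hle1 h)).isOpen.isClosed_compl fun z hz hzU hzC => by
        refine hzC ?_
        rw [resX, Scheme.basicOpen_res]
        exact ⟨hzU.1, hh z ((hGx x z).2 ⟨hz, fun e => x.2 (e ▸ hzU.2)⟩)⟩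
    refine ⟨X.basicOpen g, (X.basicOpen_le g).trans hle1, hW1.basicOpen g, hxg,
      fun z hz => (hW1le (X.basicOpen_le g hz)).2, ?_⟩
    rw [resX, Scheme.basicOpen_res]
    refine le_antisymm (le_inf inf_le_left fun z hz => ?_) (le_inf inf_le_left fun z hz => ?_)
    · by_contra hzU
      exact hxh (hW₀ x z (hW1le (X.basicOpen_le g hz.1)).2 hzU ▸ hz.2)
    · have h1 := not_not.1 (hg z hz.1 ⟨X.basicOpen_le g hz.1, hz.2⟩)
      rw [resX, Scheme.basicOpen_res] at h1
      exact h1.2
  -- valuation rings over the missing points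
  let A : ∀ {η : X}, η ∈ U → Subring (X.residueField η) := fun hη => (ev hη).range
  have hval : ∀ (x : {x : X // x ∉ U}) (η : X) (hη : η ∈ Gx x), ∃ (ι : Type u) (_ : Fintype ι)
      (V : ι → ValuationSubring (X.residueField η)), (∀ i, IsDiscreteValuationRing (V i)) ∧
      (∀ i, ∃ a ∈ A (hinU x.1 x.2 η ((hGx x η).1 hη).1 ((hGx x η).1 hη).2), a ∉ V i) ∧
      ∀ w : X.residueField η, (∀ i, w ∈ (V i).nonunits) → ∃ N : ℕ, ∀ n, N ≤ n →
        ∃ r : X.presheaf.stalk x.1, r ∈ IsLocalRing.maximalIdeal (X.presheaf.stalk x.1) ∧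
          toK ((hGx x η).1 hη).1 r = w ^ n := by
    intro x η hη
    obtain ⟨hηx, hηne⟩ := (hGx x η).1 hη
    obtain ⟨W, hW, hxW, -⟩ := exists_isAffineOpen_mem_and_subset
      (show x.1 ∈ (⊤ : X.Opens) from trivial)
    have hηW : η ∈ W := hηx.mem_open W.isOpen hxW
    let B : Subring (X.residueField η) := (toK hηx).range
    have hBmem : ∀ {W : X.Opens} (hxW : x.1 ∈ W) (r : Γ(X, W)),
        ev (hηx.mem_open W.isOpen hxW) r ∈ B := fun hxW r => ⟨_, toK_germ hηx hxW r⟩
    have hfrac : ∀ z : X.residueField η, ∃ r s : Γ(X, W), ev hηW s ≠ 0 ∧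
        z = ev hηW r / ev hηW s := fun z => by
      obtain ⟨z, rfl⟩ := X.residue_surjective η z
      haveI := hW.isLocalization_stalk ⟨η, hηW⟩
      letI := X.presheaf.algebra_section_stalk ⟨η, hηW⟩
      obtain ⟨⟨r, s⟩, hrs⟩ := IsLocalization.surj (hW.primeIdealOf ⟨η, hηW⟩).asIdeal.primeCompl z
      have hs : ev hηW s.1 ≠ 0 :=
        (ev_ne_zero_iff hηW _).2 ((AffineUnion.mem_basicOpen_iff hW η hηW _).2 s.2)
      refine ⟨r, s.1, hs, (eq_div_iff hs).2 ?_⟩
      have h2 := congrArg (X.residue η) hrs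
      rw [map_mul] at h2
      exact h2
    haveI : IsFractionRing B (X.residueField η) := IsFractionRing.of_field _ _ fun z => by
      obtain ⟨r, s, -, rfl⟩ := hfrac z
      exact ⟨⟨_, hBmem hxW r⟩, ⟨_, hBmem hxW s⟩, rfl⟩
    haveI : IsNoetherianRing B :=
      isNoetherianRing_of_surjective _ _ _ (toK hηx).rangeRestrict_surjective
    haveI : IsLocalRing B :=
      IsLocalRing.of_surjective' _ (toK hηx).rangeRestrict_surjective
    haveI : Finite (MaximalSpectrum B) := Finite.of_injective (fun _ => PUnit.unit.{1})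
      fun M N _ => MaximalSpectrum.ext ((IsLocalRing.eq_maximalIdeal M.isMaximal).trans
        (IsLocalRing.eq_maximalIdeal N.isMaximal).symm)
    have hd : ringKrullDim B = 1 := by
      have hle : ringKrullDim B ≤ 1 :=
        (ringKrullDim_le_of_surjective _ (toK hηx).rangeRestrict_surjective).trans (hdim' x.1)
      haveI : Ring.KrullDimLE 1 B := Ring.krullDimLE_iff.2 hle
      refine le_antisymm hle ?_
      obtain ⟨j, hjx, hjη⟩ : ∃ j : Γ(X, W), x.1 ∉ X.basicOpen j ∧ η ∈ X.basicOpen j := by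
        by_contra! hcon
        refine hηne ?_
        have hle' : (hW.primeIdealOf ⟨x.1, hxW⟩).asIdeal ≤ (hW.primeIdealOf ⟨η, hηW⟩).asIdeal :=
          fun j hj => not_not.1 fun h => hcon j
            (fun h' => (AffineUnion.mem_basicOpen_iff hW x.1 hxW j).1 h' hj)
            ((AffineUnion.mem_basicOpen_iff hW η hηW j).2 h)
        have h1 := ((PrimeSpectrum.le_iff_specializes _ _).1 hle').map hW.fromSpec.continuous
        rw [hW.fromSpec_primeIdealOf, hW.fromSpec_primeIdealOf] at h1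
        exact (hηx.antisymm h1).eq
      have hjB : (⟨_, hBmem hxW j⟩ : B) ∈ IsLocalRing.maximalIdeal B := by
        rw [IsLocalRing.mem_maximalIdeal]
        intro hu
        refine hjx ((Scheme.mem_basicOpen _ _ _ hxW).2 ?_)
        by_contra hj
        obtain ⟨v, hv⟩ := isUnit_iff_exists_inv.1 hu
        obtain ⟨r, rfl⟩ := (toK hηx).rangeRestrict_surjective v
        have hv' : toK hηx (X.presheaf.germ W x.1 hxW j * r - 1) = 0 := by
          rw [map_sub, map_mul, map_one, toK_germ, sub_eq_zero]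
          exact congrArg Subtype.val hv
        have hker : X.presheaf.germ W x.1 hxW j * r - 1 ∈ IsLocalRing.maximalIdeal _ :=
          IsLocalRing.le_maximalIdeal (RingHom.ker_ne_top (toK hηx)) hv'
        have h1 := sub_mem (Ideal.mul_mem_right r _ ((IsLocalRing.mem_maximalIdeal _).2 hj)) hker
        rw [sub_sub_cancel] at h1
        exact (IsLocalRing.maximalIdeal.isMaximal _).ne_top ((Ideal.eq_top_iff_one _).2 h1)
      have hne : IsLocalRing.maximalIdeal B ≠ ⊥ := fun h => by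
        rw [h, Submodule.mem_bot] at hjB
        exact (ev_ne_zero_iff hηW j).2 hjη (congrArg Subtype.val hjB)
      have h1 : (⟨⊥, Ideal.isPrime_bot⟩ : PrimeSpectrum B) < IsLocalRing.closedPoint B :=
        show (⊥ : Ideal B) < IsLocalRing.maximalIdeal B from bot_lt_iff_ne_bot.2 hne
      refine le_trans ?_ (Order.LTSeries.length_le_krullDim
        ((RelSeries.singleton _ (⟨⊥, Ideal.isPrime_bot⟩ : PrimeSpectrum B)).snoc
          (IsLocalRing.closedPoint B) (by simpa using h1)))
      simp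
    obtain ⟨ι, _, V, hdvr, hBV, hdesc⟩ := Groth.GlueRings.exists_valuations B hd
    refine ⟨ι, inferInstance, V, hdvr, fun i => ?_, fun w hw => ?_⟩
    · by_contra! hcon
      haveI := hdvr i
      have hinv : ∀ s : Γ(X, W), ev hηW s ≠ 0 → (ev hηW s)⁻¹ ∈ V i := by
        intro s hs
        by_cases hxs : x.1 ∈ X.basicOpen s
        · obtain ⟨u, hu⟩ := (Scheme.mem_basicOpen _ _ _ hxW).1 hxs
          have e : ev hηW s = toK hηx u := by rw [hu]; exact (toK_germ hηx hxW s).symm
          rw [e, ← map_units_inv]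
          exact hBV i ⟨_, rfl⟩
        -- modify `s` so that it vanishes at no proper generalisation
        let P : X → Ideal Γ(X, W) := fun z =>
          if hz : z ∈ W then (hW.primeIdealOf ⟨z, hz⟩).asIdeal else ⊥
        have hP : ∀ z (hz : z ∈ W), P z = (hW.primeIdealOf ⟨z, hz⟩).asIdeal := fun z hz => dif_pos hz
        have hsp : ∀ z w : X, z ∈ W → w ∈ W → P z ≤ P w → z ⤳ w := fun z w hz hw h => by
          rw [hP z hz, hP w hw] at h
          have h1 := ((PrimeSpectrum.le_iff_specializes (hW.primeIdealOf ⟨z, hz⟩)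
            (hW.primeIdealOf ⟨w, hw⟩)).1 h).map hW.fromSpec.continuous
          rwa [hW.fromSpec_primeIdealOf, hW.fromSpec_primeIdealOf] at h1
        have hmemW : ∀ z ∈ Gx x, z ∈ W := fun z hz => ((hGx x z).1 hz).1.mem_open W.isOpen hxW
        obtain ⟨e, heη, he⟩ := AffineUnion.exists_add_notMem
          (((Gx x).finite_toSet.subset (Set.sdiff_subset (t := {η}))).image P)
          (by
            rintro _ ⟨z, ⟨hz, -⟩, rfl⟩
            rw [hP z (hmemW z hz)]; exact (hW.primeIdealOf _).2) s (P η)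
          (by
            rintro _ ⟨z, ⟨hz, hzne⟩, rfl⟩ hle
            exact hzne (hinc x.1 x.2 η z hηx hηne ((hGx x z).1 hz).1 ((hGx x z).1 hz).2
              (hsp η z hηW (hmemW z hz) hle)).symm)
        have heη0 : ev hηW e = 0 := (ev_eq_zero_iff hηW e).2 fun h =>
          (AffineUnion.mem_basicOpen_iff hW η hηW e).1 h (hP η hηW ▸ heη)
        have hxs' : x.1 ∉ X.basicOpen (s + e) := fun h => by
          have hex : e ∈ (hW.primeIdealOf ⟨x.1, hxW⟩).asIdeal := by
            refine not_not.1 fun h' => ?_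
            exact (AffineUnion.mem_basicOpen_iff hW η hηW e).1
              (hηx.mem_open (X.basicOpen e).isOpen ((AffineUnion.mem_basicOpen_iff hW x.1 hxW e).2 h'))
              (hP η hηW ▸ heη)
          have hsx : s ∈ (hW.primeIdealOf ⟨x.1, hxW⟩).asIdeal := not_not.1 fun h' =>
            hxs ((AffineUnion.mem_basicOpen_iff hW x.1 hxW s).2 h')
          exact (AffineUnion.mem_basicOpen_iff hW x.1 hxW _).1 h (add_mem hsx hex)
        have hse : ev hηW (s + e) = ev hηW s := by rw [map_add, heη0, add_zero]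
        obtain ⟨W', hle, hW', hxW', -, hbo⟩ := shrink x W hxW (s + e) hxs' fun z hz => by
          by_cases hzη : z = η
          · subst hzη
            exact (ev_ne_zero_iff hηW _).1 (hse ▸ hs)
          · refine (AffineUnion.mem_basicOpen_iff hW z (hmemW z hz) _).2 ?_
            rw [← hP z (hmemW z hz)]
            exact he _ ⟨z, ⟨hz, hzη⟩, rfl⟩
        obtain ⟨-, hcl⟩ := closure_inf_eq_top hW' hU
        have hηi : η ∈ W' ⊓ U := ⟨hηx.mem_open W'.isOpen hxW', hinU x.1 x.2 η hηx hηne⟩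
        have hsub : ∀ r : Γ(X, W' ⊓ U), ev hηi r ∈ V i := by
          intro r
          have hr : r ∈ Subring.closure (Set.range (resX X (inf_le_left : W' ⊓ U ≤ W')) ∪
              Set.range (resX X (inf_le_right : W' ⊓ U ≤ U))) := hcl ▸ trivial
          refine (Subring.closure_le (t := (V i).toSubring.comap (ev hηi))).2 ?_ hr
          rintro _ (⟨t, rfl⟩ | ⟨t, rfl⟩)
          · change ev hηi (resX X _ t) ∈ V i
            rw [ev_res]
            exact hBV i (hBmem hxW' t)
          · change ev hηi (resX X _ t) ∈ V i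
            rw [ev_res]
            exact hcon _ ⟨t, rfl⟩
        obtain ⟨u, hu⟩ := Groth.Agent.S7669.isUnit_resX_basicOpen (resX X hle (s + e))
          (inf_le_left : W' ⊓ U ≤ W') hbo.ge
        have h1 := hsub (u⁻¹ : Γ(X, W' ⊓ U)ˣ).1
        rw [map_units_inv, hu, ev_res, ev_res, hse] at h1
        exact h1
      have hall : ∀ z : X.residueField η, z ∈ V i := fun z => by
        obtain ⟨r, s, hs, rfl⟩ := hfrac z
        rw [div_eq_mul_inv]
        exact mul_mem (hBV i (hBmem hxW r)) (hinv s hs)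
      refine IsDiscreteValuationRing.not_isField (V i)
        ⟨⟨0, 1, zero_ne_one⟩, mul_comm, fun {a} ha =>
          ⟨⟨(a : X.residueField η)⁻¹, hall _⟩, Subtype.ext ?_⟩⟩
      exact mul_inv_cancel₀ fun h0 => ha (Subtype.ext h0)
    · obtain ⟨N, hN⟩ := hdesc w hw
      refine ⟨N, fun n hn => ?_⟩
      obtain ⟨⟨r, hr⟩, hM⟩ := hN n hn
      refine ⟨r, (IsLocalRing.mem_maximalIdeal _).2 fun hu => ?_, hr⟩
      refine (IsLocalRing.maximalIdeal.isMaximal B).ne_top (Ideal.eq_top_of_isUnit_mem _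
        (hM _ (IsLocalRing.maximalIdeal.isMaximal B)) ?_)
      convert hu.map (toK hηx).rangeRestrict using 1
      exact Subtype.ext hr.symm
  choose ι hιfin V hdvr hAV hdesc using hval
  -- the function
  let H : Finset X := Finset.univ.biUnion Gx
  have hHU : ∀ η ∈ H, η ∈ U := fun η hη => by
    obtain ⟨x, -, hx⟩ := Finset.mem_biUnion.1 hη
    exact hinU x.1 x.2 η ((hGx x η).1 hx).1 ((hGx x η).1 hx).2
  let Q : X → Ideal Γ(X, U) := fun z =>
    if hz : z ∈ U then (hU.primeIdealOf ⟨z, hz⟩).asIdeal else ⊤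
  have hQ : ∀ z (hz : z ∈ U), Q z = (hU.primeIdealOf ⟨z, hz⟩).asIdeal := fun z hz => dif_pos hz
  have hεex : ∀ η : H, ∃ ε : Γ(X, U), ev (hHU η.1 η.2) ε ≠ 0 ∧
      ∀ ζ : H, ζ ≠ η → ev (hHU ζ.1 ζ.2) ε = 0 := by
    intro η
    have hnle : ¬ (∏ ζ ∈ H.erase η.1, Q ζ) ≤ Q η.1 := fun hle => by
      rw [hQ η.1 (hHU _ η.2)] at hle
      obtain ⟨ζ, hζ, hle⟩ := (hU.primeIdealOf ⟨η.1, hHU _ η.2⟩).2.prod_le.1 hle
      obtain ⟨hne, hζH⟩ := Finset.mem_erase.1 hζ
      rw [hQ ζ (hHU ζ hζH)] at hle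
      have h1 := ((PrimeSpectrum.le_iff_specializes (hU.primeIdealOf ⟨ζ, hHU ζ hζH⟩)
        (hU.primeIdealOf ⟨η.1, hHU _ η.2⟩)).1 hle).map hU.fromSpec.continuous
      rw [hU.fromSpec_primeIdealOf, hU.fromSpec_primeIdealOf] at h1
      obtain ⟨x, -, hx⟩ := Finset.mem_biUnion.1 η.2
      exact hne (hmin x.1 x.2 η.1 ((hGx x _).1 hx).1 ((hGx x _).1 hx).2 ζ h1)
    obtain ⟨ε, hεJ, hε⟩ := SetLike.not_le_iff_exists.1 hnle
    refine ⟨ε, (ev_ne_zero_iff _ _).2 ((AffineUnion.mem_basicOpen_iff hU _ _ _).2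
      (hQ η.1 (hHU _ η.2) ▸ hε)), fun ζ hζ => (ev_eq_zero_iff _ _).2 fun h =>
        (AffineUnion.mem_basicOpen_iff hU ζ.1 (hHU _ ζ.2) _).1 h ?_⟩
    rw [← hQ ζ.1 (hHU _ ζ.2)]
    have hmem : ζ.1 ∈ H.erase η.1 := Finset.mem_erase.2 ⟨fun h => hζ (Subtype.ext h), ζ.2⟩
    rw [← Finset.mul_prod_erase _ _ hmem] at hεJ
    exact Ideal.mul_le_left hεJ
  choose ε hε hε0 using hεex
  have hbex : ∀ η : H, ∃ b : Γ(X, U), ∀ (x : {x : X // x ∉ U}) (hx : η.1 ∈ Gx x) (i : ι x η.1 hx),
      ev (hHU η.1 η.2) b * ev (hHU η.1 η.2) (ε η) ∉ V x η.1 hx i := by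
    intro η
    haveI : ∀ p : {x : {x : X // x ∉ U} // η.1 ∈ Gx x}, Fintype (ι p.1 η.1 p.2) :=
      fun p => hιfin p.1 η.1 p.2
    haveI : ∀ v : Σ p : {x : {x : X // x ∉ U} // η.1 ∈ Gx x}, ι p.1 η.1 p.2,
        IsDiscreteValuationRing (V v.1.1 η.1 v.1.2 v.2) := fun v => hdvr v.1.1 η.1 v.1.2 v.2
    obtain ⟨s, ⟨b, rfl⟩, hs⟩ := Groth.GlueRings.exists_mul_not_mem (A (hHU η.1 η.2))
      (fun v : Σ p : {x : {x : X // x ∉ U} // η.1 ∈ Gx x}, ι p.1 η.1 p.2 => V v.1.1 η.1 v.1.2 v.2)
      (fun v => hAV v.1.1 η.1 v.1.2 v.2) Finset.univ {ev (hHU η.1 η.2) (ε η)}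
      (by simpa using (hε η).symm)
    exact ⟨b, fun x hx i => hs ⟨⟨x, hx⟩, i⟩ (Finset.mem_univ _) _ (Finset.mem_singleton_self _)⟩
  choose b hb using hbex
  let a : Γ(X, U) := ∑ η : H, b η * ε η
  have haev : ∀ η : H, ev (hHU η.1 η.2) a = ev (hHU η.1 η.2) (b η) * ev (hHU η.1 η.2) (ε η) := by
    intro η
    simp only [a]
    rw [map_sum, Finset.sum_eq_single η, map_mul]
    · intro ζ _ hne
      rw [map_mul, hε0 ζ η hne.symm, mul_zero]
    · exact fun h => absurd (Finset.mem_univ η) h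
  have hmemH : ∀ x, ∀ η ∈ Gx x, η ∈ H := fun x η hη =>
    Finset.mem_biUnion.2 ⟨x, Finset.mem_univ x, hη⟩
  have hane : ∀ x (η : X) (hη : η ∈ Gx x), ev (hHU η (hmemH x η hη)) a ≠ 0 := fun x η hη h0 => by
    obtain ⟨i, hi⟩ | hem := (isEmpty_or_nonempty (ι x η hη)).symm.imp (fun h => (⟨h.some, trivial⟩ : ∃ _ : ι x η hη, True)) id
    · exact hb ⟨η, hmemH x η hη⟩ x hη i (by rw [← haev ⟨η, _⟩, h0]; exact zero_mem _)
    · obtain ⟨N, hN⟩ := hdesc x η hη 1 fun i => hem.elim i
      obtain ⟨r, hr, hr1⟩ := hN N le_rfl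
      have hunit : IsUnit (1 - r) := IsLocalRing.isUnit_one_sub_self_of_mem_nonunits r
        ((IsLocalRing.mem_maximalIdeal _).1 hr)
      have := hunit.map (toK ((hGx x η).1 hη).1)
      rw [map_sub, map_one, hr1, one_pow, sub_self] at this
      exact not_isUnit_zero this
  have hN : ∀ (x : {x : X // x ∉ U}) (η : X) (hη : η ∈ Gx x), ∃ N : ℕ, ∀ n, N ≤ n →
      ∃ r : X.presheaf.stalk x.1, r ∈ IsLocalRing.maximalIdeal _ ∧
        toK ((hGx x η).1 hη).1 r = (ev (hHU η (hmemH x η hη)) a)⁻¹ ^ n := by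
    intro x η hη
    refine hdesc x η hη _ fun i => ?_
    haveI := hdvr x η hη i
    refine Groth.GlueRings.mem_max_of_not_mem (V x η hη i) ?_
    rw [haev ⟨η, hmemH x η hη⟩]
    exact hb ⟨η, hmemH x η hη⟩ x hη i
  choose N hN using hN
  -- the local equations
  have hloc : ∀ x : {x : X // x ∉ U}, ∃ (W : X.Opens) (M : ℕ), x.1 ∈ W ∧ W ≤ W₀ x ∧ IsAffineOpen W ∧
      ∀ n, M ≤ n → ∃ h : Γ(X, W), X.basicOpen h = W ⊓ U ∧
        resX X (inf_le_right : W ⊓ U ≤ U) (a ^ n) * resX X (inf_le_left : W ⊓ U ≤ W) h = 1 := by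
    intro x
    let n₀ := (Gx x).attach.sup (fun η => N x η.1 η.2) + 1
    choose r hr hrn using fun η : Gx x =>
      hN x η.1 η.2 n₀ (le_add_right (Finset.le_sup (f := fun η => N x η.1 η.2) (Finset.mem_attach _ η)))
    choose Wr hxWr rr hrr using fun η : Gx x => X.presheaf.exists_germ_eq (r η)
    let C : X.Opens := W₀ x ⊓ ⟨⋂ η : Gx x, (Wr η : Set X), isOpen_iInter_of_finite fun η => (Wr η).isOpen⟩
    obtain ⟨W1, f, hW1, hxW1, hW1C, hf⟩ := PicGlue.exists_chart U x.1 x.2 (hdim' x.1) C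
      ⟨hxW₀ x, Set.mem_iInter.2 hxWr⟩ (fun z hz hzU => hW₀ x z hz.1 hzU)
      (fun W _ => NoetherianSpace.isCompact _)
    obtain ⟨g, hxg, hg⟩ := PicGlue.exists_basicOpen_avoid hW1 hxW1 (W1 ⊓ U) inf_le_left
      (NoetherianSpace.isCompact _) _ (X.basicOpen a).isOpen.isClosed_compl fun z hz hzU hzC => by
        have hzG : z ∈ Gx x := (hGx x z).2 ⟨hz, fun e => x.2 (e ▸ hzU.2)⟩
        exact hzC ((ev_ne_zero_iff _ a).1 (hane x z hzG))
    let W := X.basicOpen g
    have hWW1 : W ≤ W1 := X.basicOpen_le g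
    have hW : IsAffineOpen W := hW1.basicOpen g
    let h : Γ(X, W) := resX X hWW1 f
    have hh : X.basicOpen h = W ⊓ U := by
      simp only [h]
      rw [resX, Scheme.basicOpen_res, hf, ← inf_assoc, inf_eq_left.2 hWW1]
    have hWr : ∀ η : Gx x, W ≤ Wr η := fun η z hz => Set.mem_iInter.1 (hW1C (hWW1 hz)).2 η
    let T := Γ(X, W ⊓ U)
    let φ : Γ(X, W) →+* Γ(X, W ⊓ U) := resX X inf_le_left
    let P := (hW.primeIdealOf ⟨x.1, hxg⟩).asIdeal
    haveI hPp : P.IsPrime := (hW.primeIdealOf ⟨x.1, hxg⟩).2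
    let aU : Γ(X, W ⊓ U) := resX X (inf_le_right : W ⊓ U ≤ U) a
    obtain ⟨au, hau⟩ : IsUnit aU :=
      Groth.Agent.S7669.isUnit_resX_basicOpen a inf_le_right fun z hz =>
        not_not.1 (hg z hz.1 ⟨hWW1 hz.1, hz.2⟩)
    let t : Γ(X, W ⊓ U) := (au⁻¹ : Γ(X, W ⊓ U)ˣ).1
    let rW : Gx x → Γ(X, W) := fun η => resX X (hWr η) (rr η)
    have hrP : ∀ η, rW η ∈ P := fun η => not_not.1 fun h => by
      have h1 := (AffineUnion.mem_basicOpen_iff hW x.1 hxg _).2 h
      rw [Scheme.mem_basicOpen _ _ _ hxg] at h1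
      simp only [rW, resX] at h1
      rw [X.presheaf.germ_res_apply, hrr] at h1
      exact (IsLocalRing.mem_maximalIdeal _).1 (hr η) h1
    have hnil : IsNilpotent (∏ η, (t ^ n₀ - φ (rW η))) := by
      refine Scheme.isNilpotent_iff_basicOpen_eq_bot_of_isCompact
        (closure_inf_eq_top hW hU).1.isCompact _ |>.2 (le_bot_iff.1 fun z hz => ?_)
      exfalso
      have hzi : z ∈ W ⊓ U := X.basicOpen_le _ hz
      obtain ⟨η, hη, hηz⟩ := hW₀g x z (hW1C (hWW1 hzi.1)).1 hzi.2
      have hηb : η ∈ X.basicOpen _ := hηz.mem_open (X.basicOpen _).isOpen hz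
      rw [← ev_ne_zero_iff (hηz.mem_open (W ⊓ U).isOpen hzi)] at hηb
      refine hηb ?_
      rw [map_prod]
      refine Finset.prod_eq_zero (Finset.mem_univ ⟨η, hη⟩) ?_
      rw [map_sub, map_pow, sub_eq_zero]
      simp only [φ, rW, t]
      rw [ev_res, ev_res, map_units_inv, hau]
      simp only [aU]
      rw [ev_res, ← toK_germ ((hGx x η).1 hη).1 (hxWr ⟨η, hη⟩), hrr]
      exact (hrn ⟨η, hη⟩).symm
    obtain ⟨m, hm⟩ := hnil
    let poly : Polynomial Γ(X, W) := (∏ η, (Polynomial.X ^ n₀ - Polynomial.C (rW η))) ^ m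
    have hn₀ : n₀ ≠ 0 := Nat.succ_ne_zero _
    have hmonic : poly.Monic := (Polynomial.monic_prod_of_monic _ _ fun η _ =>
      Polynomial.monic_X_pow_sub_C (rW η) hn₀).pow m
    letI : Algebra Γ(X, W) T := φ.toAlgebra
    have hpt : Polynomial.aeval t poly = 0 := by
      simp only [poly, map_pow, map_prod, map_sub, Polynomial.aeval_X, Polynomial.aeval_C]
      exact hm
    let S : Subalgebra Γ(X, W) T := Algebra.adjoin Γ(X, W) {t}
    have htint : IsIntegral Γ(X, W) t := ⟨poly, hmonic, hpt⟩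
    obtain ⟨Tg, hTg⟩ := htint.fg_adjoin_singleton
    haveI : IsLocalization.Away h T := by
      have hloc' := hW.isLocalization_basicOpen h
      have hle : W ⊓ U ≤ X.basicOpen h := hh.ge
      let e : Γ(X, X.basicOpen h) ≃ₐ[Γ(X, W)] T := AlgEquiv.ofBijective
        { toRingHom := resX X hle, commutes' := fun r => resX_resX _ _ r }
        (by
          haveI : IsIso (X.presheaf.map (homOfLE hle).op) := by
            have : IsIso (homOfLE hle) := ⟨homOfLE hh.le, Subsingleton.elim _ _, Subsingleton.elim _ _⟩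
            infer_instance
          exact ConcreteCategory.bijective_of_isIso (X.presheaf.map (homOfLE hle).op))
      exact IsLocalization.isLocalization_of_algEquiv _ e
    obtain ⟨⟨_, K, rfl⟩, hK⟩ :=
      IsLocalization.exist_integer_multiples_of_finset (Submonoid.powers h) Tg
    have hcS : ∀ z ∈ S, ∃ c : Γ(X, W), φ c = φ (h ^ K) * z := by
      intro z hz
      have hz' : z ∈ Submodule.span Γ(X, W) (Tg : Set T) := by rw [hTg]; exact hz
      clear hz
      induction hz' using Submodule.span_induction with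
      | mem y hy =>
        obtain ⟨c, hc⟩ := hK y hy
        exact ⟨c, hc.trans (Algebra.smul_def _ _)⟩
      | zero => exact ⟨0, by simp⟩
      | add p q _ _ hp hq =>
        obtain ⟨cp, hcp⟩ := hp
        obtain ⟨cq, hcq⟩ := hq
        exact ⟨cp + cq, by rw [map_add, hcp, hcq, mul_add]⟩
      | smul r y _ hy =>
        obtain ⟨c, hc⟩ := hy
        exact ⟨r * c, by rw [map_mul, hc, Algebra.smul_def]; change _ = _ * (φ r * y); ring⟩
    let D := poly.natDegree
    have hPoly : ∀ i < D, poly.coeff i ∈ P := by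
      intro i hi
      have hmap : poly.map (Ideal.Quotient.mk P) = Polynomial.X ^ D := by
        have h0 : ∀ η, Ideal.Quotient.mk P (rW η) = 0 := fun η => Ideal.Quotient.eq_zero_iff_mem.2 (hrP η)
        have hd' : poly.map (Ideal.Quotient.mk P) = Polynomial.X ^ (n₀ * Fintype.card (Gx x) * m) := by
          simp only [poly, Polynomial.map_pow, Polynomial.map_prod, Polynomial.map_sub,
            Polynomial.map_X, Polynomial.map_C, h0, map_zero, sub_zero, Finset.prod_const,
            Finset.card_univ]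
          rw [← pow_mul, ← pow_mul, mul_assoc]
        have hdeg : D = n₀ * Fintype.card (Gx x) * m := by
          have := hmonic.natDegree_map (Ideal.Quotient.mk P)
          rw [hd', Polynomial.natDegree_X_pow] at this
          exact this.symm
        rw [hd', hdeg]
      have := congrArg (fun p => Polynomial.coeff p i) hmap
      simp only [Polynomial.coeff_map, Polynomial.coeff_X_pow, if_neg (ne_of_lt hi)] at this
      exact Ideal.Quotient.eq_zero_iff_mem.1 this
    -- `t ^ D` lies in `P S`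
    let J : Submodule Γ(X, W) T := P • Subalgebra.toSubmodule S
    have hts : ∀ i, t ^ i ∈ S := fun i => pow_mem (Algebra.self_mem_adjoin_singleton _ t) i
    have hJ1 : t ^ D ∈ J := by
      rw [Polynomial.aeval_eq_sum_range, Finset.sum_range_succ] at hpt
      rw [show t ^ D = -∑ i ∈ Finset.range D, poly.coeff i • t ^ i from by
        rw [eq_neg_iff_add_eq_zero, add_comm]
        convert hpt using 2
        rw [show poly.coeff poly.natDegree = 1 from hmonic, one_smul]]
      exact Submodule.neg_mem _ (Submodule.sum_mem _ fun i hi =>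
        Submodule.smul_mem_smul (hPoly i (Finset.mem_range.1 hi)) (hts i))
    have hJk : ∀ k j, t ^ (D * k + j) ∈ (P ^ k) • Subalgebra.toSubmodule S := by
      intro k
      induction k with
      | zero =>
        intro j
        rw [pow_zero, Ideal.one_eq_top, Submodule.top_smul]
        exact hts _
      | succ k ih =>
        intro j
        rw [pow_succ, show D * (k + 1) + j = (D * k + j) + D by ring, pow_add]
        have hmul : ∀ u ∈ (P ^ k) • Subalgebra.toSubmodule S, u * t ^ D ∈ (P ^ k * P) • Subalgebra.toSubmodule S := by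
          intro u hu
          refine Submodule.smul_induction_on hu (fun p hp s hs => ?_) fun y z hy hz => by
            rw [add_mul]; exact Submodule.add_mem _ hy hz
          rw [smul_mul_assoc, mul_smul]
          refine Submodule.smul_mem_smul hp ?_
          refine Submodule.smul_induction_on hJ1 (fun q hq w hw => ?_) fun y z hy hz => by
            rw [mul_add]; exact Submodule.add_mem _ hy hz
          rw [mul_smul_comm]
          exact Submodule.smul_mem_smul hq (S.mul_mem hs hw)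
        exact hmul _ (ih j)
    obtain ⟨k, hk⟩ : ∃ k, P ^ k ≤ Ideal.span {h ^ (K + 1)} := by
      haveI : IsNoetherianRing Γ(X, W) := IsLocallyNoetherian.component_noetherian ⟨W, hW⟩
      refine Ideal.exists_pow_le_of_le_radical_of_fg ?_ (IsNoetherian.noetherian P)
      rw [Ideal.radical_eq_sInf]
      refine le_sInf fun q ⟨hq, hqp⟩ => ?_
      haveI := hqp
      let qs : PrimeSpectrum Γ(X, W) := ⟨q, hqp⟩
      have hhq : h ∈ q := hqp.mem_of_pow_mem _ (hq (Ideal.mem_span_singleton_self _))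
      have hzW : hW.fromSpec qs ∈ W := hW.range_fromSpec.le ⟨qs, rfl⟩
      have hzh : hW.fromSpec qs ∉ X.basicOpen h := by
        change qs ∉ hW.fromSpec ⁻¹ᵁ X.basicOpen h
        rw [hW.fromSpec_preimage_basicOpen]
        exact not_not.2 hhq
      have hzx : hW.fromSpec qs = x.1 := hW₀ x _ (hW1C (hWW1 hzW)).1
        fun hzU => hzh (hh.ge ⟨hzW, hzU⟩)
      have : qs = hW.primeIdealOf ⟨x.1, hxg⟩ := hW.fromSpec.isEmbedding.injective
        (hzx.trans (hW.fromSpec_primeIdealOf ⟨x.1, hxg⟩).symm)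
      exact (congrArg PrimeSpectrum.asIdeal this).ge
    refine ⟨W, D * k + 1, hxg, fun z hz => (hW1C (hWW1 hz)).1, hW, fun n hn => ?_⟩
    have hmem : t ^ n ∈ Ideal.span {h ^ (K + 1)} • Subalgebra.toSubmodule S := by
      refine Submodule.smul_mono_left hk ?_
      rw [show n = D * k + (n - D * k) by omega]
      exact hJk k _
    have hmem' : ∀ y ∈ Ideal.span {h ^ (K + 1)} • Subalgebra.toSubmodule S, ∃ c, φ (h * c) = y := by
      intro y hy
      refine Submodule.smul_induction_on hy (fun p hp s hs => ?_) fun y z ⟨c, hc⟩ ⟨d, hd⟩ =>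
        ⟨c + d, by rw [mul_add, map_add, hc, hd]⟩
      obtain ⟨q, rfl⟩ := Ideal.mem_span_singleton.1 hp
      obtain ⟨c, hc⟩ := hcS s hs
      refine ⟨q * c, ?_⟩
      rw [Algebra.smul_def, map_mul, map_mul, hc]
      change _ = φ (h ^ (K + 1) * q) * s
      rw [map_mul, map_pow, map_pow]
      ring
    obtain ⟨c, hc⟩ := hmem' _ hmem
    have he : aU ^ n * φ (h * c) = 1 := by
      rw [hc, ← hau]
      simp only [t]
      rw [← mul_pow, Units.mul_inv, one_pow]
    refine ⟨h * c, le_antisymm ?_ ?_, by rw [map_pow]; exact he⟩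
    · rw [Scheme.basicOpen_mul, ← hh]
      exact inf_le_left
    · intro z hz
      have h2 : z ∈ X.basicOpen (φ (h * c)) := by
        rw [Scheme.basicOpen_of_isUnit _ (IsUnit.of_mul_eq_one_right _ he)]
        exact hz
      simp only [φ] at h2
      rw [resX, Scheme.basicOpen_res] at h2
      exact h2.2
  choose W M hxW hWle hWaff hWh using hloc
  let n := Finset.univ.sup M
  choose h₁ hh₁ hha using fun x => hWh x n (Finset.le_sup (Finset.mem_univ x))
  -- the invertible module
  have hover : ∀ x y, x ≠ y → W x ⊓ W y ≤ U := fun x y hxy z hz => by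
    by_contra hzU
    exact hxy (Subtype.ext ((hW₀ x z (hWle x hz.1) hzU).symm.trans (hW₀ y z (hWle y hz.2) hzU)))
  let O : Option {x : X // x ∉ U} → X.Opens := fun a => a.elim U W
  have hO : iSup O = ⊤ := top_le_iff.1 fun z _ => by
    by_cases hz : z ∈ U
    · exact Opens.mem_iSup.2 ⟨none, hz⟩
    · exact Opens.mem_iSup.2 ⟨some ⟨z, hz⟩, hxW _⟩
  let c : ∀ o, Γ(X, O o) := fun o => match o with
    | none => 1
    | some x => h₁ x
  let d : ∀ o, Γ(X, O o) := fun o => match o with
    | none => a ^ n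
    | some _ => 1
  have hc : ∀ o, X.basicOpen (c o) = O o ⊓ U := by
    intro o
    cases o with
    | none => exact (Scheme.basicOpen_of_isUnit _ isUnit_one).trans (inf_idem _).symm
    | some x => exact hh₁ x
  have hcd : ∀ o, resX X (inf_le_left : O o ⊓ U ≤ O o) (d o) =
      resX X (inf_le_right : O o ⊓ U ≤ U) (a ^ n) * resX X inf_le_left (c o) := by
    intro o
    cases o with
    | none => exact (mul_one _).symm.trans (congrArg _ (map_one _).symm)
    | some x => exact (map_one _).trans (hha x).symm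
  have hover' : ∀ o o', o ≠ o' → O o ⊓ O o' ≤ U := by
    intro o o' hab
    cases o with
    | none => exact inf_le_left
    | some x =>
      cases o' with
      | none => exact inf_le_right
      | some y => exact hover x y fun h => hab (h ▸ rfl)
  have hu : ∀ (o : Option {x : X // x ∉ U}) (V : X.Opens) (h : V ≤ O o), V ≤ U →
      IsUnit (resX X h (c o)) := fun o V h hVU =>
    Groth.Agent.S7669.isUnit_resX_basicOpen _ h ((hc o).symm ▸ le_inf h hVU)
  have hex : ∀ o o', ∃ e : Γ(X, O o ⊓ O o'), IsUnit e ∧ (o = o' → e = 1) ∧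
      resX X inf_le_left (c o) * e = resX X inf_le_right (c o') ∧
      resX X inf_le_left (d o) * e = resX X inf_le_right (d o') := by
    intro o o'
    by_cases hab : o = o'
    · subst hab
      exact ⟨1, isUnit_one, fun _ => rfl, mul_one _, mul_one _⟩
    · obtain ⟨u₁, hu₁⟩ := hu o _ inf_le_left (hover' o o' hab)
      obtain ⟨u₂, hu₂⟩ := hu o' _ inf_le_right (hover' o o' hab)
      have h0 := hover' o o' hab
      have e1 := congrArg (resX X (le_inf inf_le_left h0 : O o ⊓ O o' ≤ O o ⊓ U)) (hcd o)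
      have e2 := congrArg (resX X (le_inf inf_le_right h0 : O o ⊓ O o' ≤ O o' ⊓ U)) (hcd o')
      simp only [map_mul, resX_resX] at e1 e2
      refine ⟨↑(u₁⁻¹ * u₂), Units.isUnit _, fun h => absurd h hab, ?_, ?_⟩
      · rw [← hu₁, ← hu₂, ← Units.val_mul, mul_inv_cancel_left]
      · rw [e1, e2, ← hu₁, ← hu₂, mul_assoc, ← Units.val_mul, mul_inv_cancel_left]
  choose e heu he1 hec hed using hex
  obtain ⟨L, s, hs, hinv, hrel⟩ := exists_module_of_cocycle O e hO heu fun o p q => by
    by_cases hab : o = p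
    · subst hab
      rw [he1 o o rfl, map_one, one_mul]
    have hVa : O o ⊓ O p ⊓ O q ≤ O o := inf_le_left.trans inf_le_left
    refine (hu o _ hVa (inf_le_left.trans (hover' o p hab))).mul_left_cancel ?_
    have h1 := congrArg (resX X
      (inf_le_inf_right (O q) inf_le_left : O o ⊓ O p ⊓ O q ≤ O o ⊓ O q)) (hec o q)
    have h2 := congrArg (resX X (inf_le_left : O o ⊓ O p ⊓ O q ≤ O o ⊓ O p)) (hec o p)
    have h3 := congrArg (resX X
      (inf_le_inf_right (O q) inf_le_right : O o ⊓ O p ⊓ O q ≤ O p ⊓ O q)) (hec p q)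
    simp only [map_mul, resX_resX] at h1 h2 h3
    rw [← mul_assoc, h1, h2, h3]
  obtain ⟨S, hS, -⟩ := res_glue (M := L) O (fun _ => le_top) hO.ge (fun o => c o • s o) fun o p => by
    rw [res_smul, res_smul, hrel, smul_smul, hec]
  obtain ⟨T, hT, -⟩ := res_glue (M := L) O (fun _ => le_top) hO.ge (fun o => d o • s o) fun o p => by
    rw [res_smul, res_smul, hrel, smul_smul, hed]
  have hloc' : ∀ o, CohB1.genLocus L (homOfSection S) ⊓ O o = O o ⊓ U := fun o => by
    rw [genLocus_inf_eq_basicOpen (hs o) (c := c o) (by rw [gsec_homOfSection]; exact hS o), hc]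
  have hSU : CohB1.genLocus L (homOfSection S) = U := by
    refine le_antisymm (fun z hz => ?_) (fun z hz => ?_)
    · obtain ⟨o, ho⟩ := Opens.mem_iSup.1 (hO.ge (Opens.mem_top z))
      exact ((hloc' o).le ⟨hz, ho⟩).2
    · obtain ⟨o, ho⟩ := Opens.mem_iSup.1 (hO.ge (Opens.mem_top z))
      exact ((hloc' o).ge ⟨ho, hz⟩).1
  refine ⟨L, homOfSection S, hinv, ?_, hSU⟩
  refine Groth.Chow.isGloballyGenerated_of_cover (ι := ULift.{u} Bool)
    (fun b => if b.down then S else T) (eq_top_iff.2 fun z _ => ?_)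
  by_cases hz : z ∈ U
  · exact Opens.mem_iSup.2 ⟨⟨true⟩, hSU.ge hz⟩
  · refine Opens.mem_iSup.2 ⟨⟨false⟩, ?_⟩
    have hg := Groth.PropsBasic.Ample.gloc_inf_eq_basicOpen (hs (some ⟨z, hz⟩))
      (c := (1 : Γ(X, W ⟨z, hz⟩))) (hT (some ⟨z, hz⟩))
    exact (hg.ge (show z ∈ X.basicOpen (1 : Γ(X, W ⟨z, hz⟩)) by
      rw [Scheme.basicOpen_of_isUnit _ isUnit_one]; exact hxW ⟨z, hz⟩)).1

end Groth.VarietyBC.CurveAmple
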