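import Groth.Agent.VarietyBC.DetDegreeAlg
import Groth.Agent.LocFree.ExtFunctor
import Groth.Agent.LocFree.FP
import Groth.Agent.EulerDeg.GenericRank
import Groth.Agent.EulerDeg.LineBundle
import Groth.Agent.EulerDeg.FiniteSupport
import Groth.Agent.Divisors.QCohLoc

/-!
# A monomorphism of bundles of equal rank and its determinant

On an integral curve the cokernels of `f` and of `⋀ⁿ f` have the same Euler characteristic.
-/

set_option autoImplicit false
set_option linter.style.haveILetI false
set_option backward.isDefEq.respectTransparency.types false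
universe u

open CategoryTheory CategoryTheory.Limits AlgebraicGeometry TopologicalSpace Opposite Matrix

namespace Groth.VarietyBC.DetDeg

open Groth.PicAux Groth.LocFree Groth.EulerDeg Coh

variable {X : Scheme.{u}} {A B : X.Modules} {n : ℕ}

theorem app_sum_basis {U : X.Opens} {s : Fin n → Γ(A, U)} {t : Fin n → Γ(B, U)}
    (f : A ⟶ B) (M : Matrix (Fin n) (Fin n) Γ(X, U)) (hM : ∀ j, f.app U (s j) = ∑ i, M i j • t i)
    (v : Fin n → Γ(X, U)) : f.app U (∑ j, v j • s j) = ∑ i, (M *ᵥ v) i • t i := by
  rw [map_sum]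
  simp only [Scheme.Modules.Hom.app_smul, hM, Finset.smul_sum, smul_smul]
  rw [Finset.sum_comm]
  refine Finset.sum_congr rfl fun i _ => ?_
  rw [← Finset.sum_smul]
  congr 1
  simp [Matrix.mulVec, dotProduct, mul_comm]

theorem sum_bijective {U : X.Opens} {s : Fin n → Γ(A, U)} (hs : Basis' A U s) :
    Function.Bijective fun v : Fin n → Γ(X, U) => ∑ i, v i • s i := by
  have h := hs U le_rfl
  simpa only [res_self] using h

/-- The wedge of a basis is a basis of the top exterior power. -/
theorem wedge_bijective [A.IsQuasicoherent] {U : X.Opens} (hU : IsAffineOpen U)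
    {s : Fin n → Γ(A, U)} (hs : Basis' A U s) :
    Function.Bijective fun r : Γ(X, U) => r • wedge n A s := by
  classical
  let b := basisOfBasis' hs (le_refl U)
  have hb : ⇑b = s := funext fun i => by rw [basisOfBasis'_apply, res_self]
  have hu := extUnit_bijective n A hU
  have hw : ∀ e : Fin n → Γ(A, U), ewedge n A e = b.det e • ewedge n A s := by
    intro e
    have : (exteriorPower.ιMulti Γ(X, U) n : Γ(A, U) [⋀^Fin n]→ₗ[Γ(X, U)] ESec n A U) =
        (LinearMap.toSpanSingleton Γ(X, U) (ESec n A U) (ewedge n A s)).compAlternatingMap b.det := by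
      refine Module.Basis.ext_alternating b fun σ hσ => ?_
      let π : Equiv.Perm (Fin n) := Equiv.ofBijective σ (Finite.injective_iff_bijective.1 hσ)
      have h1 : (fun i => b (σ i)) = s ∘ π := funext fun i => by rw [hb]; rfl
      rw [h1]
      simp only [LinearMap.compAlternatingMap_apply, LinearMap.toSpanSingleton_apply,
        AlternatingMap.map_perm]
      rw [← hb, Module.Basis.det_self]
      simp
    exact congr($this e)
  constructor
  · intro r r' h
    let φ : ESec n A U →ₗ[Γ(X, U)] Γ(X, U) := exteriorPower.alternatingMapLinearEquiv b.det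
    have h' : r • ewedge n A s = r' • ewedge n A s := hu.1 (by rw [map_smul, map_smul]; exact h)
    have h2 := congrArg φ h'
    rw [map_smul, map_smul, show φ (ewedge n A s) = 1 by
      simp only [φ, ewedge, exteriorPower.alternatingMapLinearEquiv_apply_ιMulti]
      rw [← hb, Module.Basis.det_self]] at h2
    simpa using h2
  · intro m
    obtain ⟨x, rfl⟩ := hu.2 m
    induction x using esec_induction with
    | wedge e => exact ⟨b.det e, by
        show b.det e • wedge n A s = extUnit n A U (ewedge n A e)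
        rw [hw e, map_smul]; rfl⟩
    | zero => exact ⟨0, by simp⟩
    | add a c ha hc =>
      obtain ⟨r, hr⟩ := ha
      obtain ⟨r', hr'⟩ := hc
      exact ⟨r + r', by simp only [add_smul, map_add] at hr hr' ⊢; rw [hr, hr']⟩
    | smul r a ha =>
      obtain ⟨r', hr'⟩ := ha
      exact ⟨r * r', by simp only [mul_smul, map_smul] at hr' ⊢; rw [hr']⟩

/-- The determinant of a map in bases. -/
theorem extHom_wedge_eq {U : X.Opens} {s : Fin n → Γ(A, U)} {t : Fin n → Γ(B, U)}
    (ht : Basis' B U t) (f : A ⟶ B) (M : Matrix (Fin n) (Fin n) Γ(X, U))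
    (hM : ∀ j, f.app U (s j) = ∑ i, M i j • t i) :
    (extHom n f).app U (wedge n A s) = M.det • wedge n B t := by
  classical
  let b := basisOfBasis' ht (le_refl U)
  have hb : ⇑b = t := funext fun i => by rw [basisOfBasis'_apply, res_self]
  rw [extHom_wedge]
  let e : Fin n → Γ(B, U) := fun j => f.app U (s j)
  have h1 : (exteriorPower.ιMulti Γ(X, U) n : Γ(B, U) [⋀^Fin n]→ₗ[Γ(X, U)] ESec n B U) =
      (LinearMap.toSpanSingleton Γ(X, U) (ESec n B U) (ewedge n B t)).compAlternatingMap b.det := by
    refine Module.Basis.ext_alternating b fun σ hσ => ?_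
    let π : Equiv.Perm (Fin n) := Equiv.ofBijective σ (Finite.injective_iff_bijective.1 hσ)
    have h1 : (fun i => b (σ i)) = t ∘ π := funext fun i => by rw [hb]; rfl
    rw [h1]
    simp only [LinearMap.compAlternatingMap_apply, LinearMap.toSpanSingleton_apply,
      AlternatingMap.map_perm]
    rw [← hb, Module.Basis.det_self]
    simp
  have h2 : b.det e = M.det := by
    rw [Module.Basis.det_apply]
    congr 1
    ext i j
    rw [Module.Basis.toMatrix_apply]
    show b.repr (f.app U (s j)) i = M i j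
    rw [hM, ← hb, Module.Basis.repr_sum_self]
  show extUnit n B U (exteriorPower.ιMulti Γ(X, U) n e) = _
  rw [h1, LinearMap.compAlternatingMap_apply, LinearMap.toSpanSingleton_apply, h2, map_smul]
  rfl

variable [IsIntegral X]

/-- In bases a monomorphism has a matrix with nonzero determinant. -/
theorem exists_matrix (f : A ⟶ B) [Mono f] {U : X.Opens} [Nonempty U] {s : Fin n → Γ(A, U)}
    {t : Fin n → Γ(B, U)} (hs : Basis' A U s) (ht : Basis' B U t) :
    ∃ M : Matrix (Fin n) (Fin n) Γ(X, U), M.det ≠ 0 ∧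
      ∀ j, f.app U (s j) = ∑ i, M i j • t i := by
  classical
  choose c hc using fun j => (sum_bijective ht).2 (f.app U (s j))
  refine ⟨fun i j => c j i, fun hd => ?_, fun j => (hc j).symm⟩
  obtain ⟨v, hv0, hv⟩ := Matrix.exists_mulVec_eq_zero_iff.2 hd
  refine hv0 ((sum_bijective hs).1 (Groth.QCohMod.app_injective_of_mono f U ?_))
  show f.app U (∑ i, v i • s i) = f.app U (∑ i, (0 : Fin n → Γ(X, U)) i • s i)
  rw [app_sum_basis f _ (fun j => (hc j).symm) v, hv]
  simp

variable {f : A ⟶ B} (hA : FlatMod.IsFinLocFreeOfRank n A) (hB : FlatMod.IsFinLocFreeOfRank n B)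

include hA hB in
theorem extHom_ne_zero (f : A ⟶ B) [Mono f] : extHom n f ≠ 0 := by
  have := KTheory.LocFree.isQCoh (isFinLocFree_of_rank hB)
  obtain ⟨U₁, s, hU₁, hη₁, hs⟩ := exists_affine_basis_ofRank hA (genericPoint X)
  obtain ⟨U₂, t, hU₂, hη₂, ht⟩ := exists_affine_basis_ofRank hB (genericPoint X)
  obtain ⟨U, hU, hη, hle⟩ := exists_isAffineOpen_mem_and_subset (U := U₁ ⊓ U₂) (x := genericPoint X) ⟨hη₁, hη₂⟩
  have : Nonempty U := ⟨⟨_, hη⟩⟩
  have hsU := hs.res' (show U ≤ U₁ from fun y hy => (hle hy).1)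
  have htU := ht.res' (show U ≤ U₂ from fun y hy => (hle hy).2)
  obtain ⟨M, hd, hM⟩ := exists_matrix f hsU htU
  intro h0
  have h1 := extHom_wedge_eq htU f M hM
  rw [h0] at h1
  refine hd ((wedge_bijective hU htU).1 ?_)
  show M.det • wedge n B _ = (0 : Γ(X, U)) • wedge n B _
  rw [zero_smul, ← h1]
  rfl

include hA hB in
theorem bijective_stalk_genericPoint (f : A ⟶ B) [Mono f] :
    Function.Bijective ((Groth.QCohMod.stalk (genericPoint X)).map f) := by
  let η := genericPoint X
  let _ : Field (X.presheaf.stalk η) := inferInstanceAs (Field X.functionField)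
  have hfA := finrank_stalk hA η
  have hfB := finrank_stalk hB η
  have hAc := KTheory.LocFree.isCoh (isFinLocFree_of_rank hA)
  have hBc := KTheory.LocFree.isCoh (isFinLocFree_of_rank hB)
  have := hAc.1
  have := hBc.1
  have := Groth.QCohMod.finite_stalk A hAc.2 η
  have := Groth.QCohMod.finite_stalk B hBc.2 η
  have hinj : Function.Injective (KTheory.LocFree.stalkₗ f η) :=
    (Groth.QCohMod.mono_iff_stalk f).1 inferInstance η
  exact ⟨hinj, (LinearMap.injective_iff_surjective_of_finrank_eq_finrank (hfA.trans hfB.symm)).1 hinj⟩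

variable (k : Type u) [Field k] [X.Over (Spec (CommRingCat.of k))]
  [IsProper (X ↘ Spec (CommRingCat.of k))]

attribute [local instance] Groth.EulerDeg.secModule

omit [IsIntegral X] [IsProper (X ↘ Spec (CommRingCat.of k))] in
/-- Sections of the cokernel of a map in bases. -/
theorem finrank_sections_cokernel [A.IsQuasicoherent] [B.IsQuasicoherent] (f : A ⟶ B) [Mono f]
    {U : X.Opens} (hU : IsAffineOpen U) {m : ℕ}
    {s : Fin m → Γ(A, U)} {t : Fin m → Γ(B, U)} (hs : Basis' A U s) (ht : Basis' B U t)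
    (M : Matrix (Fin m) (Fin m) Γ(X, U)) (hM : ∀ j, f.app U (s j) = ∑ i, M i j • t i) :
    letI : Algebra k Γ(X, U) := (toSec k U).toAlgebra
    Module.finrank k Γ(cokernel f, U) =
      Module.finrank k ((Fin m → Γ(X, U)) ⧸ LinearMap.range M.mulVecLin) := by
  letI : Algebra k Γ(X, U) := (toSec k U).toAlgebra
  have : (cokernel f).IsQuasicoherent :=
    Groth.QCohMod.isQCoh_cokernel f
  let P : (Fin m → Γ(X, U)) →ₗ[Γ(X, U)] Γ(cokernel f, U) :=
    { toFun := fun v => (cokernel.π f).app U (∑ i, v i • t i)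
      map_add' := fun a b => by simp [add_smul, Finset.sum_add_distrib]
      map_smul' := fun r a => by simp [mul_smul, ← Finset.smul_sum] }
  have hP : Function.Surjective P :=
    (Groth.QCohMod.app_surjective_of_epi (cokernel.π f) hU).comp (sum_bijective ht).2
  have hker : LinearMap.ker P = LinearMap.range M.mulVecLin := by
    ext v
    rw [LinearMap.mem_ker, LinearMap.mem_range]
    constructor
    · intro hv
      have hex : (ShortComplex.mk f (cokernel.π f) (cokernel.condition f)).Exact :=
        ShortComplex.exact_cokernel f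
      obtain ⟨a, ha⟩ := Groth.QCohMod.exists_app_eq_of_exact hex hU _ hv
      obtain ⟨w, rfl⟩ := (sum_bijective hs).2 a
      refine ⟨w, (sum_bijective ht).1 ?_⟩
      show ∑ i, (M *ᵥ w) i • t i = _
      rw [← app_sum_basis f M hM]
      exact ha
    · rintro ⟨w, rfl⟩
      show (cokernel.π f).app U (∑ i, (M *ᵥ w) i • t i) = 0
      rw [← app_sum_basis f M hM]
      exact congr(($(cokernel.condition f)).app U (∑ j, w j • s j))
  let e : ((Fin m → Γ(X, U)) ⧸ LinearMap.range M.mulVecLin) ≃ₗ[Γ(X, U)] Γ(cokernel f, U) :=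
    (Submodule.quotEquivOfEq _ _ hker.symm).trans (P.quotKerEquivOfSurjective hP)
  let e' : ((Fin m → Γ(X, U)) ⧸ LinearMap.range M.mulVecLin) ≃ₗ[k] Γ(cokernel f, U) :=
    { e with
      map_smul' := fun a v => by
        rw [← algebraMap_smul Γ(X, U) a v]
        exact e.map_smul (toSec k U a) v }
  exact e'.finrank_eq.symm

omit [IsProper (X ↘ Spec (CommRingCat.of k))] in
/-- Near a point of the cokernels the two dimensions agree. -/
theorem finrank_sections_eq [IsLocallyNoetherian X] [A.IsQuasicoherent] [B.IsQuasicoherent]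
    (f : A ⟶ B) [Mono f] {U : X.Opens} (hU : IsAffineOpen U) {x : X} (hxU : x ∈ U)
    {s : Fin n → Γ(A, U)} {t : Fin n → Γ(B, U)} (hs : Basis' A U s) (ht : Basis' B U t)
    (hsupp : ∀ y ∈ U, y ∈ CohB1.support (cokernel (extHom n f)) → y = x)
    [Module.Finite k Γ(cokernel (extHom n f), U)] :
    Module.finrank k Γ(cokernel f, U) = Module.finrank k Γ(cokernel (extHom n f), U) := by
  have : Nonempty U := ⟨⟨x, hxU⟩⟩
  have : IsNoetherianRing Γ(X, U) := IsLocallyNoetherian.component_noetherian ⟨U, hU⟩
  letI : Algebra k Γ(X, U) := (toSec k U).toAlgebra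
  obtain ⟨M, hd, hM⟩ := exists_matrix f hs ht
  have := isQCoh_extPow n A
  have := isQCoh_extPow n B
  let g := extHom n f
  let C := cokernel g
  have hC : C.IsQuasicoherent := Groth.QCohMod.isQCoh_cokernel g
  let P : Γ(X, U) →ₗ[Γ(X, U)] Γ(C, U) :=
    LinearMap.toSpanSingleton _ _ ((cokernel.π g).app U (wedge n B t))
  have hPapp : ∀ r : Γ(X, U), P r = (cokernel.π g).app U (r • wedge n B t) := fun r => by
    rw [Scheme.Modules.Hom.app_smul]; rfl
  have hP : Function.Surjective P := fun c => by
    obtain ⟨b, rfl⟩ := Groth.QCohMod.app_surjective_of_epi (cokernel.π g) hU c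
    obtain ⟨r, rfl⟩ := (wedge_bijective hU ht).2 b
    exact ⟨r, hPapp r⟩
  have hker : LinearMap.ker P = Ideal.span {M.det} := by
    ext r
    rw [LinearMap.mem_ker, Ideal.mem_span_singleton', hPapp]
    constructor
    · intro hr
      obtain ⟨a, ha⟩ := Groth.QCohMod.exists_app_eq_of_exact
        (S := ShortComplex.mk g (cokernel.π g) (cokernel.condition g))
        (ShortComplex.exact_cokernel g) hU _ hr
      obtain ⟨a', rfl⟩ := (wedge_bijective hU hs).2 a
      refine ⟨a', (wedge_bijective hU ht).1 ?_⟩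
      show (a' * M.det) • wedge n B t = r • wedge n B t
      rw [mul_smul, ← extHom_wedge_eq ht f M hM, ← Scheme.Modules.Hom.app_smul]
      exact ha
    · rintro ⟨a, rfl⟩
      rw [mul_smul, ← extHom_wedge_eq ht f M hM, ← Scheme.Modules.Hom.app_smul]
      exact congr(($(cokernel.condition g)).app U (a • wedge n A s))
  let e : (Γ(X, U) ⧸ Ideal.span {M.det}) ≃ₗ[Γ(X, U)] Γ(C, U) :=
    (Submodule.quotEquivOfEq _ _ hker.symm).trans (P.quotKerEquivOfSurjective hP)
  let e' : (Γ(X, U) ⧸ Ideal.span {M.det}) ≃ₗ[k] Γ(C, U) :=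
    { e with
      map_smul' := fun a v => by
        rw [← algebraMap_smul Γ(X, U) a v]
        exact e.map_smul (toSec k U a) v }
  have : Module.Finite k (Γ(X, U) ⧸ Ideal.span {M.det}) := Module.Finite.equiv e'.symm
  have hmem : ∀ p : Ideal Γ(X, U), ∀ hp : p.IsMaximal, M.det ∈ p →
      hU.fromSpec ⟨p, hp.isPrime⟩ = x := by
    intro p hp hdp
    let q : PrimeSpectrum Γ(X, U) := ⟨p, hp.isPrime⟩
    have hqU : hU.fromSpec q ∈ U := by
      change hU.fromSpec q ∈ (U : Set X)
      rw [← hU.range_fromSpec]; exact ⟨q, rfl⟩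
    refine hsupp _ hqU fun hsub => ?_
    have h0 : C.presheaf.germ U (hU.fromSpec q) hqU (P 1) = 0 :=
      @Subsingleton.elim _ hsub _ _
    obtain ⟨c, hc, hc0⟩ := (Groth.Divisors.germ_eq_zero_iff hU hqU hC _).1 h0
    have h2 : c ∈ LinearMap.ker P := by
      rw [LinearMap.mem_ker, ← hc0, ← map_smul, smul_eq_mul, mul_one]
    rw [hker] at h2
    have h3 : hU.fromSpec q ∈ X.basicOpen c := (Scheme.mem_basicOpen _ _ _ hqU).2 hc
    rw [Groth.QCohMod.mem_basicOpen_iff_notMem_primeIdealOf hU c _ hqU,
      show hU.primeIdealOf ⟨hU.fromSpec q, hqU⟩ = q from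
        hU.fromSpec.isOpenEmbedding.injective (hU.fromSpec_primeIdealOf _)] at h3
    exact h3 ((Ideal.span_singleton_le_iff_mem _).2 hdp h2)
  rw [finrank_sections_cokernel k f hU hs ht M hM,
    finrank_coker_eq_finrank_det k M hd fun p q hp hq hdp hdq => congrArg PrimeSpectrum.asIdeal
      (hU.fromSpec.isOpenEmbedding.injective ((hmem p hp hdp).trans (hmem q hq hdq).symm))]
  exact e'.finrank_eq

include hA hB in
/-- `χ(B) - χ(A) = χ(det B) - χ(det A)`. -/
theorem euler_sub_eq (hdim : topologicalKrullDim X ≤ 1) (f : A ⟶ B) [Mono f] :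
    Curv2.euler k X B - Curv2.euler k X A =
      Curv2.euler k X (extPow n B) - Curv2.euler k X (extPow n A) := by
  classical
  have := isNoetherian_of_proper k X
  have hAc := KTheory.LocFree.isCoh (isFinLocFree_of_rank hA)
  have hBc := KTheory.LocFree.isCoh (isFinLocFree_of_rank hB)
  have := hAc.1
  have := hBc.1
  have hAd : FlatMod.IsFinLocFreeOfRank 1 (extPow n A) := by
    simpa using isFinLocFreeOfRank_extPow hA n
  have hBd : FlatMod.IsFinLocFreeOfRank 1 (extPow n B) := by
    simpa using isFinLocFreeOfRank_extPow hB n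
  have hgA := KTheory.LocFree.isCoh (isFinLocFree_of_rank hAd)
  have hgB := KTheory.LocFree.isCoh (isFinLocFree_of_rank hBd)
  have := hgA.1
  have := hgB.1
  let g := extHom n f
  have : Mono g := mono_of_ne_zero (isInvertible_iff_ofRank_one.2 hAd)
    (isInvertible_iff_ofRank_one.2 hBd) (extHom_ne_zero hA hB f)
  have hC : IsCoh (cokernel f) := Groth.QCohMod.isCoh_cokernel f hBc
  have hC' : IsCoh (cokernel g) := Groth.QCohMod.isCoh_cokernel g hgB
  have hs : SupportedAtClosed (cokernel f) := (supportedAtClosed_of_bijective f fun x hx => by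
    obtain rfl := eq_genericPoint_of_not_isClosed hdim hx
    exact bijective_stalk_genericPoint hA hB f).2
  have hs' : SupportedAtClosed (cokernel g) := (supportedAtClosed_of_bijective g fun x hx => by
    obtain rfl := eq_genericPoint_of_not_isClosed hdim hx
    exact bijective_stalk_genericPoint hAd hBd g).2
  have e1 := euler_add (k := k) (S := ShortComplex.mk f (cokernel.π f) (cokernel.condition f))
    { exact := ShortComplex.exact_cokernel f } (finCoh k X hAc) (finCoh k X hC)
  have e2 := euler_add (k := k) (S := ShortComplex.mk g (cokernel.π g) (cokernel.condition g))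
    { exact := ShortComplex.exact_cokernel g } (finCoh k X hgA) (finCoh k X hC')
  simp only at e1 e2
  rw [euler_eq_h0 k hs] at e1
  rw [euler_eq_h0 k hs'] at e2
  obtain ⟨T, hT⟩ := ((finite_support_and_isClosed hs hC).union
    (finite_support_and_isClosed hs' hC')).exists_finset_coe
  have hTc : ∀ x ∈ T, IsClosed ({x} : Set X) := fun x hx => by
    rcases (hT.le hx : x ∈ _ ∪ _) with h | h
    · exact hs x h
    · exact hs' x h
  have hch : ∀ x : T, ∃ (U : X.Opens) (a : Fin n → Γ(A, U)) (b : Fin n → Γ(B, U)), IsAffineOpen U ∧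
      x.1 ∈ U ∧ (∀ y : T, y.1 ∈ U → y = x) ∧ Basis' A U a ∧ Basis' B U b := by
    intro x
    obtain ⟨V, a, hxV, ha⟩ := isFinLocFreeOfRank_iff.1 hA x.1
    obtain ⟨W, b, hxW, hb⟩ := isFinLocFreeOfRank_iff.1 hB x.1
    have hcl : IsClosed ((T : Set X) \ {x.1}) := by
      rw [← Set.biUnion_of_singleton ((T : Set X) \ {x.1})]
      exact (T.finite_toSet.subset Set.sdiff_subset).isClosed_biUnion fun y hy => hTc y hy.1
    obtain ⟨_, ⟨U, hU, rfl⟩, hxU, hUV⟩ := X.isBasis_affineOpens.exists_subset_of_mem_open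
      (show x.1 ∈ ((V : Set X) ∩ W) ∩ ((T : Set X) \ {x.1})ᶜ from ⟨⟨hxV, hxW⟩, fun hh => hh.2 rfl⟩)
      ((V.isOpen.inter W.isOpen).inter hcl.isOpen_compl)
    exact ⟨U, _, _, hU, hxU,
      fun y hy => Subtype.ext (not_not.mp fun hne => (hUV hy).2 ⟨y.2, hne⟩),
      ha.res' (fun y hy => (hUV hy).1.1), hb.res' (fun y hy => (hUV hy).1.2)⟩
  choose U a b hUa hxU hUs ha hb using hch
  have := finite_HH k X hC 0
  have := finite_HH k X hC' 0
  have key : Module.finrank k (HH X (cokernel f) 0) = Module.finrank k (HH X (cokernel g) 0) := by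
    rw [finrank_h0_eq_sum k (Set.subset_union_left.trans hT.ge) hTc U hxU hUs,
      finrank_h0_eq_sum k (M := cokernel g) (Set.subset_union_right.trans hT.ge) hTc U hxU hUs]
    refine Finset.sum_congr rfl fun x _ => ?_
    have : Module.Finite k Γ(cokernel (extHom n f), U x) := by
      have := Module.Finite.equiv (h0Equiv k (cokernel g))
      exact Module.Finite.of_surjective (resLin k (cokernel g) (le_top : U x ≤ ⊤))
        ((Groth.SiteCohomology.isFlasque_iff_surjective (X := X.toTopCat) (Coh.toAb (cokernel g))).mp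
          (isFlasque_of_supportedAtClosed hs') (homOfLE (le_top : U x ≤ ⊤)))
    exact finrank_sections_eq k f (hUa x) (hxU x) (ha x) (hb x) fun y hyU hy => congrArg Subtype.val
      (hUs x ⟨y, Finset.mem_coe.1 (hT.ge (Or.inr hy))⟩ hyU)
  rw [key] at e1
  omega

end Groth.VarietyBC.DetDeg
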