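import Groth.Agent.Surfaces.DetLength
import Mathlib.RingTheory.LocalRing.Length
import Mathlib.RingTheory.LocalRing.Basic
import Mathlib.LinearAlgebra.Matrix.Adjugate
import Mathlib.LinearAlgebra.Dimension.Finite

/-!
# Dimensions of cokernels of square matrices over a field
-/

set_option autoImplicit false
set_option linter.style.haveILetI false

namespace Groth.VarietyBC.DetDeg

open Matrix nonZeroDivisors

/-- If `det M` lies in only one maximal ideal, the cokernel of `M` and `R ⧸ (det M)` have the
same dimension over a base field. -/
theorem finrank_coker_eq_finrank_det (k : Type*) [Field k] {R : Type*} [CommRing R] [IsDomain R] [IsNoetherianRing R]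
    [Algebra k R] {n : ℕ} (M : Matrix (Fin n) (Fin n) R) (hd : M.det ≠ 0)
    [Module.Finite k (R ⧸ Ideal.span {M.det})]
    (hloc : ∀ p q : Ideal R, p.IsMaximal → q.IsMaximal → M.det ∈ p → M.det ∈ q → p = q) :
    Module.finrank k ((Fin n → R) ⧸ LinearMap.range M.mulVecLin) =
      Module.finrank k (R ⧸ Ideal.span {M.det}) := by
  let d := M.det
  let I : Ideal R := Ideal.span {d}
  let B := R ⧸ I
  let V := (Fin n → R) ⧸ LinearMap.range M.mulVecLin
  have hkill : ∀ v : V, d • v = 0 := fun v => by
    obtain ⟨w, rfl⟩ := Submodule.Quotient.mk_surjective _ v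
    rw [← Submodule.Quotient.mk_smul, Submodule.Quotient.mk_eq_zero]
    exact ⟨M.adjugate *ᵥ w, by
      rw [Matrix.mulVecLin_apply, Matrix.mulVec_mulVec, Matrix.mul_adjugate, Matrix.smul_mulVec,
        Matrix.one_mulVec]⟩
  rcases subsingleton_or_nontrivial B with hB | hB
  · have hu : IsUnit d := Ideal.span_singleton_eq_top.1 (Ideal.Quotient.subsingleton_iff.1 hB)
    have : Subsingleton V := subsingleton_of_forall_eq 0 fun v => hu.smul_eq_zero.1 (hkill v)
    show Module.finrank k V = Module.finrank k B
    rw [Module.finrank_zero_of_subsingleton, Module.finrank_zero_of_subsingleton]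
  · have hmk : Function.Surjective (Ideal.Quotient.mk I) := Ideal.Quotient.mk_surjective
    haveI : IsLocalRing B := by
      obtain ⟨m, hm⟩ := Ideal.exists_maximal B
      refine IsLocalRing.of_unique_max_ideal ⟨m, hm, fun p hp => ?_⟩
      have hdmem : ∀ q : Ideal B, d ∈ q.comap (Ideal.Quotient.mk I) := fun q => by
        rw [Ideal.mem_comap, Ideal.Quotient.eq_zero_iff_mem.2 (Ideal.mem_span_singleton_self d)]
        exact q.zero_mem
      exact Ideal.comap_injective_of_surjective _ hmk
        (hloc _ _ (Ideal.comap_isMaximal_of_surjective _ hmk) (Ideal.comap_isMaximal_of_surjective _ hmk)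
          (hdmem p) (hdmem m))
    have htor : Module.IsTorsionBySet R V (I : Set R) := by
      intro v ⟨r, hr⟩
      obtain ⟨s, rfl⟩ := Ideal.mem_span_singleton'.1 hr
      show (s * d) • v = 0
      rw [mul_smul, hkill v, smul_zero]
    letI : Module B V := htor.module
    haveI : IsScalarTower R B V := htor.isScalarTower
    haveI : IsScalarTower k B V := htor.isScalarTower
    have e1 : Module.length B V = Module.length B B := by
      rw [← Module.length_eq_of_surjective (R := B) (S := R) (M := V) hmk,
        ← Module.length_eq_of_surjective (R := B) (S := R) (M := B) hmk]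
      exact Groth.Surfaces.DetLength.cokLen_eq_ord M (mem_nonZeroDivisors_of_ne_zero hd)
    haveI : Module.Finite B V := Module.Finite.of_restrictScalars_finite R B V
    haveI : Module.Finite k V := Module.Finite.trans B V
    haveI : IsLocalHom (algebraMap k B) := isLocalHom_toRingHom (algebraMap k B)
    have h1 := IsLocalRing.length_restrictScalars k B V
    have h2 := IsLocalRing.length_restrictScalars k B B
    rw [e1, ← h2, Module.length_eq_finrank, Module.length_eq_finrank] at h1
    exact_mod_cast h1

end Groth.VarietyBC.DetDeg
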