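import Groth.Agent.PicAux.UFDSpec
import Mathlib.RingTheory.MvPolynomial.Localization
import Mathlib.RingTheory.Polynomial.UniqueFactorization

/-!
# Unit functions on opens of affine space over a factorial ring: values at two points
-/

universe u

open CategoryTheory AlgebraicGeometry Opposite TopologicalSpace MvPolynomial
open Groth.PicAux

namespace Groth.VarietyBC.HomotopyPic

/-- The values at two points of a polynomial without zeros on the generic fibre of an open set of
primes of `R[t]` stable under generization differ by a unit of `R`. -/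
theorem exists_unit_eval {σ : Type u} {R K : Type u} [CommRing R] [IsDomain R] [CommRing K] [IsDomain K]
    [Algebra R K] [IsFractionRing R K] [UniqueFactorizationMonoid (MvPolynomial σ R)]
    (U : Set (PrimeSpectrum (MvPolynomial σ R)))
    (hU : ∀ P Q : PrimeSpectrum (MvPolynomial σ R), P.asIdeal ≤ Q.asIdeal → Q ∈ U → P ∈ U)
    (p q : σ → R)
    (hp : ∀ m : PrimeSpectrum R, PrimeSpectrum.comap (eval p) m ∈ U)
    (hq : ∀ m : PrimeSpectrum R, PrimeSpectrum.comap (eval q) m ∈ U)
    (a : MvPolynomial σ K)
    (ha : ∀ Q : PrimeSpectrum (MvPolynomial σ K),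
      PrimeSpectrum.comap (MvPolynomial.map (algebraMap R K)) Q ∈ U → a ∉ Q.asIdeal) :
    ∃ u : Rˣ, eval (algebraMap R K ∘ q) a =
      algebraMap R K u * eval (algebraMap R K ∘ p) a := by
  let _ : Algebra (MvPolynomial σ R) (MvPolynomial σ K) := algebraMvPolynomial
  have hinj : Function.Injective (MvPolynomial.map (σ := σ) (algebraMap R K)) :=
    MvPolynomial.map_injective _ (IsFractionRing.injective R K)
  obtain ⟨⟨a', ⟨_, c, hc, rfl⟩⟩, e⟩ :=
    IsLocalization.surj ((nonZeroDivisors R).map (C (σ := σ))) a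
  replace e : a * C (algebraMap R K c) = MvPolynomial.map (algebraMap R K) a' := by
    simpa [RingHom.algebraMap_toAlgebra] using e
  have hc0 : algebraMap R K c ≠ 0 :=
    IsLocalization.to_map_ne_zero_of_mem_nonZeroDivisors _ le_rfl hc
  by_cases hne : ∃ Q : PrimeSpectrum (MvPolynomial σ K),
      PrimeSpectrum.comap (MvPolynomial.map (algebraMap R K)) Q ∈ U
  swap
  · exfalso
    let Q : PrimeSpectrum (MvPolynomial σ K) :=
      ⟨RingHom.ker (eval (algebraMap R K ∘ p)), RingHom.ker_isPrime _⟩
    apply hne ⟨Q, ?_⟩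
    convert hp ⟨⊥, Ideal.isPrime_bot⟩ using 1
    ext f
    simp [Q, RingHom.mem_ker, MvPolynomial.eval_map, ← MvPolynomial.eval₂_comp,
      (IsFractionRing.injective R K).eq_iff]
  have key : ∀ f : MvPolynomial σ R, (∀ Q : PrimeSpectrum (MvPolynomial σ K),
      PrimeSpectrum.comap (MvPolynomial.map (algebraMap R K)) Q ∈ U →
        MvPolynomial.map (algebraMap R K) f ∉ Q.asIdeal) →
      Associated (eval p f) (eval q f) := by
    intro f
    induction f using UniqueFactorizationMonoid.induction_on_prime with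
    | h₁ => intro h; obtain ⟨Q, hQ⟩ := hne; exact absurd (by simp) (h Q hQ)
    | h₂ f hf => intro _; exact associated_of_dvd_dvd (hf.map _).dvd (hf.map _).dvd
    | h₃ f π hf hπ ih =>
      intro h
      have hπf : ∀ Q : PrimeSpectrum (MvPolynomial σ K),
          PrimeSpectrum.comap (MvPolynomial.map (algebraMap R K)) Q ∈ U →
            MvPolynomial.map (algebraMap R K) π ∉ Q.asIdeal ∧
              MvPolynomial.map (algebraMap R K) f ∉ Q.asIdeal := fun Q hQ => by
        have := h Q hQ
        rw [map_mul] at this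
        exact ⟨fun hh => this (Ideal.mul_mem_right _ _ hh),
          fun hh => this (Ideal.mul_mem_left _ _ hh)⟩
      rw [map_mul, map_mul]
      refine Associated.mul_mul ?_ (ih fun Q hQ => (hπf Q hQ).2)
      have hP : (Ideal.span {π}).IsPrime := (Ideal.span_singleton_prime hπ.ne_zero).2 hπ
      by_cases hconst : ∃ c : R, c ≠ 0 ∧ π ∣ C c
      · obtain ⟨c, hc, g, hg⟩ := hconst
        have hdeg : π.totalDegree + g.totalDegree = 0 := by
          have hg0 : g ≠ 0 := by
            rintro rfl
            rw [mul_zero] at hg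
            exact hc (C_injective σ R (hg.trans C_0.symm))
          rw [← totalDegree_mul_of_isDomain hπ.ne_zero hg0, ← hg, totalDegree_C]
        rw [(totalDegree_eq_zero_iff_eq_C (p := π)).1 (by omega)]
        simp
      · simp only [not_exists, not_and] at hconst
        have hdisj : Disjoint (((nonZeroDivisors R).map (C (σ := σ))) : Set (MvPolynomial σ R))
            (Ideal.span {π} : Ideal _) := by
          rw [Set.disjoint_left]
          rintro _ ⟨c, hc, rfl⟩ hmem
          exact hconst c (nonZeroDivisors.ne_zero hc) (Ideal.mem_span_singleton.1 hmem)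
        let Q : PrimeSpectrum (MvPolynomial σ K) :=
          ⟨(Ideal.span {π}).map (algebraMap (MvPolynomial σ R) (MvPolynomial σ K)),
            IsLocalization.isPrime_of_isPrime_disjoint _ _ _ hP hdisj⟩
        have hQ : PrimeSpectrum.comap (MvPolynomial.map (algebraMap R K)) Q = ⟨Ideal.span {π}, hP⟩ :=
          PrimeSpectrum.ext (IsLocalization.under_map_of_isPrime_disjoint _ _ hP hdisj)
        have hnot : ∀ P : PrimeSpectrum (MvPolynomial σ R), P ∈ U → π ∉ P.asIdeal := by
          intro P hPU hmem
          have hU' : PrimeSpectrum.comap (MvPolynomial.map (algebraMap R K)) Q ∈ U :=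
            hQ ▸ hU _ P ((Ideal.span_singleton_le_iff_mem _).2 hmem) hPU
          refine (hπf Q hU').1 ?_
          exact Ideal.mem_map_of_mem _ (Ideal.mem_span_singleton_self π)
        have hunit : ∀ v : σ → R, (∀ m : PrimeSpectrum R, PrimeSpectrum.comap (eval v) m ∈ U) →
            IsUnit (eval v π) := by
          intro v hv
          by_contra hu
          obtain ⟨M, hM, hle⟩ := exists_max_ideal_of_mem_nonunits hu
          exact hnot _ (hv ⟨M, hM.isPrime⟩) hle
        exact associated_of_dvd_dvd (hunit p hp).dvd (hunit q hq).dvd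
  obtain ⟨u, hu⟩ := key a' fun Q hQ h => by
    rw [← e] at h
    rcases Q.2.mem_or_mem h with h | h
    · exact ha Q hQ h
    · exact Q.2.ne_top (Ideal.eq_top_of_isUnit_mem _ h ((IsLocalization.map_units K (⟨c, hc⟩ : nonZeroDivisors R)).map C))
  refine ⟨u, mul_right_cancel₀ hc0 ?_⟩
  have h1 : ∀ v : σ → R, eval (algebraMap R K ∘ v) a * algebraMap R K c =
      algebraMap R K (eval v a') := fun v => by
    have := congrArg (eval (algebraMap R K ∘ v)) e
    rw [map_mul, eval_C] at this
    rw [this, MvPolynomial.eval_map, ← MvPolynomial.eval₂_comp]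
  rw [h1 q, ← hu, map_mul, mul_assoc, h1 p, mul_comm]

/-- A unit function on an open of the spectrum of a factorial ring is a quotient of two elements
without zeros on the open. -/
theorem exists_div_eq (A : CommRingCat.{u}) [IsDomain A] [UniqueFactorizationMonoid A]
    (U : (Spec A).Opens) (w : Γ((U : Scheme.{u}), ⊤)) (hw : IsUnit w) :
    ∃ a b : A, (∀ P : Spec A, P ∈ U → a ∉ P.asIdeal ∧ b ∉ P.asIdeal) ∧
      w * ((Scheme.ΓSpecIso A).inv ≫ U.ι.appTop) b = ((Scheme.ΓSpecIso A).inv ≫ U.ι.appTop) a := by
  rcases isEmpty_or_nonempty U with hE | hN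
  · exact ⟨1, 1, fun P hP => hE.elim ⟨P, hP⟩, (subsingleton_sections_of_isEmpty
      (X := (U : Scheme.{u})) fun y => hE.elim y).elim _ _⟩
  let s : Γ(Spec A, U) := U.topIso.hom w
  have hs : IsUnit s := hw.map U.topIso.hom.hom
  let F := (Spec A).functionField
  let z : F := (Spec A).germToFunctionField U s
  obtain ⟨a, b, hcop, hz⟩ := IsFractionRing.exists_reduced_fraction A z
  have hz' : z * algebraMap A F b = algebraMap A F a := by
    rw [← hz, IsLocalization.mk'_spec]
  have key : ∀ P : Spec A, P ∈ U → ∀ (c d : A) (v : F), IsRelPrime c d →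
      v * algebraMap A F d = algebraMap A F c →
      (∀ P : Spec A, P ∈ U → IsUnitAt (W := Spec A) P v) → c ∉ P.asIdeal := by
    intro P hP c d v hcd hv hvu hcP
    obtain ⟨π, hπP, hπc⟩ : ∃ π ∈ P.asIdeal, π ∣ c ∧ Prime π := by
      by_cases hc : c = 0
      · exfalso
        subst hc
        have hd : IsUnit d := isRelPrime_zero_left.1 hcd
        rw [map_zero, mul_eq_zero] at hv
        rcases hv with hv | hv
        · obtain ⟨r, hr, e⟩ := hvu P hP
          exact hr.ne_zero (IsFractionRing.injective _ F (by rw [e, hv, map_zero]))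
        · exact hd.ne_zero (IsFractionRing.injective _ F (by rw [hv, map_zero]))
      obtain ⟨f, hf, hfc⟩ := UniqueFactorizationMonoid.exists_prime_factors c hc
      replace hcP : f.prod ∈ P.asIdeal := P.asIdeal.mem_of_dvd hfc.symm.dvd hcP
      obtain ⟨π, hπ, hπP⟩ := (P.2.multiset_prod_mem_iff_exists_mem f).1 hcP
      exact ⟨π, hπP, (Multiset.dvd_prod hπ).trans hfc.dvd, hf π hπ⟩
    let Q : Spec A := ⟨Ideal.span {π}, (Ideal.span_singleton_prime hπc.2.ne_zero).2 hπc.2⟩
    have hQ : Q ∈ U := Specializes.mem_open (X := PrimeSpectrum A)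
      ((PrimeSpectrum.le_iff_specializes _ _).1 ((Ideal.span_singleton_le_iff_mem _).2 hπP)) U.isOpen hP
    have hdQ : d ∉ Q.asIdeal := fun h =>
      hπc.2.not_isUnit (hcd hπc.1 (Ideal.mem_span_singleton.1 h))
    have := (hvu Q hQ).mul ((isUnitAt_spec_iff A Q d).2 hdQ)
    rw [hv, isUnitAt_spec_iff] at this
    exact this (Ideal.mem_span_singleton.2 hπc.1)
  have hzU : ∀ P : Spec A, P ∈ U → IsUnitAt (W := Spec A) P z := fun P hP => isUnitAt_germ hP hs
  refine ⟨a, b, fun P hP => ⟨key P hP a b z hcop hz' hzU, key P hP b a z⁻¹ hcop.symm ?_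
    fun P hP => (hzU P hP).inv⟩, ?_⟩
  · have hz0 : z ≠ 0 := (hs.map ((Spec A).germToFunctionField U).hom).ne_zero
    rw [← hz', inv_mul_cancel_left₀ hz0]
  · have hι : ∀ c : A, U.topIso.hom (((Scheme.ΓSpecIso A).inv ≫ U.ι.appTop) c) =
        (Spec A).presheaf.map (homOfLE le_top).op ((Scheme.ΓSpecIso A).inv c) := fun c => by
      simp only [Scheme.Opens.ι_appTop, Scheme.Opens.topIso_hom, CommRingCat.comp_apply,
        ← Functor.map_comp]
      rfl
    have halg : ∀ c : A, (Spec A).germToFunctionField U
        ((Spec A).presheaf.map (homOfLE le_top).op ((Scheme.ΓSpecIso A).inv c)) =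
        algebraMap A F c := fun c => (Spec A).presheaf.germ_res_apply _ _ _ _
    refine (ConcreteCategory.bijective_of_isIso U.topIso.hom).1 ?_
    refine (Spec A).germToFunctionField_injective U ?_
    rw [map_mul, map_mul, hι, hι, halg, halg]
    exact hz'

end Groth.VarietyBC.HomotopyPic
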